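import Cfsg.Agent.H169.RG.Toral
import Cfsg.Agent.H316.U6Norm_m3
import Cfsg.Agent.H81.DerRoot
import Cfsg.Agent.H508.Dens.Main_m3
import Cfsg.Agent.Nodes.PosPair
import Cfsg.Agent.H165.WL.Tool
import Cfsg.Agent.H378.Eng.Fin
import Cfsg.Agent.H378.Eng.E6Dat
import Cfsg.Agent.ChevFast.E6
import Cfsg.Agent.ChevFast.Lin
import Cfsg.Agent.H605.MX.Orb
import Cfsg.Agent.Nodes.SimplyLaced
import Cfsg.Agent.S2339
import Cfsg.Agent.S2340
import Cfsg.Agent.S2341
import Cfsg.Agent.S2342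
import Cfsg.Agent.S1054
import Cfsg.Agent.H120.Cyc.DegE_m3
import Cfsg.Agent.H514.DP.Cyc_m3
import Cfsg.Agent.ChevFast.E7
import Cfsg.Agent.H660.RR.Crd_m3
import Cfsg.Agent.H522.FldSixLib
import Cfsg.Agent.BpExc.Sig
import Cfsg.Agent.H461.E2.Cent
import Cfsg.Agent.H931.KC.PPCard
import Mathlib
import Cfsg.Agent.H257.RG.SuzCls
import Cfsg.Agent.FastGrp
import Cfsg.Agent.Prune
set_option linter.all false

section
prune_inst 0x7ffcbcf8afb8bddfffff7e7ffed8dffc09c09fffe6dff9437fe0e1bf0b9f030029c5fb8d0de010ff0ed660b410b87843f97eefffea6bdc7ffffd5ff41ffbee0fe5f7b50151dc8ca40fbc4ff783f07f8a7f3fffffffffffffffffffffffffffbeffffffffffff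

-- part: H169/RG/LRG
section
set_option linter.all false
open scoped Cfsg.Agent.FastGrp

/-!
# S3509, box U: the long root groups of `Y^σ` (helper169)

`Y = D.group (KK r)`, `m : MData hp r q K₀`, `a₀` the highest root.

* `T0 m = X_{a₀}^σ`, `T0' m = X_{-a₀}^σ`; `LRG m X` : `X` is a `Y^σ`-conjugate of `T0 m`; `LR m v` : long root elements;
* `Img q X X'` : `X`, `X'` are the images of the upper / lower unitriangular matrices under a homomorphism
  `SL₂(F) → Y`, `|F| = q`;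
* `img_T0` : `Img q (T0 m) (T0' m)`; `card_T0`;
* `pair` : two long root groups generate an `r`-group or are conjugate to `(T0 m, T0' m)`.
-/

set_option autoImplicit false
set_option linter.unusedSectionVars false

namespace Cfsg.Agent.H169.RG

open CoxeterSystem Cfsg Cfsg.Lie Cfsg.Lie.ChevalleyDatum
open Cfsg.Agent.ChevalleyStructure Cfsg.Agent.ChevalleyStructure.Elts Cfsg.Agent.ChevalleyStructure.CoxeterGeom
  Cfsg.Agent.ChevalleyStructure.CoxeterGeomTypes Cfsg.Agent.ChevalleyStructure.NPerm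
open Cfsg.Agent.Tits.Roots Cfsg.Agent.Tits.Core Cfsg.Agent.Nodes Cfsg.Agent.Nodes.Reps Cfsg.Agent.Nodes.BNOf
  Cfsg.Agent.Nodes.RGDChev Cfsg.Agent.Nodes.Bruhat Cfsg.Agent.Nodes.NormalForm
open Cfsg.Agent.KFacts.RgdField Cfsg.Agent.KFacts.RgdChevCoord
open Cfsg.Agent.BpExc Cfsg.Agent.BpExc.TorCent Cfsg.Agent.BpExc.TorChev Cfsg.Agent.BpExc.Tow
  Cfsg.Agent.BpExc.TowChev Cfsg.Agent.BpExc.Fr Cfsg.Agent.BpExc.Pair Cfsg.Agent.BpExc.LangFr Cfsg.Agent.GpExc.Field
  Cfsg.Agent.BpExc.NInst Cfsg.Agent.BpExc.NChev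
open Cfsg.Agent.ChevalleyStructure.SL2Hom (up lo)
open Cfsg.Agent.H469.Exc Cfsg.Agent.H316.U6 Cfsg.Agent.H81.TorOrth

universe u v

/-! ### images of `SL₂(q)` -/

/-- conjugate subgroup -/
def cjS {Y : Type*} [Group Y] (y : Y) (X : Subgroup Y) : Subgroup Y := X.map (MulAut.conj y).toMonoidHom

section cjS

variable {Y : Type*} [Group Y]

theorem mem_cjS {y x : Y} {X : Subgroup Y} : x ∈ cjS y X ↔ y⁻¹ * x * y ∈ X := by
  constructor
  · rintro ⟨z, hz, rfl⟩
    change y⁻¹ * (y * z * y⁻¹) * y ∈ X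
    have e : y⁻¹ * (y * z * y⁻¹) * y = z := by group
    rwa [e]
  · intro h
    refine ⟨_, h, ?_⟩
    change y * (y⁻¹ * x * y) * y⁻¹ = x
    group

theorem cjS_mul (y z : Y) (X : Subgroup Y) : cjS (y * z) X = cjS y (cjS z X) := by
  ext x
  rw [mem_cjS, mem_cjS, mem_cjS]
  have e : (y * z)⁻¹ * x * (y * z) = z⁻¹ * (y⁻¹ * x * y) * z := by group
  rw [e]

theorem cjS_one (X : Subgroup Y) : cjS (1 : Y) X = X := by
  ext x
  rw [mem_cjS]
  simp

theorem cjS_sup (y : Y) (X X' : Subgroup Y) : cjS y (X ⊔ X') = cjS y X ⊔ cjS y X' := Subgroup.map_sup _ _ _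

theorem cjS_eq_of_comm {y : Y} {X : Subgroup Y} (h : ∀ x ∈ X, y * x = x * y) : cjS y X = X := by
  have h1 : cjS y X ≤ X := by
    rintro _ ⟨x, hx, rfl⟩
    change y * x * y⁻¹ ∈ X
    rw [h x hx, mul_inv_cancel_right]
    exact hx
  refine le_antisymm h1 fun x hx => ?_
  rw [mem_cjS]
  have e : y⁻¹ * x * y = x := by
    rw [mul_assoc, ← h x hx, inv_mul_cancel_left]
  rwa [e]

theorem cjS_pgroup {p : ℕ} {y : Y} {X : Subgroup Y} (h : IsPGroup p X) : IsPGroup p (cjS y X) := h.map _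

end cjS

/-- `X`, `X'` are the images of the upper / lower unitriangular groups under a homomorphism `SL₂(F) → Y`, `|F| = q` -/
def Img {Y : Type*} [Group Y] (q : ℕ) (X X' : Subgroup Y) : Prop :=
  ∃ (F : Type) (_ : Field F) (_ : Fintype F) (φ : Matrix.SpecialLinearGroup (Fin 2) F →* Y), Fintype.card F = q ∧
    (∀ y, y ∈ X ↔ ∃ t, φ (up t) = y) ∧ (∀ y, y ∈ X' ↔ ∃ t, φ (lo t) = y) ∧ (∀ t, φ (up t) = 1 → t = 0)

theorem Img.conj {Y : Type*} [Group Y] {q : ℕ} {X X' : Subgroup Y} (h : Img q X X') (y : Y) :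
    Img q (cjS y X) (cjS y X') := by
  obtain ⟨F, _, _, φ, hF, h1, h2, h3⟩ := h
  refine ⟨F, _, _, (MulAut.conj y).toMonoidHom.comp φ, hF, fun z => ?_, fun z => ?_, fun t ht => h3 t ?_⟩
  · rw [mem_cjS, h1]
    constructor
    · rintro ⟨t, ht⟩
      refine ⟨t, ?_⟩
      change y * φ (up t) * y⁻¹ = z
      rw [ht]
      group
    · rintro ⟨t, ht⟩
      refine ⟨t, ?_⟩
      have ht' : y * φ (up t) * y⁻¹ = z := ht
      rw [← ht']
      group
  · rw [mem_cjS, h2]
    constructor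
    · rintro ⟨t, ht⟩
      refine ⟨t, ?_⟩
      change y * φ (lo t) * y⁻¹ = z
      rw [ht]
      group
    · rintro ⟨t, ht⟩
      refine ⟨t, ?_⟩
      have ht' : y * φ (lo t) * y⁻¹ = z := ht
      rw [← ht']
      group
  · have ht' : y * φ (up t) * y⁻¹ = 1 := ht
    have e : φ (up t) = y⁻¹ * (y * φ (up t) * y⁻¹) * y := by group
    rw [e, ht']
    group

section

variable {D : ChevalleyDatum} {l : ℕ} {M : CoxeterMatrix (Fin l)} {hp : IsType D l M} {r q : ℕ} [hr : Fact r.Prime]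
  {K₀ : Type v} [Group K₀] (m : MData hp r q K₀)

/-- the standard long root group of `Y^σ` -/
noncomputable def T0 : Subgroup ↥(D.group (KK r)) := XX D l (KK r) (vec D l (D.nroots - 1)) ⊓ fixedSubgroup m.σ

/-- the opposite group -/
noncomputable def T0' : Subgroup ↥(D.group (KK r)) := XX D l (KK r) (-vec D l (D.nroots - 1)) ⊓ fixedSubgroup m.σ

/-- long root groups of `Y^σ` -/
def LRG (X : Subgroup ↥(D.group (KK r))) : Prop := ∃ y, m.σ y = y ∧ X = cjS y (T0 m)

/-- long root elements of `Y^σ` -/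
def LR (v : ↥(D.group (KK r))) : Prop := v ≠ 1 ∧ ∃ X, LRG m X ∧ v ∈ X

end

end Cfsg.Agent.H169.RG
end

-- part: H607/R2/WL
section
set_option linter.all false
open scoped Cfsg.Agent.FastGrp

-- part: H378/WL/Tool
section
/-!
# S3509: sets of roots given by congruences (helper378)

`T : Dat` a table of the positive roots (simply laced), `C : Cd` a list of conditions `(c, m)` : `m ∣ c · v` (`m = 0`:
`c · v = 0`).  `conn T (sel T C) m = true` : the roots with the conditions form an irreducible set of rank `≥ 2`.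
`psiSet` : the resulting `PsiSet`.
-/

set_option autoImplicit false
set_option linter.unusedSectionVars false

namespace Cfsg.Agent.H378.WL

open CoxeterSystem Cfsg Cfsg.Lie Cfsg.Lie.ChevalleyDatum
open Cfsg.Agent.ChevalleyStructure Cfsg.Agent.ChevalleyStructure.Elts Cfsg.Agent.ChevalleyStructure.CoxeterGeom
  Cfsg.Agent.ChevalleyStructure.CoxeterGeomTypes Cfsg.Agent.ChevalleyStructure.NPerm
open Cfsg.Agent.Tits.Roots Cfsg.Agent.Tits.Core Cfsg.Agent.Nodes Cfsg.Agent.Nodes.Reps Cfsg.Agent.Nodes.RGDChev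
open Cfsg.Agent.H378.Eng Cfsg.Agent.H165.WL

/-- conditions `m ∣ c · v` -/
abbrev Cd := List (Vc × ℕ)

/-- the conditions for a list vector -/
def okB (C : Cd) (x : Vc) : Bool := C.all fun c => dot c.1 x % (c.2 : ℤ) == 0

/-- the pairing of two positive roots is `1` or `-1` -/
def adj (T : Dat) (s t : ℕ) : Bool :=
  (dot (T.cor s) (T.gam t) == 1 || dot (T.cor s) (T.gam t) == -1) && dot (T.cor t) (T.gam s) == dot (T.cor s) (T.gam t)

/-- the positive roots with the conditions -/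
def sel (T : Dat) (C : Cd) : List ℕ := (List.range T.rts.length).filter fun r => okB C (T.gam r)

/-- connected, with last element `m` -/
def conn (T : Dat) (S : List ℕ) (m : ℕ) : Bool :=
  (S.all fun s => s == m || S.any fun t => Nat.blt s t && adj T s t) && S.contains m && S.any fun s => adj T s m

theorem adj_symm {T : Dat} {s t : ℕ} (h : adj T s t = true) : adj T t s = true := by
  unfold adj at h ⊢
  simp only [Bool.and_eq_true, Bool.or_eq_true, beq_iff_eq] at h ⊢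
  obtain ⟨h1, h2⟩ := h
  rw [h2]
  exact ⟨h1, rfl⟩

theorem conn_ind {T : Dat} {S : List ℕ} {m N : ℕ} (hN : ∀ s ∈ S, s < N) (hc : conn T S m = true) {B : ℕ → Prop}
    (hB : ∀ s ∈ S, ∀ t ∈ S, adj T s t = true → B s → B t) {s : ℕ} (hs : s ∈ S) (h : B s) : ∀ t ∈ S, B t := by
  unfold conn at hc
  simp only [Bool.and_eq_true, List.all_eq_true, List.any_eq_true, Bool.or_eq_true, beq_iff_eq, List.contains_iff_mem] at hc
  obtain ⟨⟨h1, hm⟩, -⟩ := hc
  have up : ∀ k s, N - s = k → s ∈ S → B s → B m := by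
    intro k
    induction k using Nat.strong_induction_on with
    | _ k ih =>
      intro s hk hs hb
      rcases h1 s hs with rfl | ⟨t, ht, h2, h3⟩
      · exact hb
      · have h4 : s < t := (Nat.blt_eq ..).mp h2
        have h5 := hN s hs
        exact ih (N - t) (by omega) t rfl ht (hB s hs t ht h3 hb)
  have dn : ∀ k s, N - s = k → s ∈ S → B m → B s := by
    intro k
    induction k using Nat.strong_induction_on with
    | _ k ih =>
      intro s hk hs hb
      rcases h1 s hs with rfl | ⟨t, ht, h2, h3⟩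
      · exact hb
      · have h4 : s < t := (Nat.blt_eq ..).mp h2
        have h5 := hN s hs
        exact hB t ht s hs (adj_symm h3) (ih (N - t) (by omega) t rfl ht hb)
  intro t ht
  exact dn _ t rfl ht (up _ s rfl hs h)

theorem conn_two {T : Dat} {S : List ℕ} {m : ℕ} (hc : conn T S m = true) : m ∈ S ∧ ∃ s ∈ S, adj T s m = true := by
  unfold conn at hc
  simp only [Bool.and_eq_true, List.any_eq_true, List.contains_iff_mem] at hc
  exact ⟨hc.1.2, hc.2⟩

/-- every element has a neighbour -/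
theorem conn_nb {T : Dat} {S : List ℕ} {m : ℕ} (hc : conn T S m = true) {s : ℕ} (hs : s ∈ S) :
    ∃ t ∈ S, adj T s t = true := by
  obtain ⟨-, u, hu, h1⟩ := conn_two hc
  unfold conn at hc
  simp only [Bool.and_eq_true, List.all_eq_true, List.any_eq_true, Bool.or_eq_true, beq_iff_eq, List.contains_iff_mem] at hc
  rcases hc.1.1 s hs with rfl | ⟨t, ht, -, h3⟩
  · exact ⟨u, hu, adj_symm h1⟩
  · exact ⟨t, ht, h3⟩

section Sem

variable {l : ℕ}

/-- the conditions for a vector -/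
def InC (l : ℕ) (C : Cd) (v : Fin l → ℤ) : Prop := ∀ c ∈ C, (c.2 : ℤ) ∣ dotF l c.1 v

theorem InC.add {C : Cd} {v u : Fin l → ℤ} (hv : InC l C v) (hu : InC l C u) : InC l C (v + u) := by
  intro c hc
  rw [map_add]
  exact dvd_add (hv c hc) (hu c hc)

theorem InC.neg {C : Cd} {v : Fin l → ℤ} (hv : InC l C v) : InC l C (-v) := by
  intro c hc
  rw [map_neg]
  exact (dvd_neg).2 (hv c hc)

theorem okB_iff {C : Cd} (hC : ∀ c ∈ C, c.1.length ≤ l) (x : Vc) : okB C x = true ↔ InC l C (toF l x) := by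
  unfold okB InC
  rw [List.all_eq_true]
  refine forall₂_congr fun c hc => ?_
  rw [beq_iff_eq, dotF_toF (hC c hc)]
  exact Int.dvd_iff_emod_eq_zero.symm

variable {D : ChevalleyDatum} {M : CoxeterMatrix (Fin l)} (hp : IsType D l M) {W : Type*} [Group W]
  (cs : CoxeterSystem M W) {T : Dat} (hT : T.l = l) (hA : RowOK (cartanOf D l) T) (hR : T.chkR = true)

include hT hR in
theorem act_cor {r : ℕ} (hr : r < T.rts.length) (hA : RowOK (cartanOf D l) T) : ∃ w : W, ∀ x : Vc,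
    rep cs hp.isCartan w (toF l x) = toF l x - dot (T.cor r) x • toF l (T.gam r) := by
  obtain ⟨w, hw⟩ := exists_elt cs hp.isCartan hT hA hR r hr
  refine ⟨w, fun x => ?_⟩
  rw [hw, dotF_toF (hT ▸ cor_length' hR r)]

include hT hA hR in
/-- adjacent: sum or difference is a root -/
theorem adj_root {s t : ℕ} (hs : s < T.rts.length) (ht : t < T.rts.length) (h : adj T s t = true) :
    IsRoot cs hp.isCartan (toF l (T.gam s) + toF l (T.gam t)) ∨
      IsRoot cs hp.isCartan (toF l (T.gam s) - toF l (T.gam t)) := by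
  unfold adj at h
  simp only [Bool.and_eq_true, Bool.or_eq_true, beq_iff_eq] at h
  obtain ⟨h1, h2⟩ := h
  obtain ⟨w, hw⟩ := act_cor hp cs hT hR ht hA
  have h3 := (root_gam cs hp.isCartan hT hA hR s hs).act w
  rw [hw, h2] at h3
  rcases h1 with h1 | h1
  · right
    rwa [h1, one_smul] at h3
  · left
    rwa [h1, neg_one_smul, sub_neg_eq_add] at h3

/-- the norm check -/
def nrm (T : Dat) : Bool := (List.range T.rts.length).all fun r => dot (T.cor r) (T.gam r) == 2

include hT hA hR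

/-- adjacent: conjugate -/
theorem adj_conj (hn : nrm T = true) {s t : ℕ} (hs : s < T.rts.length) (ht : t < T.rts.length)
    (h : adj T s t = true) : ∃ w : W, rep cs hp.isCartan w (toF l (T.gam s)) = toF l (T.gam t) := by
  unfold adj at h
  simp only [Bool.and_eq_true, Bool.or_eq_true, beq_iff_eq] at h
  obtain ⟨h1, h2⟩ := h
  unfold nrm at hn
  simp only [List.all_eq_true, beq_iff_eq] at hn
  obtain ⟨w, hw⟩ := act_cor hp cs hT hR ht hA
  obtain ⟨w', hw'⟩ := act_cor hp cs hT hR hs hA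
  have e1 : rep cs hp.isCartan (w' * w) (toF l (T.gam s)) =
      -(dot (T.cor s) (T.gam t) • toF l (T.gam t)) := by
    rw [rep_mul_apply, hw, h2, map_sub, map_smul, hw', hw', hn s (List.mem_range.2 hs)]
    rcases h1 with h1 | h1
    · rw [h1]; simp only [one_smul, two_smul]; abel
    · rw [h1]; simp only [neg_one_smul, two_smul]; abel
  rcases h1 with h1 | h1
  · refine ⟨w * (w' * w), ?_⟩
    rw [rep_mul_apply, e1, h1, one_smul, map_neg, hw, hn t (List.mem_range.2 ht), two_smul]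
    abel
  · exact ⟨w' * w, by rw [e1, h1, neg_one_smul, neg_neg]⟩

/-- `-γ` is conjugate to `γ` -/
theorem neg_conj (hn : nrm T = true) {t : ℕ} (ht : t < T.rts.length) :
    ∃ w : W, rep cs hp.isCartan w (toF l (T.gam t)) = -toF l (T.gam t) := by
  unfold nrm at hn
  simp only [List.all_eq_true, beq_iff_eq] at hn
  obtain ⟨w, hw⟩ := act_cor hp cs hT hR ht hA
  exact ⟨w, by rw [hw, hn t (List.mem_range.2 ht), two_smul]; abel⟩

/-- every root is conjugate to the last one -/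
theorem all_long (hn : nrm T = true) {m : ℕ} (hc : conn T (List.range T.rts.length) m = true) {v : Fin l → ℤ}
    (hv : IsRoot cs hp.isCartan v) : ∃ w : W, v = rep cs hp.isCartan w (toF l (T.gam m)) := by
  have key := conn_ind (N := T.rts.length) (fun s hs => List.mem_range.1 hs) hc
    (B := fun s => ∃ w : W, toF l (T.gam s) = rep cs hp.isCartan w (toF l (T.gam m)))
    (fun s hs t ht hst ⟨w, hw⟩ => by
      obtain ⟨w', hw'⟩ := adj_conj hp cs hT hA hR hn (List.mem_range.1 hs) (List.mem_range.1 ht) hst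
      exact ⟨w' * w, by rw [rep_mul_apply, ← hw, hw']⟩)
    (conn_two hc).1 ⟨1, by rw [map_one]; rfl⟩
  obtain ⟨b, hb, h1⟩ := exists_gam' cs hp.isCartan hT hA hR hv
  obtain ⟨r, hr, e1, -⟩ := exists_lt_of_mem hb
  obtain ⟨w, hw⟩ := key r (List.mem_range.2 hr)
  rcases h1 with rfl | rfl
  · exact ⟨w, by rw [← e1, hw]⟩
  · obtain ⟨w', hw'⟩ := neg_conj hp cs hT hA hR hn hr
    exact ⟨w' * w, by rw [rep_mul_apply, ← hw, hw', e1]⟩

/-- **The set of the roots with the conditions `C`.** -/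
theorem psiSet (hn : nrm T = true) {m₀ : ℕ} (hc₀ : conn T (List.range T.rts.length) m₀ = true)
    (htop : vec D l (D.nroots - 1) = toF l (T.gam m₀)) {C : Cd} (hC : ∀ c ∈ C, c.1.length ≤ l) {m : ℕ}
    (hc : conn T (sel T C) m = true) {θ : (Fin l → ℤ) → (Fin l → ℤ)}
    (hθ : ∀ v, IsRoot cs hp.isCartan v → InC l C v → IsRoot cs hp.isCartan (θ v) ∧ InC l C (θ v)) :
    PsiSet hp cs θ {v | IsRoot cs hp.isCartan v ∧ InC l C v} where
  root v hv := hv.1
  neg v hv := ⟨hv.1.neg, hv.2.neg⟩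
  closed v hv u hu h := ⟨h, hv.2.add hu.2⟩
  stable v hv := hθ v hv.1 hv.2
  long v hv := by
    rw [htop]
    exact all_long hp cs hT hA hR hn hc₀ hv.1
  irr := by
    intro A hA' hne hcl
    have hsel : ∀ s, s ∈ sel T C ↔ s < T.rts.length ∧ InC l C (toF l (T.gam s)) := by
      intro s
      unfold sel
      rw [List.mem_filter, List.mem_range, okB_iff hC]
    have hmem : ∀ s ∈ sel T C, toF l (T.gam s) ∈ {v | IsRoot cs hp.isCartan v ∧ InC l C v} := fun s hs =>
      ⟨root_gam cs hp.isCartan hT hA hR s ((hsel s).1 hs).1, ((hsel s).1 hs).2⟩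
    have hmemn : ∀ s ∈ sel T C, -toF l (T.gam s) ∈ {v | IsRoot cs hp.isCartan v ∧ InC l C v} := fun s hs =>
      ⟨(hmem s hs).1.neg, (hmem s hs).2.neg⟩
    -- the step
    have step : ∀ s ∈ sel T C, ∀ t ∈ sel T C, adj T s t = true →
        (toF l (T.gam s) ∈ A ∨ -toF l (T.gam s) ∈ A) → toF l (T.gam t) ∈ A ∧ -toF l (T.gam t) ∈ A := by
      intro s hs t ht hst hsA
      have h1 := adj_root hp cs hT hA hR ((hsel s).1 hs).1 ((hsel t).1 ht).1 hst
      have h1' : IsRoot cs hp.isCartan (-toF l (T.gam s) - toF l (T.gam t)) ∨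
          IsRoot cs hp.isCartan (-toF l (T.gam s) + toF l (T.gam t)) := by
        rcases h1 with h1 | h1
        · left
          have := h1.neg
          rwa [neg_add, ← sub_eq_add_neg] at this
        · right
          have := h1.neg
          rwa [neg_sub, sub_eq_neg_add] at this
      rcases hsA with hsA | hsA
      · refine ⟨hcl _ hsA _ (hmem t ht) h1, hcl _ hsA _ (hmemn t ht) ?_⟩
        rw [← sub_eq_add_neg, sub_neg_eq_add]
        exact h1.symm
      · refine ⟨hcl _ hsA _ (hmem t ht) h1'.symm, hcl _ hsA _ (hmemn t ht) ?_⟩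
        rw [← sub_eq_add_neg, sub_neg_eq_add]
        exact h1'
    have tab : ∀ v, IsRoot cs hp.isCartan v ∧ InC l C v → ∃ s ∈ sel T C, v = toF l (T.gam s) ∨ v = -toF l (T.gam s) := by
      rintro v ⟨hv, hvC⟩
      obtain ⟨b, hb, h1⟩ := exists_gam' cs hp.isCartan hT hA hR hv
      obtain ⟨r, hr, e1, -⟩ := exists_lt_of_mem hb
      rw [← e1] at h1
      refine ⟨r, (hsel r).2 ⟨hr, ?_⟩, h1⟩
      rcases h1 with rfl | rfl
      · exact hvC
      · have := hvC.neg
        rwa [neg_neg] at this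
    obtain ⟨a, ha⟩ := hne
    obtain ⟨s, hs, h1⟩ := tab a (hA' ha)
    have hs' : toF l (T.gam s) ∈ A ∨ -toF l (T.gam s) ∈ A := by
      rcases h1 with rfl | rfl
      · exact Or.inl ha
      · exact Or.inr ha
    have key := conn_ind (N := T.rts.length) (fun s hs => ((hsel s).1 hs).1) hc
      (B := fun s => toF l (T.gam s) ∈ A ∨ -toF l (T.gam s) ∈ A)
      (fun s hs t ht hst h => Or.inl (step s hs t ht hst h).1) hs hs'
    refine Set.Subset.antisymm hA' fun v hv => ?_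
    obtain ⟨t, ht, h2⟩ := tab v hv
    obtain ⟨u, hu, h3⟩ := conn_nb hc ht
    have h4 := step u hu t ht (adj_symm h3) (key u hu)
    rcases h2 with rfl | rfl
    · exact h4.1
    · exact h4.2
  two := by
    have hsel : ∀ s, s ∈ sel T C ↔ s < T.rts.length ∧ InC l C (toF l (T.gam s)) := by
      intro s
      unfold sel
      rw [List.mem_filter, List.mem_range, okB_iff hC]
    obtain ⟨hm, s, hs, h⟩ := conn_two hc
    have h1 := (hsel s).1 hs
    have h2 := (hsel m).1 hm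
    rcases adj_root hp cs hT hA hR h1.1 h2.1 h with h3 | h3
    · exact ⟨_, ⟨root_gam cs hp.isCartan hT hA hR s h1.1, h1.2⟩, _, ⟨root_gam cs hp.isCartan hT hA hR m h2.1, h2.2⟩, h3⟩
    · rw [sub_eq_add_neg] at h3
      exact ⟨_, ⟨root_gam cs hp.isCartan hT hA hR s h1.1, h1.2⟩, _,
        ⟨(root_gam cs hp.isCartan hT hA hR m h2.1).neg, h2.2.neg⟩, h3⟩

end Sem

end Cfsg.Agent.H378.WL
end

-- part: H378/WL/E6
section
/-!
# S3509, W-lemma for `E₆` and `²E₆` (helper378)

Every element `w` of `W(E₆)` stabilises a subsystem of type `D₅`, `A₅` or `D₄` or `1 + w³ + w⁶ = 0` (class `E₆(a₁)`).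
`-1` preserves all these sets, so the same holds for `-w`, i.e. for `w ∘ g`, `g` the graph automorphism.
-/

set_option autoImplicit false
set_option linter.unusedSectionVars false

namespace Cfsg.Agent.H378.WL.E6

open CoxeterSystem Cfsg Cfsg.Lie Cfsg.Lie.ChevalleyDatum
open Cfsg.Agent.ChevalleyStructure Cfsg.Agent.ChevalleyStructure.Elts Cfsg.Agent.ChevalleyStructure.CoxeterGeom
  Cfsg.Agent.ChevalleyStructure.CoxeterGeomTypes Cfsg.Agent.ChevalleyStructure.NPerm
open Cfsg.Agent.Tits.Roots Cfsg.Agent.Tits.Core Cfsg.Agent.Nodes Cfsg.Agent.Nodes.Reps Cfsg.Agent.Nodes.RGDChev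
open Cfsg.Agent.H378.Eng Cfsg.Agent.H165.WL
open Cfsg.Agent.H378.E6Dat (dat)

theorem row : RowOK (cartanOf chevE6 6) dat := by
  unfold RowOK
  (delta Cfsg.Agent.ChevalleyStructure.CoxeterGeomTypes.cartanOf; rewrite [Cfsg.Agent.ChevFast.E6.cartan]; decide +kernel)

theorem chkN : nrm dat = true := by decide +kernel

theorem full : conn dat (List.range dat.rts.length) 35 = true := by decide +kernel

theorem top : vec chevE6 6 (chevE6.nroots - 1) = toF 6 (dat.gam 35) := by decide +kernel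

/-- the class `E₆(a₁)` -/
def nine (R : List Vc) : Bool := (List.range 6).all fun k =>
  let x := lc (lc (lc (bv k) R) R) R
  let y := lc (lc (lc x R) R) R
  veq (vadd (bv k) (vadd x y)) []

variable {M : CoxeterMatrix (Fin 6)} (hp : IsType chevE6 6 M) {W : Type*} [Group W] (cs : CoxeterSystem M W)

/-- the permutation of the fundamental roots -/
def pm : Fin 6 → Fin 6 := ![5, 1, 4, 3, 2, 0]

/-- the longest element acts as minus the graph automorphism -/
theorem exists_w0 : ∃ w₀ : W, ∀ (v : Fin 6 → ℤ) (i : Fin 6), rep cs hp.isCartan w₀ v i = -v (pm i) := by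
  obtain ⟨w₀, h⟩ := exists_word cs hp.isCartan (T := dat) rfl row E6Dat.chkR [1, 23, 29, 33] (by decide +kernel)
  refine ⟨w₀, fun v i => ?_⟩
  have h1 : ∀ k : Fin 6, veq (dat.wd [1, 23, 29, 33] (bv k)) (vsm (-1) (bv (pm k))) = true := by decide +kernel
  have h2 : ∀ i k : Fin 6, -1 * (bv (pm k)).getD i 0 = -((bv k).getD (pm i) 0) := by decide +kernel
  have h3 := hom_ext (φ := (Pi.evalAddMonoidHom (fun _ : Fin 6 => ℤ) i).comp (rep cs hp.isCartan w₀).toAddMonoidHom)
    (ψ := -(Pi.evalAddMonoidHom (fun _ : Fin 6 => ℤ) (pm i))) (fun k => ?_) v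
  · exact h3
  · show rep cs hp.isCartan w₀ (Pi.single k 1) i = -((Pi.single k 1 : Fin 6 → ℤ) (pm i))
    rw [← toF_bv, h, toF_veq (h1 k), toF_vsm]
    exact h2 i k

end Cfsg.Agent.H378.WL.E6
end

-- part: H607/R2/WL
section
/-!
# S3509, R2: the W-lemma for `E₆`, `²E₆` with standard Levi subsystems (helper607)

`sd s`, `s : Fin 3` : the coefficient of the fundamental root `6` (`D₅`), `2` (`A₅`), the sum of the coefficients of `1` and
`6` (`D₄`).  `exists_lev` : every `w` is conjugate to an element preserving one of the three systems `sd s = 0`, or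
`1 + w³ + w⁶ = 0`.  `theta_lev` : the same for `θ = rep w ∘ m.g`, `m : MData`.
-/

set_option autoImplicit false
set_option linter.unusedSectionVars false

namespace Cfsg.Agent.H607.R2

open CoxeterSystem Cfsg Cfsg.Lie Cfsg.Lie.ChevalleyDatum
open Cfsg.Agent.ChevalleyStructure Cfsg.Agent.ChevalleyStructure.Elts Cfsg.Agent.ChevalleyStructure.CoxeterGeom
  Cfsg.Agent.ChevalleyStructure.CoxeterGeomTypes Cfsg.Agent.ChevalleyStructure.NPerm
open Cfsg.Agent.Tits.Roots Cfsg.Agent.Tits.Core Cfsg.Agent.Nodes Cfsg.Agent.Nodes.Reps Cfsg.Agent.Nodes.RGDChev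
open Cfsg.Agent.H378.Eng Cfsg.Agent.H165.WL Cfsg.Agent.H378.WL
open Cfsg.Agent.H378.E6Dat (dat)
open Cfsg.Agent.H316.U6 Cfsg.Agent.H469.Exc

/-- the standard functionals, lists -/
def sdc : ℕ → Vc
  | 0 => [0, 0, 0, 0, 0, 1]
  | 1 => [0, 1, 0, 0, 0, 0]
  | _ => [1, 0, 0, 0, 0, 1]

theorem sdc_length (s : ℕ) : (sdc s).length ≤ 6 := by
  rcases s with _ | _ | s
  · decide
  · decide
  · exact le_refl 6

/-- the standard functionals: `D₅`, `A₅`, `D₄` -/
def sd (s : ℕ) : (Fin 6 → ℤ) →+ ℤ := dotF 6 (sdc s)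

/-- words and types for the 25 classes -/
def us : List (List ℕ × ℕ) :=
  [([22, 35], 0), ([19], 0), ([15, 35], 0), ([10, 34], 0), ([10], 0), ([15, 35], 0), ([15, 35], 0), ([], 0), ([], 0),
    ([], 0), ([7, 31], 1), ([15, 35], 0), ([15, 35], 0), ([15, 35], 0), ([], 0), ([13, 28], 1), ([], 0), ([13, 28], 1),
    ([34], 1), ([], 0), ([6, 32], 2), ([], 0), ([13, 28], 1), ([17, 29], 2), ([19], 2)]

/-- one class -/
def ckL (i : ℕ) : Bool :=
  let u := (us.getD i ([], 0)).1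
  let c := sdc (us.getD i ([], 0)).2
  (u.all fun r => Nat.blt r dat.rts.length) && (List.range dat.rts.length).all fun r =>
    dot c (dat.wd u (dat.gam r)) != 0 || dot c (dat.wd u (lc (dat.gam r) (dat.R i))) == 0

theorem all_ckL : ((List.range 25).all fun i => i == 21 || ckL i) = true := by decide +kernel

theorem nine21 : E6.nine (dat.R 21) = true := by decide +kernel

theorem us_lt : ((List.range 25).all fun i => Nat.blt (us.getD i ([], 0)).2 3) = true := by decide +kernel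

variable {M : CoxeterMatrix (Fin 6)} (hp : IsType chevE6 6 M) {W : Type*} [Group W] (cs : CoxeterSystem M W)

/-- `1 + w³ + w⁶ = 0` -/
def Nine {M : CoxeterMatrix (Fin 6)} (hp : IsType chevE6 6 M) {W : Type*} [Group W] (cs : CoxeterSystem M W) (w : W) : Prop :=
  ∀ x, x + rep cs hp.isCartan (w ^ 3) x + rep cs hp.isCartan (w ^ 6) x = 0

/-- **W-lemma for `E₆`**, standard form -/
theorem exists_lev (w : W) : (∃ (v : W) (s : ℕ), s < 3 ∧ ∀ x, IsRoot cs hp.isCartan x → sd s x = 0 →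
      sd s (rep cs hp.isCartan v (rep cs hp.isCartan w (rep cs hp.isCartan v⁻¹ x))) = 0) ∨ Nine hp cs w := by
  obtain ⟨v, i, hi, hv⟩ := exists_conj cs hp.isCartan (T := dat) rfl E6.row H378.E6Dat.chkR H378.E6Dat.chkC w
  have hi' : i < 25 := hi
  have hlen : (dat.R i).length ≤ 6 := by
    have h3 : (List.range 25).all (fun i => decide ((dat.R i).length ≤ 6)) = true := by decide +kernel
    rw [List.all_eq_true] at h3
    simpa using h3 i (List.mem_range.2 hi')
  by_cases h21 : i = 21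
  · right
    have h3 := nine21
    rw [← h21] at h3
    unfold E6.nine at h3
    rw [List.all_eq_true] at h3
    have pw : ∀ (n : ℕ) (x : Fin 6 → ℤ), rep cs hp.isCartan v (rep cs hp.isCartan (w ^ n) (rep cs hp.isCartan v⁻¹ x)) =
        (lin 6 (dat.R i))^[n] x := by
      intro n
      induction n with
      | zero => intro x; rw [pow_zero, map_one, Module.End.one_apply, rep_apply_inv]; rfl
      | succ n ih =>
        intro x
        rw [Function.iterate_succ_apply, ← ih, ← hv, pow_succ, rep_mul_apply, rep_inv_apply]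
    have key : ∀ x : Fin 6 → ℤ, x + (lin 6 (dat.R i))^[3] x + (lin 6 (dat.R i))^[6] x = 0 := by
      intro x
      have h4 := hom_ext (φ := (AddMonoidHom.id (Fin 6 → ℤ)) +
          ((lin 6 (dat.R i)).comp ((lin 6 (dat.R i)).comp (lin 6 (dat.R i)))) +
          ((lin 6 (dat.R i)).comp ((lin 6 (dat.R i)).comp ((lin 6 (dat.R i)).comp ((lin 6 (dat.R i)).comp
            ((lin 6 (dat.R i)).comp (lin 6 (dat.R i)))))))) (ψ := 0) (fun j => ?_) x
      · exact h4
      · have h5 := toF_veq (l := 6) (h3 j (List.mem_range.2 j.2))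
        simp only [toF_vadd, toF_nil, ← lin_toF hlen, toF_bv] at h5
        rw [← add_assoc] at h5
        exact h5
    intro x
    have h4 := key (rep cs hp.isCartan v x)
    rw [← pw 3, ← pw 6, rep_inv_apply, ← map_add, ← map_add] at h4
    have h5 := congrArg (rep cs hp.isCartan v⁻¹) h4
    rwa [rep_inv_apply, map_zero] at h5
  · left
    have h1 := all_ckL
    rw [List.all_eq_true] at h1
    have h2 := h1 i (List.mem_range.2 hi')
    rw [Bool.or_eq_true, beq_iff_eq, or_iff_right h21] at h2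
    have h3 := us_lt
    rw [List.all_eq_true] at h3
    have h4 : (us.getD i ([], 0)).2 < 3 := (Nat.blt_eq ..).mp (h3 i (List.mem_range.2 hi'))
    unfold ckL at h2
    simp only [Bool.and_eq_true, List.all_eq_true] at h2
    obtain ⟨h5, h6⟩ := h2
    set u := (us.getD i ([], 0)).1 with hu
    set s := (us.getD i ([], 0)).2 with hs
    obtain ⟨u₀, hu₀⟩ := Cfsg.Agent.H378.Eng.exists_word cs hp.isCartan (T := dat) rfl E6.row H378.E6Dat.chkR u fun r hr => (Nat.blt_eq ..).mp (h5 r hr)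
    have hsd : ∀ x : Vc, sd s (toF 6 x) = dot (sdc s) x := fun x => dotF_toF (sdc_length s) x
    have key : ∀ x, IsRoot cs hp.isCartan x → sd s (rep cs hp.isCartan u₀ x) = 0 →
        sd s (rep cs hp.isCartan u₀ (lin 6 (dat.R i) x)) = 0 := by
      intro x hx h0
      obtain ⟨b, hb, h7⟩ := exists_gam' cs hp.isCartan (T := dat) rfl E6.row H378.E6Dat.chkR hx
      obtain ⟨r, hr, e1, -⟩ := exists_lt_of_mem hb
      rw [← e1] at h7
      have h8 := h6 r (List.mem_range.2 hr)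
      rw [Bool.or_eq_true, bne_iff_ne, beq_iff_eq] at h8
      have h9 : sd s (rep cs hp.isCartan u₀ (toF 6 (dat.gam r))) = 0 := by
        rcases h7 with rfl | rfl
        · exact h0
        · rwa [map_neg, map_neg, neg_eq_zero] at h0
      rw [hu₀, hsd] at h9
      have h10 := h8.resolve_left (fun h => h h9)
      rw [← hsd, ← hu₀, ← lin_toF hlen] at h10
      rcases h7 with rfl | rfl
      · exact h10
      · rw [map_neg, map_neg, map_neg, h10, neg_zero]
    refine ⟨u₀ * v, s, h4, fun x hx h0 => ?_⟩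
    have h7 := key (rep cs hp.isCartan u₀⁻¹ x) (hx.act _) (by rw [rep_apply_inv]; exact h0)
    rw [← hv] at h7
    rw [mul_inv_rev, rep_mul_apply, rep_mul_apply]
    exact h7

/-- the permutation of the fundamental roots is trivial or the graph automorphism -/
theorem perm_cases {π : Equiv.Perm (Fin 6)} {g : (Fin 6 → ℤ) → (Fin 6 → ℤ)} (hg : ∀ v i, g v i = v (π i))
    (hr : ∀ a, IsRoot cs hp.isCartan (g a) ↔ IsRoot cs hp.isCartan a) : π = 1 ∨ ∀ i, π i = E6.pm i := by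
  have h1 : ∀ i j : Fin 6, i ≠ j → (IsRoot cs hp.isCartan (sr i + sr j) ↔ cartanOf chevE6 6 i j = -1) := by
    intro i j hij
    rw [isRoot_iff hp cs]
    revert i j
    (delta Cfsg.Agent.ChevalleyStructure.CoxeterGeomTypes.cartanOf; rewrite [Cfsg.Agent.ChevFast.E6.cartan]; open scoped Cfsg.Agent.ChevFast.Lin in decide +kernel)
  have h2 : ∀ i, g (sr i) = sr (π.symm i) := by
    intro i
    funext j
    rw [hg]
    by_cases h : π j = i
    · rw [h, sr_self, ← h, Equiv.symm_apply_apply, sr_self]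
    · rw [sr_ne h, sr_ne (fun h' => h (by rw [h', Equiv.apply_symm_apply]))]
  have hga : ∀ a b, g (a + b) = g a + g b := by
    intro a b
    funext j
    rw [hg, Pi.add_apply, Pi.add_apply, hg, hg]
  have h3 : ∀ i j : Fin 6, i ≠ j → (cartanOf chevE6 6 (π i) (π j) = -1 ↔ cartanOf chevE6 6 i j = -1) := by
    intro i j hij
    rw [← h1 i j hij, ← h1 (π i) (π j) (fun h => hij (π.injective h)), ← hr, hga, h2, h2, Equiv.symm_apply_apply,
      Equiv.symm_apply_apply]
  have h4 : ∀ π : Equiv.Perm (Fin 6), (∀ i j : Fin 6, i ≠ j →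
      (cartanOf chevE6 6 (π i) (π j) = -1 ↔ cartanOf chevE6 6 i j = -1)) → π = 1 ∨ ∀ i, π i = E6.pm i := by
    (delta Cfsg.Agent.ChevalleyStructure.CoxeterGeomTypes.cartanOf; rewrite [Cfsg.Agent.ChevFast.E6.cartan]; open scoped Cfsg.Agent.ChevFast.Lin in decide +kernel)
  exact h4 π h3

/-- **W-lemma for `θ = rep w ∘ m.g`** -/
theorem theta_lev {r q : ℕ} [Fact r.Prime] {K₀ : Type*} [Group K₀] (m : MData hp r q K₀) (w : M.Group)
    {θ : (Fin 6 → ℤ) → (Fin 6 → ℤ)} (hθ : ∀ v, θ v = rep M.toCoxeterSystem hp.isCartan w (m.g v)) :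
    (∃ (v : M.Group) (s : ℕ), s < 3 ∧ ∀ x, IsRoot M.toCoxeterSystem hp.isCartan x → sd s x = 0 →
      sd s (rep M.toCoxeterSystem hp.isCartan v (θ (rep M.toCoxeterSystem hp.isCartan v⁻¹ x))) = 0) ∨
    ∃ u : M.Group, Nine hp M.toCoxeterSystem u ∧ ((∀ x, θ x = rep M.toCoxeterSystem hp.isCartan u x) ∨
      ∀ x, θ x = -rep M.toCoxeterSystem hp.isCartan u x) := by
  have hr : ∀ a, IsRoot M.toCoxeterSystem hp.isCartan (m.g a) ↔ IsRoot M.toCoxeterSystem hp.isCartan a := m.fr.root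
  rcases perm_cases hp M.toCoxeterSystem (π := m.π) (g := fun v => m.g v) (fun v i => m.perm v i) hr with h | h
  · have hg : ∀ v, θ v = rep M.toCoxeterSystem hp.isCartan w v := by
      intro v
      rw [hθ]
      congr 1
      funext i
      rw [m.perm, h]
      rfl
    rcases exists_lev hp M.toCoxeterSystem w with ⟨v, s, hs, h1⟩ | h1
    · left
      refine ⟨v, s, hs, fun x hx h0 => ?_⟩
      rw [hg]
      exact h1 x hx h0
    · exact Or.inr ⟨w, h1, Or.inl hg⟩
  · obtain ⟨w₀, h0⟩ := E6.exists_w0 hp M.toCoxeterSystem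
    have h1 : ∀ v, m.g v = -rep M.toCoxeterSystem hp.isCartan w₀ v := by
      intro v
      funext i
      rw [m.perm, h, Pi.neg_apply, h0, neg_neg]
    have h2 : ∀ v, θ v = -rep M.toCoxeterSystem hp.isCartan (w * w₀) v := by
      intro v
      rw [hθ, h1, map_neg, rep_mul_apply]
    rcases exists_lev hp M.toCoxeterSystem (w * w₀) with ⟨v, s, hs, h3⟩ | h3
    · left
      refine ⟨v, s, hs, fun x hx h0 => ?_⟩
      rw [h2, map_neg, map_neg, h3 x hx h0, neg_zero]
    · exact Or.inr ⟨_, h3, Or.inr h2⟩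

/-- the stable set of roots -/
def LS {M : CoxeterMatrix (Fin 6)} (hp : IsType chevE6 6 M) {W : Type*} [Group W] (cs : CoxeterSystem M W) (v : W) (s : ℕ) :
    Set (Fin 6 → ℤ) := {x | IsRoot cs hp.isCartan x ∧ sd s (rep cs hp.isCartan v x) = 0}

/-- **W-lemma for `θ = rep w ∘ m.g`**, the stable set `LS v s` -/
theorem theta_LS {r q : ℕ} [Fact r.Prime] {K₀ : Type*} [Group K₀] (m : MData hp r q K₀) (w : M.Group)
    {θ : (Fin 6 → ℤ) → (Fin 6 → ℤ)} (hθ : ∀ v, θ v = rep M.toCoxeterSystem hp.isCartan w (m.g v)) :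
    (∃ (v : M.Group) (s : ℕ), s < 3 ∧ ∀ x ∈ LS hp M.toCoxeterSystem v s, θ x ∈ LS hp M.toCoxeterSystem v s) ∨
    ∃ u : M.Group, Nine hp M.toCoxeterSystem u ∧ ((∀ x, θ x = rep M.toCoxeterSystem hp.isCartan u x) ∨
      ∀ x, θ x = -rep M.toCoxeterSystem hp.isCartan u x) := by
  rcases theta_lev hp m w hθ with ⟨v, s, hs, h⟩ | h
  · left
    refine ⟨v, s, hs, fun x hx => ⟨?_, ?_⟩⟩
    · rw [hθ]
      exact ((m.fr.root x).2 hx.1).act w
    · have h1 := h (rep M.toCoxeterSystem hp.isCartan v x) (hx.1.act v) hx.2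
      rwa [rep_inv_apply] at h1
  · exact Or.inr h

theorem chkS : ((List.range 3).all fun s => let S := sel dat [(sdc s, 0)]; conn dat S (S.getLastD 0)) = true := by
  decide +kernel

end Cfsg.Agent.H607.R2
end
end

-- part: H605/MX/Cases
section
prune_inst 0x24307404602200000018001060003f23940000920068800080a403460289cd42200309210ea00112086082440030006000000010400000000a000400011c0180008a82022001a000000000000004400000000000000000000000000000000000000000000
set_option linter.all false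
open scoped Cfsg.Agent.FastGrp

/-!
# S3509, MIX, box M3b: the torus elements and root elements in `K` (helper605)

`b` a root, `a` the period of `b` under `θ`, the roots of the orbit are orthogonal (simply laced). `K` contains the elements
of order prime to `r` of the group generated by the elements fixed by `α` of `⟨X_c : c ∈ ± orbit⟩`.

* `so_of_cpr` : orthogonal roots are strongly orthogonal (simply laced);
* `caseA` : `hTh s a c ∈ K`;
* `case1` : `a = 1`, `r ^ e ≥ 3`: a root element `v` fixed by `α` in `K`, or commuting with an involution of `K`, `r ≠ 2`.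
-/

set_option autoImplicit false
set_option linter.unusedSectionVars false

namespace Cfsg.Agent.H605.MX

open CoxeterSystem Cfsg Cfsg.Lie Cfsg.Lie.ChevalleyDatum
open Cfsg.Agent.ChevalleyStructure Cfsg.Agent.ChevalleyStructure.Elts Cfsg.Agent.ChevalleyStructure.CoxeterGeom
  Cfsg.Agent.ChevalleyStructure.CoxeterGeomTypes Cfsg.Agent.ChevalleyStructure.NPerm
open Cfsg.Agent.Tits.Roots Cfsg.Agent.Tits.Core Cfsg.Agent.Nodes Cfsg.Agent.Nodes.Reps Cfsg.Agent.Nodes.BNOf
  Cfsg.Agent.Nodes.RGDChev Cfsg.Agent.Nodes.Coroot Cfsg.Agent.Nodes.SimplyLaced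
open Cfsg.Agent.KFacts.RgdField Cfsg.Agent.KFacts.RgdChevCoord
open Cfsg.Agent.BpExc Cfsg.Agent.BpExc.TorCent Cfsg.Agent.BpExc.TorChev Cfsg.Agent.BpExc.Tow
  Cfsg.Agent.BpExc.TowChev Cfsg.Agent.BpExc.Fr Cfsg.Agent.BpExc.LangFr
open Cfsg.Agent.ChevalleyStructure.SL2Hom (up lo mem_closure_SL2)
open Cfsg.Agent.Nodes.RGDFold Cfsg.Agent.Nodes.RGDFoldSL
open Cfsg.Agent.H469.Exc Cfsg.Agent.H469.Exc.SigFr Cfsg.Agent.H81.TorOrth
open Cfsg.Agent.H129.TorusChar
open Cfsg.Agent.LangThm (mem_XX_vec)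

universe u

section comb

variable {I W : Type*} [Fintype I] [DecidableEq I] [Group W] [Finite W] {M : CoxeterMatrix I} {cs : CoxeterSystem M W}
  {A : I → I → ℤ} {h : IsCartan M A}

theorem ne_of_cpr {a b : I → ℤ} (hb : IsRoot cs h b) (h0 : cpr cs h a b = 0) : a ≠ b ∧ a ≠ -b := by
  constructor
  · rintro rfl
    rw [cpr_self cs h hb] at h0
    omega
  · rintro rfl
    rw [cpr_neg cs h b hb, cpr_self cs h hb] at h0
    omega

/-- orthogonal roots are strongly orthogonal -/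
theorem so_aux (h4 : ∀ i j, M i j ≠ 4) (h6 : ∀ i j, M i j ≠ 6) {a b : I → ℤ} (ha : IsRoot cs h a) (hb : IsRoot cs h b)
    (h0 : cpr cs h a b = 0) {i j : ℤ} (hi : i ≠ 0) (hj : j ≠ 0) : ¬ IsRoot cs h (i • a + j • b) := by
  intro hz
  set z := i • a + j • b with hzdef
  have h0' : cpr cs h b a = 0 := (cpr_zero_comm cs h ha hb).1 h0
  have e1 : cpr cs h z a = 2 * i := by
    rw [hzdef, cpr_add cs h _ _ ha, cpr_smul cs h _ _ ha, cpr_smul cs h _ _ ha, cpr_self cs h ha, h0']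
    ring
  have e2 : cpr cs h z b = 2 * j := by
    rw [hzdef, cpr_add cs h _ _ hb, cpr_smul cs h _ _ hb, cpr_smul cs h _ _ hb, cpr_self cs h hb, h0]
    ring
  have key : ∀ {c : I → ℤ} {m : ℤ}, IsRoot cs h c → m ≠ 0 → cpr cs h z c = 2 * m → z = c ∨ z = -c := by
    intro c m hc hm e
    by_contra hcon
    push Not at hcon
    have h5 := abs_cpr_le_one cs h h4 h6 hz hc hcon.1 hcon.2
    rw [e, abs_le] at h5
    omega
  obtain ⟨n1, n2⟩ := ne_of_cpr (h := h) hb h0
  rcases key ha hi e1 with h1 | h1 <;> rcases key hb hj e2 with h2 | h2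
  · exact n1 (h1.symm.trans h2)
  · exact n2 (h1.symm.trans h2)
  · exact n2 (by rw [← h2, h1, neg_neg])
  · exact n1 (neg_injective (h1.symm.trans h2))

end comb

theorem so_of_cpr {l : ℕ} {M : CoxeterMatrix (Fin l)} {W : Type*} [Group W] [Finite W] {cs : CoxeterSystem M W}
    {A : Fin l → Fin l → ℤ} {h : IsCartan M A} (h4 : ∀ i j, M i j ≠ 4) (h6 : ∀ i j, M i j ≠ 6) {a b : Fin l → ℤ}
    (ha : IsRoot cs h a) (hb : IsRoot cs h b) (h0 : cpr cs h a b = 0) : SO cs h a b :=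
  ⟨(ne_of_cpr hb h0).1, (ne_of_cpr hb h0).2, fun _ _ hi hj => so_aux h4 h6 ha hb h0 hi hj⟩

/-- every node has an odd Cartan integer in its row -/
theorem exists_odd {D : ChevalleyDatum} {l : ℕ} {M : CoxeterMatrix (Fin l)} (hp : IsType D l M)
    (h4 : ∀ i j, M i j ≠ 4) : ∀ i, ∃ j, Odd (cartanOf D l i j) := by
  simp only [IsType, typeList, List.mem_cons, List.not_mem_nil, or_false, Prod.mk.injEq, Sigma.mk.injEq] at hp
  rcases hp with ⟨rfl, rfl, hM⟩ | ⟨rfl, rfl, hM⟩ | ⟨rfl, rfl, hM⟩ | ⟨rfl, rfl, hM⟩ | ⟨rfl, rfl, hM⟩ | ⟨rfl, rfl, hM⟩ |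
    ⟨rfl, rfl, hM⟩
  all_goals first
    | decide +kernel
    | (exfalso; obtain rfl := eq_of_heq hM; exact h4 0 1 (by decide +kernel))

section

variable {D : ChevalleyDatum} {l : ℕ} {M : CoxeterMatrix (Fin l)} (hp : IsType D l M) {k : Type u} [Field k]
  {W : Type*} [Group W] (cs : CoxeterSystem M W)

theorem exists_odd_cpr (h4 : ∀ i j, M i j ≠ 4) {b : Fin l → ℤ} (hb : IsRoot cs hp.isCartan b) :
    ∃ b', IsRoot cs hp.isCartan b' ∧ Odd (cpr cs hp.isCartan b' b) := by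
  have := finite_W hp cs
  obtain ⟨w, i, rfl⟩ := hb
  obtain ⟨j, hj⟩ := exists_odd hp h4 i
  refine ⟨rep cs hp.isCartan w (sr j), (isRoot_sr cs hp.isCartan j).act w, ?_⟩
  rw [cpr_rep_sr, rep_inv_apply]
  have e : pairing (cartanOf D l) i (sr j) = cartanOf D l i j := by
    rw [sr, pairing_single, mul_one]
  rw [e]
  exact hj

include hp cs in
/-- `h_s(-1) ≠ 1` -/
theorem hS_neg_one_ne [IsAlgClosed k] (h4 : ∀ i j, M i j ≠ 4) (hk : LocFin k) (r : ℕ) [Fact r.Prime] [CharP k r] (hr2 : r ≠ 2) {s : ℕ}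
    (hs : s < D.nroots) : ps hp hs (hS (-1 : k)) ≠ 1 := by
  intro h
  obtain ⟨b', -, hodd⟩ := exists_odd_cpr hp cs h4 ((isRoot_iff hp cs _).2 ⟨s, hs, rfl⟩)
  have h1 := cX_hS hp cs hk r hs (c := -1) (neg_ne_zero.2 one_ne_zero) b'
  rw [h, cX_one, hodd.neg_one_zpow] at h1
  have h2 : (2 : k) = 0 := by linear_combination h1
  have h3 : ((2 : ℕ) : k) = 0 := by exact_mod_cast h2
  rw [CharP.cast_eq_zero_iff k r] at h3
  rcases (Nat.dvd_prime Nat.prime_two).1 h3 with h4 | h4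
  · exact (Fact.out : r.Prime).one_lt.ne' h4
  · exact hr2 h4

variable [IsAlgClosed k] (hk : LocFin k) {r e : ℕ} [Fact r.Prime] [CharP k r] {α : MulAut ↥(D.group k)}
  {θ : (Fin l → ℤ) ≃+ (Fin l → ℤ)} (hα : IsFrob r e α) (F : Fr cs hp.isCartan (TT D k) (XX D l k) α θ)

/-- the group generated by the fixed elements of `⟨X_c : c ∈ ± orbit⟩` -/
def Cl (α : MulAut ↥(D.group k)) (θ : (Fin l → ℤ) ≃+ (Fin l → ℤ)) (b : Fin l → ℤ) : Subgroup ↥(D.group k) :=
  Subgroup.closure ({x | x ∈ RGD.Sup (XX D l k) {c | ∃ j : ℕ, c = θ^[j] b} ∧ α x = x} ∪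
    {x | x ∈ RGD.Sup (XX D l k) {c | ∃ j : ℕ, c = -θ^[j] b} ∧ α x = x})

include hp F in
theorem fr_pow_mem {b : Fin l → ℤ} (hb : IsRoot cs hp.isCartan b) {x : ↥(D.group k)} (hx : x ∈ XX D l k b) (i : ℕ) :
    (α ^ i) x ∈ XX D l k (θ^[i] b) := by
  obtain ⟨θ', F', h1⟩ := F.pow i
  rw [← h1]
  exact (F'.map b hb x).2 hx

theorem iter_neg (θ : (Fin l → ℤ) ≃+ (Fin l → ℤ)) (b : Fin l → ℤ) (i : ℕ) : θ^[i] (-b) = -θ^[i] b := by
  induction i with
  | zero => rfl
  | succ i ih => rw [Function.iterate_succ_apply', ih, map_neg, Function.iterate_succ_apply']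

include F in
theorem dl_up_mem {s : ℕ} (hs : s < D.nroots) (n : ℕ) (u : k) :
    dl α (ps hp hs) n (up u) ∈ RGD.Sup (XX D l k) {c | ∃ j : ℕ, c = θ^[j] (vec D l s)} := by
  refine dl_mem fun i _ => ?_
  have h1 := fr_pow_mem hp cs F ((isRoot_iff hp cs _).2 ⟨s, hs, rfl⟩) (xs_mem hp hs u) i
  rw [← ps_up hp hs] at h1
  exact RGD.le_Sup (X := XX D l k) (S := {c | ∃ j : ℕ, c = θ^[j] (vec D l s)}) ⟨i, rfl⟩ h1

include F in
theorem dl_lo_mem {s : ℕ} (hs : s < D.nroots) (n : ℕ) (u : k) :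
    dl α (ps hp hs) n (lo u) ∈ RGD.Sup (XX D l k) {c | ∃ j : ℕ, c = -θ^[j] (vec D l s)} := by
  refine dl_mem fun i _ => ?_
  have hns := neg_lt hp.inList hs
  have h1 := fr_pow_mem hp cs F ((isRoot_iff hp cs _).2 ⟨D.neg s, hns, rfl⟩) (xs_mem hp hns u) i
  rw [← ps_lo hp hs, vec_neg hp hs, iter_neg] at h1
  exact RGD.le_Sup (X := XX D l k) (S := {c | ∃ j : ℕ, c = -θ^[j] (vec D l s)}) ⟨i, rfl⟩ h1

/-- the finite field with `(r ^ e) ^ a` elements inside `k` -/
theorem exists_field (r e a : ℕ) [Fact r.Prime] [CharP k r] (hq : 1 < (r ^ e) ^ a) :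
    ∃ (E : Type) (_ : Field E) (_ : Fintype E) (_ : E →+* k), Fintype.card E = (r ^ e) ^ a := by
  have hn : e * a ≠ 0 := by
    intro h
    rw [← pow_mul, h, pow_zero] at hq
    omega
  let _ : Fintype (GaloisField r (e * a)) := Fintype.ofFinite _
  let _ : Algebra (ZMod r) k := ZMod.algebra k r
  refine ⟨GaloisField r (e * a), inferInstance, inferInstance, (IsAlgClosed.lift (M := k) (R := ZMod r)
    (S := GaloisField r (e * a))).toRingHom, ?_⟩
  rw [← Nat.card_eq_fintype_card, GaloisField.card r (e * a) hn, pow_mul]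

theorem coprime_pred {Q r : ℕ} (hr : r.Prime) (hrQ : r ∣ Q) (hQ : 1 < Q) : (Q - 1).Coprime r := by
  rw [Nat.coprime_comm, Nat.Prime.coprime_iff_not_dvd hr]
  intro h
  have h1 := (Nat.dvd_sub_iff_right hQ.le hrQ).1 h
  exact hr.one_lt.ne' (Nat.dvd_one.1 h1)

theorem hS_mul {E : Type*} [Field E] {c d : E} (hc : c ≠ 0) (hd : d ≠ 0) : hS c * hS d = hS (c * d) := by
  apply Subtype.ext
  rw [Matrix.SpecialLinearGroup.coe_mul, coe_hS hc, coe_hS hd, coe_hS (mul_ne_zero hc hd)]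
  ext i j
  fin_cases i <;> fin_cases j <;> simp [Matrix.mul_apply, Fin.sum_univ_two, mul_comm]

theorem hS_one {E : Type*} [Field E] : hS (1 : E) = 1 := by
  have h := hS_mul (one_ne_zero (α := E)) one_ne_zero
  rw [mul_one] at h
  exact mul_eq_left.1 h

theorem hS_pow {E : Type*} [Field E] {c : E} (hc : c ≠ 0) (n : ℕ) : hS c ^ n = hS (c ^ n) := by
  induction n with
  | zero => rw [pow_zero, pow_zero, hS_one]
  | succ n ih => rw [pow_succ, ih, hS_mul (pow_ne_zero _ hc) hc, pow_succ]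

/-- the image of `ψ` -/
theorem range_le_Cl {s : ℕ} {a : ℕ} {E : Type*} [Field E] {ψ : Matrix.SpecialLinearGroup (Fin 2) E →* ↥(D.group k)}
    (hs : s < D.nroots) (F : Fr cs hp.isCartan (TT D k) (XX D l k) α θ) (h1 : ∀ g, α (ψ g) = ψ g)
    (h2 : ∀ c, ∃ u, ψ (up c) = dl α (ps hp hs) a (up u)) (h3 : ∀ c, ∃ u, ψ (lo c) = dl α (ps hp hs) a (lo u))
    (g : Matrix.SpecialLinearGroup (Fin 2) E) : ψ g ∈ Cl α θ (vec D l s) := by
  have h : Subgroup.closure (Set.range (up (F := E)) ∪ Set.range (lo (F := E))) ≤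
      (Cl α θ (vec D l s)).comap ψ := by
    rw [Subgroup.closure_le]
    rintro _ (⟨c, rfl⟩ | ⟨c, rfl⟩)
    · refine Subgroup.subset_closure (Or.inl ⟨?_, h1 _⟩)
      obtain ⟨u, hu⟩ := h2 c
      rw [hu]
      exact dl_up_mem hp cs F hs a u
    · refine Subgroup.subset_closure (Or.inr ⟨?_, h1 _⟩)
      obtain ⟨u, hu⟩ := h3 c
      rw [hu]
      exact dl_lo_mem hp cs F hs a u
  exact h (mem_closure_SL2 g)

include hk hα F in
/-- **Case (A).** -/
theorem caseA {s : ℕ} (hs : s < D.nroots) {a : ℕ} (hq : 1 < (r ^ e) ^ a) (hθ : θ^[a] (vec D l s) = vec D l s)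
    (hSO : ∀ i, 0 < i → i < a → SO cs hp.isCartan (vec D l s) (θ^[i] (vec D l s))) {K : Subgroup ↥(D.group k)}
    (hK : ∀ y ∈ Cl α θ (vec D l s), ∀ m : ℕ, m.Coprime r → y ^ m = 1 → y ∈ K) {c : k} (hc : c ≠ 0)
    (hca : c ^ (r ^ e) ^ a = c) : hTh hp hs α a c ∈ K := by
  obtain ⟨E, _, _, j, hE⟩ := exists_field (k := k) r e a hq
  obtain ⟨ψ, h1, -, h3, -, h5, h6⟩ := exists_psi hp cs hk hα F hs hq hθ hSO hE j
  obtain ⟨d, hd⟩ := Cfsg.Agent.H390.PslSpec.mem_range_of_pow_card j (x := c) (by rw [hE, hca])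
  have hd0 : d ≠ 0 := by
    rintro rfl
    rw [map_zero] at hd
    exact hc hd.symm
  rw [← hd, ← h3 d hd0]
  have hrQ : r ∣ (r ^ e) ^ a := by
    rw [← pow_mul]
    refine dvd_pow_self r ?_
    intro h
    rw [← pow_mul, h, pow_zero] at hq
    omega
  refine hK _ (range_le_Cl hp cs hs F h1 (fun c => ?_) h6 _) ((r ^ e) ^ a - 1) (coprime_pred Fact.out hrQ hq) ?_
  · obtain ⟨u, hu, -⟩ := h5 c
    exact ⟨u, hu⟩
  · rw [← map_pow, hS_pow hd0, ← hE, FiniteField.pow_card_sub_one_eq_one d hd0, hS_one, map_one]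

include hk hα F in
/-- **The fixed roots, `r ^ e ≥ 3`.** -/
theorem case1 (h4 : ∀ i j, M i j ≠ 4) {s : ℕ} (hs : s < D.nroots) (hq : 3 ≤ r ^ e) (hθ : θ (vec D l s) = vec D l s)
    {K : Subgroup ↥(D.group k)} (hK : ∀ y ∈ Cl α θ (vec D l s), ∀ m : ℕ, m.Coprime r → y ^ m = 1 → y ∈ K)
    (hPK : ∀ g ∈ XX D l k (vec D l s), α g = g → ∀ x ∈ K, g * x * g⁻¹ ∈ K) :
    ∃ v ∈ XX D l k (vec D l s), v ≠ 1 ∧ α v = v ∧ (v ∈ K ∨ (r ≠ 2 ∧ ∃ y ∈ K, y ≠ 1 ∧ y ^ 2 = 1 ∧ y * v = v * y)) := by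
  classical
  have hq' : 1 < (r ^ e) ^ 1 := by rw [pow_one]; omega
  have hSO : ∀ i, 0 < i → i < 1 → SO cs hp.isCartan (vec D l s) (θ^[i] (vec D l s)) := fun i h h' => by omega
  obtain ⟨E, _, _, j, hE⟩ := exists_field (k := k) r e 1 hq'
  obtain ⟨ψ, h1, -, h3, -, h5, h6⟩ := exists_psi hp cs hk hα F hs hq' hθ hSO hE j
  have hroot : ∀ c : E, c ≠ 0 → ψ (up c) ∈ XX D l k (vec D l s) ∧ ψ (up c) ≠ 1 := by
    intro c hc
    obtain ⟨u, hu, -, hu0⟩ := h5 c
    have e1 : ψ (up c) = xs hp.inList s u := by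
      rw [hu, dl_succ, dl_zero, one_mul, pow_zero, MulAut.one_apply, ps_up]
    rw [e1]
    refine ⟨xs_mem hp hs u, fun h => hc (hu0 ?_)⟩
    rw [← xs_zero hp s] at h
    exact xs_inj hp hs h
  have hmem : ∀ d : E, d ≠ 0 → ψ (hS d) ∈ K := by
    intro d hd
    rw [h3 d hd]
    refine caseA hp cs hk hα F hs hq' hθ hSO hK ((map_ne_zero j).2 hd) ?_
    rw [← map_pow, ← hE, FiniteField.pow_card]
  by_cases hd : ∃ d : E, d ≠ 0 ∧ d ^ 2 ≠ 1
  · obtain ⟨d, hd0, hd2⟩ := hd
    have hne : (1 - d ^ 2) ≠ 0 := sub_ne_zero.2 hd2.symm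
    refine ⟨ψ (up (1 - d ^ 2)), (hroot _ hne).1, (hroot _ hne).2, h1 _, Or.inl ?_⟩
    have h7 := hPK _ (hroot 1 one_ne_zero).1 (h1 _) _ (hmem d hd0)
    have h8 := K.mul_mem h7 (K.inv_mem (hmem d hd0))
    have e1 : ψ (up 1) * ψ (hS d) * (ψ (up 1))⁻¹ * (ψ (hS d))⁻¹ = ψ (up (1 - d ^ 2)) := by
      rw [← map_inv, ← map_inv, ← map_mul, ← map_mul, ← map_mul]
      congr 1
      have e2 : up 1 * hS d * (up 1)⁻¹ * (hS d)⁻¹ = up 1 * (hS d * (up 1)⁻¹ * (hS d)⁻¹) := by group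
      rw [e2, ← up_neg, hS_up hd0, ← up_add]
      congr 1
      ring
    rwa [e1] at h8
  · push Not at hd
    have hr2 : r ≠ 2 := by
      rintro rfl
      have h2 : (2 : E) = 0 := by
        apply j.injective
        rw [map_ofNat, map_zero]
        exact_mod_cast CharP.cast_eq_zero k 2
      have h7 : (Finset.univ : Finset E) ⊆ {0, 1} := by
        intro x _
        rw [Finset.mem_insert, Finset.mem_singleton]
        by_cases hx : x = 0
        · exact Or.inl hx
        · right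
          have h8 : (x - 1) ^ 2 = 0 := by linear_combination hd x hx - (x - 1) * h2
          exact sub_eq_zero.1 ((pow_eq_zero_iff two_ne_zero).1 h8)
      have h8 := Finset.card_le_card h7
      rw [Finset.card_univ, hE, pow_one] at h8
      have h9 : ({0, 1} : Finset E).card ≤ 2 := Finset.card_le_two
      omega
    refine ⟨ψ (up 1), (hroot 1 one_ne_zero).1, (hroot 1 one_ne_zero).2, h1 _, Or.inr ⟨hr2, ψ (hS (-1)), hmem _
      (neg_ne_zero.2 one_ne_zero), ?_, ?_, ?_⟩⟩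
    · rw [h3 _ (neg_ne_zero.2 one_ne_zero), map_neg, map_one]
      show dl α (ps hp hs) 1 (hS (-1)) ≠ 1
      rw [dl_succ, dl_zero, one_mul, pow_zero, MulAut.one_apply]
      exact hS_neg_one_ne hp cs h4 hk r hr2 hs
    · rw [← map_pow, hS_pow (neg_ne_zero.2 one_ne_zero), neg_one_sq, hS_one, map_one]
    · rw [← map_mul, ← map_mul]
      congr 1
      have h7 := hS_up (neg_ne_zero.2 (one_ne_zero (α := E))) 1
      rw [neg_one_sq, one_mul, mul_inv_eq_iff_eq_mul] at h7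
      exact h7

end

end Cfsg.Agent.H605.MX
end

-- part: H808/MD/Min
section
set_option linter.all false

/-!
# Minimal degrees of the exceptional groups `E₆`, `E₇`, `E₈`, `²E₆`, `³D₄` (helper808)

In the form `H514.DP.MinDeg`.
-/

set_option autoImplicit false

namespace Cfsg.Agent.H808.MD

open Cfsg Cfsg.Lie Cfsg.Agent.H120 Cfsg.Agent.H120.CycExc Cfsg.Agent.KFacts.En.Roots

universe u

/-- `E₈(q)` : `q (q¹² + 1) (q¹⁰ + 1) (q⁶ + 1)` -/
theorem e8 (F : Type u) [Field F] [Fintype F] : H514.DP.MinDeg ↥(chevE8.group F)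
    (Fintype.card F * (Fintype.card F ^ 12 + 1) * (Fintype.card F ^ 10 + 1) * (Fintype.card F ^ 6 + 1)) :=
  fun k ρ hρ hk => Cfsg.Agent.S2339.result k ρ hρ hk

/-- `E₆(q)` : `q (q⁶ + q³ + 1) (q⁴ + 1)` -/
theorem e6 (F : Type u) [Field F] [Fintype F] : H514.DP.MinDeg ↥(chevE6.group F)
    (Fintype.card F * (Fintype.card F ^ 6 + Fintype.card F ^ 3 + 1) * (Fintype.card F ^ 4 + 1)) :=
  fun k ρ hρ hk => Cfsg.Agent.S2340.result k ρ hρ hk

/-- `²E₆(q)` : `q (q⁶ - q³ + 1) (q⁴ + 1)` -/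
theorem te6 (K : Type u) [Field K] [Fintype K] (q : ℕ) (hq : IsPrimePow q) (hK : Fintype.card K = q ^ 2) :
    H514.DP.MinDeg ↥(twistedE6 K q) (q * (q ^ 6 - q ^ 3 + 1) * (q ^ 4 + 1)) :=
  fun k ρ hρ hk => Cfsg.Agent.S2341.result q hq hK k ρ hρ hk

theorem echk7 : EChk chevE7 7 125 124 [109, 110, 111, 112, 113, 114, 115, 116, 117, 118, 119, 120, 121, 122, 123, 124] 15 := by
  (refine of_decide_eq_true ?_; delta Cfsg.Agent.ChevalleyStructure.CoxeterGeomTypes.cartanOf Cfsg.Agent.H120.CycExc.EChk Cfsg.Agent.H120.CycExc.instDecidableEChk Cfsg.Agent.KFacts.En.Roots.bf; rewrite [Cfsg.Agent.ChevFast.E7.cartan]; decide +kernel)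

/-- `E₇(q)` : `q¹⁵ (q² - 1)` -/
theorem e7 (F : Type u) [Field F] [Fintype F] : H514.DP.MinDeg ↥(chevE7.group F)
    (Fintype.card F ^ 15 * (Fintype.card F ^ 2 - 1)) := by
  have hs : IsSimpleGroup ↥(chevE7.group F) := (Cfsg.Agent.S1054.result chevE7 (by simp)).1
  exact fun k ρ hρ hk => (minDeg_E ty_E7 F echk7).irr k ρ hρ hk

end Cfsg.Agent.H808.MD
end

-- part: H85/RGT/SixC
section
prune_inst 0x10003100042200000018000270001f03b4000002006880008044020406808d4020000921140001121020204000390008100000500000000000000000000100000008800210010004000080800004400000000000000000000000000000000000000000000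
set_option linter.all false
open scoped Cfsg.Agent.FastGrp

-- part: H85/RGT/Frm
section
/-!
# S3509, exceptional groups: the common fixed points of frame automorphisms (helper85)

`H : Tow cs h p T n X`, `S` a set of automorphisms preserving `U`, `U⁻` and the representatives of `W` (`PFr`),
`L = Fx S` the common fixed points.

* `form` : the elements of `L` are `u k v`, `u, v ∈ U ∩ L`, `k ∈ L` over `w`, `k v k⁻¹ ∈ U⁻`;
* `dec_U`, `dec_V`, `conj_K` : `L` normalises `⟨U ∩ L, U⁻ ∩ L⟩`;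
* `formF`, `exists_sylow` : `U ∩ L` is a Sylow subgroup, `N_L(U ∩ L) = (U ∩ L) T_L`;
* `core` : `O_p(K) = 1` for `U ∩ L ≤ K ≤ L`, if `K` contains an element over an element opposite to `1`;
* `base` : the base pair `H398.RG.Base`.
-/

set_option autoImplicit false
set_option linter.unusedSectionVars false

namespace Cfsg.Agent.H85.RGT

open CoxeterSystem Cfsg.Agent.ChevalleyStructure.CoxeterGeom Cfsg.Agent.Tits.Roots Cfsg.Agent.Tits.Core
  Cfsg.Agent.Tits.RootComb Cfsg.Agent.Tits.Exchange Cfsg.Agent.Nodes.Reps Cfsg.Agent.Nodes.BNOf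
  Cfsg.Agent.Nodes.StabComb Cfsg.Agent.Nodes.Bruhat Cfsg.Agent.Nodes.OppDec Cfsg.Agent.Nodes.LeviDec
  Cfsg.Agent.Nodes.NormalForm Cfsg.Agent.Nodes.SubComb Cfsg.Agent.KFacts.RgdField
  Cfsg.Agent.BpExc.TorCent Cfsg.Agent.BpExc.Tow Cfsg.Agent.BpExc.Fr Cfsg.Agent.H28.RG Cfsg.Agent.H441.RG

/-! ### common fixed points -/

/-- the common fixed points of `S` -/
def Fx {Y : Type*} [Group Y] (S : Set (MulAut Y)) : Subgroup Y where
  carrier := {y | ∀ α ∈ S, α y = y}
  one_mem' α _ := map_one α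
  mul_mem' {a b} ha hb α hα := by rw [map_mul, ha α hα, hb α hα]
  inv_mem' {a} ha α hα := by rw [map_inv, ha α hα]

variable {I W Y : Type*} [Fintype I] [DecidableEq I] [Group W] [Finite W] [Group Y] {M : CoxeterMatrix I}
  {cs : CoxeterSystem M W} {A : I → I → ℤ} {h : IsCartan M A} {p : ℕ}
  {J : Type*} [Preorder J] {T : J → Subgroup Y} {n : I → Y} {X : J → (I → ℤ) → Subgroup Y}

/-- the unipotent group -/
def UU (cs : CoxeterSystem M W) (h : IsCartan M A) (X : J → (I → ℤ) → Subgroup Y) : Subgroup Y :=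
  RGD.Sup (XL X) (RGD.Pos cs h)

/-- the opposite unipotent group -/
def VV (cs : CoxeterSystem M W) (h : IsCartan M A) (X : J → (I → ℤ) → Subgroup Y) : Subgroup Y :=
  RGD.Sup (XL X) (_root_.Cfsg.Agent.Nodes.OppDec.Neg cs h)

/-- an automorphism preserving the frame and the positive roots -/
structure PFr (H : Tow cs h p T n X) (α : MulAut Y) : Prop where
  pos : ∀ u ∈ UU cs h X, α u ∈ UU cs h X
  neg : ∀ u ∈ VV cs h X, α u ∈ VV cs h X
  rp : ∀ w k, Rp cs H.nsys w k → ∃ w', Rp cs H.nsys w' (α k)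

variable (H : Tow cs h p T n X) {S : Set (MulAut Y)}

/-- frame automorphisms over `θ` preserving the positive roots -/
theorem PFr.of_fr (hG : GG cs h (TL T) (XL X) = ⊤)
    (hsep : ∀ a, IsRoot cs h a → ∃ s ∈ TL T, ∀ u ∈ XL X a, u * s = s * u → u = 1)
    {α : MulAut Y} {θ : (I → ℤ) ≃+ (I → ℤ)} (Fα : Fr cs h (TL T) (XL X) α θ)
    (hpos : ∀ a, IsRoot cs h a → 0 ≤ a → 0 ≤ θ a) : PFr H α where
  pos u hu := by
    have h1 : UU cs h X ≤ (UU cs h X).comap α.toMonoidHom := by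
      refine RGD.Sup_le fun a ha => ?_
      intro y hy
      exact RGD.le_Sup (S := RGD.Pos cs h) ⟨(Fα.root a).2 ha.1, hpos a ha.1 ha.2⟩ ((Fα.map a ha.1 y).2 hy)
    exact h1 hu
  neg u hu := by
    have h1 : VV cs h X ≤ (VV cs h X).comap α.toMonoidHom := by
      refine RGD.Sup_le fun a ha => ?_
      intro y hy
      have h2 := hpos (-a) ha.1.neg (neg_nonneg.2 ha.2)
      rw [map_neg, neg_nonneg] at h2
      exact RGD.le_Sup (S := _root_.Cfsg.Agent.Nodes.OppDec.Neg cs h) ⟨(Fα.root a).2 ha.1, h2⟩ ((Fα.map a ha.1 y).2 hy)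
    exact h1 hu
  rp _ _ hk := Cfsg.Agent.BpExc.NChev.rp_fr H hG hsep Fα hk

theorem fix_of (hS : ∀ α ∈ S, PFr H α) {w : W} {u k v : Y} (hu : u ∈ UU cs h X) (hk : Rp cs H.nsys w k)
    (hv : v ∈ UU cs h X) (hkv : k * v * k⁻¹ ∈ VV cs h X) (hc : u * k * v ∈ Fx S) :
    u ∈ Fx S ∧ k ∈ Fx S ∧ v ∈ Fx S := by
  have key : ∀ α ∈ S, α u = u ∧ α k = k ∧ α v = v := by
    intro α hα
    obtain ⟨w', hk'⟩ := (hS α hα).rp w k hk
    have hkv' : α k * α v * (α k)⁻¹ ∈ VV cs h X := by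
      rw [← map_mul, ← map_inv, ← map_mul]
      exact (hS α hα).neg _ hkv
    obtain ⟨-, h1, h2, h3⟩ := form_unique H ((hS α hα).pos _ hu) hu hk' hk ((hS α hα).pos _ hv) hkv' hv hkv
      (by rw [← map_mul, ← map_mul, hc α hα])
    exact ⟨h1, h2, h3⟩
  exact ⟨fun α hα => (key α hα).1, fun α hα => (key α hα).2.1, fun α hα => (key α hα).2.2⟩

/-- **The form of the elements of `L`.** -/
theorem form (hS : ∀ α ∈ S, PFr H α) (hG : GG cs h (TL T) (XL X) = ⊤) {c : Y} (hc : c ∈ Fx S) :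
    ∃ w, ∃ u ∈ UU cs h X ⊓ Fx S, ∃ k, Rp cs H.nsys w k ∧ k ∈ Fx S ∧
      ∃ v ∈ UU cs h X ⊓ Fx S, k * v * k⁻¹ ∈ VV cs h X ∧ c = u * k * v := by
  obtain ⟨w, u, hu, k, hk, v, hv, rfl⟩ := H.exists_normal_form (g := c) (by rw [hG]; exact Subgroup.mem_top c)
  have hv' : v ∈ UU cs h X :=
    RGD.Sup_mono (S := NW cs h w) (S' := RGD.Pos cs h) (fun x hx => ⟨hx.1, hx.2.1⟩) hv
  have hkv : k * v * k⁻¹ ∈ VV cs h X :=
    conj_SupL H hk (S' := _root_.Cfsg.Agent.Nodes.OppDec.Neg cs h) (fun x hx => hx.1) (fun x hx => ⟨hx.1.act w, hx.2.2⟩) hv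
  obtain ⟨h1, h2, h3⟩ := fix_of H hS hu hk hv' hkv hc
  exact ⟨w, u, ⟨hu, h1⟩, k, hk, h2, v, ⟨hv', h3⟩, hkv, rfl⟩

/-- decomposition of the elements of `U ∩ L` -/
theorem dec_U (hS : ∀ α ∈ S, PFr H α) {w : W} {k v : Y} (hk : Rp cs H.nsys w k) (hkF : k ∈ Fx S)
    (hv : v ∈ UU cs h X ⊓ Fx S) : ∃ b ∈ UU cs h X ⊓ Fx S, ∃ c ∈ UU cs h X ⊓ Fx S, v = b * c ∧
      k * b * k⁻¹ ∈ UU cs h X ⊓ Fx S ∧ k * c * k⁻¹ ∈ VV cs h X ⊓ Fx S := by
  obtain ⟨b, hb, c, hc, e, h1, h2⟩ := dec_pos H hk hv.1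
  have key : ∀ α ∈ S, α b = b ∧ α c = c := fun α hα =>
    fix_dec (α := α) (UP := UU cs h X) (UN := VV cs h X) (fun x hx hx' => eq_one_of_pos_neg H hx hx')
      (fun x => (hS α hα).pos x) (fun x => (hS α hα).neg x) (hkF α hα) h1 h2 (by rw [← e]; exact hv.2 α hα)
  have hbF : b ∈ Fx S := fun α hα => (key α hα).1
  have hcF : c ∈ Fx S := fun α hα => (key α hα).2
  have h3 : k * b * k⁻¹ ∈ Fx S := mul_mem (mul_mem hkF hbF) (inv_mem hkF)
  have h4 : k * c * k⁻¹ ∈ Fx S := mul_mem (mul_mem hkF hcF) (inv_mem hkF)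
  exact ⟨b, ⟨hb, hbF⟩, c, ⟨hc, hcF⟩, e, ⟨h1, h3⟩, ⟨h2, h4⟩⟩

/-- decomposition of the elements of `U⁻ ∩ L` -/
theorem dec_V (hS : ∀ α ∈ S, PFr H α) {w : W} {k v : Y} (hk : Rp cs H.nsys w k) (hkF : k ∈ Fx S)
    (hv : v ∈ VV cs h X ⊓ Fx S) : ∃ b ∈ VV cs h X ⊓ Fx S, ∃ c ∈ VV cs h X ⊓ Fx S, v = b * c ∧
      k * b * k⁻¹ ∈ UU cs h X ⊓ Fx S ∧ k * c * k⁻¹ ∈ VV cs h X ⊓ Fx S := by
  obtain ⟨b, hb, c, hc, e, h1, h2⟩ := dec_neg H hk hv.1
  have key : ∀ α ∈ S, α b = b ∧ α c = c := fun α hα =>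
    fix_dec (α := α) (UP := UU cs h X) (UN := VV cs h X) (fun x hx hx' => eq_one_of_pos_neg H hx hx')
      (fun x => (hS α hα).pos x) (fun x => (hS α hα).neg x) (hkF α hα) h1 h2 (by rw [← e]; exact hv.2 α hα)
  have hbF : b ∈ Fx S := fun α hα => (key α hα).1
  have hcF : c ∈ Fx S := fun α hα => (key α hα).2
  have h3 : k * b * k⁻¹ ∈ Fx S := mul_mem (mul_mem hkF hbF) (inv_mem hkF)
  have h4 : k * c * k⁻¹ ∈ Fx S := mul_mem (mul_mem hkF hcF) (inv_mem hkF)
  exact ⟨b, ⟨hb, hbF⟩, c, ⟨hc, hcF⟩, e, ⟨h1, h3⟩, ⟨h2, h4⟩⟩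

/-- `k ∈ L` over `w` normalises `⟨U ∩ L, U⁻ ∩ L⟩` -/
theorem conj_rp (hS : ∀ α ∈ S, PFr H α) {w : W} {k : Y} (hk : Rp cs H.nsys w k) (hkF : k ∈ Fx S) {x : Y}
    (hx : x ∈ (UU cs h X ⊓ Fx S) ⊔ (VV cs h X ⊓ Fx S)) :
    k * x * k⁻¹ ∈ (UU cs h X ⊓ Fx S) ⊔ (VV cs h X ⊓ Fx S) := by
  have h1 : (UU cs h X ⊓ Fx S) ⊔ (VV cs h X ⊓ Fx S) ≤
      ((UU cs h X ⊓ Fx S) ⊔ (VV cs h X ⊓ Fx S)).comap (MulAut.conj k).toMonoidHom := by
    refine sup_le (fun v hv => ?_) (fun v hv => ?_)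
    · obtain ⟨b, -, c, -, e, h1, h2⟩ := dec_U H hS hk hkF hv
      have e1 : k * v * k⁻¹ = (k * b * k⁻¹) * (k * c * k⁻¹) := by rw [e]; group
      have h3 : k * v * k⁻¹ ∈ (UU cs h X ⊓ Fx S) ⊔ (VV cs h X ⊓ Fx S) := by
        rw [e1]
        exact mul_mem (Subgroup.mem_sup_left h1) (Subgroup.mem_sup_right h2)
      exact h3
    · obtain ⟨b, -, c, -, e, h1, h2⟩ := dec_V H hS hk hkF hv
      have e1 : k * v * k⁻¹ = (k * b * k⁻¹) * (k * c * k⁻¹) := by rw [e]; group
      have h3 : k * v * k⁻¹ ∈ (UU cs h X ⊓ Fx S) ⊔ (VV cs h X ⊓ Fx S) := by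
        rw [e1]
        exact mul_mem (Subgroup.mem_sup_left h1) (Subgroup.mem_sup_right h2)
      exact h3
  exact h1 hx

/-- **`L` normalises `⟨U ∩ L, U⁻ ∩ L⟩`.** -/
theorem conj_K (hS : ∀ α ∈ S, PFr H α) (hG : GG cs h (TL T) (XL X) = ⊤) {c : Y} (hc : c ∈ Fx S) {x : Y}
    (hx : x ∈ (UU cs h X ⊓ Fx S) ⊔ (VV cs h X ⊓ Fx S)) :
    c * x * c⁻¹ ∈ (UU cs h X ⊓ Fx S) ⊔ (VV cs h X ⊓ Fx S) := by
  obtain ⟨w, u, hu, k, hk, hkF, v, hv, -, rfl⟩ := form H hS hG hc
  have hu' : u ∈ (UU cs h X ⊓ Fx S) ⊔ (VV cs h X ⊓ Fx S) := Subgroup.mem_sup_left hu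
  have hv' : v ∈ (UU cs h X ⊓ Fx S) ⊔ (VV cs h X ⊓ Fx S) := Subgroup.mem_sup_left hv
  have e : u * k * v * x * (u * k * v)⁻¹ = u * (k * (v * x * v⁻¹) * k⁻¹) * u⁻¹ := by group
  rw [e]
  exact mul_mem (mul_mem hu' (conj_rp H hS hk hkF (mul_mem (mul_mem hv' hx) (inv_mem hv')))) (inv_mem hu')

/-! ### Sylow subgroups -/

/-- elements of `L` over `w ≠ 1` move a nontrivial element of `U ∩ L` into `U⁻` -/
def Move (H : Tow cs h p T n X) (S : Set (MulAut Y)) : Prop :=
  ∀ (w : W) (k : Y), Rp cs H.nsys w k → k ∈ Fx S → w ≠ 1 → ∃ u ∈ UU cs h X ⊓ Fx S, u ≠ 1 ∧ k * u * k⁻¹ ∈ VV cs h X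

/-- **The Bruhat form.** -/
theorem formF (hS : ∀ α ∈ S, PFr H α) (hG : GG cs h (TL T) (XL X) = ⊤) (hmv : Move H S) :
    Cfsg.Agent.BpExc.NSol.Form (Fx S) (UU cs h X) (VV cs h X) (NGL H) (TL T) where
  form g hg := by
    obtain ⟨w, u, hu, k, hk, hkF, v, hv, hkv, e⟩ := form H hS hG hg
    exact ⟨u, hu, k, ⟨⟨w, hk⟩, hkF⟩, v, hv, hkv, e⟩
  inf := by
    rw [eq_bot_iff]
    rintro x ⟨h1, h2⟩
    exact Subgroup.mem_bot.2 (eq_one_of_pos_neg H h1 h2)
  move := by
    rintro k ⟨⟨w, hk⟩, hkF⟩ hn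
    refine hmv w k hk hkF ?_
    rintro rfl
    exact hn hk.mem_of_one
  norm := by
    rintro k ⟨hk, -⟩ u hu
    exact (Subgroup.mem_normalizer_iff.1 (H.T_le_normalizer (S := RGD.Pos cs h) (fun x hx => hx.1) hk) u).1 hu.1

include H in
theorem isPGroup_UU : IsPGroup p ↥(UU cs h X) := by
  rintro ⟨u, hu⟩
  obtain ⟨j, hj⟩ := H.mem_Sup.1 hu
  obtain ⟨m, hm⟩ := (H.rgd j).isPGroup_of_pos (S := RGD.Pos cs h) (fun a ha => ha) ⟨u, hj⟩
  refine ⟨m, Subtype.ext ?_⟩
  have h1 := congrArg (fun z : ↥(RGD.Sup (X j) (RGD.Pos cs h)) => (z : Y)) hm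
  exact (Subgroup.coe_pow _ _ _).trans (((Subgroup.coe_pow _ (⟨u, hj⟩ : ↥(RGD.Sup (X j) (RGD.Pos cs h))) _).symm.trans h1).trans
    ((Subgroup.coe_one _).trans (Subgroup.coe_one _).symm))

include H in
omit [Finite W] in
/-- torus elements of `p`-power order -/
theorem tor_eq_one [Fact p.Prime] {t : Y} (ht : t ∈ TL T) {m : ℕ} (hm : t ^ p ^ m = 1) : t = 1 := by
  obtain ⟨j, hj⟩ := H.mem_TL.1 ht
  have h6 : orderOf t ∣ Nat.card ↥(T j) := by
    have := orderOf_dvd_natCard (⟨t, hj⟩ : ↥(T j))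
    rwa [Subgroup.orderOf_mk] at this
  have h7 : orderOf t = 1 :=
    Nat.eq_one_of_dvd_coprimes (Nat.Coprime.pow_right m (H.rgd j).tcop) h6 (orderOf_dvd_of_pow_eq_one hm)
  exact orderOf_eq_one_iff.1 h7

include H in
omit [Finite W] in
theorem coprime_TL [Fact p.Prime] [Finite ↥(Fx S)] : (Nat.card ↥(TL T ⊓ Fx S)).Coprime p := by
  have hpp : p.Prime := Fact.out
  have hfin : Finite ↥(TL T ⊓ Fx S) :=
    Finite.of_injective (Subgroup.inclusion inf_le_right) (Subgroup.inclusion_injective _)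
  rw [Nat.coprime_comm, Nat.Prime.coprime_iff_not_dvd hpp]
  intro hdvd
  obtain ⟨x, hx⟩ := exists_prime_orderOf_dvd_card' p hdvd
  have h1 : (x : Y) ^ p ^ 1 = 1 := by
    rw [pow_one]
    have h1 := pow_orderOf_eq_one x
    rw [hx] at h1
    exact congrArg Subtype.val h1
  have h2 := tor_eq_one H x.2.1 h1
  have h3 : x = 1 := Subtype.ext h2
  rw [h3, orderOf_one] at hx
  exact hpp.one_lt.ne hx

/-- **`U ∩ L` is a Sylow subgroup of `L`.** -/
theorem exists_sylow [Fact p.Prime] [Finite ↥(Fx S)] (hS : ∀ α ∈ S, PFr H α) (hG : GG cs h (TL T) (XL X) = ⊤)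
    (hmv : Move H S) : ∃ P : Sylow p ↥(Fx S), (P : Subgroup ↥(Fx S)) = (UU cs h X).subgroupOf (Fx S) :=
  (formF H hS hG hmv).exists_sylow ((isPGroup_UU H).comap_subtype) (coprime_TL H)

/-- **`N_L(U ∩ L) = (U ∩ L) T_L`.** -/
theorem mem_of_normalizer (hS : ∀ α ∈ S, PFr H α) (hG : GG cs h (TL T) (XL X) = ⊤) (hmv : Move H S) {g : Y}
    (hg : g ∈ Fx S) (hn : ∀ u ∈ UU cs h X ⊓ Fx S, g * u * g⁻¹ ∈ UU cs h X) :
    ∃ u ∈ UU cs h X ⊓ Fx S, ∃ t ∈ TL T ⊓ Fx S, g = u * t :=
  (formF H hS hG hmv).mem_sup hg hn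

/-- **`O_p(K) = 1`.** -/
theorem core [Fact p.Prime] [Finite ↥(Fx S)] (hS : ∀ α ∈ S, PFr H α) (hG : GG cs h (TL T) (XL X) = ⊤)
    (hmv : Move H S) {K : Subgroup Y} (hK : K ≤ Fx S) (hU : UU cs h X ⊓ Fx S ≤ K) {w₀ : W} {k₀ : Y}
    (hk₀ : Rp cs H.nsys w₀ k₀) (hkK : k₀ ∈ K) (hw₀ : ∀ a, IsRoot cs h a → 0 ≤ a → rep cs h w₀ a ≤ 0) :
    Cfsg.pCore p ↥K = ⊥ := by
  obtain ⟨P, hP⟩ := exists_sylow H hS hG hmv
  set O := Cfsg.pCore p ↥K with hO
  have hOn : O.Normal := Cfsg.Agent.Lib.Cores.pCore_normal p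
  have hOp : IsPGroup p O := Cfsg.Agent.Lib.Cores.pCore_isPGroup p
  set U := (UU cs h X).subgroupOf K with hUdef
  have hUp : IsPGroup p U := (isPGroup_UU H).comap_subtype
  have h1 : IsPGroup p (O ⊔ U : Subgroup ↥K) := hOp.to_sup_of_normal_left hUp
  -- in `L`
  have h2 : IsPGroup p ((O ⊔ U : Subgroup ↥K).map (Subgroup.inclusion hK)) := h1.map _
  have h3 : (P : Subgroup ↥(Fx S)) ≤ (O ⊔ U : Subgroup ↥K).map (Subgroup.inclusion hK) := by
    rw [hP]
    intro x hx
    rw [Subgroup.mem_subgroupOf] at hx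
    refine ⟨⟨x, hU ⟨hx, x.2⟩⟩, Subgroup.mem_sup_right ?_, rfl⟩
    exact Subgroup.mem_subgroupOf.2 hx
  have h4 : (O ⊔ U : Subgroup ↥K).map (Subgroup.inclusion hK) = P := P.is_maximal' h2 h3
  have h5 : ∀ x ∈ O, (x : Y) ∈ UU cs h X := by
    intro x hx
    have h6 : Subgroup.inclusion hK x ∈ (O ⊔ U : Subgroup ↥K).map (Subgroup.inclusion hK) :=
      ⟨x, Subgroup.mem_sup_left hx, rfl⟩
    rw [h4, hP] at h6
    exact h6
  rw [eq_bot_iff]
  intro x hx
  have h6 : (⟨k₀, hkK⟩ : ↥K) * x * (⟨k₀, hkK⟩ : ↥K)⁻¹ ∈ O := hOn.conj_mem x hx _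
  have h7 : k₀ * (x : Y) * k₀⁻¹ ∈ UU cs h X := h5 _ h6
  have h8 : k₀ * (x : Y) * k₀⁻¹ ∈ VV cs h X :=
    conj_SupL H hk₀ (S := RGD.Pos cs h) (S' := _root_.Cfsg.Agent.Nodes.OppDec.Neg cs h) (fun a ha => ha.1)
      (fun a ha => ⟨ha.1.act _, hw₀ a ha.1 ha.2⟩) (h5 x hx)
  have h9 := eq_one_of_pos_neg H h7 h8
  rw [conj_eq_one_iff] at h9
  rw [Subgroup.mem_bot]
  exact Subtype.ext h9

/-! ### the base pair -/

open Cfsg.Agent.H398.RG (Base) in
/-- **The base pair.** -/
theorem base [Fact p.Prime] (hp2 : p ≠ 2) [Finite ↥(Fx S)] (hS : ∀ α ∈ S, PFr H α)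
    (hG : GG cs h (TL T) (XL X) = ⊤) (hmv : Move H S) {a₀ : I → ℤ} (ha₀ : IsRoot cs h a₀) (hpos : 0 ≤ a₀)
    (hcU : ∀ u ∈ UU cs h X, ∀ x ∈ XL X a₀, u * x = x * u)
    (hcV : ∀ u ∈ VV cs h X, ∀ x ∈ XL X (-a₀), u * x = x * u)
    (hne : XL X a₀ ⊓ Fx S ≠ ⊥)
    (hpair : ∀ w : W, rep cs h w a₀ ≠ -a₀ → IsPGroup p ↥(XL X a₀ ⊔ XL X (rep cs h w a₀) : Subgroup Y))
    {w₁ : W} {n₁ : Y} (hn₁ : Rp cs H.nsys w₁ n₁) (hn₁m : n₁ ∈ (XL X a₀ ⊓ Fx S) ⊔ (XL X (-a₀) ⊓ Fx S))
    (hw₁ : rep cs h w₁ a₀ = -a₀)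
    {w₀ : W} {k₀ : Y} (hk₀ : Rp cs H.nsys w₀ k₀) (hkK : k₀ ∈ (UU cs h X ⊓ Fx S) ⊔ (VV cs h X ⊓ Fx S) ⊔ (TL T ⊓ Fx S))
    (hw₀ : ∀ a, IsRoot cs h a → 0 ≤ a → rep cs h w₀ a ≤ 0) :
    Base p ((UU cs h X ⊓ Fx S) ⊔ (VV cs h X ⊓ Fx S) ⊔ (TL T ⊓ Fx S)) (XL X a₀ ⊓ Fx S) (XL X (-a₀) ⊓ Fx S)
      (UU cs h X ⊓ Fx S) (VV cs h X ⊓ Fx S) (TL T ⊓ Fx S) := by
  set L := Fx S with hL
  set K := (UU cs h X ⊓ L) ⊔ (VV cs h X ⊓ L) ⊔ (TL T ⊓ L) with hK
  have hXU : XL X a₀ ≤ UU cs h X := RGD.le_Sup (S := RGD.Pos cs h) ⟨ha₀, hpos⟩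
  have hXV : XL X (-a₀) ≤ VV cs h X := RGD.le_Sup (S := _root_.Cfsg.Agent.Nodes.OppDec.Neg cs h) ⟨ha₀.neg, neg_nonpos.2 hpos⟩
  have hPK : UU cs h X ⊓ L ≤ K := le_sup_left.trans le_sup_left
  have hQK : VV cs h X ⊓ L ≤ K := le_sup_right.trans le_sup_left
  have hTK : TL T ⊓ L ≤ K := le_sup_right
  have hKL : K ≤ L := sup_le (sup_le inf_le_right inf_le_right) inf_le_right
  have hXK : XL X a₀ ⊓ L ≤ K := (inf_le_inf_right _ hXU).trans hPK
  have hYK : XL X (-a₀) ⊓ L ≤ K := (inf_le_inf_right _ hXV).trans hQK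
  have hn₁K : n₁ ∈ K := (sup_le hXK hYK) hn₁m
  -- conjugates of `X`
  have hcj : ∀ (w : W) (k : Y), Rp cs H.nsys w k → k ∈ L →
      Cfsg.Agent.H398.RG.cj k (XL X a₀ ⊓ L) = XL X (rep cs h w a₀) ⊓ L := by
    intro w k hk hkL
    ext y
    rw [Cfsg.Agent.H398.RG.mem_cj, Subgroup.mem_inf, Subgroup.mem_inf, ← H.conj_rp hk ha₀]
    constructor
    · rintro ⟨h1, h2⟩
      refine ⟨mem_cj.2 h1, ?_⟩
      have e : y = k * (k⁻¹ * y * k) * k⁻¹ := by group
      rw [e]
      exact mul_mem (mul_mem hkL h2) (inv_mem hkL)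
    · rintro ⟨h1, h2⟩
      exact ⟨mem_cj.1 h1, mul_mem (mul_mem (inv_mem hkL) h2) hkL⟩
  have hcjU : ∀ u ∈ UU cs h X ⊓ L, Cfsg.Agent.H398.RG.cj u (XL X a₀ ⊓ L) = XL X a₀ ⊓ L := by
    intro u hu
    ext y
    rw [Cfsg.Agent.H398.RG.mem_cj]
    constructor
    · intro h1
      have h2 := hcU u hu.1 _ h1.1
      have e : y = u⁻¹ * y * u := by
        have e1 : u * (u⁻¹ * y * u) * u⁻¹ = u⁻¹ * y * u := by rw [h2]; group
        have e2 : u * (u⁻¹ * y * u) * u⁻¹ = y := by group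
        rw [← e1, e2]
      rw [e]
      exact h1
    · intro h1
      have h2 := hcU u hu.1 _ h1.1
      have e : u⁻¹ * y * u = y := by rw [mul_assoc, ← h2]; group
      rw [e]
      exact h1
  refine ⟨hXK, hPK, hQK, hTK, le_rfl, ?_, ?_, ?_, ?_, hne, ?_, ?_, ?_, ?_⟩
  · intro g hg x hx
    have e : g * x * g⁻¹ = x := by rw [hcU g hg.1 x hx.1]; group
    rw [e]
    exact hx
  · intro g hg x hx
    have e : g * x * g⁻¹ = x := by rw [hcV g hg.1 x hx.1]; group
    rw [e]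
    exact hx
  · intro g hg x hx
    have h1 := hcj 1 g (rp_of_mem hg.1) hg.2
    rw [map_one, Module.End.one_apply] at h1
    rw [← h1]
    exact Cfsg.Agent.H398.RG.conj_mem_cj' hx
  · exact (isPGroup_UU H).to_le (inf_le_left.trans hXU)
  · -- not a `p`-group
    intro hpg
    obtain ⟨m, hm⟩ := hpg ⟨n₁, hn₁m⟩
    have hm' : n₁ ^ p ^ m = 1 := congrArg (fun z : ↥((XL X a₀ ⊓ L) ⊔ (XL X (-a₀) ⊓ L) : Subgroup Y) => (z : Y)) hm
    have h2 : ∀ j : ℕ, Rp cs H.nsys (w₁ ^ j) (n₁ ^ j) := by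
      intro j
      induction j with
      | zero => rw [pow_zero, pow_zero]; exact rp_one
      | succ j ih => rw [pow_succ, pow_succ]; exact ih.mul hn₁
    have h3 := h2 (p ^ m)
    rw [hm'] at h3
    have h4 : w₁ ^ p ^ m = 1 := rpL_unique H h3 rp_one
    have hodd : Odd (p ^ m) := ((Fact.out : p.Prime).odd_of_ne_two hp2).pow
    have h5 : ∀ j : ℕ, rep cs h (w₁ ^ (2 * j + 1)) a₀ = -a₀ := by
      intro j
      induction j with
      | zero => simpa using hw₁
      | succ j ih =>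
        have e : w₁ ^ (2 * (j + 1) + 1) = w₁ * (w₁ * w₁ ^ (2 * j + 1)) := by
          rw [show 2 * (j + 1) + 1 = (2 * j + 1) + 1 + 1 by ring, pow_succ', pow_succ']
        rw [e, rep_mul_apply, rep_mul_apply, ih, map_neg, hw₁, neg_neg, hw₁]
    obtain ⟨j, hj⟩ := hodd
    have h6 := h5 j
    rw [← hj, h4, map_one, Module.End.one_apply] at h6
    have h7 : a₀ = 0 := by
      funext i
      have := congrFun h6 i
      simp only [Pi.neg_apply] at this
      simp only [Pi.zero_apply]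
      omega
    exact ha₀.ne_zero h7
  · exact ⟨n₁, hn₁K, by rw [hcj w₁ n₁ hn₁ (hKL hn₁K), hw₁]⟩
  · intro g hg
    obtain ⟨w, u, hu, k, hk, hkF, v, hv, -, e⟩ := form H hS hG (hKL hg)
    have h1 : Cfsg.Agent.H398.RG.cj g (XL X a₀ ⊓ L) =
        Cfsg.Agent.H398.RG.cj u (XL X (rep cs h w a₀) ⊓ L) := by
      rw [e, mul_assoc, Cfsg.Agent.H398.RG.cj_mul, Cfsg.Agent.H398.RG.cj_mul, hcjU v hv, hcj w k hk hkF]
    by_cases hw : rep cs h w a₀ = -a₀
    · right
      refine ⟨u⁻¹, inv_mem (hPK hu), hcjU _ (inv_mem hu), ?_⟩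
      rw [h1, hw, ← Cfsg.Agent.H398.RG.cj_mul, inv_mul_cancel, Cfsg.Agent.H398.RG.cj_one]
    · left
      have h2 := hpair w hw
      have h3 : IsPGroup p ↥(Cfsg.Agent.H398.RG.cj u ((XL X a₀ ⊓ L) ⊔ (XL X (rep cs h w a₀) ⊓ L))) :=
        Cfsg.Agent.H398.RG.isPGroup_cj (h2.to_le (sup_le_sup inf_le_left inf_le_left))
      rw [Cfsg.Agent.H398.RG.cj_sup, hcjU u hu] at h3
      rw [h1]
      exact h3
  · exact core H hS hG hmv hKL hPK hk₀ hkK hw₀

end Cfsg.Agent.H85.RGT
end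

-- part: H85/RGT/Comb
section
/-!
# S3509, `E₆`: combinatorics of the graph automorphism (helper85)

Indices of the roots of `chevE6`: `36 ≤ r` positive, `71 - r` negative, `71` highest root, `rh` the graph automorphism.
-/

set_option autoImplicit false
set_option linter.unusedSectionVars false

namespace Cfsg.Agent.H85.RGT.Six

open CoxeterSystem Cfsg Cfsg.Lie Cfsg.Lie.ChevalleyDatum
open Cfsg.Agent.ChevalleyStructure.CoxeterGeom Cfsg.Agent.Tits.Roots Cfsg.Agent.Nodes.RGDChev Cfsg.Agent.Nodes.BNOf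
open Cfsg.Agent.ChevalleyStructure.GraphSymm (symmE6)
open Cfsg.Agent.BpExc.RowsUntw (e6T)

/-- the roots as vectors -/
abbrev vc (r : ℕ) : Fin 6 → ℤ := vec chevE6 6 r

/-- the graph automorphism -/
def rh (r : Fin 72) : Fin 72 := symmE6.σ r

/-- its signs -/
def se (r : Fin 72) : ℤ := symmE6.ε r

/-- words of reflections -/
def rf (ω : List (Fin 6)) (r : ℕ) : ℕ := ω.foldr (fun i s => chevE6.reflectRoot i s) r

theorem rf_cons (i : Fin 6) (ω : List (Fin 6)) (r : ℕ) : rf (i :: ω) r = chevE6.reflectRoot i (rf ω r) := rfl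

theorem rf_lt (ω : List (Fin 6)) {r : ℕ} (hr : r < 72) : rf ω r < 72 := by
  induction ω with
  | nil => exact hr
  | cons i ω ih =>
    rw [rf_cons]
    exact Cfsg.Agent.ChevalleyStructure.NPerm.reflectRoot_lt e6T.inList (lt_rank e6T i) ih

theorem neg_idx : ∀ r : Fin 72, chevE6.neg r.val = 71 - r.val := by decide +kernel

theorem vc_pos : ∀ r : Fin 72, 36 ≤ r.val → ∀ i, 0 ≤ vc r.val i := by decide +kernel

theorem vc_neg : ∀ r : Fin 72, r.val < 36 → ∀ i, vc r.val i ≤ 0 := by decide +kernel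

/-- the fixed roots have sign `1` -/
theorem se_fix : ∀ r : Fin 72, rh r = r → se r = 1 := by decide +kernel

theorem rh_pos : ∀ r : Fin 72, 36 ≤ r.val → 36 ≤ (rh r).val := by decide +kernel

theorem rh_negative : ∀ r : Fin 72, r.val < 36 → (rh r).val < 36 := by decide +kernel

theorem rh_neg : ∀ s : Fin 72, rh s = s → rh ⟨71 - s.val, by omega⟩ = ⟨71 - s.val, by omega⟩ := by decide +kernel

/-- a root and its image commute -/
theorem comm_rh : ∀ r : Fin 72, rh r ≠ r → chevE6.commTerms r.val (rh r).val = [] ∧ (rh r).val ≠ chevE6.neg r.val := by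
  decide +kernel

/-- the positive fixed roots with even coefficient -/
theorem even_fix : ∀ r : Fin 72, 36 ≤ r.val → rh r = r → Even (vc r.val 1) → r.val ∈ [39, 44, 60, 71] := by
  decide +kernel

theorem simple_six : ∀ i : Fin 6, chevE6.simple i.val ∈ [56, 46, 42, 39, 37, 36] := by decide +kernel

theorem simple_rh : ∀ i : Fin 6, i ≠ 1 → i ≠ 3 → ∀ r : Fin 72, r.val = chevE6.simple i.val → rh r ≠ r := by decide +kernel

theorem comm_top : ∀ r : Fin 72, 36 ≤ r.val → chevE6.commTerms r.val 71 = [] := by (rewrite [Cfsg.Agent.ChevFast.E6.commTerms]; decide +kernel)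

theorem comm_bot : ∀ r : Fin 72, r.val < 36 → chevE6.commTerms r.val 0 = [] := by decide +kernel

theorem comm_48_66 : chevE6.commTerms 48 66 = [] ∧ chevE6.commTerms 50 68 = [] := by decide +kernel

theorem comm_48_68 : ∃ c : ℤ, (c = 1 ∨ c = -1) ∧ chevE6.commTerms 48 68 = [(71, c, 1, 1)] := by
  refine ⟨(chevE6.commTerms 48 68).head!.2.1, ?_, ?_⟩
  · decide +kernel
  · decide +kernel

theorem rh_vals : rh 48 = 50 ∧ rh 68 = 66 ∧ rh 71 = 71 ∧ rh 0 = 0 ∧ rh 39 = 39 := by decide +kernel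

/-- words moving the highest root and another root to positive roots -/
def pw : List (List (Fin 6)) := [[], [5, 4, 3, 2, 1, 3, 4, 0, 2, 3], [5, 4, 3, 2, 1, 3, 4, 0, 2], [5, 4, 3, 2, 1,
  3, 0, 2], [4, 3, 2, 1, 3, 0, 2], [5, 4, 3, 2, 1, 3, 4, 0], [5, 4, 3, 2, 1, 3, 0], [4, 3, 2, 1, 3, 0], [5, 4, 3,
  2, 1, 0], [4, 3, 2, 1, 0], [3, 2, 1, 0], [5, 4, 3, 2, 0], [4, 3, 2, 0], [3, 2, 0], [2, 0], [0], [5, 4, 3, 2, 1,
  3, 4], [5, 4, 3, 2, 1, 3], [4, 3, 2, 1, 3], [5, 4, 3, 2, 1], [4, 3, 2, 1], [3, 2, 1], [5, 4, 3, 1], [4, 3, 1],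
  [3, 1], [1], [5, 4, 3, 2], [4, 3, 2], [3, 2], [2], [5, 4, 3], [4, 3], [3], [5, 4], [4], [5]]

theorem pw_check : ∀ s : Fin 36, 0 < s.val → 36 ≤ rf (pw.getD s.val []) 71 ∧ 36 ≤ rf (pw.getD s.val []) s.val := by
  (delta Cfsg.Agent.H85.RGT.Six.rf Cfsg.Lie.ChevalleyDatum.chainRoot Cfsg.Lie.ChevalleyDatum.reflectRoot; rewrite [Cfsg.Agent.ChevFast.E6.cartan, Cfsg.Agent.ChevFast.E6.chainEntry, Cfsg.Agent.ChevFast.E6.neg]; decide +kernel)

/-- the words of the four long roots -/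
def bw : List (List (Fin 6) × Fin 6 × ℕ) :=
  [([], 3, 39), ([4, 3], 2, 44), ([5, 4, 3, 2], 0, 60), ([1, 3, 4, 5, 2, 3, 4, 1, 3, 2], 0, 71)]

theorem bw_check : ∀ x ∈ bw, rf x.1 (chevE6.simple x.2.1.val) = x.2.2 := by decide +kernel

theorem bw_fix : ∀ x ∈ bw, ∃ h : x.2.2 < 72, 36 ≤ x.2.2 ∧ rh ⟨x.2.2, h⟩ = ⟨x.2.2, h⟩ ∧ Even (vc x.2.2 1) := by
  intro x hx
  simp only [bw, List.mem_cons, List.not_mem_nil, or_false] at hx
  rcases hx with rfl | rfl | rfl | rfl
  · exact ⟨by decide, by decide, by decide +kernel, by decide +kernel⟩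
  · exact ⟨by decide, by decide, by decide +kernel, by decide +kernel⟩
  · exact ⟨by decide, by decide, by decide +kernel, by decide +kernel⟩
  · exact ⟨by decide, by decide, by decide +kernel, by decide +kernel⟩

/-- the word of the longest element -/
def w0w : List (Fin 6) := (bw.map fun x => x.1 ++ [x.2.1] ++ x.1.reverse).flatten

theorem w0_check : ∀ r : Fin 72, 36 ≤ r.val → rf w0w r.val < 36 := by (delta Cfsg.Agent.H85.RGT.Six.rf Cfsg.Lie.ChevalleyDatum.chainRoot Cfsg.Lie.ChevalleyDatum.reflectRoot; rewrite [Cfsg.Agent.ChevFast.E6.cartan, Cfsg.Agent.ChevFast.E6.chainEntry, Cfsg.Agent.ChevFast.E6.neg]; decide +kernel)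

/-- the parity of the coroot of the highest root -/
theorem par_top : ∀ r : Fin 72, (Even (chevE6.cartan 0 (rf [1, 3, 4, 5, 2, 3, 4, 1, 3, 2].reverse r.val)) ↔
    Even (vc r.val 1)) := by (delta Cfsg.Agent.H85.RGT.Six.rf Cfsg.Lie.ChevalleyDatum.chainRoot Cfsg.Lie.ChevalleyDatum.reflectRoot; rewrite [Cfsg.Agent.ChevFast.E6.cartan, Cfsg.Agent.ChevFast.E6.chainEntry, Cfsg.Agent.ChevFast.E6.neg]; decide +kernel)

theorem vc_rel : vc 44 = vc 39 + vc 42 + vc 37 ∧ vc 60 = vc 44 + vc 56 + vc 36 ∧ vc 71 = vc 60 + vc 50 + vc 48 ∧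
    vc 71 = vc 60 + vc 44 + vc 39 + vc 46 + vc 46 := by decide +kernel

theorem mov_vals : rh 42 ≠ 42 ∧ rh 37 ≠ 37 ∧ rh 56 ≠ 56 ∧ rh 36 ≠ 36 ∧ rh 50 ≠ 50 ∧ rh 48 ≠ 48 ∧ rh 68 ≠ 68 := by
  decide +kernel

theorem ht_vals : (∑ i, vc 39 i) = 1 ∧ (∑ i, vc 44 i) = 3 ∧ (∑ i, vc 60 i) = 5 ∧ (∑ i, vc 71 i) = 11 := by decide +kernel

theorem ht_pos : ∀ r : Fin 72, 36 ≤ r.val → 0 < ∑ i, vc r.val i := by decide +kernel

end Cfsg.Agent.H85.RGT.Six
end

-- part: H85/RGT/Six
section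
/-!
# S3509, `E₆(k)`: the fixed points of the Frobenius automorphism and of a graph automorphism (helper85)

`k` algebraically closed of characteristic `r`, `φ = phi chevE6 k r m`, `τ = conj t * gr`, `t ∈ TT`, `t² = 1`,
`χ_a(t) = ε ^ a₁`, `ε = ± 1`.

* `pfr_phi`, `pfr_tau` : `φ`, `τ` preserve the frame;
* `tau_xe`, `zz` : root elements, `zz s c = x_s(c) τ(x_s(c))`;
* `ng_word` : the elements `n_s(1)` as representatives.
-/

set_option autoImplicit false
set_option linter.unusedSectionVars false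

namespace Cfsg.Agent.H85.RGT.Six

open CoxeterSystem Cfsg Cfsg.Lie Cfsg.Lie.ChevalleyDatum
open Cfsg.Agent.ChevalleyStructure Cfsg.Agent.ChevalleyStructure.Elts Cfsg.Agent.ChevalleyStructure.CoxeterGeom
  Cfsg.Agent.ChevalleyStructure.NPerm Cfsg.Agent.ChevalleyStructure.NConj
open Cfsg.Agent.Tits.Roots Cfsg.Agent.Tits.Core Cfsg.Agent.Tits.RootComb Cfsg.Agent.Nodes.Reps Cfsg.Agent.Nodes.BNOf
  Cfsg.Agent.Nodes.RGDChev Cfsg.Agent.Nodes.Bruhat Cfsg.Agent.Nodes.NormalForm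
open Cfsg.Agent.KFacts.RgdField Cfsg.Agent.KFacts.RgdChevCoord Cfsg.Agent.CpAut.RgdUntw
open Cfsg.Agent.BpExc Cfsg.Agent.BpExc.TorCent Cfsg.Agent.BpExc.Tow Cfsg.Agent.BpExc.TowChev Cfsg.Agent.BpExc.Fr
  Cfsg.Agent.BpExc.FamField Cfsg.Agent.BpExc.FamUntw Cfsg.Agent.BpExc.FamInst Cfsg.Agent.BpExc.RowsUntw
open Cfsg.Agent.BpExc.FamTw.Gr (gr gr_xg xg coe_gr coe_xg gr_mul_fld)
open Cfsg.Agent.H522.FamTw.Frame (rho6 fr_six gr_sq6 permE)
open Cfsg.Agent.ChevalleyStructure.GraphSymm (symmE6)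
open Cfsg.Agent.H28.RG Cfsg.Agent.H441.RG

universe u

variable {k : Type u} [Field k]

/-- the Coxeter system -/
abbrev cs6 : CoxeterSystem CoxeterMatrix.E₆ CoxeterMatrix.E₆.Group := CoxeterMatrix.E₆.toCoxeterSystem

instance finW : Finite CoxeterMatrix.E₆.Group := finite_W e6T cs6

/-- root elements -/
noncomputable abbrev xe (s : ℕ) (c : k) : ↥(chevE6.group k) := xg e6T.inList s c

theorem xe_eq {s : ℕ} (hs : s < 72) (c : k) : xe s c = xc e6T (vc s) c :=
  Subtype.ext (coe_xc e6T (show s < chevE6.nroots from hs) c).symm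

theorem xe_add (s : ℕ) (a b : k) : xe s a * xe s b = xe s (a + b) := Subtype.ext (xG_add e6T.inList s a b)

theorem xe_zero (s : ℕ) : xe s (0 : k) = 1 := Subtype.ext (xG_zero e6T.inList s)

theorem xe_inv (s : ℕ) (a : k) : (xe s a)⁻¹ = xe s (-a) := Subtype.ext (xG_inv e6T.inList s a)

theorem xe_pow (s : ℕ) (a : k) (j : ℕ) : xe s a ^ j = xe s (j * a) := by
  induction j with
  | zero => rw [pow_zero, Nat.cast_zero, zero_mul, xe_zero]
  | succ j ih => rw [pow_succ, ih, xe_add]; congr 1; push_cast; ring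

theorem xe_eq_one {s : ℕ} (hs : s < 72) {a : k} : xe s a = 1 ↔ a = 0 := by
  rw [← xG_eq_one_iff e6T.inList (show s < chevE6.nroots from hs) a]
  exact ⟨fun h => congrArg Subtype.val h, fun h => Subtype.ext h⟩

theorem xe_inj {s : ℕ} (hs : s < 72) {a b : k} (h : xe s a = xe s b) : a = b :=
  xG_injective e6T.inList (show s < chevE6.nroots from hs) (congrArg Subtype.val h)

theorem mem_XX {s : ℕ} (hs : s < 72) {y : ↥(chevE6.group k)} : y ∈ XX chevE6 6 k (vc s) ↔ ∃ c, y = xe s c := by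
  rw [Subgroup.mem_subgroupOf, XV_vec e6T k (show s < chevE6.nroots from hs), mem_rootSubgroup_iff e6T.inList]
  exact ⟨fun ⟨c, hc⟩ => ⟨c, Subtype.ext hc⟩, fun ⟨c, hc⟩ => ⟨c, congrArg Subtype.val hc⟩⟩

theorem isRoot_vc {s : ℕ} (hs : s < 72) : IsRoot cs6 e6T.isCartan (vc s) := isRoot_vec e6T cs6 hs

theorem exists_vc {a : Fin 6 → ℤ} (ha : IsRoot cs6 e6T.isCartan a) : ∃ s : Fin 72, vc s.val = a := by
  obtain ⟨s, hs, e⟩ := (isRoot_iff e6T cs6 a).1 ha
  exact ⟨⟨s, hs⟩, e⟩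

theorem vc_negate {s : ℕ} (hs : s < 72) : vc (71 - s) = -vc s := by
  rw [← neg_idx ⟨s, hs⟩]
  exact vec_neg e6T hs

theorem nonneg_iff {s : ℕ} (hs : s < 72) : 0 ≤ vc s ↔ 36 ≤ s := by
  constructor
  · intro h
    by_contra hcon
    have h1 := vc_neg ⟨s, hs⟩ (not_le.1 hcon)
    have h2 : vc s = 0 := le_antisymm (fun i => h1 i) h
    exact (isRoot_vc hs).ne_zero h2
  · intro h
    exact fun i => vc_pos ⟨s, hs⟩ h i

theorem nonpos_iff {s : ℕ} (hs : s < 72) : vc s ≤ 0 ↔ s < 36 := by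
  constructor
  · intro h
    by_contra hcon
    have h1 := (nonneg_iff hs).2 (not_lt.1 hcon)
    exact (isRoot_vc hs).ne_zero (le_antisymm h h1)
  · intro h
    exact fun i => vc_neg ⟨s, hs⟩ h i

theorem rep_word (ω : List (Fin 6)) {s : ℕ} (hs : s < 72) :
    rep cs6 e6T.isCartan (cs6.wordProd ω) (vc s) = vc (rf ω s) := by
  induction ω with
  | nil => rw [wordProd_nil, map_one, Module.End.one_apply]; rfl
  | cons i ω ih =>
    rw [wordProd_cons, rep_mul_apply, ih, rf_cons]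
    exact rep_vec e6T cs6 i (show rf ω s < chevE6.nroots from rf_lt ω hs)

/-- different root elements -/
theorem eq_zero_of_eq {s s' : ℕ} (hs : s < 72) (hs' : s' < 72) (hne : s ≠ s') {a b : k} (h : xe s a = xe s' b) : a = 0 := by
  have h2 := congrArg (fun g : ↥(chevE6.group k) => ((g : GL chevE6.Idx k) : Matrix chevE6.Idx chevE6.Idx k)
    (Sum.inr ⟨s, hs⟩) (Sum.inr ⟨chevE6.neg s, neg_lt e6T.inList hs⟩)) h
  simp only [coe_xg, coe_xG] at h2
  rw [x_entry_self e6T.inList hs, x_entry_ne e6T.inList hs hs' (fun h => hne h.symm)] at h2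
  exact pow_eq_zero_iff (two_ne_zero) |>.1 (neg_eq_zero.1 h2)

/-- commuting root elements -/
theorem comm_xe {s s' : ℕ} (hs : s < 72) (hs' : s' < 72) (h1 : s' ≠ s) (h2 : s' ≠ chevE6.neg s)
    (h : chevE6.commTerms s s' = []) (a b : k) : xe s' b * xe s a = xe s a * xe s' b :=
  Subtype.ext (TwE6Basic.comm_of_commTerms hs hs' h1 h2 h a b)

/-- the commutator of `x₄₈` and `x₆₈` -/
theorem comm_top_xe : ∃ η : k, (η = 1 ∨ η = -1) ∧ ∀ a b : k, xe 68 b * xe 48 a = xe 48 a * xe 68 b * xe 71 (η * (a * b)) := by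
  obtain ⟨c, hc, hct⟩ := comm_48_68
  refine ⟨-(c : k), ?_, fun a b => ?_⟩
  · rcases hc with rfl | rfl
    · right; push_cast; rfl
    · left; push_cast; ring
  · apply Subtype.ext
    apply Units.ext
    show chevE6.x k 68 b * chevE6.x k 48 a = chevE6.x k 48 a * chevE6.x k 68 b * chevE6.x k 71 _
    rw [Cfsg.Agent.S1025.result chevE6 e6T.inList 48 68 (by decide) (by decide) (by decide) (by decide +kernel) a b]
    congr 1
    show (chevE6.wordMat k ((chevE6.commTerms 48 68).map _)) = _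
    rw [hct]
    show chevE6.x k 71 _ * 1 = _
    rw [mul_one]
    congr 1
    simp only [pow_one]
    ring

section closed

variable [IsAlgClosed k] (hk : LocFin k) (r : ℕ) [Fact r.Prime] [CharP k r]

include hk in
theorem tw6 : Tow cs6 e6T.isCartan r (Tj e6T (k := k)) (nc e6T k) (Xj e6T) := tow e6T cs6 hk r

include hk in
theorem GG_top6 : GG cs6 e6T.isCartan (TL (Tj e6T (k := k))) (XL (Xj e6T)) = ⊤ := GG_eq_top e6T cs6 hk

include hk in
theorem TL6 : TL (Tj e6T (k := k)) = TT chevE6 k := TL_eq e6T hk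

include hk in
theorem XL6 : XL (Xj e6T (k := k)) = XX chevE6 6 k := XL_eq e6T hk

include hk r in
theorem sep6 : ∀ a, IsRoot cs6 e6T.isCartan a → ∃ s ∈ TL (Tj e6T (k := k)), ∀ u ∈ XL (Xj e6T (k := k)) a,
    u * s = s * u → u = 1 := by
  rw [TL6 hk, XL6 hk]
  exact fun a ha => Cfsg.Agent.BpExc.NChev.sep e6T cs6 hk r ha

/-! ### the automorphisms -/

/-- `conj t * gr` -/
noncomputable def tau (t : ↥(chevE6.group k)) : MulAut ↥(chevE6.group k) :=
  MulAut.conj t * gr (L := k) e6T.inList symmE6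

theorem tau_apply (t y : ↥(chevE6.group k)) : tau t y = t * gr (L := k) e6T.inList symmE6 y * t⁻¹ := rfl

theorem gr_xe (s : Fin 72) (c : k) : gr (L := k) e6T.inList symmE6 (xe s.val c) = xe (rh s).val (((se s : ℤ) : k) * c) :=
  gr_xg e6T.inList symmE6 s c

theorem permE_nonneg {a : Fin 6 → ℤ} (h : 0 ≤ a) : 0 ≤ permE rho6 a := fun i => h (rho6.symm i)

theorem pfr_phi [PerfectRing k r] (m : ℕ) : PFr (tw6 hk r) (phi chevE6 k r m) := by
  refine PFr.of_fr (tw6 hk r) (GG_top6 hk) (sep6 hk r) (θ := AddEquiv.refl _) ?_ fun a _ h => h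
  rw [TL6 hk, XL6 hk]
  exact phi_fr e6T cs6 r hk m

theorem pfr_gr : PFr (tw6 hk r) (gr (L := k) e6T.inList symmE6) := by
  refine PFr.of_fr (tw6 hk r) (GG_top6 hk) (sep6 hk r) (θ := permE rho6) ?_ fun a _ h => permE_nonneg h
  rw [TL6 hk, XL6 hk]
  exact fr_six e6T cs6

theorem pfr_tau {t : ↥(chevE6.group k)} (ht : t ∈ TT chevE6 k) : PFr (tw6 hk r) (tau t) := by
  have hg := pfr_gr hk r
  rw [← TL6 hk] at ht
  refine ⟨fun u hu => ?_, fun u hu => ?_, fun w g hw => ?_⟩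
  · exact (Subgroup.mem_normalizer_iff.1 ((tw6 hk r).T_le_normalizer (S := RGD.Pos cs6 e6T.isCartan)
      (fun x hx => hx.1) ht) _).1 (hg.pos u hu)
  · exact (Subgroup.mem_normalizer_iff.1 ((tw6 hk r).T_le_normalizer (S := Cfsg.Agent.Nodes.OppDec.Neg cs6 e6T.isCartan)
      (fun x hx => hx.1) ht) _).1 (hg.neg u hu)
  · obtain ⟨w', hw'⟩ := hg.rp w g hw
    exact ⟨1 * w' * 1, ((rp_of_mem ht).mul hw').mul (rp_of_mem (inv_mem ht))⟩

/-- the data of the torus element -/
structure TD (k : Type u) [Field k] (r m : ℕ) [Fact r.Prime] [CharP k r] [PerfectRing k r] (ε : kˣ)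
    (t : ↥(chevE6.group k)) : Prop where
  eps : ε * ε = 1
  mem : t ∈ TT chevE6 k
  sq : t * t = 1
  phi : phi chevE6 k r m t = t
  gam : gr (L := k) e6T.inList symmE6 t = t
  ch : ∀ a, IsRoot cs6 e6T.isCartan a → ch e6T a t = ((ε ^ a 1 : kˣ) : k)

/-- the set of the two automorphisms -/
def SS (k : Type u) [Field k] (r m : ℕ) [Fact r.Prime] [CharP k r] [PerfectRing k r] (t : ↥(chevE6.group k)) :
    Set (MulAut ↥(chevE6.group k)) := {phi chevE6 k r m, tau t}

variable [PerfectRing k r] {m : ℕ} {ε : kˣ} {t : ↥(chevE6.group k)}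

theorem mem_L {y : ↥(chevE6.group k)} : y ∈ Fx (SS k r m t) ↔ phi chevE6 k r m y = y ∧ tau t y = y := by
  constructor
  · intro h
    exact ⟨h _ (Or.inl rfl), h _ (Or.inr rfl)⟩
  · rintro ⟨h1, h2⟩ α (rfl | rfl)
    · exact h1
    · exact h2

theorem pfr_all (ht : t ∈ TT chevE6 k) : ∀ α ∈ SS k r m t, PFr (tw6 hk r) α := by
  rintro α (rfl | rfl)
  · exact pfr_phi hk r m
  · exact pfr_tau hk r ht

theorem phi_xe {s : ℕ} (hs : s < 72) (c : k) : phi chevE6 k r m (xe s c) = xe s (c ^ r ^ m) := by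
  rw [xe_eq hs, xe_eq hs]
  show fld chevE6 (frb k r m) (xc e6T (vc s) c) = _
  rw [fld_xc e6T _ (show s < chevE6.nroots from hs), frb_apply]

/-- the scalar of `τ` -/
noncomputable def sc (ε : kˣ) (s : Fin 72) : k := ((ε ^ vc (rh s).val 1 : kˣ) : k) * ((se s : ℤ) : k)

theorem tau_xe (D : TD k r m ε t) (s : Fin 72) (c : k) : tau t (xe s.val c) = xe (rh s).val (sc ε s * c) := by
  rw [tau_apply, gr_xe, xe_eq (rh s).2, (act e6T (show (rh s).val < chevE6.nroots from (rh s).2) D.mem).2,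
    D.ch _ (isRoot_vc (rh s).2), ← xe_eq (rh s).2, sc, mul_assoc]

theorem sc_fix (D : TD k r m ε t) {s : Fin 72} (hs : rh s = s) (h : ε = 1 ∨ Even (vc s.val 1)) : sc ε s = 1 := by
  unfold sc
  rw [hs, se_fix s hs, Int.cast_one, mul_one]
  rcases h with rfl | h
  · rw [one_zpow, Units.val_one]
  · obtain ⟨j, hj⟩ := h
    rw [hj, zpow_add, ← mul_zpow, D.eps, one_zpow, Units.val_one]

include hk in
theorem xe_U {s : ℕ} (hs : s < 72) (h : 36 ≤ s) (c : k) : xe s c ∈ UU cs6 e6T.isCartan (Xj e6T (k := k)) := by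
  have h1 : xe s c ∈ XL (Xj e6T (k := k)) (vc s) := by
    rw [XL6 hk]
    exact (mem_XX hs).2 ⟨c, rfl⟩
  exact RGD.le_Sup (S := RGD.Pos cs6 e6T.isCartan) ⟨isRoot_vc hs, (nonneg_iff hs).2 h⟩ h1

include hk in
theorem xe_V {s : ℕ} (h : s < 36) (c : k) : xe s c ∈ VV cs6 e6T.isCartan (Xj e6T (k := k)) := by
  have hs : s < 72 := by omega
  have h1 : xe s c ∈ XL (Xj e6T (k := k)) (vc s) := by
    rw [XL6 hk]
    exact (mem_XX hs).2 ⟨c, rfl⟩
  exact RGD.le_Sup (S := Cfsg.Agent.Nodes.OppDec.Neg cs6 e6T.isCartan) ⟨isRoot_vc hs, (nonpos_iff hs).2 h⟩ h1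

theorem tau_sq (D : TD k r m ε t) (y : ↥(chevE6.group k)) : tau t (tau t y) = y := by
  have h1 : gr (L := k) e6T.inList symmE6 (gr (L := k) e6T.inList symmE6 y) = y := by
    have h2 := gr_sq6 (k := k) e6T.inList
    rw [pow_two] at h2
    exact congrArg (fun f : MulAut ↥(chevE6.group k) => f y) h2
  rw [tau_apply, tau_apply, map_mul, map_mul, map_inv, D.gam, h1]
  have e : t * (t * y * t⁻¹) * t⁻¹ = (t * t) * y * (t * t)⁻¹ := by group
  rw [e, D.sq]
  group

theorem phi_tau (D : TD k r m ε t) (y : ↥(chevE6.group k)) :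
    phi chevE6 k r m (tau t y) = tau t (phi chevE6 k r m y) := by
  have h1 : gr (L := k) e6T.inList symmE6 (phi chevE6 k r m y) = phi chevE6 k r m (gr (L := k) e6T.inList symmE6 y) :=
    congrArg (fun f : MulAut ↥(chevE6.group k) => f y) (gr_mul_fld e6T.inList symmE6 (frb k r m))
  rw [tau_apply, tau_apply, map_mul, map_mul, map_inv, D.phi, h1]

/-! ### the elements of `L` -/

/-- root elements fixed by `τ` -/
theorem xe_L (D : TD k r m ε t) {s : Fin 72} (hs : rh s = s) (h : ε = 1 ∨ Even (vc s.val 1)) {c : k}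
    (hc : c ^ r ^ m = c) : xe s.val c ∈ Fx (SS k r m t) := by
  rw [mem_L]
  refine ⟨by rw [phi_xe r s.2, hc], ?_⟩
  rw [tau_xe r D, hs, sc_fix r D hs h, one_mul]

/-- the elements `x_s(c) τ(x_s(c))` -/
noncomputable def zz (t : ↥(chevE6.group k)) (s : ℕ) (c : k) : ↥(chevE6.group k) := xe s c * tau t (xe s c)

theorem comm_tau (D : TD k r m ε t) {s : Fin 72} (hs : rh s ≠ s) (a b : k) :
    tau t (xe s.val b) * xe s.val a = xe s.val a * tau t (xe s.val b) := by
  rw [tau_xe r D]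
  obtain ⟨h1, h2⟩ := comm_rh s hs
  exact comm_xe s.2 (rh s).2 (fun e => hs (Fin.ext e)) h2 h1 _ _

theorem zz_L (D : TD k r m ε t) {s : Fin 72} (hs : rh s ≠ s) {c : k} (hc : c ^ r ^ m = c) :
    zz t s.val c ∈ Fx (SS k r m t) := by
  rw [mem_L]
  unfold zz
  refine ⟨?_, ?_⟩
  · rw [map_mul, phi_tau r D, phi_xe r s.2, hc]
  · rw [map_mul, tau_sq r D, comm_tau r D hs]

include hk in
theorem zz_U (D : TD k r m ε t) {s : Fin 72} (h : 36 ≤ s.val) (c : k) :
    zz t s.val c ∈ UU cs6 e6T.isCartan (Xj e6T (k := k)) := by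
  unfold zz
  rw [tau_xe r D]
  exact mul_mem (xe_U hk s.2 h c) (xe_U hk (rh s).2 (rh_pos s h) _)

theorem zz_ne (D : TD k r m ε t) {s : Fin 72} (hs : rh s ≠ s) {c : k} (hc : c ≠ 0) : zz t s.val c ≠ 1 := by
  intro h
  unfold zz at h
  rw [tau_xe r D] at h
  have h1 : xe s.val c = xe (rh s).val (-(sc ε s * c)) := by
    rw [← xe_inv]
    exact eq_inv_of_mul_eq_one_left h
  exact hc (eq_zero_of_eq s.2 (rh s).2 (fun e => hs (Fin.ext e).symm) h1)

/-! ### representatives -/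

/-- the elements `n_s(c)` -/
noncomputable def ng (s : ℕ) (c : k) : ↥(chevE6.group k) := ⟨nG e6T.inList s c, nG_mem_group e6T.inList s c⟩

theorem ng_eq {s : ℕ} (hs : s < 72) (c : k) : ng s c = xe s c * (xe (71 - s) (-c⁻¹) * xe s c) := by
  rw [← neg_idx ⟨s, hs⟩]
  exact Subtype.ext (nG_def e6T.inList s c)

theorem simple_lt6 (i : Fin 6) : chevE6.simple i < 72 :=
  Cfsg.Agent.ChevalleyStructure.NPerm.simple_lt e6T.inList (lt_rank e6T i)

theorem ng_neg_one (s : ℕ) : ng s (-1 : k) = (ng s 1)⁻¹ := Subtype.ext (nG_inv e6T.inList s 1).symm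

theorem ng_simple (i : Fin 6) {c : k} (hc : c = 1 ∨ c = -1) : Rp cs6 (tw6 hk r).nsys (cs6.simple i) (ng (chevE6.simple i) c) := by
  have h1 : Rp cs6 (tw6 hk r).nsys (cs6.simple i) (ng (k := k) (chevE6.simple i) 1) := rp_simple cs6 _ i
  rcases hc with rfl | rfl
  · exact h1
  · have h2 := h1.inv
    rwa [ng_neg_one, inv_simple] at *

theorem ng_word (ω : List (Fin 6)) (i : Fin 6) : ∃ g, Rp cs6 (tw6 hk r).nsys (cs6.wordProd ω) g ∧
    ∀ c : k, (c = 1 ∨ c = -1) → ∃ c' : k, (c' = 1 ∨ c' = -1) ∧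
      ng (rf ω (chevE6.simple i)) c = g * ng (chevE6.simple i) c' * g⁻¹ := by
  induction ω with
  | nil =>
    refine ⟨1, by rw [wordProd_nil]; exact rp_one, fun c hc => ⟨c, hc, ?_⟩⟩
    rw [one_mul, inv_one, mul_one]
    rfl
  | cons j ω ih =>
    obtain ⟨g, hg, h⟩ := ih
    obtain ⟨η, hη, -, -, h3⟩ := conj_n (F := k) e6T.inList (lt_rank e6T j) (show rf ω (chevE6.simple i) < chevE6.nroots from
      rf_lt ω (simple_lt6 i))
    refine ⟨nc e6T k j * g, ?_, fun c hc => ?_⟩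
    · rw [wordProd_cons]
      exact (rp_simple cs6 _ j).mul hg
    · have hηη : η * η = 1 := _root_.Cfsg.Agent.ChevalleyStructure.NConj.sign_mul_self hη
      obtain ⟨c', hc', e⟩ := h (η * c) (by
        rcases hη with rfl | rfl <;> rcases hc with rfl | rfl <;> simp)
      refine ⟨c', hc', ?_⟩
      have e1 : ng (rf (j :: ω) (chevE6.simple i)) c = nc e6T k j * ng (rf ω (chevE6.simple i)) (η * c) * (nc e6T k j)⁻¹ := by
        apply Subtype.ext
        have h4 := h3 (η * c)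
        rw [← mul_assoc, hηη, one_mul] at h4
        exact h4.symm
      rw [e1, e]
      group

/-- the elements `n_s(1)` as representatives of reflections -/
theorem rp_ng (ω : List (Fin 6)) (i : Fin 6) :
    Rp cs6 (tw6 hk r).nsys (cs6.wordProd (ω ++ [i] ++ ω.reverse)) (ng (k := k) (rf ω (chevE6.simple i)) 1) := by
  obtain ⟨g, hg, h⟩ := ng_word hk r ω i
  obtain ⟨c', hc', e⟩ := h 1 (Or.inl rfl)
  rw [e, wordProd_append, wordProd_append, wordProd_reverse, wordProd_singleton]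
  exact (hg.mul (ng_simple hk r i hc')).mul hg.inv

include hk r in
/-- the square of `n_s(1)` -/
theorem ng_sq_act (ω : List (Fin 6)) (i : Fin 6) {b : ℕ} (hb : b < 72)
    (hpar : ¬ Even (chevE6.cartan i (rf ω.reverse b))) (c : k) :
    (ng (rf ω (chevE6.simple i)) 1 * ng (rf ω (chevE6.simple i)) 1) * xe b c *
      (ng (rf ω (chevE6.simple i)) 1 * ng (rf ω (chevE6.simple i)) 1)⁻¹ = xe b (-c) := by
  obtain ⟨g, hg, h⟩ := ng_word hk r ω i
  obtain ⟨c', hc', e⟩ := h 1 (Or.inl rfl)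
  have C := coordsL (k := k) e6T cs6 hk r
  set u : ↥(chevE6.group k) := ng (chevE6.simple i) c' * ng (chevE6.simple i) c' with hu
  have hn1 : (-1 : k) ≠ 0 := neg_ne_zero.2 one_ne_zero
  -- the torus element
  have hsq : ng (chevE6.simple i) (1 : k) * ng (chevE6.simple i) 1 = (hc e6T i (-1 : k))⁻¹ :=
    Subtype.ext (nG_one_mul_self e6T.inList (chevE6.simple i))
  have huc : u = (hc e6T i (-1 : k))⁻¹ ∨ u = hc e6T i (-1 : k) := by
    rcases hc' with rfl | rfl
    · left; exact hsq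
    · right
      rw [hu, ng_neg_one, ← mul_inv_rev, hsq, inv_inv]
  have huT : u ∈ TT chevE6 k := by
    rcases huc with h1 | h1 <;> rw [h1]
    · exact inv_mem (hc_mem e6T i hn1)
    · exact hc_mem e6T i hn1
  set b' := rf ω.reverse b with hb'
  have hb'lt : b' < 72 := rf_lt _ hb
  have hch : ch e6T (vc b') u = -1 := by
    have h1 : ch e6T (vc b') (hc e6T i (-1 : k)) = -1 := by
      rw [ch_hc e6T i hn1 (show b' < chevE6.nroots from hb'lt)]
      exact Odd.neg_one_zpow (Int.not_even_iff_odd.1 hpar)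
    rcases huc with h2 | h2
    · rw [h2]
      apply ch_eq e6T (show b' < chevE6.nroots from hb'lt) (inv_mem (hc_mem e6T i hn1))
      have h3 := (act e6T (show b' < chevE6.nroots from hb'lt) (hc_mem e6T i hn1)).2 (-1 : k)
      rw [h1, neg_mul_neg, one_mul] at h3
      rw [← h3]
      group
    · rw [h2, h1]
  have hrep : rep cs6 e6T.isCartan (cs6.wordProd ω) (vc b') = vc b := by
    have h1 := rep_word ω.reverse hb
    rw [wordProd_reverse] at h1
    rw [← hb'] at h1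
    rw [← h1, ← rep_mul_apply, mul_inv_cancel, map_one, Module.End.one_apply]
  have hn2 : ng (rf ω (chevE6.simple i)) (1 : k) * ng (rf ω (chevE6.simple i)) 1 = g * u * g⁻¹ := by
    rw [e, hu]; group
  have hC : Coords cs6 e6T.isCartan (TL (Tj e6T (k := k))) (nc e6T k) (XX chevE6 6 k) (xc e6T) (ch e6T) := by
    rw [TL6 hk]; exact C
  have hgT : g * u * g⁻¹ ∈ TT chevE6 k := by
    rw [← TL6 hk] at huT ⊢
    exact (Subgroup.mem_normalizer_iff.1 hg.mem_normalizer u).1 huT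
  have h2 : ch e6T (vc b) (g * u * g⁻¹) = -1 := by
    rw [← hrep, hC.chi_rp (tw6 hk r).nsys hg (isRoot_vc hb'lt) (by rw [TL6 hk]; exact huT), hch]
  rw [hn2, xe_eq hb, (act e6T (show b < chevE6.nroots from hb) hgT).2, h2, xe_eq hb, neg_one_mul]

end closed

end Cfsg.Agent.H85.RGT.Six
end

-- part: H85/RGT/SixB
section
/-!
# S3509, `E₆(k)`: the base pair of the centraliser of a graph involution (helper85)

`L = Fx {φ, τ}` (see `Six.lean`).

* `move` : the elements of `L` over `w ≠ 1` move a nontrivial element of `U ∩ L` into `U⁻`;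
* `base6` : the base pair `H398.RG.Base` of `⟨U ∩ L, U⁻ ∩ L, T_L⟩`;
* `zz_mem` : `zz s c ∈ MK K X` if the coefficient of `s` at `α₂` is odd;
* `cond6` : `H398.RG.Cond`.
-/

set_option autoImplicit false
set_option linter.unusedSectionVars false

namespace Cfsg.Agent.H85.RGT.Six

open CoxeterSystem Cfsg Cfsg.Lie Cfsg.Lie.ChevalleyDatum
open Cfsg.Agent.ChevalleyStructure Cfsg.Agent.ChevalleyStructure.Elts Cfsg.Agent.ChevalleyStructure.CoxeterGeom
  Cfsg.Agent.ChevalleyStructure.NPerm Cfsg.Agent.ChevalleyStructure.NConj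
open Cfsg.Agent.Tits.Roots Cfsg.Agent.Tits.Core Cfsg.Agent.Tits.RootComb Cfsg.Agent.Nodes.Reps Cfsg.Agent.Nodes.BNOf
  Cfsg.Agent.Nodes.RGDChev Cfsg.Agent.Nodes.Bruhat Cfsg.Agent.Nodes.NormalForm
open Cfsg.Agent.KFacts.RgdField Cfsg.Agent.KFacts.RgdChevCoord Cfsg.Agent.CpAut.RgdUntw
open Cfsg.Agent.BpExc Cfsg.Agent.BpExc.TorCent Cfsg.Agent.BpExc.Tow Cfsg.Agent.BpExc.TowChev Cfsg.Agent.BpExc.Fr
  Cfsg.Agent.BpExc.FamField Cfsg.Agent.BpExc.FamUntw Cfsg.Agent.BpExc.FamInst Cfsg.Agent.BpExc.RowsUntw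
open Cfsg.Agent.BpExc.FamTw.Gr (gr gr_xg xg coe_gr coe_xg gr_mul_fld)
open Cfsg.Agent.ChevalleyStructure.GraphSymm (symmE6)
open Cfsg.Agent.H28.RG Cfsg.Agent.H441.RG
open Cfsg.Agent.H398.RG (Base Cond MK)

universe u

variable {k : Type u} [Field k] [IsAlgClosed k] (hk : LocFin k) (r : ℕ) [Fact r.Prime] [CharP k r] [PerfectRing k r]
  {m : ℕ} {ε : kˣ} {t : ↥(chevE6.group k)}

/-- `U` -/
noncomputable abbrev U6 (k : Type u) [Field k] : Subgroup ↥(chevE6.group k) := UU cs6 e6T.isCartan (Xj e6T (k := k))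

/-- `U⁻` -/
noncomputable abbrev V6 (k : Type u) [Field k] : Subgroup ↥(chevE6.group k) := VV cs6 e6T.isCartan (Xj e6T (k := k))

include hk in
theorem U6_eq : U6 k = RGD.Sup (XX chevE6 6 k) (RGD.Pos cs6 e6T.isCartan) := by
  unfold U6 UU
  rw [XL6 hk]

include hk in
theorem V6_eq : V6 k = RGD.Sup (XX chevE6 6 k) (Cfsg.Agent.Nodes.OppDec.Neg cs6 e6T.isCartan) := by
  unfold V6 VV
  rw [XL6 hk]

/-! ### conjugation by representatives -/

/-- the image of a root -/
theorem exists_img (w : CoxeterMatrix.E₆.Group) (s : Fin 72) : ∃ s' : Fin 72, vc s'.val = rep cs6 e6T.isCartan w (vc s.val) :=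
  exists_vc ((isRoot_vc s.2).act w)

theorem conj_xe {w : CoxeterMatrix.E₆.Group} {g : ↥(chevE6.group k)} (hg : Rp cs6 (tw6 hk r).nsys w g) {s s' : Fin 72}
    (e : vc s'.val = rep cs6 e6T.isCartan w (vc s.val)) (c : k) : ∃ c', g * xe s.val c * g⁻¹ = xe s'.val c' := by
  have h1 := (tw6 hk r).conj_rp hg (isRoot_vc s.2)
  rw [← e, XL6 hk] at h1
  have h2 : g * xe s.val c * g⁻¹ ∈ cj g (XX chevE6 6 k (vc s.val)) := conj_mem_cj.2 ((mem_XX s.2).2 ⟨c, rfl⟩)
  rw [h1] at h2
  exact (mem_XX s'.2).1 h2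

/-- a negative image -/
theorem conj_V {w : CoxeterMatrix.E₆.Group} {g : ↥(chevE6.group k)} (hg : Rp cs6 (tw6 hk r).nsys w g) {s : Fin 72}
    (h : rep cs6 e6T.isCartan w (vc s.val) ≤ 0) (c : k) : g * xe s.val c * g⁻¹ ∈ V6 k := by
  obtain ⟨s', e⟩ := exists_img w s
  obtain ⟨c', hc'⟩ := conj_xe hk r hg e c
  rw [hc']
  refine xe_V hk ?_ _
  rw [← e] at h
  exact (nonpos_iff s'.2).1 h

theorem rt_pos_or (w : CoxeterMatrix.E₆.Group) (s : Fin 72) : 0 ≤ rep cs6 e6T.isCartan w (vc s.val) ∨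
    rep cs6 e6T.isCartan w (vc s.val) ≤ 0 := ((isRoot_vc s.2).act w).pos_or_neg

theorem one_pow_eq : (1 : k) ^ r ^ m = 1 := one_pow _

/-- a root which is not fixed and becomes negative -/
theorem move_mov (D : TD k r m ε t) {w : CoxeterMatrix.E₆.Group} {g : ↥(chevE6.group k)}
    (hg : Rp cs6 (tw6 hk r).nsys w g) (hgL : g ∈ Fx (SS k r m t)) {s : Fin 72} (hs : 36 ≤ s.val) (hm : rh s ≠ s)
    (h : rep cs6 e6T.isCartan w (vc s.val) ≤ 0) : ∃ u ∈ U6 k ⊓ Fx (SS k r m t), u ≠ 1 ∧ g * u * g⁻¹ ∈ V6 k := by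
  refine ⟨zz t s.val 1, ⟨zz_U hk r D hs 1, zz_L r D hm (one_pow_eq r)⟩, zz_ne r D hm one_ne_zero, ?_⟩
  have h1 := conj_V hk r hg h (1 : k)
  have h2 := (pfr_tau hk r D.mem).neg _ h1
  have h3 : tau t g = g := (mem_L r).1 hgL |>.2
  rw [map_mul, map_mul, map_inv, h3] at h2
  have e : g * zz t s.val 1 * g⁻¹ = (g * xe s.val 1 * g⁻¹) * (g * tau t (xe s.val 1) * g⁻¹) := by
    unfold zz; group
  rw [e]
  exact mul_mem h1 h2

/-- a fixed root with `τ` trivial on the root group which becomes negative -/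
theorem move_fix (D : TD k r m ε t) {w : CoxeterMatrix.E₆.Group} {g : ↥(chevE6.group k)}
    (hg : Rp cs6 (tw6 hk r).nsys w g) {s : Fin 72} (hs : 36 ≤ s.val) (hm : rh s = s)
    (he : ε = 1 ∨ Even (vc s.val 1))
    (h : rep cs6 e6T.isCartan w (vc s.val) ≤ 0) : ∃ u ∈ U6 k ⊓ Fx (SS k r m t), u ≠ 1 ∧ g * u * g⁻¹ ∈ V6 k := by
  refine ⟨xe s.val 1, ⟨xe_U hk s.2 hs 1, xe_L r D hm he (one_pow_eq r)⟩, ?_, conj_V hk r hg h 1⟩
  rw [Ne, xe_eq_one s.2]
  exact one_ne_zero

/-- the image of a fixed root with `τ` trivial on the root group -/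
theorem img_fix (hr2 : r ≠ 2) (D : TD k r m ε t) {w : CoxeterMatrix.E₆.Group} {g : ↥(chevE6.group k)}
    (hg : Rp cs6 (tw6 hk r).nsys w g) (hgL : g ∈ Fx (SS k r m t)) {s s' : Fin 72} (hm : rh s = s)
    (he : ε = 1 ∨ Even (vc s.val 1)) (e : vc s'.val = rep cs6 e6T.isCartan w (vc s.val)) :
    rh s' = s' ∧ (ε = 1 ∨ Even (vc s'.val 1)) := by
  obtain ⟨c, hc⟩ := conj_xe hk r hg e (1 : k)
  have hL : xe s'.val c ∈ Fx (SS k r m t) := by
    rw [← hc]
    exact mul_mem (mul_mem hgL (xe_L r D hm he (one_pow_eq r))) (inv_mem hgL)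
  have hc0 : c ≠ 0 := by
    rintro rfl
    rw [xe_zero, conj_eq_one_iff, xe_eq_one s.2] at hc
    exact one_ne_zero hc
  have h1 := ((mem_L r).1 hL).2
  rw [tau_xe r D] at h1
  have h2 : rh s' = s' := by
    by_contra hne
    exact hc0 (eq_zero_of_eq s'.2 (rh s').2 (fun e => hne (Fin.ext e).symm) h1.symm)
  refine ⟨h2, ?_⟩
  rw [h2] at h1
  have h3 := xe_inj s'.2 h1
  have h4 : sc (k := k) ε s' = 1 := mul_right_cancel₀ hc0 (by rw [h3, one_mul])
  unfold sc at h4
  rw [h2, se_fix s' h2, Int.cast_one, mul_one] at h4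
  by_contra hcon
  push Not at hcon
  obtain ⟨h5, h6⟩ := hcon
  have h7 : ε = -1 := by
    rcases mul_self_eq_one_iff.1 (by rw [← Units.val_mul, D.eps, Units.val_one] : (ε : k) * ε = 1) with h | h
    · exact absurd (Units.ext h) h5
    · exact Units.ext h
  rw [h7, Odd.neg_one_zpow (Int.not_even_iff_odd.1 h6)] at h4
  have h8 : (2 : k) = 0 := by
    have h9 : (-1 : k) = 1 := h4
    linear_combination -h9
  have h9 : (r : ℕ) ∣ 2 := (CharP.cast_eq_zero_iff k r 2).1 (by exact_mod_cast h8)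
  exact hr2 ((Nat.prime_dvd_prime_iff_eq Fact.out Nat.prime_two).1 h9)

/-- the height -/
def hgt (v : Fin 6 → ℤ) : ℤ := ∑ i, v i

theorem hgt_add (v w : Fin 6 → ℤ) : hgt (v + w) = hgt v + hgt w := by
  unfold hgt
  rw [← Finset.sum_add_distrib]
  rfl

/-- **(2)** -/
theorem move (hr2 : r ≠ 2) (D : TD k r m ε t) : Move (tw6 hk r) (SS k r m t) := by
  intro w g hg hgL hw
  by_contra hcon
  -- the images of the roots
  have hmov : ∀ s : Fin 72, 36 ≤ s.val → rh s ≠ s → 0 ≤ rep cs6 e6T.isCartan w (vc s.val) := by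
    intro s hs hm
    rcases rt_pos_or w s with h | h
    · exact h
    · exact absurd (move_mov hk r D hg hgL hs hm h) hcon
  have hfix : ∀ s : Fin 72, 36 ≤ s.val → rh s = s → (ε = 1 ∨ Even (vc s.val 1)) →
      0 ≤ rep cs6 e6T.isCartan w (vc s.val) := by
    intro s hs hm he
    rcases rt_pos_or w s with h | h
    · exact h
    · exact absurd (move_fix hk r D hg hs hm he h) hcon
  -- it suffices to treat the simple roots
  have hsimple : ∀ i : Fin 6, 0 ≤ rep cs6 e6T.isCartan w (sr i) := by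
    intro i
    rw [← vec_simple e6T i]
    have hlt := simple_lt6 i
    by_cases h3 : i = 3
    · subst h3
      exact hfix 39 (by decide) (by decide +kernel) (Or.inr (by decide +kernel))
    by_cases h1 : i = 1
    · subst h1
      by_cases hε : ε = 1
      · exact hfix 46 (by decide) (by decide +kernel) (Or.inl hε)
      -- the chain
      have key : ∀ s : Fin 72, 36 ≤ s.val → rh s = s → Even (vc s.val 1) → ∃ s' : Fin 72, 36 ≤ s'.val ∧
          s'.val ∈ [39, 44, 60, 71] ∧ vc s'.val = rep cs6 e6T.isCartan w (vc s.val) := by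
        intro s hs hm he
        obtain ⟨s', e⟩ := exists_img w s
        obtain ⟨a1, a2⟩ := img_fix hk r hr2 D hg hgL hm (Or.inr he) e
        have a3 : 36 ≤ s'.val := (nonneg_iff s'.2).1 (by rw [e]; exact hfix s hs hm (Or.inr he))
        have a4 : Even (vc s'.val 1) := by
          rcases a2 with a2 | a2
          · exact absurd a2 hε
          · exact a2
        exact ⟨s', a3, even_fix s' a3 a1 a4, e⟩
      have hp : ∀ s : Fin 72, 36 ≤ s.val → rh s ≠ s → 0 < hgt (rep cs6 e6T.isCartan w (vc s.val)) := by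
        intro s hs hm
        obtain ⟨s', e⟩ := exists_img w s
        rw [← e]
        exact ht_pos s' ((nonneg_iff s'.2).1 (by rw [e]; exact hmov s hs hm))
      obtain ⟨m1, m2, m3, m4, m5, m6, -⟩ := mov_vals
      obtain ⟨v1, v2, v3, v4⟩ := vc_rel
      obtain ⟨t1, t2, t3, t4⟩ := ht_vals
      obtain ⟨s1, -, b1, e1⟩ := key 39 (by decide) (by decide +kernel) (by decide +kernel)
      obtain ⟨s2, -, b2, e2⟩ := key 44 (by decide) (by decide +kernel) (by decide +kernel)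
      obtain ⟨s3, -, b3, e3⟩ := key 60 (by decide) (by decide +kernel) (by decide +kernel)
      obtain ⟨s4, -, b4, e4⟩ := key 71 (by decide) (by decide +kernel) (by decide +kernel)
      have p42 := hp 42 (by decide) m1
      have p37 := hp 37 (by decide) m2
      have p56 := hp 56 (by decide) m3
      have p36 := hp 36 (by decide) m4
      have p50 := hp 50 (by decide) m5
      have p48 := hp 48 (by decide) m6
      have q2 := congrArg hgt (congrArg (rep cs6 e6T.isCartan w) v1)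
      have q3 := congrArg hgt (congrArg (rep cs6 e6T.isCartan w) v2)
      have q4 := congrArg hgt (congrArg (rep cs6 e6T.isCartan w) v3)
      rw [map_add, map_add, hgt_add, hgt_add] at q2 q3 q4
      have f1 : hgt (rep cs6 e6T.isCartan w (vc 39)) = hgt (vc s1.val) := by rw [e1]; rfl
      have f2 : hgt (rep cs6 e6T.isCartan w (vc 44)) = hgt (vc s2.val) := by rw [e2]; rfl
      have f3 : hgt (rep cs6 e6T.isCartan w (vc 60)) = hgt (vc s3.val) := by rw [e3]; rfl
      have f4 : hgt (rep cs6 e6T.isCartan w (vc 71)) = hgt (vc s4.val) := by rw [e4]; rfl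
      have hv : ∀ s : Fin 72, s.val ∈ [39, 44, 60, 71] → (s.val = 39 ∧ hgt (vc s.val) = 1) ∨ (s.val = 44 ∧ hgt (vc s.val) = 3) ∨
          (s.val = 60 ∧ hgt (vc s.val) = 5) ∨ (s.val = 71 ∧ hgt (vc s.val) = 11) := by
        intro s hs
        simp only [List.mem_cons, List.not_mem_nil, or_false] at hs
        rcases hs with hs | hs | hs | hs
        · exact Or.inl ⟨hs, by rw [hs]; exact t1⟩
        · exact Or.inr (Or.inl ⟨hs, by rw [hs]; exact t2⟩)
        · exact Or.inr (Or.inr (Or.inl ⟨hs, by rw [hs]; exact t3⟩))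
        · exact Or.inr (Or.inr (Or.inr ⟨hs, by rw [hs]; exact t4⟩))
      have g1 := hv s1 b1
      have g2 := hv s2 b2
      have g3 := hv s3 b3
      have g4 := hv s4 b4
      have k12 : hgt (vc s1.val) < hgt (vc s2.val) := by
        rw [← f1, ← f2, q2]
        have a1 : 0 < hgt (rep cs6 e6T.isCartan w (vc 42)) := p42
        have a2 : 0 < hgt (rep cs6 e6T.isCartan w (vc 37)) := p37
        omega
      have k23 : hgt (vc s2.val) < hgt (vc s3.val) := by
        rw [← f2, ← f3, q3]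
        have a1 : 0 < hgt (rep cs6 e6T.isCartan w (vc 56)) := p56
        have a2 : 0 < hgt (rep cs6 e6T.isCartan w (vc 36)) := p36
        omega
      have k34 : hgt (vc s3.val) < hgt (vc s4.val) := by
        rw [← f3, ← f4, q4]
        have a1 : 0 < hgt (rep cs6 e6T.isCartan w (vc 50)) := p50
        have a2 : 0 < hgt (rep cs6 e6T.isCartan w (vc 48)) := p48
        omega
      have c1 : s1.val = 39 := by (clear * - g1 g2 g3 g4 k12 k23 k34; omega)
      have c2 : s2.val = 44 := by (clear * - g1 g2 g3 g4 k12 k23 k34; omega)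
      have c3 : s3.val = 60 := by (clear * - g2 g3 g4 k23 k34 c2; omega)
      have c4 : s4.val = 71 := by omega
      rw [c1] at e1
      rw [c2] at e2
      rw [c3] at e3
      rw [c4] at e4
      have q := congrArg (rep cs6 e6T.isCartan w) v4
      rw [map_add, map_add, map_add, map_add] at q
      have e1' : rep cs6 e6T.isCartan w (vc 39) = vc 39 := e1.symm
      have e2' : rep cs6 e6T.isCartan w (vc 44) = vc 44 := e2.symm
      have e3' : rep cs6 e6T.isCartan w (vc 60) = vc 60 := e3.symm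
      have e4' : rep cs6 e6T.isCartan w (vc 71) = vc 71 := e4.symm
      rw [e1', e2', e3', e4', v4] at q
      have h46 : rep cs6 e6T.isCartan w (vc 46) = vc 46 := by
        funext i
        have := congrFun q i
        simp only [Pi.add_apply] at this
        omega
      show 0 ≤ rep cs6 e6T.isCartan w (vc 46)
      rw [h46]
      exact fun i => vc_pos 46 (by decide) i
    · exact hmov ⟨chevE6.simple i, hlt⟩ (by
        have := simple_six i
        simp only [List.mem_cons, List.not_mem_nil, or_false] at this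
        show 36 ≤ chevE6.simple i
        omega) (simple_rh i h1 h3 ⟨chevE6.simple i, hlt⟩ rfl)
  -- hence `w = 1`
  exact hw (eq_one_of_nonneg cs6 e6T.isCartan w hsimple)

end Cfsg.Agent.H85.RGT.Six
end

-- part: H85/RGT/SixC
section
/-!
# S3509, `E₆(k)`: the base pair of the centraliser of a graph involution, the end (helper85)

* `base6` : `Base r K X Y P Q T_L`;
* `zz_mem` : `zz s c ∈ MK K X` if the coefficient of `s` at `α₂` is odd;
* `cond6` : `Cond K X Y`.
-/

set_option autoImplicit false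
set_option linter.unusedSectionVars false

namespace Cfsg.Agent.H85.RGT.Six

open CoxeterSystem Cfsg Cfsg.Lie Cfsg.Lie.ChevalleyDatum
open Cfsg.Agent.ChevalleyStructure Cfsg.Agent.ChevalleyStructure.Elts Cfsg.Agent.ChevalleyStructure.CoxeterGeom
  Cfsg.Agent.ChevalleyStructure.NPerm Cfsg.Agent.ChevalleyStructure.NConj
open Cfsg.Agent.Tits.Roots Cfsg.Agent.Tits.Core Cfsg.Agent.Tits.RootComb Cfsg.Agent.Nodes.Reps Cfsg.Agent.Nodes.BNOf
  Cfsg.Agent.Nodes.RGDChev Cfsg.Agent.Nodes.Bruhat Cfsg.Agent.Nodes.NormalForm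
open Cfsg.Agent.KFacts.RgdField Cfsg.Agent.KFacts.RgdChevCoord Cfsg.Agent.CpAut.RgdUntw
open Cfsg.Agent.BpExc Cfsg.Agent.BpExc.TorCent Cfsg.Agent.BpExc.Tow Cfsg.Agent.BpExc.TowChev Cfsg.Agent.BpExc.Fr
  Cfsg.Agent.BpExc.FamField Cfsg.Agent.BpExc.FamUntw Cfsg.Agent.BpExc.FamInst Cfsg.Agent.BpExc.RowsUntw
open Cfsg.Agent.BpExc.FamTw.Gr (gr gr_xg xg coe_gr coe_xg gr_mul_fld)
open Cfsg.Agent.ChevalleyStructure.GraphSymm (symmE6)
open Cfsg.Agent.H28.RG Cfsg.Agent.H441.RG
open Cfsg.Agent.H398.RG (Base Cond MK)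

universe u

variable {k : Type u} [Field k] [IsAlgClosed k] (hk : LocFin k) (r : ℕ) [Fact r.Prime] [CharP k r] [PerfectRing k r]
  {m : ℕ} {ε : kˣ} {t : ↥(chevE6.group k)}

/-! ### the groups -/

/-- `P` -/
noncomputable abbrev P6 (k : Type u) [Field k] (r m : ℕ) [Fact r.Prime] [CharP k r] [PerfectRing k r]
    (t : ↥(chevE6.group k)) : Subgroup ↥(chevE6.group k) := U6 k ⊓ Fx (SS k r m t)

/-- `Q` -/
noncomputable abbrev Q6 (k : Type u) [Field k] (r m : ℕ) [Fact r.Prime] [CharP k r] [PerfectRing k r]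
    (t : ↥(chevE6.group k)) : Subgroup ↥(chevE6.group k) := V6 k ⊓ Fx (SS k r m t)

/-- `T_L` -/
noncomputable abbrev T6 (k : Type u) [Field k] (r m : ℕ) [Fact r.Prime] [CharP k r] [PerfectRing k r]
    (t : ↥(chevE6.group k)) : Subgroup ↥(chevE6.group k) := TT chevE6 k ⊓ Fx (SS k r m t)

/-- `K` -/
noncomputable abbrev K6 (k : Type u) [Field k] (r m : ℕ) [Fact r.Prime] [CharP k r] [PerfectRing k r]
    (t : ↥(chevE6.group k)) : Subgroup ↥(chevE6.group k) := P6 k r m t ⊔ Q6 k r m t ⊔ T6 k r m t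

/-- the root group of the root `s` in `L` -/
noncomputable abbrev X6 (k : Type u) [Field k] (r m : ℕ) [Fact r.Prime] [CharP k r] [PerfectRing k r]
    (t : ↥(chevE6.group k)) (s : ℕ) : Subgroup ↥(chevE6.group k) := XX chevE6 6 k (vc s) ⊓ Fx (SS k r m t)

theorem mem_X6 (D : TD k r m ε t) {s : Fin 72} (hs : rh s = s) (h : ε = 1 ∨ Even (vc s.val 1)) {y : ↥(chevE6.group k)} :
    y ∈ X6 k r m t s.val ↔ ∃ c : k, c ^ r ^ m = c ∧ y = xe s.val c := by
  constructor
  · rintro ⟨h1, h2⟩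
    obtain ⟨c, rfl⟩ := (mem_XX s.2).1 h1
    have h3 := ((mem_L r).1 h2).1
    rw [phi_xe r s.2] at h3
    exact ⟨c, xe_inj s.2 h3, rfl⟩
  · rintro ⟨c, hc, rfl⟩
    exact ⟨(mem_XX s.2).2 ⟨c, rfl⟩, xe_L r D hs h hc⟩

theorem finite_L (hm : 0 < m) (hk : LocFin k) : Finite ↥(Fx (SS k r m t)) := by
  have h1 : Finite ↥(fixedSubgroup (phi chevE6 k r m)) := Cfsg.Agent.BpExc.Sig.finite_fixed hk hm (phi_isFrob r m)
  have h2 : Fx (SS k r m t) ≤ fixedSubgroup (phi chevE6 k r m) := fun y hy => ((mem_L r).1 hy).1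
  exact Finite.of_injective _ (Subgroup.inclusion_injective h2)

include hk in
/-- positive roots commute with the highest root -/
theorem comm_U {u x : ↥(chevE6.group k)} (hu : u ∈ U6 k) (hx : x ∈ XX chevE6 6 k (vc 71)) : u * x = x * u := by
  obtain ⟨c, rfl⟩ := (mem_XX (by decide)).1 hx
  have h1 : U6 k ≤ Subgroup.centralizer {xe 71 c} := by
    rw [U6_eq hk]
    refine RGD.Sup_le fun a ha => ?_
    obtain ⟨s, rfl⟩ := exists_vc ha.1
    intro y hy
    obtain ⟨d, rfl⟩ := (mem_XX s.2).1 hy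
    rw [Subgroup.mem_centralizer_singleton_iff]
    have hs : 36 ≤ s.val := (nonneg_iff s.2).1 ha.2
    by_cases h71 : s.val = 71
    · rw [h71, xe_add, xe_add, add_comm]
    · exact (comm_xe s.2 (by decide) (Ne.symm h71) (by rw [neg_idx]; omega) (comm_top s hs) d c).symm
  exact Subgroup.mem_centralizer_singleton_iff.1 (h1 hu)

include hk in
/-- negative roots commute with the lowest root -/
theorem comm_V {u x : ↥(chevE6.group k)} (hu : u ∈ V6 k) (hx : x ∈ XX chevE6 6 k (vc 0)) : u * x = x * u := by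
  obtain ⟨c, rfl⟩ := (mem_XX (by decide)).1 hx
  have h1 : V6 k ≤ Subgroup.centralizer {xe 0 c} := by
    rw [V6_eq hk]
    refine RGD.Sup_le fun a ha => ?_
    obtain ⟨s, rfl⟩ := exists_vc ha.1
    intro y hy
    obtain ⟨d, rfl⟩ := (mem_XX s.2).1 hy
    rw [Subgroup.mem_centralizer_singleton_iff]
    have hs : s.val < 36 := (nonpos_iff s.2).1 ha.2
    by_cases h0 : s.val = 0
    · rw [h0, xe_add, xe_add, add_comm]
    · exact (comm_xe s.2 (by decide) (Ne.symm h0) (by rw [neg_idx]; omega) (comm_bot s hs) d c).symm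
  exact Subgroup.mem_centralizer_singleton_iff.1 (h1 hu)

include hk in
/-- two long root groups -/
theorem pair6 (w : CoxeterMatrix.E₆.Group) (hw : rep cs6 e6T.isCartan w (vc 71) ≠ -vc 71) :
    IsPGroup r ↥(XX chevE6 6 k (vc 71) ⊔ XX chevE6 6 k (rep cs6 e6T.isCartan w (vc 71)) : Subgroup ↥(chevE6.group k)) := by
  obtain ⟨s, e⟩ := exists_img w 71
  have e' : rep cs6 e6T.isCartan w (vc 71) = vc s.val := e.symm
  rw [e'] at hw ⊢
  have hUp : IsPGroup r ↥(U6 k) := isPGroup_UU (tw6 hk r)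
  have hle : ∀ s : Fin 72, 36 ≤ s.val → XX chevE6 6 k (vc s.val) ≤ U6 k := by
    intro s hs y hy
    obtain ⟨c, rfl⟩ := (mem_XX s.2).1 hy
    exact xe_U hk s.2 hs c
  by_cases hs : 36 ≤ s.val
  · exact hUp.to_le (sup_le (hle 71 (by decide)) (hle s hs))
  · have hs0 : 0 < s.val := by
      rcases Nat.eq_zero_or_pos s.val with h0 | h0
      · exfalso
        apply hw
        rw [h0]
        exact vc_negate (s := 71) (by decide)
      · exact h0
    obtain ⟨h1, h2⟩ := pw_check ⟨s.val, by omega⟩ hs0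
    set ω := pw.getD s.val [] with hω
    obtain ⟨g, -, hg⟩ := (tw6 (k := k) hk r).exists_rp (cs6.wordProd ω)
    have h3 : ∀ s : Fin 72, 36 ≤ rf ω s.val → XX chevE6 6 k (vc s.val) ≤ cj g⁻¹ (U6 k) := by
      intro s hs y hy
      rw [mem_cj, inv_inv]
      have h4 := (tw6 hk r).conj_rp hg (isRoot_vc s.2)
      rw [XL6 hk, rep_word ω s.2] at h4
      have h5 : g * y * g⁻¹ ∈ cj g (XX chevE6 6 k (vc s.val)) := conj_mem_cj.2 hy
      rw [h4] at h5
      exact hle ⟨rf ω s.val, rf_lt ω s.2⟩ hs h5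
    have h4 : IsPGroup r ↥(cj g⁻¹ (U6 k)) := hUp.map _
    exact h4.to_le (sup_le (h3 71 h1) (h3 s h2))

/-! ### the elements over the reflections -/

/-- `n_s(1)` in `K` -/
theorem ng_mem (D : TD k r m ε t) {s : Fin 72} (hs : 36 ≤ s.val) (hm : rh s = s) (he : Even (vc s.val 1)) :
    ng s.val (1 : k) ∈ X6 k r m t s.val ⊔ X6 k r m t (71 - s.val) := by
  have h1 : xe s.val (1 : k) ∈ X6 k r m t s.val := (mem_X6 r D hm (Or.inr he)).2 ⟨1, one_pow _, rfl⟩
  let s' : Fin 72 := ⟨71 - s.val, by omega⟩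
  have hm' : rh s' = s' := rh_neg s hm
  have he' : Even (vc s'.val 1) := by
    have h2 : vc s'.val = -vc s.val := vc_negate s.2
    rw [h2]
    exact he.neg
  have hodd : ((-1 : k) ^ r ^ m) = -1 := by
    have h3 := map_neg (frb k r m) (1 : k)
    rwa [frb_apply, map_one] at h3
  have h2 : xe (71 - s.val) (-1 : k) ∈ X6 k r m t (71 - s.val) := (mem_X6 r D hm' (Or.inr he')).2 ⟨-1, hodd, rfl⟩
  rw [ng_eq s.2, inv_one]
  exact mul_mem (Subgroup.mem_sup_left h1) (mul_mem (Subgroup.mem_sup_right h2) (Subgroup.mem_sup_left h1))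

/-- the highest root as an index -/
theorem vc_top : -vc 71 = vc 0 := (vc_negate (s := 71) (by decide)).symm

/-- the word of the highest root -/
def ωt : List (Fin 6) := [1, 3, 4, 5, 2, 3, 4, 1, 3, 2]

theorem ωt_rf : rf ωt (chevE6.simple (0 : Fin 6)) = 71 := by decide +kernel

theorem ωt_refl : rf (ωt ++ [0] ++ ωt.reverse) 71 = 0 := by decide +kernel

/-- the product of the `n_s(1)` of the four long roots -/
theorem exists_k0 (D : TD k r m ε t) : ∃ g : ↥(chevE6.group k), Rp cs6 (tw6 hk r).nsys (cs6.wordProd w0w) g ∧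
    g ∈ K6 k r m t := by
  have key : ∀ l : List (List (Fin 6) × Fin 6 × ℕ), (∀ x ∈ l, x ∈ bw) → ∃ g : ↥(chevE6.group k),
      Rp cs6 (tw6 hk r).nsys (cs6.wordProd (l.map fun x => x.1 ++ [x.2.1] ++ x.1.reverse).flatten) g ∧
      g ∈ K6 k r m t := by
    intro l
    induction l with
    | nil => exact fun _ => ⟨1, rp_one, one_mem _⟩
    | cons x l ih =>
      intro hl
      obtain ⟨g, hg, hgK⟩ := ih fun y hy => hl y (List.mem_cons_of_mem _ hy)
      have hx := hl x List.mem_cons_self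
      refine ⟨ng (rf x.1 (chevE6.simple x.2.1)) 1 * g, ?_, mul_mem ?_ hgK⟩
      · rw [List.map_cons, List.flatten_cons, wordProd_append]
        exact (rp_ng hk r x.1 x.2.1).mul hg
      · have h1 : rf x.1 (chevE6.simple x.2.1) = x.2.2 := bw_check x hx
        rw [h1]
        obtain ⟨h2, h3, h4, h5⟩ := bw_fix x hx
        have h6 := ng_mem (k := k) r D (s := ⟨x.2.2, h2⟩) h3 h4 h5
        have h7 : X6 k r m t x.2.2 ⊔ X6 k r m t (71 - x.2.2) ≤ K6 k r m t := by
          refine sup_le ?_ ?_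
          · rintro y ⟨hy, hyL⟩
            obtain ⟨c, rfl⟩ := (mem_XX h2).1 hy
            exact Subgroup.mem_sup_left (Subgroup.mem_sup_left ⟨xe_U hk h2 h3 c, hyL⟩)
          · rintro y ⟨hy, hyL⟩
            obtain ⟨c, rfl⟩ := (mem_XX (by omega)).1 hy
            exact Subgroup.mem_sup_left (Subgroup.mem_sup_right ⟨xe_V hk (by omega) c, hyL⟩)
        exact h7 h6
  exact key bw fun x hx => hx

include hk in
/-- **The base pair.** -/
theorem base6 (hr2 : r ≠ 2) (hm : 0 < m) (D : TD k r m ε t) :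
    Base r (K6 k r m t) (X6 k r m t 71) (X6 k r m t 0) (P6 k r m t) (Q6 k r m t) (T6 k r m t) := by
  have hfin := finite_L (k := k) r (m := m) (t := t) hm hk
  obtain ⟨k₀, hk₀, hk₀K⟩ := exists_k0 hk r D
  have h := base (tw6 hk r) (S := SS k r m t) hr2 (pfr_all hk r D.mem) (GG_top6 hk) (move hk r hr2 D)
    (a₀ := vc 71) (isRoot_vc (by decide)) ((nonneg_iff (by decide)).2 (by decide))
    (by rw [XL6 hk]; exact fun u hu x hx => comm_U hk hu hx)
    (by rw [XL6 hk, vc_top]; exact fun u hu x hx => comm_V hk hu hx)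
    (by
      rw [XL6 hk]
      intro hb
      have h1 : xe 71 (1 : k) ∈ X6 k r m t 71 :=
        (mem_X6 r D (s := 71) rh_vals.2.2.1 (Or.inr (by decide +kernel))).2 ⟨1, one_pow _, rfl⟩
      have h2 : xe 71 (1 : k) ∈ (⊥ : Subgroup ↥(chevE6.group k)) := hb ▸ h1
      rw [Subgroup.mem_bot, xe_eq_one (by decide)] at h2
      exact one_ne_zero h2)
    (by rw [XL6 hk]; exact pair6 hk r)
    (w₁ := cs6.wordProd (ωt ++ [0] ++ ωt.reverse)) (n₁ := ng (rf ωt (chevE6.simple (0 : Fin 6))) 1) (rp_ng hk r ωt 0)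
    (by
      rw [XL6 hk, vc_top, ωt_rf]
      exact ng_mem r D (s := 71) (by decide) rh_vals.2.2.1 (by decide +kernel))
    (by rw [rep_word _ (by decide), ωt_refl, vc_top])
    (w₀ := cs6.wordProd w0w) (k₀ := k₀) hk₀ (by rw [TL6 hk]; exact hk₀K)
    (by
      intro a ha ha0
      obtain ⟨s, rfl⟩ := exists_vc ha
      rw [rep_word _ s.2]
      exact (nonpos_iff (rf_lt _ s.2)).2 (w0_check s ((nonneg_iff s.2).1 ha0)))
  rw [XL6 hk, TL6 hk, vc_top] at h
  exact h

end Cfsg.Agent.H85.RGT.Six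
end

private theorem dce_83cdfbdc90ef : _root_.True := by
  try have : _root_.True := by simp only [_root_.Cfsg.Agent.H85.RGT.Six.bw.eq_1]
  try have : _root_.True := by simp only [_root_.Cfsg.Agent.H85.RGT.Six.sc.eq_1]
  exact _root_.True.intro
end

-- part: H441/RG/CentTF
section
prune_inst 0x4203000000000000018000250003f4394000002006b880090640b0406825d6220032f211c600b120830a850003980681100005002300000000086004001012084a882023301a10422008780f804400000000000000000000000000000041000000000000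
set_option linter.all false
open scoped Cfsg.Agent.FastGrp

/-!
# S3509, exceptional groups: F2 and F3 in `D.group k` and in the toral form (helper441)

`DFr` : a frame automorphism `τ` (for `g`) of `D.group k`, `t ∈ TT`, `τ t = t`, `g` preserves the positive roots trivial on `t`,
`t` of order prime to `r`. `PK, QK` : fixed points of `τ` in the groups generated by the positive / negative root groups trivial
on `t`, `TK = TT ∩ Fix τ`, `C = fixC τ t`.

* `sylP`, `sylQ` : `PK`, `QK` are Sylow `r`-subgroups of `C`; `PK_inf_QK = 1`; `pCore_eq_bot` : `O_r(C) = 1`;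
* `KK_normal` : `⟨PK, QK⟩ ◁ C`;
* `formC` : Bruhat form of the elements of `C`; `frattiniC` : `c = κ k`, `κ ∈ ⟨PK, QK⟩`, `k ∈ C` over the component group;
* `mem_of_coprimeC` : the elements of order prime to the order of `t` lie in `⟨PK, QK, TK⟩`;
* `pCore_torForm` : `O_r(fixC m.σ s) = 1` for every `r'`-element `s`.
-/

set_option autoImplicit false
set_option linter.unusedSectionVars false

namespace Cfsg.Agent.H441.RG

open CoxeterSystem Cfsg Cfsg.Lie Cfsg.Lie.ChevalleyDatum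
open Cfsg.Agent.ChevalleyStructure Cfsg.Agent.ChevalleyStructure.Elts Cfsg.Agent.ChevalleyStructure.CoxeterGeom
  Cfsg.Agent.ChevalleyStructure.CoxeterGeomTypes Cfsg.Agent.ChevalleyStructure.NPerm
open Cfsg.Agent.Tits.Roots Cfsg.Agent.Tits.Core Cfsg.Agent.Nodes Cfsg.Agent.Nodes.Reps Cfsg.Agent.Nodes.BNOf
  Cfsg.Agent.Nodes.RGDChev Cfsg.Agent.Nodes.Bruhat Cfsg.Agent.Nodes.NormalForm Cfsg.Agent.Nodes.OppDec
open Cfsg.Agent.KFacts.RgdField Cfsg.Agent.KFacts.RgdChevCoord
open Cfsg.Agent.BpExc Cfsg.Agent.BpExc.TorCent Cfsg.Agent.BpExc.TorChev Cfsg.Agent.BpExc.Tow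
  Cfsg.Agent.BpExc.TowChev Cfsg.Agent.BpExc.Fr Cfsg.Agent.BpExc.Pair Cfsg.Agent.BpExc.LangFr Cfsg.Agent.GpExc.Field
  Cfsg.Agent.BpExc.NChev
open Cfsg.Agent.H28.RG Cfsg.Agent.H169.RG Cfsg.Agent.H469.Exc Cfsg.Agent.H316.U6

universe u v

section

variable {D : ChevalleyDatum} {l : ℕ} {M : CoxeterMatrix (Fin l)} {hp : IsType D l M} {k : Type u} [Field k]
  {W : Type v} [Group W] {cs : CoxeterSystem M W} {r : ℕ} [Fact r.Prime] [CharP k r]

/-- The data. -/
structure DFr (hp : IsType D l M) (cs : CoxeterSystem M W) (r e : ℕ) [Fact r.Prime] [CharP k r]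
    (τ : MulAut ↥(D.group k)) (g : (Fin l → ℤ) ≃+ (Fin l → ℤ)) (t : ↥(D.group k)) : Prop where
  he : 0 < e
  frob : IsFrob r e τ
  fr : Fr cs hp.isCartan (TT D k) (XX D l k) τ g
  mem : t ∈ TT D k
  fix : τ t = t
  pos : ∀ a ∈ Sx cs hp.isCartan (ch hp) t, 0 ≤ a → 0 ≤ g a
  ord : (orderOf t).Coprime r

/-- the fixed points in the positive part -/
def PK (hp : IsType D l M) (cs : CoxeterSystem M W) (τ : MulAut ↥(D.group k)) (t : ↥(D.group k)) :
    Subgroup ↥(D.group k) := RGD.Sup (XX D l k) (SP cs hp.isCartan (ch hp) t) ⊓ fixedSubgroup τ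

/-- the fixed points in the negative part -/
def QK (hp : IsType D l M) (cs : CoxeterSystem M W) (τ : MulAut ↥(D.group k)) (t : ↥(D.group k)) :
    Subgroup ↥(D.group k) := RGD.Sup (XX D l k) (SN cs hp.isCartan (ch hp) t) ⊓ fixedSubgroup τ

/-- the fixed points in the torus -/
def TK (τ : MulAut ↥(D.group k)) : Subgroup ↥(D.group k) := TT D k ⊓ fixedSubgroup τ

theorem PP0_eq (hk : LocFin k) (τ : MulAut ↥(D.group k)) (t : ↥(D.group k)) :
    PP0 cs hp.isCartan (Xj hp (k := k)) (ch hp) τ t = PK hp cs τ t := by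
  unfold PP0 PK Up
  rw [XL_eq hp hk]

theorem QQ0_eq (hk : LocFin k) (τ : MulAut ↥(D.group k)) (t : ↥(D.group k)) :
    QQ0 cs hp.isCartan (Xj hp (k := k)) (ch hp) τ t = QK hp cs τ t := by
  unfold QQ0 QK Un
  rw [XL_eq hp hk]

theorem KK0_eq (hk : LocFin k) (τ : MulAut ↥(D.group k)) (t : ↥(D.group k)) :
    KK0 cs hp.isCartan (Xj hp (k := k)) (ch hp) τ t = PK hp cs τ t ⊔ QK hp cs τ t := by
  unfold KK0
  rw [PP0_eq hk, QQ0_eq hk]

/-- representatives -/
theorem rp_iff (hk : LocFin k) {w : W} {y : ↥(D.group k)} :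
    Rp cs (tow (k := k) hp cs hk r).nsys w y ↔ Rp cs (nsysTT hp cs hk r) w y := by
  have key : ∀ (T T' : Subgroup ↥(D.group k)) (h1 : NSys M T (nc hp k)) (h2 : NSys M T' (nc hp k)) (_ : T = T'),
      Rp cs h1 w y ↔ Rp cs h2 w y := by
    intro T T' h1 h2 h3
    subst h3
    exact Iff.rfl
  exact key _ _ _ _ (TL_eq hp hk)

theorem coordsTL (hk : LocFin k) (r : ℕ) [Fact r.Prime] [CharP k r] :
    Coords cs hp.isCartan (TL (Tj hp (k := k))) (nc hp k) (XL (Xj hp (k := k))) (xc hp) (ch hp) := by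
  rw [TL_eq hp hk, XL_eq hp hk]
  exact coordsL (k := k) hp cs hk r

variable {e : ℕ} {τ : MulAut ↥(D.group k)} {g : (Fin l → ℤ) ≃+ (Fin l → ℤ)} {t : ↥(D.group k)}

theorem DFr.frTL (d : DFr hp cs r e τ g t) (hk : LocFin k) :
    Fr cs hp.isCartan (TL (Tj hp (k := k))) (XL (Xj hp (k := k))) τ g := by
  rw [TL_eq hp hk, XL_eq hp hk]
  exact d.fr

theorem DFr.cdat [IsAlgClosed k] (d : DFr hp cs r e τ g t) (hk : LocFin k) :
    CDat cs hp.isCartan (Tj hp (k := k)) (Xj hp (k := k)) (ch hp) τ g t where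
  hG := GG_eq_top (k := k) hp cs hk
  hsep := by
    rw [TL_eq hp hk, XL_eq hp hk]
    exact fun a ha => sep hp cs hk r ha
  hA := by
    rw [TL_eq hp hk]
    exact chAddL (k := k) hp cs hk r
  ht := by rw [TL_eq hp hk]; exact d.mem
  hα := d.fix
  hpos := d.pos

/-- a nontrivial group of fixed points -/
theorem exists_fixed_ne [IsAlgClosed k] (hk : LocFin k) (he : 0 < e) (hτ : IsFrob r e τ)
    (F : Fr cs hp.isCartan (TT D k) (XX D l k) τ g) {Ψ : Set (Fin l → ℤ)} (hne : Ψ.Nonempty)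
    (hP : Ψ ⊆ RGD.Pos cs hp.isCartan) (hΨ : H461.E2.Sup.ZCl cs hp.isCartan Ψ) (hg : ∀ a ∈ Ψ, g a ∈ Ψ) :
    ∃ u ∈ RGD.Sup (XX D l k) Ψ, u ≠ 1 ∧ τ u = u := by
  have := finite_W hp cs
  have h1 := H461.E2.Fix.card_fix (hp := hp) hk r he hτ F hP hΨ hg
  have hfin : Ψ.Finite := (RGD.finite_roots (cs := cs) (h := hp.isCartan)).subset fun a ha => (hP ha).1
  by_contra hcon
  push Not at hcon
  have h2 : RGD.Sup (XX D l k) Ψ ⊓ fixedSubgroup τ = ⊥ := by
    rw [eq_bot_iff]
    rintro u ⟨hu, hτu⟩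
    by_contra hu1
    exact hcon u hu hu1 hτu
  rw [h2, Subgroup.card_bot] at h1
  have h3 : 1 < (r ^ e) ^ Ψ.ncard := Nat.one_lt_pow ((Set.ncard_pos hfin).2 hne).ne'
    (Nat.one_lt_pow he.ne' (Fact.out : r.Prime).one_lt)
  omega

theorem DFr.hne [IsAlgClosed k] (d : DFr hp cs r e τ g t) (hk : LocFin k) :
    HNe cs hp.isCartan (Xj hp (k := k)) (ch hp) τ g t := by
  intro Ψ hne hP hg hcl
  rw [XL_eq hp hk]
  exact exists_fixed_ne (hp := hp) hk d.he d.frob d.fr hne (fun a ha => ⟨(hP ha).1.1, (hP ha).2⟩) hcl hg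

/-- the characters of `t` -/
theorem DFr.chi_pow (d : DFr hp cs r e τ g t) (hk : LocFin k) {m : ℕ} (hm : t ^ m = 1) (a : Fin l → ℤ)
    (ha : IsRoot cs hp.isCartan a) : ch hp a t ^ m = 1 := by
  have C := coordsL (k := k) hp cs hk r
  have h0 : ch hp a (1 : ↥(D.group k)) = 1 := by
    have h1 := (C.coord a ha).chi_mul (one_mem (TT D k)) (one_mem _)
    rw [mul_one] at h1
    exact (mul_eq_left₀ ((C.coord a ha).chi_ne_zero (one_mem _))).1 h1.symm
  have h1 : ∀ m : ℕ, ch hp a (t ^ m) = ch hp a t ^ m := by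
    intro m
    induction m with
    | zero => rw [pow_zero, pow_zero, h0]
    | succ m ih => rw [pow_succ, pow_succ, (C.coord a ha).chi_mul (pow_mem d.mem m) d.mem, ih]
  rw [← h1, hm, h0]

/-- the primes dividing the order of the component group divide the order of `t` -/
theorem DFr.prime_dvd [Finite W] (d : DFr hp cs r e τ g t) (hk : LocFin k) {q : ℕ} (hq : q.Prime)
    (hqd : q ∣ Nat.card ↥(PP cs hp.isCartan (ch hp) t)) : q ∣ orderOf t := by
  exact prime_dvd_PP (chAddL (k := k) hp cs hk r) d.mem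
    (d.chi_pow hk (pow_orderOf_eq_one t)) hq hqd

theorem DFr.coprime_PP [Finite W] (d : DFr hp cs r e τ g t) (hk : LocFin k) {m : ℕ} (hm : m.Coprime (orderOf t)) :
    m.Coprime (Nat.card ↥(PP cs hp.isCartan (ch hp) t)) := by
  rw [Nat.coprime_iff_gcd_eq_one]
  by_contra hcon
  obtain ⟨q, hq, hqd⟩ := Nat.exists_prime_and_dvd hcon
  have h1 := d.prime_dvd hk hq (hqd.trans (Nat.gcd_dvd_right _ _))
  have h2 := Nat.dvd_gcd (hqd.trans (Nat.gcd_dvd_left _ _)) h1
  rw [hm] at h2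
  exact hq.one_lt.ne' (Nat.dvd_one.1 h2)

/-- **F2: `PK` is a Sylow subgroup.** -/
theorem DFr.sylP [IsAlgClosed k] (d : DFr hp cs r e τ g t) (hk : LocFin k) [Finite ↥(fixC τ t)] :
    ∃ P : Sylow r ↥(fixC τ t), (P : Subgroup ↥(fixC τ t)) = (PK hp cs τ t).subgroupOf (fixC τ t) := by
  have := finite_W hp cs
  rw [← PP0_eq hk]
  exact exists_sylow_P (tow (k := k) hp cs hk r) (coordsTL hk r) (d.frTL hk) (d.cdat hk) (d.hne hk)
    (d.coprime_PP hk d.ord.symm).symm

theorem DFr.PK_le [IsAlgClosed k] (d : DFr hp cs r e τ g t) (hk : LocFin k) : PK hp cs τ t ≤ fixC τ t := by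
  have := finite_W hp cs
  rw [← PP0_eq hk]
  exact PP0_le_fixC (tow (k := k) hp cs hk r) (coordsTL hk r) (d.frTL hk) (d.cdat hk)

theorem DFr.QK_le [IsAlgClosed k] (d : DFr hp cs r e τ g t) (hk : LocFin k) : QK hp cs τ t ≤ fixC τ t := by
  have := finite_W hp cs
  rw [← QQ0_eq hk]
  exact QQ0_le_fixC (tow (k := k) hp cs hk r) (coordsTL hk r) (d.frTL hk) (d.cdat hk)

theorem DFr.TK_le (d : DFr hp cs r e τ g t) : TK τ ≤ fixC τ t := fun _ hx =>
  mem_fixC.2 ⟨hx.2, TT_comm hp _ hx.1 t d.mem⟩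

theorem DFr.PK_inf_QK (_d : DFr hp cs r e τ g t) (hk : LocFin k) : PK hp cs τ t ⊓ QK hp cs τ t = ⊥ := by
  have := finite_W hp cs
  rw [← PP0_eq hk, ← QQ0_eq hk, eq_bot_iff]
  rintro x ⟨h1, h2⟩
  exact Subgroup.mem_bot.2 (eq_one_of_pos_neg (tow (k := k) hp cs hk r) (Up_le h1.1) (Un_le h2.1))

/-- **F3: `⟨PK, QK⟩ ◁ C`.** -/
theorem DFr.KK_normal [IsAlgClosed k] (d : DFr hp cs r e τ g t) (hk : LocFin k) :
    ((PK hp cs τ t ⊔ QK hp cs τ t).subgroupOf (fixC τ t)).Normal := by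
  have := finite_W hp cs
  rw [← KK0_eq hk]
  exact KK0_normal (tow (k := k) hp cs hk r) (coordsTL hk r) (d.frTL hk) (d.cdat hk)

/-- **The Bruhat form of the elements of `C`.** -/
theorem DFr.formC [IsAlgClosed k] (d : DFr hp cs r e τ g t) (hk : LocFin k) {c : ↥(D.group k)}
    (hc : c ∈ fixC τ t) : ∃ w, ∃ u ∈ PK hp cs τ t, ∃ y ∈ fixC τ t, Rp cs (nsysTT hp cs hk r) w y ∧
      ∃ v ∈ PK hp cs τ t, y * v * y⁻¹ ∈ QK hp cs τ t ∧ c = u * y * v := by
  have := finite_W hp cs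
  obtain ⟨h1, h2⟩ := mem_fixC.1 hc
  have Dt : CDat cs hp.isCartan (Tj hp (k := k)) (Xj hp (k := k)) (ch hp) τ g t := d.cdat hk
  obtain ⟨w, u, hu, hαu, y, hy, hyt, hαy, v, hv, hαv, hyv, e1⟩ := form_fix (tow (k := k) hp cs hk r)
    (coordsTL hk r) (d.frTL hk) Dt.hG Dt.hsep Dt.hA Dt.ht Dt.hα Dt.hpos h2 h1
  refine ⟨w, u, by rw [← PP0_eq hk]; exact ⟨hu, hαu⟩, y, mem_fixC.2 ⟨hαy, hyt⟩, (rp_iff hk).1 hy, v,
    by rw [← PP0_eq hk]; exact ⟨hv, hαv⟩, ?_, e1⟩
  rw [← QQ0_eq hk]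
  have h3 : τ (y * v * y⁻¹) = y * v * y⁻¹ := by rw [map_mul, map_mul, map_inv, hαy, hαv]
  exact ⟨hyv, h3⟩

/-- **F3: the elements of `C` modulo `⟨PK, QK⟩`.** -/
theorem DFr.frattiniC [IsAlgClosed k] [Finite W] (d : DFr hp cs r e τ g t) (hk : LocFin k) [Finite ↥(fixC τ t)]
    {c : ↥(D.group k)} (hc : c ∈ fixC τ t) : ∃ κ ∈ PK hp cs τ t ⊔ QK hp cs τ t,
      ∃ w ∈ PP cs hp.isCartan (ch hp) t, ∃ y ∈ fixC τ t, Rp cs (nsysTT hp cs hk r) w y ∧ c = κ * y := by
  obtain ⟨P, hP⟩ := d.sylP hk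
  rw [← PP0_eq hk] at hP
  obtain ⟨κ, hκ, w, hw, y, hy, hyt, hαy, e1⟩ := frattini (tow (k := k) hp cs hk r) (coordsTL hk r) (d.frTL hk)
    (d.cdat hk) (d.hne hk) P hP hc
  rw [KK0_eq hk] at hκ
  exact ⟨κ, hκ, w, hw, y, mem_fixC.2 ⟨hαy, hyt⟩, (rp_iff hk).1 hy, e1⟩

/-- **F3: the elements of order prime to the order of `t`.** -/
theorem DFr.mem_of_coprimeC [IsAlgClosed k] (d : DFr hp cs r e τ g t) (hk : LocFin k) [Finite ↥(fixC τ t)]
    {c : ↥(D.group k)} (hc : c ∈ fixC τ t) {m : ℕ} (hm : m.Coprime (orderOf t)) (hcm : c ^ m = 1) :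
    c ∈ PK hp cs τ t ⊔ QK hp cs τ t ⊔ TK τ := by
  have := finite_W hp cs
  obtain ⟨P, hP⟩ := d.sylP hk
  rw [← PP0_eq hk] at hP
  have h1 := mem_of_coprime (tow (k := k) hp cs hk r) (coordsTL hk r) (d.frTL hk)
    (d.cdat hk) (d.hne hk) P hP hc (d.coprime_PP hk hm) hcm
  rw [KK0_eq hk, TL_eq hp hk] at h1
  exact h1

/-- `TK` normalises `PK` -/
theorem DFr.TK_PK (_d : DFr hp cs r e τ g t) (hk : LocFin k) {s x : ↥(D.group k)} (hs : s ∈ TK τ)
    (hx : x ∈ PK hp cs τ t) : s * x * s⁻¹ ∈ PK hp cs τ t := by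
  have := finite_W hp cs
  have h1 := (tow (k := k) hp cs hk r).T_le_normalizer (S := SP cs hp.isCartan (ch hp) t) (fun x hx => hx.1.1)
    (by rw [TL_eq hp hk]; exact hs.1)
  rw [XL_eq hp hk] at h1
  have h2 : τ (s * x * s⁻¹) = s * x * s⁻¹ := by rw [map_mul, map_mul, map_inv, hs.2, hx.2]
  exact ⟨(Subgroup.mem_normalizer_iff.1 h1 x).1 hx.1, h2⟩

/-- `TK` normalises `QK` -/
theorem DFr.TK_QK (_d : DFr hp cs r e τ g t) (hk : LocFin k) {s x : ↥(D.group k)} (hs : s ∈ TK τ)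
    (hx : x ∈ QK hp cs τ t) : s * x * s⁻¹ ∈ QK hp cs τ t := by
  have := finite_W hp cs
  have h1 := (tow (k := k) hp cs hk r).T_le_normalizer (S := SN cs hp.isCartan (ch hp) t) (fun x hx => hx.1.1)
    (by rw [TL_eq hp hk]; exact hs.1)
  rw [XL_eq hp hk] at h1
  have h2 : τ (s * x * s⁻¹) = s * x * s⁻¹ := by rw [map_mul, map_mul, map_inv, hs.2, hx.2]
  exact ⟨(Subgroup.mem_normalizer_iff.1 h1 x).1 hx.1, h2⟩

/-! ### the negative side -/

/-- the opposite data -/
theorem DFr.opp [IsAlgClosed k] (d : DFr hp cs r e τ g t) (hk : LocFin k) :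
    ∃ (y : ↥(D.group k)) (g' : (Fin l → ℤ) ≃+ (Fin l → ℤ)),
      DFr hp cs r e (MulAut.conj y * τ * (MulAut.conj y)⁻¹) g' (y * t * y⁻¹) ∧
      ∀ x, x ∈ QK hp cs τ t ↔ y * x * y⁻¹ ∈ PK hp cs (MulAut.conj y * τ * (MulAut.conj y)⁻¹) (y * t * y⁻¹) := by
  have := finite_W hp cs
  have H := tow (k := k) hp cs hk r
  have C := coordsTL (hp := hp) (cs := cs) (k := k) hk r
  obtain ⟨w0, hw0⟩ := Cfsg.Agent.Nodes.Sys.exists_longest cs hp.isCartan
  obtain ⟨y, -, hy⟩ := H.exists_rp w0⁻¹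
  have hneg : ∀ x, IsRoot cs hp.isCartan x → x ≤ 0 → 0 ≤ rep cs hp.isCartan w0⁻¹ x := by
    intro x hx h0
    have h1 := hw0 (-x) hx.neg (neg_nonneg.2 h0)
    rwa [map_neg, neg_nonpos] at h1
  have hback : ∀ x, IsRoot cs hp.isCartan x → 0 ≤ x → rep cs hp.isCartan w0 x ≤ 0 := by
    intro x hx h0
    rcases (hx.act w0).pos_or_neg with h1 | h1
    · exfalso
      have h2 := hw0 _ (hx.act w0) h1
      rw [← rep_mul_apply, inv_mul_cancel, map_one, Module.End.one_apply] at h2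
      exact hx.not_pos_neg h0 h2
    · exact h1
  have Fy : Fr cs hp.isCartan (TT D k) (XX D l k) (MulAut.conj y) (repAut cs hp.isCartan w0⁻¹) := by
    have h1 := Fr.conj H hy
    rwa [TL_eq hp hk, XL_eq hp hk] at h1
  have F' := (Fy.mul d.fr).mul Fy.inv
  have hty : y * t * y⁻¹ ∈ TT D k := (Fy.tor t).2 d.mem
  have hSx : ∀ a, IsRoot cs hp.isCartan a → (rep cs hp.isCartan w0⁻¹ a ∈ Sx cs hp.isCartan (ch hp) (y * t * y⁻¹) ↔
      a ∈ Sx cs hp.isCartan (ch hp) t) := by
    intro a ha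
    have h1 := C.chi_rp H.nsys hy ha (t := t) (by rw [TL_eq hp hk]; exact d.mem)
    constructor
    · rintro ⟨-, h2⟩
      exact ⟨ha, by rw [← h1]; exact h2⟩
    · rintro ⟨-, h2⟩
      exact ⟨ha.act _, by rw [h1]; exact h2⟩
  have hrep : ∀ a, rep cs hp.isCartan w0⁻¹ (rep cs hp.isCartan w0 a) = a := fun a => by
    rw [← rep_mul_apply, inv_mul_cancel, map_one, Module.End.one_apply]
  have hrep' : ∀ a, rep cs hp.isCartan w0 (rep cs hp.isCartan w0⁻¹ a) = a := fun a => by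
    rw [← rep_mul_apply, mul_inv_cancel, map_one, Module.End.one_apply]
  have Dt : CDat cs hp.isCartan (Tj hp (k := k)) (Xj hp (k := k)) (ch hp) τ g t := d.cdat hk
  have hτ' : ∀ x, (MulAut.conj y * τ * (MulAut.conj y)⁻¹) (y * x * y⁻¹) = y * τ x * y⁻¹ := by
    intro x
    have e1 : (MulAut.conj y)⁻¹ (y * x * y⁻¹) = x := by
      rw [← MulAut.conj_apply, MulAut.inv_apply_self]
    rw [MulAut.mul_apply, MulAut.mul_apply, e1, MulAut.conj_apply]
  refine ⟨y, _, ⟨d.he, ?_, F', hty, ?_, ?_, ?_⟩, ?_⟩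
  · have h1 := ((IsFrob.conj (p := r) y).mul d.frob).mul (IsFrob.conj (p := r) y⁻¹)
    rw [zero_add, add_zero, map_inv] at h1
    exact h1
  · rw [hτ', d.fix]
  · intro a ha ha0
    have h1 : rep cs hp.isCartan w0 a ∈ Sx cs hp.isCartan (ch hp) t := by
      rw [← hSx _ (ha.1.act w0), hrep]
      exact ha
    have h2 : (repAut cs hp.isCartan w0⁻¹).symm a = rep cs hp.isCartan w0 a := by
      rw [AddEquiv.symm_apply_eq, repAut_apply, hrep]
    have h3 : g (rep cs hp.isCartan w0 a) ≤ 0 :=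
      theta_neg (coordsTL hk r) Dt.ht d.pos Dt.hA h1 (hback a ha.1 ha0)
    show 0 ≤ repAut cs hp.isCartan w0⁻¹ (g ((repAut cs hp.isCartan w0⁻¹).symm a))
    rw [h2, repAut_apply]
    exact hneg _ ((d.fr.root _).2 h1.1) h3
  · have h1 : orderOf (y * t * y⁻¹) = orderOf t := by
      rw [← MulAut.conj_apply]
      exact orderOf_injective (MulAut.conj y).toMonoidHom (MulAut.conj y).injective t
    rw [h1]
    exact d.ord
  · intro x
    have hS : y * x * y⁻¹ ∈ RGD.Sup (XX D l k) (SP cs hp.isCartan (ch hp) (y * t * y⁻¹)) ↔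
        x ∈ RGD.Sup (XX D l k) (SN cs hp.isCartan (ch hp) t) := by
      rw [← XL_eq hp hk]
      constructor
      · intro hx
        have h1 := conj_SupL H hy.inv (S := SP cs hp.isCartan (ch hp) (y * t * y⁻¹))
          (S' := SN cs hp.isCartan (ch hp) t) (fun a ha => ha.1.1) (fun a ha => by
            rw [inv_inv]
            refine ⟨?_, hback a ha.1.1 ha.2⟩
            rw [← hSx _ (ha.1.1.act w0), hrep]
            exact ha.1) hx
        have e1 : y⁻¹ * (y * x * y⁻¹) * y⁻¹⁻¹ = x := by group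
        rwa [e1] at h1
      · intro hx
        exact conj_SupL H hy (S := SN cs hp.isCartan (ch hp) t)
          (S' := SP cs hp.isCartan (ch hp) (y * t * y⁻¹)) (fun a ha => ha.1.1) (fun a ha =>
            ⟨(hSx a ha.1.1).2 ha.1, hneg a ha.1.1 ha.2⟩) hx
    constructor
    · rintro ⟨h1, h2⟩
      refine ⟨hS.2 h1, ?_⟩
      have h3 : τ x = x := h2
      show (MulAut.conj y * τ * (MulAut.conj y)⁻¹) (y * x * y⁻¹) = y * x * y⁻¹
      rw [hτ', h3]
    · rintro ⟨h1, h2⟩
      refine ⟨hS.1 h1, ?_⟩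
      have h3 : (MulAut.conj y * τ * (MulAut.conj y)⁻¹) (y * x * y⁻¹) = y * x * y⁻¹ := h2
      rw [hτ'] at h3
      exact mul_left_cancel (mul_right_cancel h3)

/-- **F2: `QK` is a Sylow subgroup.** -/
theorem DFr.sylQ [IsAlgClosed k] (d : DFr hp cs r e τ g t) (hk : LocFin k) [Finite ↥(fixC τ t)] :
    ∃ Q : Sylow r ↥(fixC τ t), (Q : Subgroup ↥(fixC τ t)) = (QK hp cs τ t).subgroupOf (fixC τ t) := by
  obtain ⟨y, g', d', hQ⟩ := d.opp hk
  set! τ' := MulAut.conj y * τ * (MulAut.conj y)⁻¹ with hτ'def; rewrite [← hτ'def] at hQ d'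
  have hτ' : ∀ x, τ' (y * x * y⁻¹) = y * τ x * y⁻¹ := by
    intro x
    have e1 : (MulAut.conj y)⁻¹ (y * x * y⁻¹) = x := by
      rw [← MulAut.conj_apply, MulAut.inv_apply_self]
    rw [hτ'def, MulAut.mul_apply, MulAut.mul_apply, e1, MulAut.conj_apply]
  have hmem : ∀ x, x ∈ fixC τ t → y * x * y⁻¹ ∈ fixC τ' (y * t * y⁻¹) := by
    intro x hx
    obtain ⟨h1, h2⟩ := mem_fixC.1 hx
    refine mem_fixC.2 ⟨by rw [hτ', h1], ?_⟩
    calc y * x * y⁻¹ * (y * t * y⁻¹) = y * (x * t) * y⁻¹ := by group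
      _ = y * (t * x) * y⁻¹ := by rw [h2]
      _ = _ := by group
  have hmem' : ∀ x, x ∈ fixC τ' (y * t * y⁻¹) → y⁻¹ * x * y ∈ fixC τ t := by
    intro x hx
    obtain ⟨h1, h2⟩ := mem_fixC.1 hx
    refine mem_fixC.2 ⟨?_, ?_⟩
    · have h3 := hτ' (y⁻¹ * x * y)
      have e1 : y * (y⁻¹ * x * y) * y⁻¹ = x := by group
      rw [e1, h1] at h3
      have h4 : τ (y⁻¹ * x * y) = y⁻¹ * (y * τ (y⁻¹ * x * y) * y⁻¹) * y := by group
      rw [h4, ← h3]
    · calc y⁻¹ * x * y * t = y⁻¹ * (x * (y * t * y⁻¹)) * y := by group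
        _ = y⁻¹ * (y * t * y⁻¹ * x) * y := by rw [h2]
        _ = t * (y⁻¹ * x * y) := by group
  let E : ↥(fixC τ t) →* ↥(fixC τ' (y * t * y⁻¹)) := MonoidHom.mk' (fun x => ⟨y * x * y⁻¹, hmem x x.2⟩) (by
    intro a b
    apply Subtype.ext
    show y * ((a : ↥(D.group k)) * b) * y⁻¹ = y * a * y⁻¹ * (y * b * y⁻¹)
    group)
  have hEi : Function.Injective E := by
    intro a b hab
    have h1 : y * (a : ↥(D.group k)) * y⁻¹ = y * b * y⁻¹ := congrArg Subtype.val hab
    exact Subtype.ext (mul_left_cancel (mul_right_cancel h1))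
  have hEs : Function.Surjective E := by
    rintro ⟨x, hx⟩
    refine ⟨⟨y⁻¹ * x * y, hmem' x hx⟩, Subtype.ext ?_⟩
    show y * (y⁻¹ * x * y) * y⁻¹ = x
    group
  have hfin : Finite ↥(fixC τ' (y * t * y⁻¹)) := Finite.of_surjective E hEs
  obtain ⟨P', hP'⟩ := d'.sylP hk
  refine ⟨P'.comapOfInjective E hEi (by rw [MonoidHom.range_eq_top.2 hEs]; exact le_top), ?_⟩
  rw [Sylow.coe_comapOfInjective, hP']
  ext x
  rw [Subgroup.mem_comap, Subgroup.mem_subgroupOf, Subgroup.mem_subgroupOf, hQ]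
  exact Iff.rfl

seal _root_.Finset.sum _root_.dotProduct in
/-- `|PK| = |QK|` -/
theorem DFr.card_PK_QK [IsAlgClosed k] (d : DFr hp cs r e τ g t) (hk : LocFin k) [Finite ↥(fixC τ t)] :
    Nat.card ↥(QK hp cs τ t) = Nat.card ↥(PK hp cs τ t) := by
  obtain ⟨P, hP⟩ := d.sylP hk
  obtain ⟨Q, hQ⟩ := d.sylQ hk
  have h1 : Nat.card ↥(Q : Subgroup ↥(fixC τ t)) = Nat.card ↥(P : Subgroup ↥(fixC τ t)) := by
    rw [Q.card_eq_multiplicity, P.card_eq_multiplicity]
  rw [hP, hQ] at h1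
  rwa [Nat.card_congr (Subgroup.subgroupOfEquivOfLe (d.QK_le hk)).toEquiv,
    Nat.card_congr (Subgroup.subgroupOfEquivOfLe (d.PK_le hk)).toEquiv] at h1

/-- **F2: `O_r(C) = 1`.** -/
theorem DFr.pCore_eq_bot [IsAlgClosed k] (d : DFr hp cs r e τ g t) (hk : LocFin k) [Finite ↥(fixC τ t)] :
    pCore r ↥(fixC τ t) = ⊥ := by
  obtain ⟨P, hP⟩ := d.sylP hk
  obtain ⟨Q, hQ⟩ := d.sylQ hk
  rw [eq_bot_iff]
  intro x hx
  have h1 := Cfsg.Agent.Lib.Cores.pCore_le_sylow P hx
  have h2 := Cfsg.Agent.Lib.Cores.pCore_le_sylow Q hx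
  rw [hP, Subgroup.mem_subgroupOf] at h1
  rw [hQ, Subgroup.mem_subgroupOf] at h2
  have h3 : (x : ↥(D.group k)) ∈ PK hp cs τ t ⊓ QK hp cs τ t := ⟨h1, h2⟩
  rw [d.PK_inf_QK hk, Subgroup.mem_bot] at h3
  exact Subgroup.mem_bot.2 (Subtype.ext h3)

/-- the representatives in `C` normalise `TK` -/
theorem DFr.conj_TK (_d : DFr hp cs r e τ g t) (hk : LocFin k) {w : W} {y s : ↥(D.group k)}
    (hy : Rp cs (nsysTT hp cs hk r) w y) (hyC : y ∈ fixC τ t) (hs : s ∈ TK τ) : y * s * y⁻¹ ∈ TK τ := by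
  have h1 := (Subgroup.mem_normalizer_iff.1 hy.mem_normalizer s).1 hs.1
  have h2 : τ (y * s * y⁻¹) = y * s * y⁻¹ := by rw [map_mul, map_mul, map_inv, (mem_fixC.1 hyC).1, hs.2]
  exact ⟨h1, h2⟩

/-- `⟨PK, QK, TK⟩ ◁ C` -/
theorem DFr.KT_normal [IsAlgClosed k] (d : DFr hp cs r e τ g t) (hk : LocFin k) :
    ((PK hp cs τ t ⊔ QK hp cs τ t ⊔ TK τ).subgroupOf (fixC τ t)).Normal := by
  set K := PK hp cs τ t ⊔ QK hp cs τ t with hKdef
  have hKC : K ≤ fixC τ t := sup_le (d.PK_le hk) (d.QK_le hk)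
  have hKn : ∀ c ∈ fixC τ t, ∀ x ∈ K, c * x * c⁻¹ ∈ K := by
    intro c hc x hx
    exact (d.KK_normal hk).conj_mem ⟨x, hKC hx⟩ hx ⟨c, hc⟩
  refine ⟨fun x hx c => ?_⟩
  rw [Subgroup.mem_subgroupOf] at hx ⊢
  have key : K ⊔ TK τ ≤ (K ⊔ TK τ).comap (MulAut.conj (c : ↥(D.group k))).toMonoidHom := by
    refine sup_le (fun z hz => ?_) (fun z hz => ?_)
    · have h1 : (c : ↥(D.group k)) * z * (c : ↥(D.group k))⁻¹ ∈ K ⊔ TK τ :=
        Subgroup.mem_sup_left (hKn c c.2 z hz)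
      exact h1
    · obtain ⟨w, u, hu, y, hyC, hy, v, hv, -, e1⟩ := d.formC hk c.2
      have hu' : u ∈ K := Subgroup.mem_sup_left hu
      have hv' : v ∈ K := Subgroup.mem_sup_left hv
      have hzC : z ∈ fixC τ t := d.TK_le hz
      have h2 : (c : ↥(D.group k)) * z * (c : ↥(D.group k))⁻¹ ∈ K ⊔ TK τ := by
        have e2 : (c : ↥(D.group k)) * z * (c : ↥(D.group k))⁻¹ =
            u * (y * (v * (z * v⁻¹ * z⁻¹)) * y⁻¹) * (y * z * y⁻¹) * u⁻¹ := by
          rw [e1]; group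
        rw [e2]
        refine mul_mem (mul_mem (mul_mem (Subgroup.mem_sup_left hu') (Subgroup.mem_sup_left ?_))
          (Subgroup.mem_sup_right (d.conj_TK hk hy hyC hz))) (inv_mem (Subgroup.mem_sup_left hu'))
        exact hKn y hyC _ (mul_mem hv' (hKn z hzC _ (inv_mem hv')))
      exact h2
  exact key hx

end

/-! ### the toral form -/

section

variable {D : ChevalleyDatum} {l : ℕ} {M : CoxeterMatrix (Fin l)} {hp : IsType D l M} {r q : ℕ} [hr : Fact r.Prime]
  {K₀ : Type v} [Group K₀] {m : MData hp r q K₀} {s : ↥(D.group (KK r))}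

theorem _root_.Cfsg.Agent.H169.RG.TorForm.orderOf_eq (f : TorForm m s) : orderOf f.t = orderOf s := by
  have h1 : orderOf (MulAut.conj f.z f.t) = orderOf f.t :=
    orderOf_injective (MulAut.conj f.z).toMonoidHom (MulAut.conj f.z).injective f.t
  have h2 : MulAut.conj f.z f.t = s := by rw [MulAut.conj_apply]; exact f.eq.symm
  rw [← h1, h2]

/-- the data of a toral form -/
theorem dfr_torForm (f : TorForm m s) (hs : (orderOf s).Coprime r) :
    DFr hp M.toCoxeterSystem r m.e f.α f.θ f.t where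
  he := m.he
  frob := f.frob
  fr := f.fr
  mem := f.mem
  fix := f.fix
  pos := f.pos
  ord := by rw [f.orderOf_eq]; exact hs

theorem finite_fixC (m : MData hp r q K₀) (s : ↥(D.group (KK r))) : Finite ↥(fixC m.σ s) := by
  have := m.fin
  have h1 : fixC m.σ s ≤ fixedSubgroup m.σ := fun _ hx => (mem_fixC.1 hx).1
  exact Finite.of_injective (Subgroup.inclusion h1) (Subgroup.inclusion_injective _)

theorem finite_fixC_α (f : TorForm m s) : Finite ↥(fixC f.α f.t) := by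
  have := finite_fixC m s
  exact Finite.of_equiv _ f.equiv.toEquiv

/-- **F2 in `Y^σ`: `O_r(C_{Y^σ}(s)) = 1` for the `r'`-elements `s`.** -/
theorem pCore_fixC (m : MData hp r q K₀) {s : ↥(D.group (KK r))} (hs : m.σ s = s)
    (hsr : (orderOf s).Coprime r) : pCore r ↥(fixC m.σ s) = ⊥ := by
  have hfin := finite_fixC m s
  have hs0 : orderOf s ≠ 0 := by
    intro h0
    rw [h0, Nat.coprime_zero_left] at hsr
    exact (Fact.out : r.Prime).ne_one hsr
  obtain ⟨f⟩ := exists_torForm m hs hs0 hsr (pow_orderOf_eq_one s)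
  have := finite_fixC_α f
  have h1 := (dfr_torForm f hsr).pCore_eq_bot (locFin r)
  rw [← Cfsg.Agent.Lib.Cores.map_equiv_pCore f.equiv r] at h1
  exact (Subgroup.map_eq_bot_iff_of_injective _ f.equiv.injective).1 h1

end

end Cfsg.Agent.H441.RG
end

-- part: H441/RG/Weak
section
prune_inst 0x4203000000000000018000250003f4394000002004b88008064030406804d6220032f210c2003121830a850003100681000005000300000000004004001012080a882023301a104220087801004400000000000000000000000000000000000000000000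
set_option linter.all false
open scoped Cfsg.Agent.FastGrp

/-!
# S3509, exceptional groups: the weak form of F1, F2, F3 (helper441)

As `NrmK`, `CentK`, `CentS`, `CentTF`, with `hS : ∀ a, θ a ∈ Sx t ↔ a ∈ Sx t` instead of `α t = t`.

* `CDat` (field `hS`), `form_fix`, `KK0_normal`, `frattini`, `mem_of_coprime`, `exists_sylow_P`;
* `DFr` (no condition on the order of `t`): `sylP`, `sylQ`, `pCore_eq_bot`, `KK_normal`, `KT_normal`, `pCore_KT`, `formC`,
  `frattiniC`, `mem_KT_of_PP` (trivial component group: `C = ⟨PK, QK, TK⟩`).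
-/

set_option autoImplicit false
set_option linter.unusedSectionVars false

namespace Cfsg.Agent.H441.RG.Wk

section

open CoxeterSystem Cfsg.Agent.ChevalleyStructure.CoxeterGeom Cfsg.Agent.Tits.Roots Cfsg.Agent.Tits.Core
  Cfsg.Agent.Tits.RootComb Cfsg.Agent.Tits.Exchange Cfsg.Agent.Nodes.Reps Cfsg.Agent.Nodes.BNOf
  Cfsg.Agent.Nodes.StabComb Cfsg.Agent.Nodes.Bruhat Cfsg.Agent.Nodes.OppDec Cfsg.Agent.Nodes.LeviDec
  Cfsg.Agent.Nodes.NormalForm Cfsg.Agent.Nodes.SubComb Cfsg.Agent.KFacts.RgdField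
  Cfsg.Agent.BpExc.TorCent Cfsg.Agent.BpExc.Tow Cfsg.Agent.BpExc.Fr Cfsg.Agent.BpExc.Pair Cfsg.Agent.H28.RG

variable {I W Y : Type*} [Fintype I] [DecidableEq I] [Group W] [Finite W] [Group Y] {M : CoxeterMatrix I}
  {cs : CoxeterSystem M W} {A : I → I → ℤ} {h : IsCartan M A} {p : ℕ}
  {J : Type*} [Preorder J] {T : J → Subgroup Y} {n : I → Y} {X : J → (I → ℤ) → Subgroup Y}
  {F : Type*} [Field F] {xx : (I → ℤ) → F → Y} {χ : (I → ℤ) → Y → F}
  (H : Tow cs h p T n X) (C : Coords cs h (TL T) n (XL X) xx χ)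
  {α : MulAut Y} {θ : (I → ℤ) ≃+ (I → ℤ)} (Fα : Fr cs h (TL T) (XL X) α θ)

/-- the data of this file -/
structure CDat (cs : CoxeterSystem M W) (h : IsCartan M A) (T : J → Subgroup Y) (X : J → (I → ℤ) → Subgroup Y)
    (χ : (I → ℤ) → Y → F) (α : MulAut Y) (θ : (I → ℤ) ≃+ (I → ℤ)) (t : Y) : Prop where
  hG : GG cs h (TL T) (XL X) = ⊤
  hsep : ∀ a, IsRoot cs h a → ∃ s ∈ TL T, ∀ u ∈ XL X a, u * s = s * u → u = 1
  hA : ChAdd cs h (TL T) χ
  ht : t ∈ TL T
  hS : ∀ a, θ a ∈ Sx cs h χ t ↔ a ∈ Sx cs h χ t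
  hpos : ∀ a ∈ Sx cs h χ t, 0 ≤ a → 0 ≤ θ a

section

variable {t : Y}

include Fα

omit H in
theorem alpha_Up (hS : ∀ a, θ a ∈ Sx cs h χ t ↔ a ∈ Sx cs h χ t) (hpos : ∀ a ∈ Sx cs h χ t, 0 ≤ a → 0 ≤ θ a) {u : Y}
    (hu : u ∈ Up cs h X χ t) : α u ∈ Up cs h X χ t := by
  have h1 : Up cs h X χ t ≤ (Up cs h X χ t).comap α.toMonoidHom := by
    refine RGD.Sup_le fun a ha => ?_
    intro y hy
    exact RGD.le_Sup (S := SP cs h χ t) ⟨(hS a).2 ha.1, hpos a ha.1 ha.2⟩ ((Fα.map a ha.1.1 y).2 hy)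
  exact h1 hu

include C in
omit H in
theorem alpha_Un (ht : t ∈ TL T) (hS : ∀ a, θ a ∈ Sx cs h χ t ↔ a ∈ Sx cs h χ t)
    (hpos : ∀ a ∈ Sx cs h χ t, 0 ≤ a → 0 ≤ θ a) (hA : ChAdd cs h (TL T) χ) {u : Y} (hu : u ∈ Un cs h X χ t) :
    α u ∈ Un cs h X χ t := by
  have h1 : Un cs h X χ t ≤ (Un cs h X χ t).comap α.toMonoidHom := by
    refine RGD.Sup_le fun a ha => ?_
    intro y hy
    exact RGD.le_Sup (S := SN cs h χ t) ⟨(hS a).2 ha.1, theta_neg C ht hpos hA ha.1 ha.2⟩
      ((Fα.map a ha.1.1 y).2 hy)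
  exact h1 hu

end

include H C Fα

/-- **The form of the elements of the centraliser fixed by `α`.** -/
theorem form_fix (hG : GG cs h (TL T) (XL X) = ⊤)
    (hsep : ∀ a, IsRoot cs h a → ∃ s ∈ TL T, ∀ u ∈ XL X a, u * s = s * u → u = 1) (hA : ChAdd cs h (TL T) χ)
    {t : Y} (ht : t ∈ TL T) (hS : ∀ a, θ a ∈ Sx cs h χ t ↔ a ∈ Sx cs h χ t)
    (hpos : ∀ a ∈ Sx cs h χ t, 0 ≤ a → 0 ≤ θ a) {c : Y} (hc : c * t = t * c) (hαc : α c = c) :
    ∃ w, ∃ u ∈ Up cs h X χ t, α u = u ∧ ∃ k, Rp cs H.nsys w k ∧ k * t = t * k ∧ α k = k ∧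
      ∃ v ∈ Up cs h X χ t, α v = v ∧ k * v * k⁻¹ ∈ Un cs h X χ t ∧ c = u * k * v := by
  obtain ⟨w, u, hu, k, hk, hkt, v, hv, hkv, rfl⟩ := form H C hG ht hc
  obtain ⟨w', hk'⟩ := Cfsg.Agent.BpExc.NChev.rp_fr H hG hsep Fα hk
  have hkv' : α k * α v * (α k)⁻¹ ∈ Un cs h X χ t := by
    rw [← map_mul, ← map_inv, ← map_mul]
    exact alpha_Un C Fα ht hS hpos hA hkv
  obtain ⟨-, h1, h2, h3⟩ := form_unique H (Up_le (alpha_Up Fα hS hpos hu)) (Up_le hu) hk' hk
    (Up_le (alpha_Up Fα hS hpos hv)) (Un_le hkv') (Up_le hv) (Un_le hkv) (by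
      rw [← map_mul, ← map_mul, hαc])
  exact ⟨w, u, hu, h1, k, hk, hkt, h2, v, hv, h3, hkv, rfl⟩

theorem dec_PP0 (hA : ChAdd cs h (TL T) χ) {t : Y} (ht : t ∈ TL T) (hS : ∀ a, θ a ∈ Sx cs h χ t ↔ a ∈ Sx cs h χ t)
    (hpos : ∀ a ∈ Sx cs h χ t, 0 ≤ a → 0 ≤ θ a) {w : W} {k v : Y} (hk : Rp cs H.nsys w k) (hkt : k * t = t * k)
    (hαk : α k = k) (hv : v ∈ PP0 cs h X χ α t) : ∃ b ∈ PP0 cs h X χ α t, ∃ c ∈ PP0 cs h X χ α t, v = b * c ∧
      k * b * k⁻¹ ∈ PP0 cs h X χ α t ∧ k * c * k⁻¹ ∈ QQ0 cs h X χ α t := by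
  obtain ⟨b, hb, c, hc, e, h1, h2⟩ := dec_Up H C ht hk hkt hv.1
  obtain ⟨h3, h4⟩ := fix_dec (α := α) (UP := Up cs h X χ t) (UN := Un cs h X χ t)
    (fun x hx hx' => eq_one_of_pos_neg H (Up_le hx) (Un_le hx')) (fun x => alpha_Up Fα hS hpos)
    (fun x => alpha_Un C Fα ht hS hpos hA) hαk h1 h2 (by rw [← e]; exact hv.2)
  have h5 : α (k * b * k⁻¹) = k * b * k⁻¹ := by rw [map_mul, map_mul, map_inv, hαk, h3]
  have h6 : α (k * c * k⁻¹) = k * c * k⁻¹ := by rw [map_mul, map_mul, map_inv, hαk, h4]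
  exact ⟨b, ⟨hb, h3⟩, c, ⟨hc, h4⟩, e, ⟨h1, h5⟩, ⟨h2, h6⟩⟩

theorem dec_QQ0 (hA : ChAdd cs h (TL T) χ) {t : Y} (ht : t ∈ TL T) (hS : ∀ a, θ a ∈ Sx cs h χ t ↔ a ∈ Sx cs h χ t)
    (hpos : ∀ a ∈ Sx cs h χ t, 0 ≤ a → 0 ≤ θ a) {w : W} {k v : Y} (hk : Rp cs H.nsys w k) (hkt : k * t = t * k)
    (hαk : α k = k) (hv : v ∈ QQ0 cs h X χ α t) : ∃ b ∈ QQ0 cs h X χ α t, ∃ c ∈ QQ0 cs h X χ α t, v = b * c ∧
      k * b * k⁻¹ ∈ PP0 cs h X χ α t ∧ k * c * k⁻¹ ∈ QQ0 cs h X χ α t := by
  obtain ⟨b, hb, c, hc, e, h1, h2⟩ := dec_Un H C ht hk hkt hv.1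
  obtain ⟨h3, h4⟩ := fix_dec (α := α) (UP := Up cs h X χ t) (UN := Un cs h X χ t)
    (fun x hx hx' => eq_one_of_pos_neg H (Up_le hx) (Un_le hx')) (fun x => alpha_Up Fα hS hpos)
    (fun x => alpha_Un C Fα ht hS hpos hA) hαk h1 h2 (by rw [← e]; exact hv.2)
  have h5 : α (k * b * k⁻¹) = k * b * k⁻¹ := by rw [map_mul, map_mul, map_inv, hαk, h3]
  have h6 : α (k * c * k⁻¹) = k * c * k⁻¹ := by rw [map_mul, map_mul, map_inv, hαk, h4]
  exact ⟨b, ⟨hb, h3⟩, c, ⟨hc, h4⟩, e, ⟨h1, h5⟩, ⟨h2, h6⟩⟩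

/-- `k` over `w`, commuting with `t` and fixed by `α`, normalises `KK0` -/
theorem conj_KK0_rp (hA : ChAdd cs h (TL T) χ) {t : Y} (ht : t ∈ TL T) (hS : ∀ a, θ a ∈ Sx cs h χ t ↔ a ∈ Sx cs h χ t)
    (hpos : ∀ a ∈ Sx cs h χ t, 0 ≤ a → 0 ≤ θ a) {w : W} {k : Y} (hk : Rp cs H.nsys w k) (hkt : k * t = t * k)
    (hαk : α k = k) {x : Y} (hx : x ∈ KK0 cs h X χ α t) : k * x * k⁻¹ ∈ KK0 cs h X χ α t := by
  have h1 : KK0 cs h X χ α t ≤ (KK0 cs h X χ α t).comap (MulAut.conj k).toMonoidHom := by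
    refine sup_le (fun v hv => ?_) (fun v hv => ?_)
    · obtain ⟨b, -, c, -, e, h1, h2⟩ := dec_PP0 H C Fα hA ht hS hpos hk hkt hαk hv
      have e1 : k * v * k⁻¹ = (k * b * k⁻¹) * (k * c * k⁻¹) := by rw [e]; group
      have h3 : k * v * k⁻¹ ∈ KK0 cs h X χ α t := by
        rw [e1]
        exact mul_mem (Subgroup.mem_sup_left h1) (Subgroup.mem_sup_right h2)
      exact h3
    · obtain ⟨b, -, c, -, e, h1, h2⟩ := dec_QQ0 H C Fα hA ht hS hpos hk hkt hαk hv
      have e1 : k * v * k⁻¹ = (k * b * k⁻¹) * (k * c * k⁻¹) := by rw [e]; group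
      have h3 : k * v * k⁻¹ ∈ KK0 cs h X χ α t := by
        rw [e1]
        exact mul_mem (Subgroup.mem_sup_left h1) (Subgroup.mem_sup_right h2)
      exact h3
  exact h1 hx

/-- **Every element fixed by `α` and commuting with `t` normalises `KK0`.** -/
theorem conj_KK0 (hG : GG cs h (TL T) (XL X) = ⊤)
    (hsep : ∀ a, IsRoot cs h a → ∃ s ∈ TL T, ∀ u ∈ XL X a, u * s = s * u → u = 1) (hA : ChAdd cs h (TL T) χ)
    {t : Y} (ht : t ∈ TL T) (hS : ∀ a, θ a ∈ Sx cs h χ t ↔ a ∈ Sx cs h χ t) (hpos : ∀ a ∈ Sx cs h χ t, 0 ≤ a → 0 ≤ θ a)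
    {c : Y} (hc : c * t = t * c) (hαc : α c = c) {x : Y} (hx : x ∈ KK0 cs h X χ α t) :
    c * x * c⁻¹ ∈ KK0 cs h X χ α t := by
  obtain ⟨w, u, hu, hαu, k, hk, hkt, hαk, v, hv, hαv, -, rfl⟩ := form_fix H C Fα hG hsep hA ht hS hpos hc hαc
  have hu' : u ∈ KK0 cs h X χ α t := Subgroup.mem_sup_left ⟨hu, hαu⟩
  have hv' : v ∈ KK0 cs h X χ α t := Subgroup.mem_sup_left ⟨hv, hαv⟩
  have e : u * k * v * x * (u * k * v)⁻¹ = u * (k * (v * x * v⁻¹) * k⁻¹) * u⁻¹ := by group
  rw [e]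
  exact mul_mem (mul_mem hu' (conj_KK0_rp H C Fα hA ht hS hpos hk hkt hαk
    (mul_mem (mul_mem hv' hx) (inv_mem hv')))) (inv_mem hu')

variable {t : Y} (Dt : CDat cs h T X χ α θ t)

include H C Fα Dt

theorem PP0_le_fixC : PP0 cs h X χ α t ≤ fixC α t := fun _ hx => mem_fixC.2 ⟨hx.2, comm_Up C Dt.ht hx.1⟩

theorem QQ0_le_fixC : QQ0 cs h X χ α t ≤ fixC α t := fun _ hx => mem_fixC.2 ⟨hx.2, comm_Un C Dt.ht hx.1⟩

/-- **`K0 ◁ C`.** -/
theorem KK0_normal : ((KK0 cs h X χ α t).subgroupOf (fixC α t)).Normal := by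
  refine ⟨fun x hx c => ?_⟩
  rw [Subgroup.mem_subgroupOf] at hx ⊢
  obtain ⟨h1, h2⟩ := mem_fixC.1 c.2
  exact conj_KK0 H C Fα Dt.hG Dt.hsep Dt.hA Dt.ht Dt.hS Dt.hpos h2 h1 hx

/-- the sign of `w θ a` -/
theorem neg_theta {w : W} {k : Y} (hk : Rp cs H.nsys w k) (hkt : k * t = t * k) (hαk : α k = k) {a : I → ℤ}
    (ha : a ∈ SP cs h χ t) (hw : rep cs h w a ≤ 0) : rep cs h w (θ a) ≤ 0 := by
  have har := ha.1.1
  have hθr : IsRoot cs h (θ a) := (Fα.root a).2 har
  rcases (hθr.act w).pos_or_neg with h0 | h0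
  swap
  · exact h0
  exfalso
  -- a nontrivial element of `X (θ a)`
  have hy : xx a 1 ∈ XL X a := ((C.coord a har).mem _).2 ⟨1, rfl⟩
  have hy1 : xx a 1 ≠ 1 := (C.coord a har).ne_one one_ne_zero
  have hwa : rep cs h w a ∈ SN cs h χ t := by
    refine ⟨⟨har.act w, ?_⟩, hw⟩
    have h1 := C.chi_rp H.nsys hk har Dt.ht
    have h2 : k * t * k⁻¹ = t := by rw [hkt]; group
    rw [h2] at h1
    rw [h1]
    exact ha.1.2
  have h1 : k * xx a 1 * k⁻¹ ∈ Un cs h X χ t := by
    have h2 : k * xx a 1 * k⁻¹ ∈ cj k (XL X a) := conj_mem_cj.2 hy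
    rw [H.conj_rp hk har] at h2
    exact RGD.le_Sup hwa h2
  have h2 := Un_le (alpha_Un C Fα Dt.ht Dt.hS Dt.hpos Dt.hA h1)
  rw [map_mul, map_mul, map_inv, hαk] at h2
  have h3 : k * α (xx a 1) * k⁻¹ ∈ RGD.Sup (XL X) (RGD.Pos cs h) := by
    have h4 : k * α (xx a 1) * k⁻¹ ∈ cj k (XL X (θ a)) := conj_mem_cj.2 ((Fα.map a har _).2 hy)
    rw [H.conj_rp hk hθr] at h4
    exact RGD.le_Sup (S := RGD.Pos cs h) ⟨hθr.act w, h0⟩ h4
  have h4 := eq_one_of_pos_neg H h3 h2
  rw [conj_eq_one_iff, map_eq_one_iff α α.injective] at h4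
  exact hy1 h4

/-- **The elements of `N ∩ C` normalising `P` lie over the component group.** -/
theorem mem_PP_of_normalizer (hne : ∀ Ψ : Set (I → ℤ), Ψ.Nonempty → Ψ ⊆ SP cs h χ t → (∀ a ∈ Ψ, θ a ∈ Ψ) →
      (∀ a ∈ Ψ, ∀ b ∈ Ψ, ∀ z, IsRoot cs h z → (∃ i j : ℕ, 0 < i ∧ 0 < j ∧ z = i • a + j • b) → z ∈ Ψ) →
      ∃ u ∈ RGD.Sup (XL X) Ψ, u ≠ 1 ∧ α u = u)
    {w : W} {k : Y} (hk : Rp cs H.nsys w k) (hkt : k * t = t * k) (hαk : α k = k)
    (hn : ∀ x ∈ PP0 cs h X χ α t, k * x * k⁻¹ ∈ PP0 cs h X χ α t) : w ∈ PP cs h χ t := by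
  have hchi : ∀ a, IsRoot cs h a → χ (rep cs h w a) t = χ a t := by
    intro a har
    have h1 := C.chi_rp H.nsys hk har Dt.ht
    have h2 : k * t * k⁻¹ = t := by rw [hkt]; group
    rwa [h2] at h1
  refine mem_PP.2 ⟨hchi, fun a ha ha0 => ?_⟩
  rcases (ha.1.act w).pos_or_neg with h0 | h0
  · exact h0
  exfalso
  obtain ⟨u, hu, hu1, hαu⟩ := hne {a | a ∈ SP cs h χ t ∧ rep cs h w a ≤ 0} ⟨a, ⟨ha, ha0⟩, h0⟩ (fun a ha => ha.1)
    (fun a ha => ⟨⟨(Dt.hS a).2 ha.1.1, Dt.hpos a ha.1.1 ha.1.2⟩,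
      neg_theta H C Fα Dt hk hkt hαk ha.1 ha.2⟩)
    (by
      rintro a ha b hb z hz ⟨i, j, hi, hj, rfl⟩
      refine ⟨⟨⟨hz, ?_⟩, add_nonneg (nsmul_nonneg ha.1.2 i) (nsmul_nonneg hb.1.2 j)⟩, ?_⟩
      · obtain ⟨φ, h0, hadd, hφ⟩ := Dt.hA t Dt.ht
        have hm : ∀ (i : ℕ) (x : I → ℤ), φ (i • x) = φ x ^ i := by
          intro i x
          induction i with
          | zero => rw [zero_smul, pow_zero, h0]
          | succ i ih => rw [succ_nsmul, hadd, ih, pow_succ]
        rw [hφ _ hz, hadd, hm, hm, ← hφ a ha.1.1.1, ← hφ b hb.1.1.1, ha.1.1.2, hb.1.1.2, one_pow, one_pow, one_mul]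
      · rw [map_add, map_nsmul, map_nsmul]
        exact add_nonpos (nsmul_nonpos ha.2 i) (nsmul_nonpos hb.2 j))
  have huP : u ∈ PP0 cs h X χ α t := ⟨RGD.Sup_mono (S := {a | a ∈ SP cs h χ t ∧ rep cs h w a ≤ 0})
    (S' := SP cs h χ t) (fun a ha => ha.1) hu, hαu⟩
  have h1 := Up_le (hn u huP).1
  have h2 : k * u * k⁻¹ ∈ RGD.Sup (XL X) (Neg cs h) :=
    conj_SupL H hk (S' := Neg cs h) (fun x hx => hx.1.1.1) (fun x hx => ⟨hx.1.1.1.act w, hx.2⟩) hu
  have h3 := eq_one_of_pos_neg H h1 h2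
  rw [conj_eq_one_iff] at h3
  exact hu1 h3

/-- **Frattini.** -/
theorem frattini (hne : ∀ Ψ : Set (I → ℤ), Ψ.Nonempty → Ψ ⊆ SP cs h χ t → (∀ a ∈ Ψ, θ a ∈ Ψ) →
      (∀ a ∈ Ψ, ∀ b ∈ Ψ, ∀ z, IsRoot cs h z → (∃ i j : ℕ, 0 < i ∧ 0 < j ∧ z = i • a + j • b) → z ∈ Ψ) →
      ∃ u ∈ RGD.Sup (XL X) Ψ, u ≠ 1 ∧ α u = u)
    {q : ℕ} [Fact q.Prime] [Finite ↥(fixC α t)] (P : Sylow q ↥(fixC α t))
    (hP : (P : Subgroup ↥(fixC α t)) = (PP0 cs h X χ α t).subgroupOf (fixC α t)) {c : Y} (hc : c ∈ fixC α t) :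
    ∃ κ ∈ KK0 cs h X χ α t, ∃ w ∈ PP cs h χ t, ∃ k, Rp cs H.nsys w k ∧ k * t = t * k ∧ α k = k ∧ c = κ * k := by
  have hN := KK0_normal H C Fα Dt
  have hPK : (P : Subgroup ↥(fixC α t)) ≤ (KK0 cs h X χ α t).subgroupOf (fixC α t) := by
    rw [hP]
    intro x hx
    rw [Subgroup.mem_subgroupOf] at hx ⊢
    exact Subgroup.mem_sup_left hx
  have h1 := P.normalizer_sup_eq_top' hPK
  have h2 : (⟨c, hc⟩ : ↥(fixC α t)) ∈ (KK0 cs h X χ α t).subgroupOf (fixC α t) ⊔
      Subgroup.normalizer ((P : Subgroup ↥(fixC α t)) : Set ↥(fixC α t)) := by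
    rw [sup_comm]
    have h3 : (⟨c, hc⟩ : ↥(fixC α t)) ∈ (⊤ : Subgroup ↥(fixC α t)) := Subgroup.mem_top _
    rw [← h1] at h3
    exact h3
  rw [← SetLike.mem_coe, Subgroup.normal_mul] at h2
  obtain ⟨κ, hκ, c', hc', e⟩ := h2
  have e' : (κ : Y) * c' = c := congrArg Subtype.val e
  obtain ⟨h3, h4⟩ := mem_fixC.1 c'.2
  obtain ⟨w, u, hu, hαu, k, hk, hkt, hαk, v, hv, hαv, -, e1⟩ :=
    form_fix H C Fα Dt.hG Dt.hsep Dt.hA Dt.ht Dt.hS Dt.hpos h4 h3
  have hu' : u ∈ PP0 cs h X χ α t := ⟨hu, hαu⟩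
  have hv' : v ∈ PP0 cs h X χ α t := ⟨hv, hαv⟩
  have hcn : ∀ x ∈ PP0 cs h X χ α t, (c' : Y) * x * (c' : Y)⁻¹ ∈ PP0 cs h X χ α t := by
    intro x hx
    have h5 : (⟨x, PP0_le_fixC H C Fα Dt hx⟩ : ↥(fixC α t)) ∈ (P : Subgroup ↥(fixC α t)) := by
      rw [hP]; exact hx
    have h6 := (Subgroup.mem_normalizer_iff.1 hc' _).1 h5
    rw [hP] at h6
    exact h6
  have hkn : ∀ x ∈ PP0 cs h X χ α t, k * x * k⁻¹ ∈ PP0 cs h X χ α t := by
    intro x hx
    have h5 := hcn (v⁻¹ * x * v) (mul_mem (mul_mem (inv_mem hv') hx) hv')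
    have e2 : k * x * k⁻¹ = u⁻¹ * ((c' : Y) * (v⁻¹ * x * v) * (c' : Y)⁻¹) * u := by rw [e1]; group
    rw [e2]
    exact mul_mem (mul_mem (inv_mem hu') h5) hu'
  have hw := mem_PP_of_normalizer H C Fα Dt hne hk hkt hαk hkn
  have hκ' : (κ : Y) ∈ KK0 cs h X χ α t := hκ
  have hkK : u * (k * v * k⁻¹) ∈ KK0 cs h X χ α t :=
    mul_mem (Subgroup.mem_sup_left hu') (Subgroup.mem_sup_left (hkn v hv'))
  refine ⟨κ * (u * (k * v * k⁻¹)), mul_mem hκ' hkK, w, hw, k, hk, hkt, hαk, ?_⟩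
  rw [← e', e1]
  group

/-- **The powers.** -/
theorem pow_mem_KT (hne : ∀ Ψ : Set (I → ℤ), Ψ.Nonempty → Ψ ⊆ SP cs h χ t → (∀ a ∈ Ψ, θ a ∈ Ψ) →
      (∀ a ∈ Ψ, ∀ b ∈ Ψ, ∀ z, IsRoot cs h z → (∃ i j : ℕ, 0 < i ∧ 0 < j ∧ z = i • a + j • b) → z ∈ Ψ) →
      ∃ u ∈ RGD.Sup (XL X) Ψ, u ≠ 1 ∧ α u = u)
    {q : ℕ} [Fact q.Prime] [Finite ↥(fixC α t)] (P : Sylow q ↥(fixC α t))
    (hP : (P : Subgroup ↥(fixC α t)) = (PP0 cs h X χ α t).subgroupOf (fixC α t)) {c : Y} (hc : c ∈ fixC α t) :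
    c ^ Nat.card ↥(PP cs h χ t) ∈ KK0 cs h X χ α t ⊔ (TL T ⊓ Cfsg.fixedSubgroup α) := by
  obtain ⟨κ, hκ, w, hw, k, hk, hkt, hαk, rfl⟩ := frattini H C Fα Dt hne P hP hc
  -- modulo `K0`
  have h1 : ∀ m : ℕ, ∃ κ' ∈ KK0 cs h X χ α t, (κ * k) ^ m = κ' * k ^ m := by
    intro m
    induction m with
    | zero => exact ⟨1, one_mem _, by rw [pow_zero, pow_zero, mul_one]⟩
    | succ m ih =>
      obtain ⟨κ', hκ', e⟩ := ih
      refine ⟨κ * (k * κ' * k⁻¹), mul_mem hκ
        (conj_KK0_rp H C Fα Dt.hA Dt.ht Dt.hS Dt.hpos hk hkt hαk hκ'), ?_⟩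
      rw [pow_succ', e, pow_succ']
      group
  obtain ⟨κ', hκ', e⟩ := h1 (Nat.card ↥(PP cs h χ t))
  have h2 : ∀ m : ℕ, Rp cs H.nsys (w ^ m) (k ^ m) := by
    intro m
    induction m with
    | zero => rw [pow_zero, pow_zero]; exact rp_one
    | succ m ih => rw [pow_succ, pow_succ]; exact ih.mul hk
  have h3 : w ^ Nat.card ↥(PP cs h χ t) = 1 := by
    have h4 : (⟨w, hw⟩ : ↥(PP cs h χ t)) ^ Nat.card ↥(PP cs h χ t) = 1 := pow_card_eq_one'
    exact congrArg Subtype.val h4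
  have h5 := h2 (Nat.card ↥(PP cs h χ t))
  rw [h3] at h5
  rw [e]
  refine mul_mem (Subgroup.mem_sup_left hκ') (Subgroup.mem_sup_right ⟨h5.mem_of_one, ?_⟩)
  have h6 : α (k ^ Nat.card ↥(PP cs h χ t)) = k ^ Nat.card ↥(PP cs h χ t) := by rw [map_pow, hαk]
  exact h6

/-- **The elements of order prime to the order of the component group.** -/
theorem mem_of_coprime (hne : ∀ Ψ : Set (I → ℤ), Ψ.Nonempty → Ψ ⊆ SP cs h χ t → (∀ a ∈ Ψ, θ a ∈ Ψ) →
      (∀ a ∈ Ψ, ∀ b ∈ Ψ, ∀ z, IsRoot cs h z → (∃ i j : ℕ, 0 < i ∧ 0 < j ∧ z = i • a + j • b) → z ∈ Ψ) →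
      ∃ u ∈ RGD.Sup (XL X) Ψ, u ≠ 1 ∧ α u = u)
    {q : ℕ} [Fact q.Prime] [Finite ↥(fixC α t)] (P : Sylow q ↥(fixC α t))
    (hP : (P : Subgroup ↥(fixC α t)) = (PP0 cs h X χ α t).subgroupOf (fixC α t)) {c : Y} (hc : c ∈ fixC α t)
    {d : ℕ} (hd : d.Coprime (Nat.card ↥(PP cs h χ t))) (hcd : c ^ d = 1) :
    c ∈ KK0 cs h X χ α t ⊔ (TL T ⊓ Cfsg.fixedSubgroup α) := by
  have h1 := pow_mem_KT H C Fα Dt hne P hP hc
  have h2 : c ∈ Subgroup.zpowers (c ^ Nat.card ↥(PP cs h χ t)) := by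
    have h3 : (orderOf c).Coprime (Nat.card ↥(PP cs h χ t)) := hd.coprime_dvd_left (orderOf_dvd_of_pow_eq_one hcd)
    rw [Subgroup.mem_zpowers_iff]
    obtain ⟨m, hm⟩ := exists_pow_eq_self_of_coprime h3.symm
    exact ⟨m, by rw [zpow_natCast]; exact hm⟩
  exact (Subgroup.zpowers_le.2 h1) h2

/-- **The Bruhat form.** -/
theorem formF (hne : HNe cs h X χ α θ t) : Cfsg.Agent.BpExc.NSol.Form (fixC α t) (Up cs h X χ t) (Un cs h X χ t)
    (NGL H) (NPL H χ t) where
  form g hg := by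
    obtain ⟨h3, h4⟩ := mem_fixC.1 hg
    obtain ⟨w, u, hu, hαu, k, hk, hkt, hαk, v, hv, hαv, hkv, e1⟩ :=
      form_fix H C Fα Dt.hG Dt.hsep Dt.hA Dt.ht Dt.hS Dt.hpos h4 h3
    exact ⟨u, ⟨hu, mem_fixC.2 ⟨hαu, comm_Up C Dt.ht hu⟩⟩, k, ⟨⟨w, hk⟩, mem_fixC.2 ⟨hαk, hkt⟩⟩, v,
      ⟨hv, mem_fixC.2 ⟨hαv, comm_Up C Dt.ht hv⟩⟩, hkv, e1⟩
  inf := by
    rw [eq_bot_iff]
    rintro x ⟨h1, h2⟩
    exact Subgroup.mem_bot.2 (eq_one_of_pos_neg H (Up_le h1) (Un_le h2))
  move := by
    rintro k ⟨⟨w, hk⟩, hkC⟩ hn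
    obtain ⟨hαk, hkt⟩ := mem_fixC.1 hkC
    have hw : ¬ ∀ x ∈ PP0 cs h X χ α t, k * x * k⁻¹ ∈ PP0 cs h X χ α t := fun hx =>
      hn ⟨w, mem_PP_of_normalizer H C Fα Dt hne hk hkt hαk hx, hk⟩
    push Not at hw
    obtain ⟨x, hx, hx'⟩ := hw
    obtain ⟨b, hb, c, hc, e, h1, h2⟩ := dec_PP0 H C Fα Dt.hA Dt.ht Dt.hS Dt.hpos hk hkt hαk hx
    refine ⟨c, ⟨hc.1, PP0_le_fixC H C Fα Dt hc⟩, fun hc1 => hx' ?_, h2.1⟩
    rw [e, hc1, mul_one]
    exact h1
  norm := by
    rintro k ⟨⟨w, hw, hk⟩, -⟩ u hu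
    exact norm_Up H hk hw hu.1

/-- **The order of the complement.** -/
theorem coprime_NPL [Fact p.Prime] [Finite ↥(fixC α t)] (hPP : (Nat.card ↥(PP cs h χ t)).Coprime p) :
    (Nat.card ↥(NPL H χ t ⊓ fixC α t)).Coprime p := by
  have hpp : p.Prime := Fact.out
  have hfin : Finite ↥(NPL H χ t ⊓ fixC α t) :=
    Finite.of_injective (Subgroup.inclusion inf_le_right) (Subgroup.inclusion_injective _)
  rw [Nat.coprime_comm, Nat.Prime.coprime_iff_not_dvd hpp]
  intro hdvd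
  obtain ⟨x, hx⟩ := exists_prime_orderOf_dvd_card' p hdvd
  obtain ⟨⟨w, hw, hk⟩, hxC⟩ := x.2
  have hxp : (x : Y) ^ p = 1 := by
    have h1 := pow_orderOf_eq_one x
    rw [hx] at h1
    exact congrArg Subtype.val h1
  have h2 : ∀ m : ℕ, Rp cs H.nsys (w ^ m) ((x : Y) ^ m) := by
    intro m
    induction m with
    | zero => rw [pow_zero, pow_zero]; exact rp_one
    | succ m ih => rw [pow_succ, pow_succ]; exact ih.mul hk
  have h3 : w ^ p = 1 := by
    have h4 := h2 p
    rw [hxp] at h4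
    exact rpL_unique H h4 rp_one
  have h5 : w = 1 := by
    have h6 : (⟨w, hw⟩ : ↥(PP cs h χ t)) ^ p = 1 := Subtype.ext h3
    have h7 := orderOf_dvd_of_pow_eq_one h6
    have h8 := orderOf_dvd_natCard (⟨w, hw⟩ : ↥(PP cs h χ t))
    have h9 := Nat.eq_one_of_dvd_coprimes hPP h8 h7
    rw [orderOf_eq_one_iff] at h9
    exact congrArg Subtype.val h9
  rw [h5] at hk
  obtain ⟨j, hj⟩ := H.mem_TL.1 hk.mem_of_one
  have h6 : orderOf (x : Y) ∣ Nat.card ↥(T j) := by
    have := orderOf_dvd_natCard (⟨(x : Y), hj⟩ : ↥(T j))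
    rwa [Subgroup.orderOf_mk] at this
  have h7 : orderOf (x : Y) = 1 :=
    Nat.eq_one_of_dvd_coprimes (H.rgd j).tcop h6 (orderOf_dvd_of_pow_eq_one hxp)
  have h8 : orderOf x = 1 := by rw [← h7]; exact (Subgroup.orderOf_coe x).symm
  rw [hx] at h8
  exact hpp.one_lt.ne' h8

/-- **`P` is a Sylow subgroup.** -/
theorem exists_sylow_P [Fact p.Prime] [Finite ↥(fixC α t)] (hne : HNe cs h X χ α θ t)
    (hPP : (Nat.card ↥(PP cs h χ t)).Coprime p) :
    ∃ P : Sylow p ↥(fixC α t), (P : Subgroup ↥(fixC α t)) = (PP0 cs h X χ α t).subgroupOf (fixC α t) := by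
  obtain ⟨P, hP⟩ := (formF H C Fα Dt hne).exists_sylow ((isPGroup_Up H (χ := χ) (t := t)).comap_subtype)
    (coprime_NPL H C Fα Dt hPP)
  refine ⟨P, ?_⟩
  rw [hP]
  ext x
  rw [Subgroup.mem_subgroupOf, Subgroup.mem_subgroupOf]
  exact ⟨fun hx => ⟨hx, (mem_fixC.1 x.2).1⟩, fun hx => hx.1⟩

end

section

open CoxeterSystem Cfsg Cfsg.Lie Cfsg.Lie.ChevalleyDatum
open Cfsg.Agent.ChevalleyStructure Cfsg.Agent.ChevalleyStructure.Elts Cfsg.Agent.ChevalleyStructure.CoxeterGeom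
  Cfsg.Agent.ChevalleyStructure.CoxeterGeomTypes Cfsg.Agent.ChevalleyStructure.NPerm
open Cfsg.Agent.Tits.Roots Cfsg.Agent.Tits.Core Cfsg.Agent.Nodes Cfsg.Agent.Nodes.Reps Cfsg.Agent.Nodes.BNOf
  Cfsg.Agent.Nodes.RGDChev Cfsg.Agent.Nodes.Bruhat Cfsg.Agent.Nodes.NormalForm Cfsg.Agent.Nodes.OppDec
open Cfsg.Agent.KFacts.RgdField Cfsg.Agent.KFacts.RgdChevCoord
open Cfsg.Agent.BpExc Cfsg.Agent.BpExc.TorCent Cfsg.Agent.BpExc.TorChev Cfsg.Agent.BpExc.Tow
  Cfsg.Agent.BpExc.TowChev Cfsg.Agent.BpExc.Fr Cfsg.Agent.BpExc.Pair Cfsg.Agent.BpExc.LangFr Cfsg.Agent.GpExc.Field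
  Cfsg.Agent.BpExc.NChev
open Cfsg.Agent.H28.RG Cfsg.Agent.H169.RG Cfsg.Agent.H469.Exc Cfsg.Agent.H316.U6

universe u v

section

variable {D : ChevalleyDatum} {l : ℕ} {M : CoxeterMatrix (Fin l)} {hp : IsType D l M} {k : Type u} [Field k]
  {W : Type v} [Group W] {cs : CoxeterSystem M W} {r : ℕ} [Fact r.Prime] [CharP k r]

/-- The data. -/
structure DFr (hp : IsType D l M) (cs : CoxeterSystem M W) (r e : ℕ) [Fact r.Prime] [CharP k r]
    (τ : MulAut ↥(D.group k)) (g : (Fin l → ℤ) ≃+ (Fin l → ℤ)) (t : ↥(D.group k)) : Prop where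
  he : 0 < e
  frob : IsFrob r e τ
  fr : Fr cs hp.isCartan (TT D k) (XX D l k) τ g
  mem : t ∈ TT D k
  stab : ∀ a, g a ∈ Sx cs hp.isCartan (ch hp) t ↔ a ∈ Sx cs hp.isCartan (ch hp) t
  pos : ∀ a ∈ Sx cs hp.isCartan (ch hp) t, 0 ≤ a → 0 ≤ g a

variable {e : ℕ} {τ : MulAut ↥(D.group k)} {g : (Fin l → ℤ) ≃+ (Fin l → ℤ)} {t : ↥(D.group k)}

theorem DFr.frTL (d : DFr hp cs r e τ g t) (hk : LocFin k) :
    Fr cs hp.isCartan (TL (Tj hp (k := k))) (XL (Xj hp (k := k))) τ g := by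
  rw [TL_eq hp hk, XL_eq hp hk]
  exact d.fr

theorem DFr.cdat [IsAlgClosed k] (d : DFr hp cs r e τ g t) (hk : LocFin k) :
    CDat cs hp.isCartan (Tj hp (k := k)) (Xj hp (k := k)) (ch hp) τ g t where
  hG := GG_eq_top (k := k) hp cs hk
  hsep := by
    rw [TL_eq hp hk, XL_eq hp hk]
    exact fun a ha => sep hp cs hk r ha
  hA := by
    rw [TL_eq hp hk]
    exact chAddL (k := k) hp cs hk r
  ht := by rw [TL_eq hp hk]; exact d.mem
  hS := d.stab
  hpos := d.pos

theorem DFr.hne [IsAlgClosed k] (d : DFr hp cs r e τ g t) (hk : LocFin k) :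
    HNe cs hp.isCartan (Xj hp (k := k)) (ch hp) τ g t := by
  intro Ψ hne hP hg hcl
  rw [XL_eq hp hk]
  exact exists_fixed_ne (hp := hp) hk d.he d.frob d.fr hne (fun a ha => ⟨(hP ha).1.1, (hP ha).2⟩) hcl hg

/-- the order of `t` is prime to `r` -/
theorem DFr.ord (d : DFr hp cs r e τ g t) (hk : LocFin k) : (orderOf t).Coprime r := by
  have H := tow (k := k) hp cs hk r
  have h1 : t ∈ TL (Tj hp (k := k)) := by rw [TL_eq hp hk]; exact d.mem
  obtain ⟨j, hj⟩ := H.mem_TL.1 h1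
  have h2 : orderOf t ∣ Nat.card ↥(Tj hp j) := by
    have := orderOf_dvd_natCard (⟨t, hj⟩ : ↥(Tj hp j))
    rwa [Subgroup.orderOf_mk] at this
  exact (H.rgd j).tcop.coprime_dvd_left h2

/-- the characters of `t` -/
theorem DFr.chi_pow (d : DFr hp cs r e τ g t) (hk : LocFin k) {m : ℕ} (hm : t ^ m = 1) (a : Fin l → ℤ)
    (ha : IsRoot cs hp.isCartan a) : ch hp a t ^ m = 1 := by
  have C := coordsL (k := k) hp cs hk r
  have h0 : ch hp a (1 : ↥(D.group k)) = 1 := by
    have h1 := (C.coord a ha).chi_mul (one_mem (TT D k)) (one_mem _)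
    rw [mul_one] at h1
    exact (mul_eq_left₀ ((C.coord a ha).chi_ne_zero (one_mem _))).1 h1.symm
  have h1 : ∀ m : ℕ, ch hp a (t ^ m) = ch hp a t ^ m := by
    intro m
    induction m with
    | zero => rw [pow_zero, pow_zero, h0]
    | succ m ih => rw [pow_succ, pow_succ, (C.coord a ha).chi_mul (pow_mem d.mem m) d.mem, ih]
  rw [← h1, hm, h0]

/-- the primes dividing the order of the component group divide the order of `t` -/
theorem DFr.prime_dvd [Finite W] (d : DFr hp cs r e τ g t) (hk : LocFin k) {q : ℕ} (hq : q.Prime)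
    (hqd : q ∣ Nat.card ↥(PP cs hp.isCartan (ch hp) t)) : q ∣ orderOf t := by
  exact prime_dvd_PP (chAddL (k := k) hp cs hk r) d.mem
    (d.chi_pow hk (pow_orderOf_eq_one t)) hq hqd

theorem DFr.coprime_PP [Finite W] (d : DFr hp cs r e τ g t) (hk : LocFin k) {m : ℕ} (hm : m.Coprime (orderOf t)) :
    m.Coprime (Nat.card ↥(PP cs hp.isCartan (ch hp) t)) := by
  rw [Nat.coprime_iff_gcd_eq_one]
  by_contra hcon
  obtain ⟨q, hq, hqd⟩ := Nat.exists_prime_and_dvd hcon
  have h1 := d.prime_dvd hk hq (hqd.trans (Nat.gcd_dvd_right _ _))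
  have h2 := Nat.dvd_gcd (hqd.trans (Nat.gcd_dvd_left _ _)) h1
  rw [hm] at h2
  exact hq.one_lt.ne' (Nat.dvd_one.1 h2)

/-- **F2: `PK` is a Sylow subgroup.** -/
theorem DFr.sylP [IsAlgClosed k] (d : DFr hp cs r e τ g t) (hk : LocFin k) [Finite ↥(fixC τ t)] :
    ∃ P : Sylow r ↥(fixC τ t), (P : Subgroup ↥(fixC τ t)) = (PK hp cs τ t).subgroupOf (fixC τ t) := by
  have := finite_W hp cs
  rw [← PP0_eq hk]
  exact exists_sylow_P (tow (k := k) hp cs hk r) (coordsTL hk r) (d.frTL hk) (d.cdat hk) (d.hne hk)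
    (d.coprime_PP hk (d.ord hk).symm).symm

theorem DFr.PK_le [IsAlgClosed k] (d : DFr hp cs r e τ g t) (hk : LocFin k) : PK hp cs τ t ≤ fixC τ t := by
  have := finite_W hp cs
  rw [← PP0_eq hk]
  exact PP0_le_fixC (tow (k := k) hp cs hk r) (coordsTL hk r) (d.frTL hk) (d.cdat hk)

theorem DFr.QK_le [IsAlgClosed k] (d : DFr hp cs r e τ g t) (hk : LocFin k) : QK hp cs τ t ≤ fixC τ t := by
  have := finite_W hp cs
  rw [← QQ0_eq hk]
  exact QQ0_le_fixC (tow (k := k) hp cs hk r) (coordsTL hk r) (d.frTL hk) (d.cdat hk)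

theorem DFr.TK_le (d : DFr hp cs r e τ g t) : TK τ ≤ fixC τ t := fun _ hx =>
  mem_fixC.2 ⟨hx.2, TT_comm hp _ hx.1 t d.mem⟩

theorem DFr.PK_inf_QK (_d : DFr hp cs r e τ g t) (hk : LocFin k) : PK hp cs τ t ⊓ QK hp cs τ t = ⊥ := by
  have := finite_W hp cs
  rw [← PP0_eq hk, ← QQ0_eq hk, eq_bot_iff]
  rintro x ⟨h1, h2⟩
  exact Subgroup.mem_bot.2 (eq_one_of_pos_neg (tow (k := k) hp cs hk r) (Up_le h1.1) (Un_le h2.1))

/-- **F3: `⟨PK, QK⟩ ◁ C`.** -/
theorem DFr.KK_normal [IsAlgClosed k] (d : DFr hp cs r e τ g t) (hk : LocFin k) :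
    ((PK hp cs τ t ⊔ QK hp cs τ t).subgroupOf (fixC τ t)).Normal := by
  have := finite_W hp cs
  rw [← KK0_eq hk]
  exact KK0_normal (tow (k := k) hp cs hk r) (coordsTL hk r) (d.frTL hk) (d.cdat hk)

/-- **The Bruhat form of the elements of `C`.** -/
theorem DFr.formC [IsAlgClosed k] (d : DFr hp cs r e τ g t) (hk : LocFin k) {c : ↥(D.group k)}
    (hc : c ∈ fixC τ t) : ∃ w, ∃ u ∈ PK hp cs τ t, ∃ y ∈ fixC τ t, Rp cs (nsysTT hp cs hk r) w y ∧
      ∃ v ∈ PK hp cs τ t, y * v * y⁻¹ ∈ QK hp cs τ t ∧ c = u * y * v := by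
  have := finite_W hp cs
  obtain ⟨h1, h2⟩ := mem_fixC.1 hc
  have Dt : CDat cs hp.isCartan (Tj hp (k := k)) (Xj hp (k := k)) (ch hp) τ g t := d.cdat hk
  obtain ⟨w, u, hu, hαu, y, hy, hyt, hαy, v, hv, hαv, hyv, e1⟩ := form_fix (tow (k := k) hp cs hk r)
    (coordsTL hk r) (d.frTL hk) Dt.hG Dt.hsep Dt.hA Dt.ht Dt.hS Dt.hpos h2 h1
  refine ⟨w, u, by rw [← PP0_eq hk]; exact ⟨hu, hαu⟩, y, mem_fixC.2 ⟨hαy, hyt⟩, (rp_iff hk).1 hy, v,
    by rw [← PP0_eq hk]; exact ⟨hv, hαv⟩, ?_, e1⟩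
  rw [← QQ0_eq hk]
  have h3 : τ (y * v * y⁻¹) = y * v * y⁻¹ := by rw [map_mul, map_mul, map_inv, hαy, hαv]
  exact ⟨hyv, h3⟩

/-- **F3: the elements of `C` modulo `⟨PK, QK⟩`.** -/
theorem DFr.frattiniC [IsAlgClosed k] [Finite W] (d : DFr hp cs r e τ g t) (hk : LocFin k) [Finite ↥(fixC τ t)]
    {c : ↥(D.group k)} (hc : c ∈ fixC τ t) : ∃ κ ∈ PK hp cs τ t ⊔ QK hp cs τ t,
      ∃ w ∈ PP cs hp.isCartan (ch hp) t, ∃ y ∈ fixC τ t, Rp cs (nsysTT hp cs hk r) w y ∧ c = κ * y := by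
  obtain ⟨P, hP⟩ := d.sylP hk
  rw [← PP0_eq hk] at hP
  obtain ⟨κ, hκ, w, hw, y, hy, hyt, hαy, e1⟩ := frattini (tow (k := k) hp cs hk r) (coordsTL hk r) (d.frTL hk)
    (d.cdat hk) (d.hne hk) P hP hc
  rw [KK0_eq hk] at hκ
  exact ⟨κ, hκ, w, hw, y, mem_fixC.2 ⟨hαy, hyt⟩, (rp_iff hk).1 hy, e1⟩

/-- **F3: the elements of order prime to the order of `t`.** -/
theorem DFr.mem_of_coprimeC [IsAlgClosed k] (d : DFr hp cs r e τ g t) (hk : LocFin k) [Finite ↥(fixC τ t)]
    {c : ↥(D.group k)} (hc : c ∈ fixC τ t) {m : ℕ} (hm : m.Coprime (orderOf t)) (hcm : c ^ m = 1) :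
    c ∈ PK hp cs τ t ⊔ QK hp cs τ t ⊔ TK τ := by
  have := finite_W hp cs
  obtain ⟨P, hP⟩ := d.sylP hk
  rw [← PP0_eq hk] at hP
  have h1 := mem_of_coprime (tow (k := k) hp cs hk r) (coordsTL hk r) (d.frTL hk)
    (d.cdat hk) (d.hne hk) P hP hc (d.coprime_PP hk hm) hcm
  rw [KK0_eq hk, TL_eq hp hk] at h1
  exact h1

/-- `TK` normalises `PK` -/
theorem DFr.TK_PK (_d : DFr hp cs r e τ g t) (hk : LocFin k) {s x : ↥(D.group k)} (hs : s ∈ TK τ)
    (hx : x ∈ PK hp cs τ t) : s * x * s⁻¹ ∈ PK hp cs τ t := by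
  have := finite_W hp cs
  have h1 := (tow (k := k) hp cs hk r).T_le_normalizer (S := SP cs hp.isCartan (ch hp) t) (fun x hx => hx.1.1)
    (by rw [TL_eq hp hk]; exact hs.1)
  rw [XL_eq hp hk] at h1
  have h2 : τ (s * x * s⁻¹) = s * x * s⁻¹ := by rw [map_mul, map_mul, map_inv, hs.2, hx.2]
  exact ⟨(Subgroup.mem_normalizer_iff.1 h1 x).1 hx.1, h2⟩

/-- `TK` normalises `QK` -/
theorem DFr.TK_QK (_d : DFr hp cs r e τ g t) (hk : LocFin k) {s x : ↥(D.group k)} (hs : s ∈ TK τ)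
    (hx : x ∈ QK hp cs τ t) : s * x * s⁻¹ ∈ QK hp cs τ t := by
  have := finite_W hp cs
  have h1 := (tow (k := k) hp cs hk r).T_le_normalizer (S := SN cs hp.isCartan (ch hp) t) (fun x hx => hx.1.1)
    (by rw [TL_eq hp hk]; exact hs.1)
  rw [XL_eq hp hk] at h1
  have h2 : τ (s * x * s⁻¹) = s * x * s⁻¹ := by rw [map_mul, map_mul, map_inv, hs.2, hx.2]
  exact ⟨(Subgroup.mem_normalizer_iff.1 h1 x).1 hx.1, h2⟩

/-! ### the negative side -/

/-- the opposite data -/
theorem DFr.opp [IsAlgClosed k] (d : DFr hp cs r e τ g t) (hk : LocFin k) :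
    ∃ (y : ↥(D.group k)) (g' : (Fin l → ℤ) ≃+ (Fin l → ℤ)),
      DFr hp cs r e (MulAut.conj y * τ * (MulAut.conj y)⁻¹) g' (y * t * y⁻¹) ∧
      ∀ x, x ∈ QK hp cs τ t ↔ y * x * y⁻¹ ∈ PK hp cs (MulAut.conj y * τ * (MulAut.conj y)⁻¹) (y * t * y⁻¹) := by
  have := finite_W hp cs
  have H := tow (k := k) hp cs hk r
  have C := coordsTL (hp := hp) (cs := cs) (k := k) hk r
  obtain ⟨w0, hw0⟩ := Cfsg.Agent.Nodes.Sys.exists_longest cs hp.isCartan
  obtain ⟨y, -, hy⟩ := H.exists_rp w0⁻¹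
  have hneg : ∀ x, IsRoot cs hp.isCartan x → x ≤ 0 → 0 ≤ rep cs hp.isCartan w0⁻¹ x := by
    intro x hx h0
    have h1 := hw0 (-x) hx.neg (neg_nonneg.2 h0)
    rwa [map_neg, neg_nonpos] at h1
  have hback : ∀ x, IsRoot cs hp.isCartan x → 0 ≤ x → rep cs hp.isCartan w0 x ≤ 0 := by
    intro x hx h0
    rcases (hx.act w0).pos_or_neg with h1 | h1
    · exfalso
      have h2 := hw0 _ (hx.act w0) h1
      rw [← rep_mul_apply, inv_mul_cancel, map_one, Module.End.one_apply] at h2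
      exact hx.not_pos_neg h0 h2
    · exact h1
  have Fy : Fr cs hp.isCartan (TT D k) (XX D l k) (MulAut.conj y) (repAut cs hp.isCartan w0⁻¹) := by
    have h1 := Fr.conj H hy
    rwa [TL_eq hp hk, XL_eq hp hk] at h1
  have F' := (Fy.mul d.fr).mul Fy.inv
  have hty : y * t * y⁻¹ ∈ TT D k := (Fy.tor t).2 d.mem
  have hSx : ∀ a, IsRoot cs hp.isCartan a → (rep cs hp.isCartan w0⁻¹ a ∈ Sx cs hp.isCartan (ch hp) (y * t * y⁻¹) ↔
      a ∈ Sx cs hp.isCartan (ch hp) t) := by
    intro a ha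
    have h1 := C.chi_rp H.nsys hy ha (t := t) (by rw [TL_eq hp hk]; exact d.mem)
    constructor
    · rintro ⟨-, h2⟩
      exact ⟨ha, by rw [← h1]; exact h2⟩
    · rintro ⟨-, h2⟩
      exact ⟨ha.act _, by rw [h1]; exact h2⟩
  have hrep : ∀ a, rep cs hp.isCartan w0⁻¹ (rep cs hp.isCartan w0 a) = a := fun a => by
    rw [← rep_mul_apply, inv_mul_cancel, map_one, Module.End.one_apply]
  have hrep' : ∀ a, rep cs hp.isCartan w0 (rep cs hp.isCartan w0⁻¹ a) = a := fun a => by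
    rw [← rep_mul_apply, mul_inv_cancel, map_one, Module.End.one_apply]
  have Dt : CDat cs hp.isCartan (Tj hp (k := k)) (Xj hp (k := k)) (ch hp) τ g t := d.cdat hk
  have hτ' : ∀ x, (MulAut.conj y * τ * (MulAut.conj y)⁻¹) (y * x * y⁻¹) = y * τ x * y⁻¹ := by
    intro x
    have e1 : (MulAut.conj y)⁻¹ (y * x * y⁻¹) = x := by
      rw [← MulAut.conj_apply, MulAut.inv_apply_self]
    rw [MulAut.mul_apply, MulAut.mul_apply, e1, MulAut.conj_apply]
  refine ⟨y, _, ⟨d.he, ?_, F', hty, ?_, ?_⟩, ?_⟩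
  · have h1 := ((IsFrob.conj (p := r) y).mul d.frob).mul (IsFrob.conj (p := r) y⁻¹)
    rw [zero_add, add_zero, map_inv] at h1
    exact h1
  · intro a
    have h2 : (repAut cs hp.isCartan w0⁻¹).symm a = rep cs hp.isCartan w0 a := by
      rw [AddEquiv.symm_apply_eq, repAut_apply, hrep]
    have hroot : ∀ b, rep cs hp.isCartan w0⁻¹ b ∈ Sx cs hp.isCartan (ch hp) (y * t * y⁻¹) ↔
        b ∈ Sx cs hp.isCartan (ch hp) t := by
      intro b
      constructor
      · intro h3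
        have h4 : IsRoot cs hp.isCartan b := by
          have h5 := h3.1.act w0
          rwa [hrep'] at h5
        exact (hSx b h4).1 h3
      · exact fun h3 => (hSx b h3.1).2 h3
    show repAut cs hp.isCartan w0⁻¹ (g ((repAut cs hp.isCartan w0⁻¹).symm a)) ∈ _ ↔ _
    rw [h2, repAut_apply, hroot, d.stab, ← hroot, hrep]
  · intro a ha ha0
    have h1 : rep cs hp.isCartan w0 a ∈ Sx cs hp.isCartan (ch hp) t := by
      rw [← hSx _ (ha.1.act w0), hrep]
      exact ha
    have h2 : (repAut cs hp.isCartan w0⁻¹).symm a = rep cs hp.isCartan w0 a := by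
      rw [AddEquiv.symm_apply_eq, repAut_apply, hrep]
    have h3 : g (rep cs hp.isCartan w0 a) ≤ 0 :=
      theta_neg (coordsTL hk r) Dt.ht d.pos Dt.hA h1 (hback a ha.1 ha0)
    show 0 ≤ repAut cs hp.isCartan w0⁻¹ (g ((repAut cs hp.isCartan w0⁻¹).symm a))
    rw [h2, repAut_apply]
    exact hneg _ ((d.fr.root _).2 h1.1) h3
  · intro x
    have hS : y * x * y⁻¹ ∈ RGD.Sup (XX D l k) (SP cs hp.isCartan (ch hp) (y * t * y⁻¹)) ↔
        x ∈ RGD.Sup (XX D l k) (SN cs hp.isCartan (ch hp) t) := by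
      rw [← XL_eq hp hk]
      constructor
      · intro hx
        have h1 := conj_SupL H hy.inv (S := SP cs hp.isCartan (ch hp) (y * t * y⁻¹))
          (S' := SN cs hp.isCartan (ch hp) t) (fun a ha => ha.1.1) (fun a ha => by
            rw [inv_inv]
            refine ⟨?_, hback a ha.1.1 ha.2⟩
            rw [← hSx _ (ha.1.1.act w0), hrep]
            exact ha.1) hx
        have e1 : y⁻¹ * (y * x * y⁻¹) * y⁻¹⁻¹ = x := by group
        rwa [e1] at h1
      · intro hx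
        exact conj_SupL H hy (S := SN cs hp.isCartan (ch hp) t)
          (S' := SP cs hp.isCartan (ch hp) (y * t * y⁻¹)) (fun a ha => ha.1.1) (fun a ha =>
            ⟨(hSx a ha.1.1).2 ha.1, hneg a ha.1.1 ha.2⟩) hx
    constructor
    · rintro ⟨h1, h2⟩
      refine ⟨hS.2 h1, ?_⟩
      have h3 : τ x = x := h2
      show (MulAut.conj y * τ * (MulAut.conj y)⁻¹) (y * x * y⁻¹) = y * x * y⁻¹
      rw [hτ', h3]
    · rintro ⟨h1, h2⟩
      refine ⟨hS.1 h1, ?_⟩
      have h3 : (MulAut.conj y * τ * (MulAut.conj y)⁻¹) (y * x * y⁻¹) = y * x * y⁻¹ := h2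
      rw [hτ'] at h3
      exact mul_left_cancel (mul_right_cancel h3)

/-- **F2: `QK` is a Sylow subgroup.** -/
theorem DFr.sylQ [IsAlgClosed k] (d : DFr hp cs r e τ g t) (hk : LocFin k) [Finite ↥(fixC τ t)] :
    ∃ Q : Sylow r ↥(fixC τ t), (Q : Subgroup ↥(fixC τ t)) = (QK hp cs τ t).subgroupOf (fixC τ t) := by
  obtain ⟨y, g', d', hQ⟩ := d.opp hk
  set τ' := MulAut.conj y * τ * (MulAut.conj y)⁻¹ with hτ'def
  have hτ' : ∀ x, τ' (y * x * y⁻¹) = y * τ x * y⁻¹ := by
    intro x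
    have e1 : (MulAut.conj y)⁻¹ (y * x * y⁻¹) = x := by
      rw [← MulAut.conj_apply, MulAut.inv_apply_self]
    rw [hτ'def, MulAut.mul_apply, MulAut.mul_apply, e1, MulAut.conj_apply]
  have hmem : ∀ x, x ∈ fixC τ t → y * x * y⁻¹ ∈ fixC τ' (y * t * y⁻¹) := by
    intro x hx
    obtain ⟨h1, h2⟩ := mem_fixC.1 hx
    refine mem_fixC.2 ⟨by rw [hτ', h1], ?_⟩
    calc y * x * y⁻¹ * (y * t * y⁻¹) = y * (x * t) * y⁻¹ := by group
      _ = y * (t * x) * y⁻¹ := by rw [h2]
      _ = _ := by group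
  have hmem' : ∀ x, x ∈ fixC τ' (y * t * y⁻¹) → y⁻¹ * x * y ∈ fixC τ t := by
    intro x hx
    obtain ⟨h1, h2⟩ := mem_fixC.1 hx
    refine mem_fixC.2 ⟨?_, ?_⟩
    · have h3 := hτ' (y⁻¹ * x * y)
      have e1 : y * (y⁻¹ * x * y) * y⁻¹ = x := by group
      rw [e1, h1] at h3
      have h4 : τ (y⁻¹ * x * y) = y⁻¹ * (y * τ (y⁻¹ * x * y) * y⁻¹) * y := by group
      rw [h4, ← h3]
    · calc y⁻¹ * x * y * t = y⁻¹ * (x * (y * t * y⁻¹)) * y := by group
        _ = y⁻¹ * (y * t * y⁻¹ * x) * y := by rw [h2]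
        _ = t * (y⁻¹ * x * y) := by group
  let E : ↥(fixC τ t) →* ↥(fixC τ' (y * t * y⁻¹)) := MonoidHom.mk' (fun x => ⟨y * x * y⁻¹, hmem x x.2⟩) (by
    intro a b
    apply Subtype.ext
    show y * ((a : ↥(D.group k)) * b) * y⁻¹ = y * a * y⁻¹ * (y * b * y⁻¹)
    group)
  have hEi : Function.Injective E := by
    intro a b hab
    have h1 : y * (a : ↥(D.group k)) * y⁻¹ = y * b * y⁻¹ := congrArg Subtype.val hab
    exact Subtype.ext (mul_left_cancel (mul_right_cancel h1))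
  have hEs : Function.Surjective E := by
    rintro ⟨x, hx⟩
    refine ⟨⟨y⁻¹ * x * y, hmem' x hx⟩, Subtype.ext ?_⟩
    show y * (y⁻¹ * x * y) * y⁻¹ = x
    group
  have hfin : Finite ↥(fixC τ' (y * t * y⁻¹)) := Finite.of_surjective E hEs
  obtain ⟨P', hP'⟩ := d'.sylP hk
  refine ⟨P'.comapOfInjective E hEi (by rw [MonoidHom.range_eq_top.2 hEs]; exact le_top), ?_⟩
  rw [Sylow.coe_comapOfInjective, hP']
  ext x
  rw [Subgroup.mem_comap, Subgroup.mem_subgroupOf, Subgroup.mem_subgroupOf, hQ]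
  exact Iff.rfl

/-- `|PK| = |QK|` -/
theorem DFr.card_PK_QK [IsAlgClosed k] (d : DFr hp cs r e τ g t) (hk : LocFin k) [Finite ↥(fixC τ t)] :
    Nat.card ↥(QK hp cs τ t) = Nat.card ↥(PK hp cs τ t) := by
  obtain ⟨P, hP⟩ := d.sylP hk
  obtain ⟨Q, hQ⟩ := d.sylQ hk
  have h1 : Nat.card ↥(Q : Subgroup ↥(fixC τ t)) = Nat.card ↥(P : Subgroup ↥(fixC τ t)) := by
    rw [Q.card_eq_multiplicity, P.card_eq_multiplicity]
  rw [hP, hQ] at h1
  rwa [Nat.card_congr (Subgroup.subgroupOfEquivOfLe (d.QK_le hk)).toEquiv,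
    Nat.card_congr (Subgroup.subgroupOfEquivOfLe (d.PK_le hk)).toEquiv] at h1

/-- **F2: `O_r(C) = 1`.** -/
theorem DFr.pCore_eq_bot [IsAlgClosed k] (d : DFr hp cs r e τ g t) (hk : LocFin k) [Finite ↥(fixC τ t)] :
    pCore r ↥(fixC τ t) = ⊥ := by
  obtain ⟨P, hP⟩ := d.sylP hk
  obtain ⟨Q, hQ⟩ := d.sylQ hk
  rw [eq_bot_iff]
  intro x hx
  have h1 := Cfsg.Agent.Lib.Cores.pCore_le_sylow P hx
  have h2 := Cfsg.Agent.Lib.Cores.pCore_le_sylow Q hx
  rw [hP, Subgroup.mem_subgroupOf] at h1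
  rw [hQ, Subgroup.mem_subgroupOf] at h2
  have h3 : (x : ↥(D.group k)) ∈ PK hp cs τ t ⊓ QK hp cs τ t := ⟨h1, h2⟩
  rw [d.PK_inf_QK hk, Subgroup.mem_bot] at h3
  exact Subgroup.mem_bot.2 (Subtype.ext h3)

/-- the representatives in `C` normalise `TK` -/
theorem DFr.conj_TK (_d : DFr hp cs r e τ g t) (hk : LocFin k) {w : W} {y s : ↥(D.group k)}
    (hy : Rp cs (nsysTT hp cs hk r) w y) (hyC : y ∈ fixC τ t) (hs : s ∈ TK τ) : y * s * y⁻¹ ∈ TK τ := by
  have h1 := (Subgroup.mem_normalizer_iff.1 hy.mem_normalizer s).1 hs.1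
  have h2 : τ (y * s * y⁻¹) = y * s * y⁻¹ := by rw [map_mul, map_mul, map_inv, (mem_fixC.1 hyC).1, hs.2]
  exact ⟨h1, h2⟩

/-- `⟨PK, QK, TK⟩ ◁ C` -/
theorem DFr.KT_normal [IsAlgClosed k] (d : DFr hp cs r e τ g t) (hk : LocFin k) :
    ((PK hp cs τ t ⊔ QK hp cs τ t ⊔ TK τ).subgroupOf (fixC τ t)).Normal := by
  set K := PK hp cs τ t ⊔ QK hp cs τ t with hKdef
  have hKC : K ≤ fixC τ t := sup_le (d.PK_le hk) (d.QK_le hk)
  have hKn : ∀ c ∈ fixC τ t, ∀ x ∈ K, c * x * c⁻¹ ∈ K := by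
    intro c hc x hx
    exact (d.KK_normal hk).conj_mem ⟨x, hKC hx⟩ hx ⟨c, hc⟩
  refine ⟨fun x hx c => ?_⟩
  rw [Subgroup.mem_subgroupOf] at hx ⊢
  have key : K ⊔ TK τ ≤ (K ⊔ TK τ).comap (MulAut.conj (c : ↥(D.group k))).toMonoidHom := by
    refine sup_le (fun z hz => ?_) (fun z hz => ?_)
    · have h1 : (c : ↥(D.group k)) * z * (c : ↥(D.group k))⁻¹ ∈ K ⊔ TK τ :=
        Subgroup.mem_sup_left (hKn c c.2 z hz)
      exact h1
    · obtain ⟨w, u, hu, y, hyC, hy, v, hv, -, e1⟩ := d.formC hk c.2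
      have hu' : u ∈ K := Subgroup.mem_sup_left hu
      have hv' : v ∈ K := Subgroup.mem_sup_left hv
      have hzC : z ∈ fixC τ t := d.TK_le hz
      have h2 : (c : ↥(D.group k)) * z * (c : ↥(D.group k))⁻¹ ∈ K ⊔ TK τ := by
        have e2 : (c : ↥(D.group k)) * z * (c : ↥(D.group k))⁻¹ =
            u * (y * (v * (z * v⁻¹ * z⁻¹)) * y⁻¹) * (y * z * y⁻¹) * u⁻¹ := by
          rw [e1]; group
        rw [e2]
        refine mul_mem (mul_mem (mul_mem (Subgroup.mem_sup_left hu') (Subgroup.mem_sup_left ?_))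
          (Subgroup.mem_sup_right (d.conj_TK hk hy hyC hz))) (inv_mem (Subgroup.mem_sup_left hu'))
        exact hKn y hyC _ (mul_mem hv' (hKn z hzC _ (inv_mem hv')))
      exact h2
  exact key hx

theorem DFr.KT_le [IsAlgClosed k] (d : DFr hp cs r e τ g t) (hk : LocFin k) :
    PK hp cs τ t ⊔ QK hp cs τ t ⊔ TK τ ≤ fixC τ t := sup_le (sup_le (d.PK_le hk) (d.QK_le hk)) d.TK_le

/-- **`O_r(K) = 1` for the normal subgroups `K` of `C`** -/
theorem DFr.pCore_of_normal [IsAlgClosed k] (d : DFr hp cs r e τ g t) (hk : LocFin k) [Finite ↥(fixC τ t)]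
    {K : Subgroup ↥(D.group k)} (hK : K ≤ fixC τ t) (hn : (K.subgroupOf (fixC τ t)).Normal) :
    pCore r ↥K = ⊥ := by
  have h1 := Cfsg.Agent.Lib.Cores.map_subtype_pCore r hn
  rw [d.pCore_eq_bot hk, inf_bot_eq] at h1
  have h2 := (Subgroup.map_eq_bot_iff_of_injective _ (Subgroup.subtype_injective _)).1 h1
  rw [← Cfsg.Agent.Lib.Cores.map_equiv_pCore (Subgroup.subgroupOfEquivOfLe hK) r, h2, Subgroup.map_bot]

/-- `O_r(⟨PK, QK, TK⟩) = 1` -/
theorem DFr.pCore_KT [IsAlgClosed k] (d : DFr hp cs r e τ g t) (hk : LocFin k) [Finite ↥(fixC τ t)] :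
    pCore r ↥(PK hp cs τ t ⊔ QK hp cs τ t ⊔ TK τ) = ⊥ :=
  d.pCore_of_normal hk (d.KT_le hk) (d.KT_normal hk)

/-- the same, in the abstract frame -/
theorem DFr.pCore_KK0 [IsAlgClosed k] (d : DFr hp cs r e τ g t) (hk : LocFin k) [Finite ↥(fixC τ t)] :
    pCore r ↥(PP0 cs hp.isCartan (Xj hp (k := k)) (ch hp) τ t ⊔ QQ0 cs hp.isCartan (Xj hp (k := k)) (ch hp) τ t ⊔
      (TL (Tj hp (k := k)) ⊓ fixedSubgroup τ)) = ⊥ := by
  rw [PP0_eq hk, QQ0_eq hk, TL_eq hp hk]
  exact d.pCore_KT hk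

/-- **Trivial component group: `C = ⟨PK, QK, TK⟩`.** -/
theorem DFr.mem_KT_of_PP [IsAlgClosed k] [Finite W] (d : DFr hp cs r e τ g t) (hk : LocFin k) [Finite ↥(fixC τ t)]
    (hPP : ∀ w ∈ PP cs hp.isCartan (ch hp) t, w = 1) {c : ↥(D.group k)} (hc : c ∈ fixC τ t) :
    c ∈ PK hp cs τ t ⊔ QK hp cs τ t ⊔ TK τ := by
  obtain ⟨κ, hκ, w, hw, y, hyC, hy, rfl⟩ := d.frattiniC hk hc
  rw [hPP w hw] at hy
  have h1 : y ∈ TK τ := ⟨hy.mem_of_one, (mem_fixC.1 hyC).1⟩
  exact mul_mem (Subgroup.mem_sup_left hκ) (Subgroup.mem_sup_right h1)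

/-- `C = ⟨PK, QK, TK⟩`, as subgroups -/
theorem DFr.eq_KT_of_PP [IsAlgClosed k] [Finite W] (d : DFr hp cs r e τ g t) (hk : LocFin k) [Finite ↥(fixC τ t)]
    (hPP : ∀ w ∈ PP cs hp.isCartan (ch hp) t, w = 1) : fixC τ t = PK hp cs τ t ⊔ QK hp cs τ t ⊔ TK τ :=
  le_antisymm (fun _ hc => d.mem_KT_of_PP hk hPP hc) (d.KT_le hk)

end

end

end Cfsg.Agent.H441.RG.Wk
end

-- part: H378/RC/Tab7
section
prune_inst 0x343045007422000000000012720029233400000200230000b0e40506078fd922804227205e000c10180090000831806000000040400000002a0084004005012084aac0023300110422008780f803580c00000000000000000000000000041000000000000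
set_option linter.all false
open scoped Cfsg.Agent.FastGrp

-- part: H164/RG/TabGen
section
/-!
# The root system of the centralizer: a generic checker (S3509, helper164)

`D` a simply laced tabulated datum, `c`, `c0` Kac coordinates, `S` the set of the roots `a` with `n ∣ ∑ a i * c i`.

* `NO hp a b` : `a`, `b` are not orthogonal; `num hp S a` : the number of the `b ∈ S` with `a - b` a root;
* `Tab`, `TabOK` : bit masks of the roots; `TabOK` is decidable; `mc l c c0` : the code of the set of the zero coordinates;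
* `card_S` : `Nat.card S = pop (phi T l (2 ^ D.nroots - 1) (mc l c c0))`;
* `conn_S` : if `conn` evaluates to `true`, `{a ∈ S | t ≤ num hp S a}` is nonempty and connected by non-orthogonality.
-/

set_option autoImplicit false
set_option linter.unusedSectionVars false

namespace Cfsg.Agent.H164.RG

open CoxeterSystem Cfsg Cfsg.Lie Cfsg.Lie.ChevalleyDatum
open Cfsg.Agent.ChevalleyStructure Cfsg.Agent.ChevalleyStructure.Elts Cfsg.Agent.ChevalleyStructure.CoxeterGeom
  Cfsg.Agent.ChevalleyStructure.CoxeterGeomTypes Cfsg.Agent.ChevalleyStructure.NPerm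
open Cfsg.Agent.Tits.Roots Cfsg.Agent.Tits.Core Cfsg.Agent.Nodes Cfsg.Agent.Nodes.Reps Cfsg.Agent.Nodes.BNOf
  Cfsg.Agent.Nodes.RGDChev Cfsg.Agent.Nodes.Bruhat
open Cfsg.Agent.H129.TorusChar Cfsg.Agent.H129.WData
open Cfsg.Agent.H92.NE (bl bl_apply bl_comm bl_sr bl_sr_sr FormOK bl_rep bl_add_left bl_sub_left bl_root)
open Cfsg.Agent.H931.KC

/-! ### Bits -/

/-- the number of the bits -/
def pc : ℕ → ℕ → ℕ
  | 0, _ => 0
  | k + 1, x => (x.testBit k).toNat + pc k x

theorem pc_eq (k x : ℕ) : pc k x = ((Finset.range k).filter fun r => x.testBit r = true).card := by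
  induction k with
  | zero => rfl
  | succ k ih =>
    rw [pc, Finset.range_add_one, Finset.filter_insert, ih]
    by_cases h : x.testBit k = true
    · rw [if_pos h, Finset.card_insert_of_notMem (by simp), h, Bool.toNat_true, add_comm]
    · rw [if_neg h]
      rw [Bool.not_eq_true] at h
      rw [h, Bool.toNat_false, zero_add]

theorem pc_add (a b x : ℕ) : pc (a + b) x = pc b (x / 2 ^ a) + pc a x := by
  induction b with
  | zero => rw [Nat.add_zero, pc, Nat.zero_add]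
  | succ b ih => rw [← Nat.add_assoc, pc, ih, pc, Nat.testBit_div_two_pow, Nat.add_assoc, Nat.add_comm b a]

theorem pc_mod (a k x : ℕ) (h : k ≤ a) : pc k (x % 2 ^ a) = pc k x := by
  induction k with
  | zero => rfl
  | succ k ih => rw [pc, pc, ih (by omega), Nat.testBit_mod_two_pow, decide_eq_true (by omega), Bool.true_and]

theorem pc_zero (k : ℕ) : pc k 0 = 0 := by
  induction k with
  | zero => rfl
  | succ k ih => rw [pc, ih, Nat.zero_testBit, Bool.toNat_false]

/-- the number of the bits below `2 ^ h`, by bisection -/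
def pq : ℕ → ℕ → ℕ
  | 0, x => x % 2
  | h + 1, x => if x = 0 then 0 else pq h (x / 2 ^ 2 ^ h) + pq h (x % 2 ^ 2 ^ h)

theorem pq_eq (h x : ℕ) : pq h x = pc (2 ^ h) x := by
  induction h generalizing x with
  | zero =>
    rw [pq]
    show x % 2 = (x.testBit 0).toNat + 0
    rw [Nat.add_zero, Nat.testBit_zero]
    rcases Nat.mod_two_eq_zero_or_one x with h | h <;> simp [h]
  | succ h ih =>
    rw [pq]
    split_ifs with hx
    · rw [hx, pc_zero]
    · rw [ih, ih, pc_mod _ _ _ le_rfl, pow_succ, Nat.mul_two, pc_add]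

/-- the number of the bits below `256` -/
def pop (x : ℕ) : ℕ := pq 8 x

theorem pop_eq (x : ℕ) : pop x = ((Finset.range 256).filter fun r => x.testBit r = true).card := by
  rw [pop, pq_eq, pc_eq]
  rfl

/-- the intersection of the masks with index not in `m` -/
def andAll (full : ℕ) : List ℕ → ℕ → ℕ
  | [], _ => full
  | z :: F, m => if m.testBit 0 then andAll full F (m / 2) else z &&& andAll full F (m / 2)

theorem testBit_andAll (full : ℕ) (F : List ℕ) (m r : ℕ) : (andAll full F m).testBit r = true ↔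
    full.testBit r = true ∧ ∀ i < F.length, m.testBit i = false → (F.getD i 0).testBit r = true := by
  induction F generalizing m with
  | nil => simp [andAll]
  | cons z F ih =>
    have key : (∀ i < (z :: F).length, m.testBit i = false → ((z :: F).getD i 0).testBit r = true) ↔
        (m.testBit 0 = false → z.testBit r = true) ∧
          ∀ i < F.length, (m / 2).testBit i = false → (F.getD i 0).testBit r = true := by
      constructor
      · intro h
        refine ⟨fun h0 => by simpa using h 0 (by simp) h0, fun i hi hm => ?_⟩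
        have := h (i + 1) (by simpa using hi) (by rwa [Nat.testBit_succ])
        simpa using this
      · rintro ⟨h0, h1⟩ i hi hm
        cases i with
        | zero => simpa using h0 hm
        | succ i =>
          have := h1 i (by simpa using hi) (by rwa [Nat.testBit_succ] at hm)
          simpa using this
    rw [key, andAll]
    by_cases hm : m.testBit 0 = true
    · rw [if_pos hm, ih]
      constructor
      · rintro ⟨h1, h2⟩
        exact ⟨h1, ⟨fun h => absurd hm (by rw [h]; decide), h2⟩⟩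
      · rintro ⟨h1, -, h2⟩
        exact ⟨h1, h2⟩
    · rw [if_neg hm, Nat.testBit_and, Bool.and_eq_true, ih]
      rw [Bool.not_eq_true] at hm
      constructor
      · rintro ⟨h0, h1, h2⟩
        exact ⟨h1, fun _ => h0, h2⟩
      · rintro ⟨h1, h0, h2⟩
        exact ⟨h0 hm, h1, h2⟩

/-- the union of the masks with index in `m` -/
def orAll : List ℕ → ℕ → ℕ
  | [], _ => 0
  | z :: F, m => if m.testBit 0 then z ||| orAll F (m / 2) else orAll F (m / 2)

theorem testBit_orAll (F : List ℕ) (m r : ℕ) : (orAll F m).testBit r = true ↔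
    ∃ i < F.length, m.testBit i = true ∧ (F.getD i 0).testBit r = true := by
  induction F generalizing m with
  | nil => simp [orAll]
  | cons z F ih =>
    have key : (∃ i < (z :: F).length, m.testBit i = true ∧ ((z :: F).getD i 0).testBit r = true) ↔
        (m.testBit 0 = true ∧ z.testBit r = true) ∨
          ∃ i < F.length, (m / 2).testBit i = true ∧ (F.getD i 0).testBit r = true := by
      constructor
      · rintro ⟨i, hi, h1, h2⟩
        cases i with
        | zero => left; exact ⟨h1, by simpa using h2⟩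
        | succ i =>
          right
          exact ⟨i, by simpa using hi, by rwa [Nat.testBit_succ] at h1, by simpa using h2⟩
      · rintro (⟨h1, h2⟩ | ⟨i, hi, h1, h2⟩)
        · exact ⟨0, by simp, h1, by simpa using h2⟩
        · exact ⟨i + 1, by simpa using hi, by rwa [Nat.testBit_succ], by simpa using h2⟩
    rw [key, orAll]
    by_cases hm : m.testBit 0 = true
    · rw [if_pos hm, Nat.testBit_or, Bool.or_eq_true, ih]
      constructor
      · rintro (h | h)
        · exact Or.inl ⟨hm, h⟩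
        · exact Or.inr h
      · rintro (h | h)
        · exact Or.inl h.2
        · exact Or.inr h
    · rw [if_neg hm, ih]
      constructor
      · exact Or.inr
      · rintro (h | h)
        · exact absurd h.1 hm
        · exact h

/-- the closure under adjacency -/
def grow (adj : List ℕ) (big : ℕ) : ℕ → ℕ → ℕ
  | 0, x => x
  | k + 1, x => grow adj big k (x ||| (big &&& orAll adj x))

theorem grow_ind (adj : List ℕ) (big : ℕ) (Q : ℕ → Prop)
    (hQ : ∀ i j, i < adj.length → Q i → big.testBit j = true → (adj.getD i 0).testBit j = true → Q j) (k : ℕ) :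
    ∀ x, (∀ j, x.testBit j = true → Q j) → ∀ j, (grow adj big k x).testBit j = true → Q j := by
  induction k with
  | zero => exact fun x h => h
  | succ k ih =>
    intro x hx
    refine ih _ fun j hj => ?_
    rw [Nat.testBit_or, Bool.or_eq_true, Nat.testBit_and, Bool.and_eq_true, testBit_orAll] at hj
    rcases hj with hj | ⟨hj, i, hi, h1, h2⟩
    · exact hx j hj
    · exact hQ i j hi (hx i h1) hj h2

/-- the bits `j < k` with `p j` -/
def bits (p : ℕ → Bool) : ℕ → ℕ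
  | 0 => 0
  | k + 1 => if p k then 2 ^ k ||| bits p k else bits p k

theorem testBit_bits (p : ℕ → Bool) (k j : ℕ) : (bits p k).testBit j = true ↔ j < k ∧ p j = true := by
  induction k with
  | zero => simp [bits]
  | succ k ih =>
    rw [bits]
    by_cases h : p k = true
    · rw [if_pos h, Nat.testBit_or, Bool.or_eq_true, ih, Nat.testBit_two_pow, decide_eq_true_eq]
      constructor
      · rintro (rfl | ⟨h1, h2⟩)
        · exact ⟨Nat.lt_succ_self _, h⟩
        · exact ⟨by omega, h2⟩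
      · rintro ⟨h1, h2⟩
        by_cases e : k = j
        · exact Or.inl e
        · exact Or.inr ⟨by omega, h2⟩
    · rw [if_neg h, ih]
      constructor
      · rintro ⟨h1, h2⟩
        exact ⟨by omega, h2⟩
      · rintro ⟨h1, h2⟩
        refine ⟨?_, h2⟩
        rcases Nat.lt_succ_iff_lt_or_eq.1 h1 with h3 | rfl
        · exact h3
        · exact absurd h2 h

/-! ### Simply laced root systems -/

variable {D : ChevalleyDatum} {l : ℕ} {M : CoxeterMatrix (Fin l)} (hp : IsType D l M) {Bm : Mat l}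

/-- the form of a simply laced datum -/
def SL (D : ChevalleyDatum) (l : ℕ) (Bm : Mat l) : Prop := FormOK D l Bm ∧ ∀ i, Bm i i = 2

instance (D : ChevalleyDatum) (l : ℕ) (Bm : Mat l) : Decidable (SL D l Bm) := by unfold SL; infer_instance

/-- not orthogonal -/
def NO (a b : Fin l → ℤ) : Prop :=
  IsRoot M.toCoxeterSystem hp.isCartan (a - b) ∨ IsRoot M.toCoxeterSystem hp.isCartan (a + b) ∨ a = b ∨ a = -b

theorem NO.symm {a b : Fin l → ℤ} (h : NO hp a b) : NO hp b a := by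
  rcases h with h | h | h | h
  · left
    have := h.neg
    rwa [neg_sub] at this
  · right; left
    rwa [add_comm]
  · exact Or.inr (Or.inr (Or.inl h.symm))
  · right; right; right
    rw [h, neg_neg]

/-- the number of the `b ∈ S` with `a - b` a root -/
noncomputable def num (S : Set (Fin l → ℤ)) (a : Fin l → ℤ) : ℕ :=
  Nat.card {b // b ∈ S ∧ IsRoot M.toCoxeterSystem hp.isCartan (a - b)}

section SL

variable (h : SL D l Bm)
include h

theorem bl_self {a : Fin l → ℤ} (ha : IsRoot M.toCoxeterSystem hp.isCartan a) : bl Bm a a = 2 :=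
  bl_root hp h.1 h.2 ha

/-- the reflection of a root -/
theorem exists_srefl {b : Fin l → ℤ} (hb : IsRoot M.toCoxeterSystem hp.isCartan b) :
    ∃ u : M.Group, ∀ x, rep M.toCoxeterSystem hp.isCartan u x = x - bl Bm b x • b := by
  obtain ⟨u, j, e⟩ := hb
  refine ⟨u * M.toCoxeterSystem.simple j * u⁻¹, fun x => ?_⟩
  rw [rep_mul_apply, rep_mul_apply, rep_simple_eq, map_sub, map_zsmul, rep_apply_inv, ← e]
  congr 2
  have h1 : 2 * bl Bm (rep M.toCoxeterSystem hp.isCartan u⁻¹ x) (sr j) =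
      Bm j j * pairing (cartanOf D l) j (rep M.toCoxeterSystem hp.isCartan u⁻¹ x) := by
    rw [bl_sr]
    unfold pairing
    rw [Finset.mul_sum, Finset.mul_sum]
    refine Finset.sum_congr rfl fun j' _ => ?_
    rw [← mul_assoc, h.1.2 j j', mul_assoc]
  have h2 : bl Bm (rep M.toCoxeterSystem hp.isCartan u⁻¹ x) (sr j) = bl Bm x b := by
    rw [← bl_rep hp h.1 u, rep_apply_inv, ← e]
  rw [h2, h.2 j] at h1
  rw [bl_comm h.1.1 x b]
  omega

theorem isRoot_sub_iff {a b : Fin l → ℤ} (ha : IsRoot M.toCoxeterSystem hp.isCartan a)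
    (hb : IsRoot M.toCoxeterSystem hp.isCartan b) :
    IsRoot M.toCoxeterSystem hp.isCartan (a - b) ↔ bl Bm b a = 1 := by
  have h1 := bl_self hp h ha
  have h2 := bl_self hp h hb
  have h3 : bl Bm a b = bl Bm b a := bl_comm h.1.1 _ _
  constructor
  · intro hab
    have h4 := bl_self hp h hab
    rw [bl_sub_left h.1.1, map_sub, map_sub] at h4
    omega
  · intro e
    obtain ⟨u, hu⟩ := exists_srefl hp h hb
    have h4 := ha.act u
    rwa [hu, e, one_smul] at h4

theorem isRoot_add_iff {a b : Fin l → ℤ} (ha : IsRoot M.toCoxeterSystem hp.isCartan a)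
    (hb : IsRoot M.toCoxeterSystem hp.isCartan b) :
    IsRoot M.toCoxeterSystem hp.isCartan (a + b) ↔ bl Bm b a = -1 := by
  have h1 := isRoot_sub_iff hp h ha hb.neg
  rw [sub_neg_eq_add] at h1
  have e : bl Bm (-b) a = - bl Bm b a := by
    rw [bl_comm h.1.1, map_neg, bl_comm h.1.1]
  rw [h1, e]
  omega

end SL

/-- the roots with `n ∣ ∑ a i * c i` -/
def IsS (n : ℕ) (c : Fin l → ℕ) (S : Set (Fin l → ℤ)) : Prop :=
  ∀ a, a ∈ S ↔ IsRoot M.toCoxeterSystem hp.isCartan a ∧ (n : ℤ) ∣ ∑ i, a i * (c i : ℤ)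

section IsS

variable {n : ℕ} {c : Fin l → ℕ} {S : Set (Fin l → ℤ)} (hS : IsS hp n c S)
include hS

theorem IsS.neg {a : Fin l → ℤ} (ha : a ∈ S) : -a ∈ S := by
  rw [hS] at ha ⊢
  refine ⟨ha.1.neg, ?_⟩
  have e : (∑ i, (-a) i * (c i : ℤ)) = -∑ i, a i * (c i : ℤ) := by
    rw [← psi_apply (fun i => (c i : ℤ)), ← psi_apply (fun i => (c i : ℤ)), map_neg]
  rw [e]
  exact (dvd_neg).2 ha.2

theorem IsS.sub_zsmul {a x : Fin l → ℤ} {k : ℤ} (ha : a ∈ S)
    (hx : IsRoot M.toCoxeterSystem hp.isCartan (x - k • a)) (h0 : IsRoot M.toCoxeterSystem hp.isCartan x) :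
    x - k • a ∈ S ↔ x ∈ S := by
  rw [hS] at ha
  rw [hS, hS]
  have e : (∑ i, (x - k • a) i * (c i : ℤ)) = (∑ i, x i * (c i : ℤ)) - k * ∑ i, a i * (c i : ℤ) := by
    rw [← psi_apply (fun i => (c i : ℤ)), ← psi_apply (fun i => (c i : ℤ)) x, ← psi_apply (fun i => (c i : ℤ)) a,
      map_sub, map_zsmul, smul_eq_mul]
  rw [e]
  have h1 : (n : ℤ) ∣ k * ∑ i, a i * (c i : ℤ) := Dvd.dvd.mul_left ha.2 k
  constructor
  · rintro ⟨-, h2⟩
    have := dvd_add h2 h1
    rw [sub_add_cancel] at this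
    exact ⟨h0, this⟩
  · rintro ⟨-, h2⟩
    exact ⟨hx, dvd_sub h2 h1⟩

theorem IsS.sub {a b : Fin l → ℤ} (ha : a ∈ S) (hb : b ∈ S)
    (hab : IsRoot M.toCoxeterSystem hp.isCartan (a - b)) : a - b ∈ S := by
  have h1 := hS.sub_zsmul hp (k := 1) hb (x := a) (by rwa [one_smul]) ((hS a).1 ha).1
  rw [one_smul] at h1
  exact h1.2 ha

theorem num_neg (a : Fin l → ℤ) : num hp S (-a) = num hp S a := by
  refine Nat.card_congr (Equiv.subtypeEquiv (Equiv.neg (Fin l → ℤ)) fun b => ?_)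
  rw [Equiv.neg_apply]
  constructor
  · rintro ⟨h1, h2⟩
    refine ⟨hS.neg hp h1, ?_⟩
    have := h2.neg
    rwa [neg_sub, sub_neg_eq_add, add_comm, ← sub_neg_eq_add] at this
  · rintro ⟨h1, h2⟩
    refine ⟨by simpa using hS.neg hp h1, ?_⟩
    have := h2.neg
    rwa [sub_neg_eq_add, neg_add] at this

variable (h : SL D l Bm)
include h

theorem num_eq_of_sub {a b : Fin l → ℤ} (ha : a ∈ S) (hb : b ∈ S)
    (hab : IsRoot M.toCoxeterSystem hp.isCartan (a - b)) : num hp S a = num hp S b := by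
  obtain ⟨u, hu⟩ := exists_srefl hp h hab
  have hra := ((hS a).1 ha).1
  have hrb := ((hS b).1 hb).1
  have hc := hS.sub hp ha hb hab
  have e1 : bl Bm (a - b) a = 1 := by
    rw [bl_sub_left h.1.1, bl_self hp h hra, (isRoot_sub_iff hp h hra hrb).1 hab]
    rfl
  have e2 : rep M.toCoxeterSystem hp.isCartan u a = b := by
    rw [hu, e1, one_smul, sub_sub_cancel]
  refine Nat.card_congr (Equiv.subtypeEquiv ⟨rep M.toCoxeterSystem hp.isCartan u,
    rep M.toCoxeterSystem hp.isCartan u⁻¹, fun x => rep_inv_apply _ _ _ _, fun x => rep_apply_inv _ _ _ _⟩ fun x => ?_)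
  show _ ↔ rep M.toCoxeterSystem hp.isCartan u x ∈ S ∧
    IsRoot M.toCoxeterSystem hp.isCartan (b - rep M.toCoxeterSystem hp.isCartan u x)
  have e3 : b - rep M.toCoxeterSystem hp.isCartan u x = rep M.toCoxeterSystem hp.isCartan u (a - x) := by
    rw [map_sub, e2]
  rw [e3]
  have hact : ∀ z, IsRoot M.toCoxeterSystem hp.isCartan (rep M.toCoxeterSystem hp.isCartan u z) ↔
      IsRoot M.toCoxeterSystem hp.isCartan z := by
    intro z
    refine ⟨fun hz => ?_, fun hz => hz.act u⟩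
    have := hz.act u⁻¹
    rwa [rep_inv_apply] at this
  rw [hact]
  refine and_congr_left fun hx => ?_
  by_cases hxr : IsRoot M.toCoxeterSystem hp.isCartan x
  · have h3 : IsRoot M.toCoxeterSystem hp.isCartan (x - bl Bm (a - b) x • (a - b)) := by
      rw [← hu]
      exact hxr.act u
    rw [hu]
    exact (hS.sub_zsmul hp hc h3 hxr).symm
  · constructor
    · intro h4
      exact absurd ((hS x).1 h4).1 hxr
    · intro h4
      exact absurd ((hact x).1 ((hS _).1 h4).1) hxr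

theorem num_eq {a b : Fin l → ℤ} (ha : a ∈ S) (hb : b ∈ S) (hab : NO hp a b) : num hp S a = num hp S b := by
  rcases hab with h1 | h1 | h1 | h1
  · exact num_eq_of_sub hp hS h ha hb h1
  · rw [← num_neg hp hS b]
    exact num_eq_of_sub hp hS h ha (hS.neg hp hb) (by rwa [sub_neg_eq_add])
  · rw [h1]
  · rw [h1, num_neg hp hS]

end IsS

/-! ### The tables -/

/-- bit masks of the roots: `bi` the indices of the extended simple roots, `K` their functionals, `Z`, `P`, `N` the roots with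
coordinate `i` zero, the mark, the negative of the mark, `Df` the roots with `β j - b` a root, `No` the roots not orthogonal to
`β j`, `adj` the extended diagram -/
structure Tab where
  bi : List ℕ
  K : List (List ℤ)
  Z : List ℕ
  P : List ℕ
  N : List ℕ
  Df : List ℕ
  No : List ℕ
  adj : List ℕ

/-- the extended simple roots -/
def be (D : ChevalleyDatum) (l : ℕ) (T : Tab) (j : ℕ) : Fin l → ℤ := vec D l (T.bi.getD j 0)

/-- the value of the functional `j` at the root `r` -/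
def kv (D : ChevalleyDatum) (l : ℕ) (T : Tab) (j r : ℕ) : ℤ := ∑ i : Fin l, vec D l r i * (T.K.getD j []).getD i 0

/-- the checks of the table -/
def TabOK (D : ChevalleyDatum) (l : ℕ) (Bm : Mat l) (T : Tab) : Prop :=
  SL D l Bm ∧ (T.Z.length = l ∧ T.P.length = l ∧ T.N.length = l ∧ T.No.length = l + 1 ∧ T.adj.length = l + 1 ∧ D.nroots ≤ 256) ∧
  (∀ j : Fin (l + 1), T.bi.getD j 0 < D.nroots ∧ ∀ i : Fin l, bl Bm (be D l T j) (sr i) = (T.K.getD j []).getD i 0) ∧
  (∀ i : Fin l, be D l T i = sr i) ∧ be D l T l = -hr D l ∧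
  (∀ j j' : Fin (l + 1), (T.adj.getD j 0).testBit j' = true → kv D l T j (T.bi.getD j' 0) = -1) ∧
  (∀ r : Fin D.nroots, ∀ i : Fin l, (T.Z.getD i 0).testBit r = decide (vec D l r i = 0) ∧
    (T.P.getD i 0).testBit r = decide (vec D l r i = hr D l i) ∧
    (T.N.getD i 0).testBit r = decide (vec D l r i = -hr D l i)) ∧
  ∀ r : Fin D.nroots, ∀ j : Fin (l + 1), (T.Df.getD j 0).testBit r = decide (kv D l T j r = 1) ∧
    ((T.No.getD j 0).testBit r = true → kv D l T j r = 1 ∨ kv D l T j r = -1 ∨ (r : ℕ) = T.bi.getD j 0 ∨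
      vec D l r = -be D l T j)

instance (D : ChevalleyDatum) (l : ℕ) (Bm : Mat l) (T : Tab) : Decidable (TabOK D l Bm T) := by
  unfold TabOK; infer_instance

/-- the mask of the roots of the centralizer, `m` the mask of the zero coordinates -/
def phi (T : Tab) (l full m : ℕ) : ℕ :=
  andAll full T.Z m ||| (if m.testBit l then andAll full T.P m ||| andAll full T.N m else 0)

/-- the base elements with at least `t` -/
def bigs (T : Tab) (l full t m : ℕ) : ℕ :=
  bits (fun j => m.testBit j && decide (t ≤ pop (phi T l full m &&& T.Df.getD j 0))) (l + 1)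

/-- the connectedness check -/
def conn (T : Tab) (l full t m : ℕ) : Bool :=
  decide (bigs T l full t m ≠ 0 ∧ (bigs T l full t m).testBit (Nat.log2 (bigs T l full t m)) = true ∧
    grow T.adj (bigs T l full t m) (l + 1) (2 ^ Nat.log2 (bigs T l full t m)) = bigs T l full t m ∧
    phi T l full m &&& orAll T.No m = phi T l full m)

/-- the code of the zero coordinates -/
def mc (l : ℕ) (c : Fin l → ℕ) (c0 : ℕ) : ℕ :=
  bits (fun j => if h : j < l then decide (c ⟨j, h⟩ = 0) else decide (c0 = 0)) (l + 1)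

/-! ### The set `S` in terms of the masks -/

theorem mc_lt {c : Fin l → ℕ} {c0 : ℕ} (i : Fin l) : (mc l c c0).testBit i = true ↔ c i = 0 := by
  unfold mc
  rw [testBit_bits, dif_pos i.2, decide_eq_true_eq]
  exact ⟨fun h => h.2, fun h => ⟨by have := i.2; omega, h⟩⟩

theorem mc_eq {c : Fin l → ℕ} {c0 : ℕ} : (mc l c c0).testBit l = true ↔ c0 = 0 := by
  unfold mc
  rw [testBit_bits, dif_neg (lt_irrefl _), decide_eq_true_eq]
  exact ⟨fun h => h.2, fun h => ⟨Nat.lt_succ_self _, h⟩⟩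

theorem mc_le {c : Fin l → ℕ} {c0 : ℕ} {j : ℕ} (h : (mc l c c0).testBit j = true) : j < l + 1 := by
  unfold mc at h
  exact ((testBit_bits _ _ _).1 h).1

/-- the code is below `2 ^ (l + 1) - 1` -/
theorem mc_ne {n : ℕ} {c : Fin l → ℕ} {c0 : ℕ} (K : Kac D l n c c0) : mc l c c0 < 2 ^ (l + 1) - 1 := by
  have h1 : mc l c c0 < 2 ^ (l + 1) := by
    refine Nat.lt_pow_two_of_testBit _ fun j hj => ?_
    by_contra h
    rw [Bool.not_eq_false] at h
    exact absurd (mc_le h) (by omega)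
  have h2 : mc l c c0 ≠ 2 ^ (l + 1) - 1 := by
    intro e
    have h3 : ∀ j < l + 1, (mc l c c0).testBit j = true := fun j hj => by
      rw [e, Nat.testBit_two_pow_sub_one, decide_eq_true_eq]
      exact hj
    obtain ⟨i, hi⟩ := K.ne (mc_eq.1 (h3 l (Nat.lt_succ_self l)))
    exact hi ((mc_lt i).1 (h3 i (by have := i.2; omega)))
  omega

section main

variable {n : ℕ} {c : Fin l → ℕ} {c0 : ℕ} (hk : Kac D l n c c0) {T : Tab} (hT : TabOK D l Bm T)
  {S : Set (Fin l → ℤ)} (hS : IsS hp n c S)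

include hp in
theorem hr_nonneg (i : Fin l) : 0 ≤ hr D l i := by
  obtain ⟨Bm, hv, v, C, H⟩ := exists_ok hp
  have h1 := isRoot_hr hp H
  have h2 := le_hr hp H h1 i
  have h3 := le_hr hp H h1.neg i
  rw [Pi.neg_apply] at h3
  omega

include hk in
/-- the divisibility for a root of any sign -/
theorem dvd_iff' {a : Fin l → ℤ} (ha : IsRoot M.toCoxeterSystem hp.isCartan a) :
    (n : ℤ) ∣ ∑ i, a i * (c i : ℤ) ↔ (∀ i, c i ≠ 0 → a i = 0) ∨
      (c0 = 0 ∧ ((∀ i, c i ≠ 0 → a i = hr D l i) ∨ ∀ i, c i ≠ 0 → a i = -hr D l i)) := by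
  have key : ∀ b : Fin l → ℤ, IsRoot M.toCoxeterSystem hp.isCartan b → 0 ≤ b →
      ((n : ℤ) ∣ ∑ i, b i * (c i : ℤ) ↔ (∀ i, c i ≠ 0 → b i = 0) ∨
      (c0 = 0 ∧ ((∀ i, c i ≠ 0 → b i = hr D l i) ∨ ∀ i, c i ≠ 0 → b i = -hr D l i))) := by
    intro b hb h0
    rw [dvd_iff hp hk hb h0]
    constructor
    · rintro (h | ⟨h, h'⟩)
      · exact Or.inl fun i hi => by by_contra h1; exact hi (h i h1)
      · exact Or.inr ⟨h, Or.inl fun i hi => by by_contra h1; exact hi (h' i h1)⟩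
    · rintro (h | ⟨h, h' | h'⟩)
      · exact Or.inl fun i hi => by by_contra h1; exact hi (h i h1)
      · exact Or.inr ⟨h, fun i hi => by by_contra h1; exact hi (h' i h1)⟩
      · refine Or.inr ⟨h, fun i hi => ?_⟩
        by_contra h1
        have h2 := h' i h1
        have h3 : (0 : ℤ) ≤ b i := h0 i
        have h4 := hr_nonneg hp i
        omega
  rcases ha.pos_or_neg with h0 | h0
  · exact key a ha h0
  · have h1 := key (-a) ha.neg (neg_nonneg.2 h0)
    have e : (∑ i, (-a) i * (c i : ℤ)) = -∑ i, a i * (c i : ℤ) := by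
      rw [← psi_apply (fun i => (c i : ℤ)), ← psi_apply (fun i => (c i : ℤ)), map_neg]
    rw [e, dvd_neg] at h1
    rw [h1]
    simp only [Pi.neg_apply, neg_eq_zero, neg_inj]
    refine or_congr Iff.rfl (and_congr Iff.rfl ?_)
    rw [or_comm]
    refine or_congr Iff.rfl (forall_congr' fun i => forall_congr' fun _ => ?_)
    constructor <;> intro h <;> omega

include hk hT hS in
theorem mem_iff {r : ℕ} (hr' : r < D.nroots) : vec D l r ∈ S ↔
    (phi T l (2 ^ D.nroots - 1) (mc l c c0)).testBit r = true := by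
  obtain ⟨-, ⟨hZ, hP, hN, -, -, -⟩, -, -, -, -, h1, -⟩ := hT
  have hroot := isRoot_vec hp M.toCoxeterSystem hr'
  have hfull : (2 ^ D.nroots - 1 : ℕ).testBit r = true := by
    rw [Nat.testBit_two_pow_sub_one, decide_eq_true_eq]
    exact hr'
  have key : ∀ (F : List ℕ) (v : Fin l → ℤ), F.length = l →
      (∀ i : Fin l, (F.getD i 0).testBit r = decide (vec D l r i = v i)) →
      ((andAll (2 ^ D.nroots - 1) F (mc l c c0)).testBit r = true ↔ ∀ i, c i ≠ 0 → vec D l r i = v i) := by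
    intro F v hF hv
    rw [testBit_andAll]
    constructor
    · rintro ⟨-, h⟩ i hi
      have h2 := h i (by rw [hF]; exact i.2) (by
        by_contra h3
        rw [Bool.not_eq_false] at h3
        exact hi ((mc_lt i).1 h3))
      rwa [hv, decide_eq_true_eq] at h2
    · intro h
      refine ⟨hfull, fun i hi hm => ?_⟩
      have hi' : i < l := by rw [← hF]; exact hi
      have h2 := hv ⟨i, hi'⟩
      rw [h2, decide_eq_true_eq]
      refine h ⟨i, hi'⟩ fun h3 => ?_
      have h4 := (mc_lt (c0 := c0) (⟨i, hi'⟩ : Fin l)).2 h3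
      rw [hm] at h4
      exact absurd h4 (by decide)
  have kZ := key T.Z (fun _ => 0) hZ fun i => (h1 ⟨r, hr'⟩ i).1
  have kP := key T.P (fun i => hr D l i) hP fun i => (h1 ⟨r, hr'⟩ i).2.1
  have kN := key T.N (fun i => -hr D l i) hN fun i => (h1 ⟨r, hr'⟩ i).2.2
  rw [hS, dvd_iff' hp hk hroot, and_iff_right hroot]
  unfold phi
  rw [Nat.testBit_or, Bool.or_eq_true, kZ]
  refine or_congr Iff.rfl ?_
  by_cases h0 : c0 = 0
  · rw [if_pos (mc_eq.2 h0), Nat.testBit_or, Bool.or_eq_true, kP, kN, and_iff_right h0]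
  · rw [if_neg (fun h => h0 (mc_eq.1 h))]
    simp [h0]

theorem phi_lt {N m r : ℕ} (h : (phi T l (2 ^ N - 1) m).testBit r = true) : r < N := by
  unfold phi at h
  rw [Nat.testBit_or, Bool.or_eq_true, testBit_andAll] at h
  rcases h with h | h
  · have h3 := h.1
    rwa [Nat.testBit_two_pow_sub_one, decide_eq_true_eq] at h3
  · split_ifs at h with h0
    · rw [Nat.testBit_or, Bool.or_eq_true, testBit_andAll, testBit_andAll] at h
      rcases h with h | h <;>
      · have h3 := h.1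
        rwa [Nat.testBit_two_pow_sub_one, decide_eq_true_eq] at h3
    · simp at h

include hk hT hS in
/-- counting -/
theorem card_eq (Q : (Fin l → ℤ) → Prop) (y : ℕ) (hy : ∀ r < D.nroots, Q (vec D l r) ↔ y.testBit r = true) :
    Nat.card {a // a ∈ S ∧ Q a} = pop (phi T l (2 ^ D.nroots - 1) (mc l c c0) &&& y) := by
  classical
  set F := (Finset.range 256).filter
    fun r => (phi T l (2 ^ D.nroots - 1) (mc l c c0) &&& y).testBit r = true with hF
  have hmem : ∀ r, r ∈ F ↔ r < D.nroots ∧ vec D l r ∈ S ∧ Q (vec D l r) := by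
    intro r
    rw [hF, Finset.mem_filter, Finset.mem_range, Nat.testBit_and, Bool.and_eq_true]
    constructor
    · rintro ⟨-, h1, h2⟩
      have hr := phi_lt h1
      exact ⟨hr, (mem_iff hp hk hT hS hr).2 h1, (hy r hr).2 h2⟩
    · rintro ⟨hr, h1, h2⟩
      exact ⟨lt_of_lt_of_le hr hT.2.1.2.2.2.2.2, (mem_iff hp hk hT hS hr).1 h1, (hy r hr).1 h2⟩
  have hb : Function.Bijective (fun r : ↥F => (⟨vec D l r, ((hmem r).1 r.2).2⟩ : {a // a ∈ S ∧ Q a})) := by
    constructor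
    · intro r s hrs
      exact Subtype.ext (vec_inj hp ((hmem r).1 r.2).1 ((hmem s).1 s.2).1 (congrArg Subtype.val hrs))
    · rintro ⟨a, ha, hQ⟩
      obtain ⟨r, hr, rfl⟩ := (isRoot_iff hp M.toCoxeterSystem a).1 ((hS a).1 ha).1
      exact ⟨⟨r, (hmem r).2 ⟨hr, ha, hQ⟩⟩, rfl⟩
  rw [pop_eq, ← hF, ← Nat.card_congr (Equiv.ofBijective _ hb), Nat.card_eq_fintype_card, Fintype.card_coe]

include hk hT hS in
/-- **The number of the roots.** -/
theorem card_S : Nat.card S = pop (phi T l (2 ^ D.nroots - 1) (mc l c c0)) := by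
  have h1 := card_eq hp hk hT hS (fun _ => True) (2 ^ D.nroots - 1) fun r hr => by
    rw [Nat.testBit_two_pow_sub_one, decide_eq_true_eq, true_iff]
    exact hr
  have h2 : phi T l (2 ^ D.nroots - 1) (mc l c c0) &&& (2 ^ D.nroots - 1) =
      phi T l (2 ^ D.nroots - 1) (mc l c c0) := by
    refine Nat.eq_of_testBit_eq fun r => ?_
    rw [Nat.testBit_and, Nat.testBit_two_pow_sub_one]
    by_cases hr : r < D.nroots
    · rw [decide_eq_true hr, Bool.and_true]
    · rw [decide_eq_false hr, Bool.and_false]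
      exact (Bool.eq_false_iff.2 fun h => hr (phi_lt h)).symm
  rw [h2] at h1
  rw [← h1]
  exact Nat.card_congr (Equiv.subtypeEquivRight fun a => by rw [and_true])

include hT in
theorem be_none : be D l T l = -hr D l := hT.2.2.2.2.1

include hT in
theorem be_some (i : Fin l) : be D l T i = sr i := hT.2.2.2.1 i

include hp hT in
theorem isRoot_be {j : ℕ} (hj : j < l + 1) : IsRoot M.toCoxeterSystem hp.isCartan (be D l T j) :=
  isRoot_vec hp M.toCoxeterSystem (hT.2.2.1 ⟨j, hj⟩).1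

include hT in
theorem bl_be {j : ℕ} (hj : j < l + 1) (r : ℕ) : bl Bm (be D l T j) (vec D l r) = kv D l T j r := by
  have h1 := eq_psi (bl Bm (be D l T j)) (vec D l r)
  rw [h1]
  unfold kv
  exact Finset.sum_congr rfl fun i _ => by rw [(hT.2.2.1 ⟨j, hj⟩).2 i]

include hk hT hS in
/-- the base elements in `S` -/
theorem be_mem {j : ℕ} (hj : (mc l c c0).testBit j = true) : be D l T j ∈ S := by
  have hj' := mc_le hj
  rw [hS]
  refine ⟨isRoot_be hp hT hj', ?_⟩
  rcases Nat.lt_succ_iff_lt_or_eq.1 hj' with h1 | h1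
  · rw [← psi_apply (fun i => (c i : ℤ)), show j = ((⟨j, h1⟩ : Fin l) : ℕ) from rfl, be_some hT, psi_sr]
    have h2 := (mc_lt (c0 := c0) (⟨j, h1⟩ : Fin l)).1 hj
    rw [h2]
    exact dvd_zero _
  · subst h1
    have h2 := mc_eq.1 hj
    have h3 := hk.sum
    rw [← psi_apply (fun i => (c i : ℤ)), be_none hT, map_neg, dvd_neg, psi_apply]
    rw [h2, Nat.cast_zero, zero_add] at h3
    rw [h3]

include hk hT hS in
theorem num_be {j : ℕ} (hj : j < l + 1) : num hp S (be D l T j) =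
    pop (phi T l (2 ^ D.nroots - 1) (mc l c c0) &&& T.Df.getD j 0) := by
  refine card_eq hp hk hT hS (fun b => IsRoot M.toCoxeterSystem hp.isCartan (be D l T j - b)) _ fun r hr => ?_
  rw [isRoot_sub_iff hp hT.1 (isRoot_be hp hT hj) (isRoot_vec hp M.toCoxeterSystem hr),
    bl_comm hT.1.1.1, bl_be hT hj, (hT.2.2.2.2.2.2.2 ⟨r, hr⟩ ⟨j, hj⟩).1, decide_eq_true_eq]

include hk hT hS in
theorem mem_bigs {t j : ℕ} (hj : (bigs T l (2 ^ D.nroots - 1) t (mc l c c0)).testBit j = true) :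
    j < l + 1 ∧ be D l T j ∈ S ∧ t ≤ num hp S (be D l T j) := by
  unfold bigs at hj
  rw [testBit_bits, Bool.and_eq_true, decide_eq_true_eq] at hj
  obtain ⟨h1, h2, h3⟩ := hj
  refine ⟨h1, be_mem hp hk hT hS h2, ?_⟩
  rw [num_be hp hk hT hS h1]
  exact h3

include hk hT hS in
theorem bigs_mem {t j : ℕ} (hj : (mc l c c0).testBit j = true) (h : t ≤ num hp S (be D l T j)) :
    (bigs T l (2 ^ D.nroots - 1) t (mc l c c0)).testBit j = true := by
  have hj' := mc_le hj
  unfold bigs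
  rw [testBit_bits, Bool.and_eq_true, decide_eq_true_eq]
  refine ⟨hj', hj, ?_⟩
  rw [← num_be hp hk hT hS hj']
  exact h

include hk hT hS in
/-- every root of `S` is not orthogonal to a base element -/
theorem exists_be (hno : phi T l (2 ^ D.nroots - 1) (mc l c c0) &&& orAll T.No (mc l c c0) =
    phi T l (2 ^ D.nroots - 1) (mc l c c0)) {a : Fin l → ℤ} (ha : a ∈ S) :
    ∃ j, (mc l c c0).testBit j = true ∧ NO hp a (be D l T j) := by
  have hra := ((hS a).1 ha).1
  obtain ⟨r, hr, rfl⟩ := (isRoot_iff hp M.toCoxeterSystem a).1 hra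
  rw [mem_iff hp hk hT hS hr, ← hno, Nat.testBit_and, Bool.and_eq_true, testBit_orAll] at ha
  obtain ⟨-, j, hj, h1, h2⟩ := ha
  rw [hT.2.1.2.2.2.1] at hj
  refine ⟨j, h1, ?_⟩
  have hrb := isRoot_be hp hT hj
  rcases (hT.2.2.2.2.2.2.2 ⟨r, hr⟩ ⟨j, hj⟩).2 h2 with h3 | h3 | h3 | h3
  · rw [← bl_be hT hj] at h3
    exact Or.inl ((isRoot_sub_iff hp hT.1 hra hrb).2 h3)
  · rw [← bl_be hT hj] at h3
    exact Or.inr (Or.inl ((isRoot_add_iff hp hT.1 hra hrb).2 h3))
  · refine Or.inr (Or.inr (Or.inl ?_))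
    have h4 : r = T.bi.getD j 0 := h3
    unfold be
    rw [← h4]
  · exact Or.inr (Or.inr (Or.inr h3))

include hk hT hS in
/-- **Connectedness.** -/
theorem conn_S {t : ℕ} (hc : conn T l (2 ^ D.nroots - 1) t (mc l c c0) = true) :
    (∃ a ∈ S, t ≤ num hp S a) ∧ ∀ X : Set (Fin l → ℤ), (∀ a ∈ X, a ∈ S ∧ t ≤ num hp S a) → X.Nonempty →
      (∀ a ∈ X, ∀ b, b ∈ S → t ≤ num hp S b → NO hp a b → b ∈ X) → ∀ b, b ∈ S → t ≤ num hp S b → b ∈ X := by
  unfold conn at hc
  rw [decide_eq_true_eq] at hc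
  set big := bigs T l (2 ^ D.nroots - 1) t (mc l c c0) with hbig
  obtain ⟨hne, hlog, hgrow, hno⟩ := hc
  have hin := mem_bigs hp hk hT hS hlog
  refine ⟨⟨_, hin.2⟩, fun X hX hXne hcl b hb hbt => ?_⟩
  -- the base elements are equivalent
  have key : ∀ j, big.testBit j = true → (be D l T j ∈ X ↔ be D l T (Nat.log2 big) ∈ X) := by
    intro j hj
    have h1 := grow_ind T.adj big (fun j => big.testBit j = true ∧ (be D l T j ∈ X ↔ be D l T (Nat.log2 big) ∈ X)) ?_ (l + 1)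
      (2 ^ Nat.log2 big) ?_ j (by rw [hgrow]; exact hj)
    · exact h1.2
    · rintro i j hi ⟨h2, h3⟩ h4 h5
      refine ⟨h4, ?_⟩
      rw [← h3]
      obtain ⟨hi1, hi2, hi3⟩ := mem_bigs hp hk hT hS h2
      obtain ⟨hj1, hj2, hj3⟩ := mem_bigs hp hk hT hS h4
      have h6 := hT.2.2.2.2.2.1 ⟨i, hi1⟩ ⟨j, hj1⟩ h5
      rw [← bl_be hT hi1] at h6
      have h7 : NO hp (be D l T j) (be D l T i) := Or.inr (Or.inl ((isRoot_add_iff hp hT.1
        (isRoot_be hp hT hj1) (isRoot_be hp hT hi1)).2 h6))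
      exact ⟨fun h => hcl _ h _ hi2 hi3 h7, fun h => hcl _ h _ hj2 hj3 h7.symm⟩
    · intro j hj
      rw [Nat.testBit_two_pow, decide_eq_true_eq] at hj
      subst hj
      exact ⟨hlog, Iff.rfl⟩
  obtain ⟨a, ha⟩ := hXne
  obtain ⟨haS, hat⟩ := hX a ha
  obtain ⟨j, hj, hja⟩ := exists_be hp hk hT hS hno haS
  have h8 := num_eq hp hS hT.1 haS (be_mem hp hk hT hS hj) hja
  have h9 := bigs_mem hp hk hT hS (t := t) hj (by rw [← h8]; exact hat)
  have h10 := hcl a ha _ (be_mem hp hk hT hS hj) (by rw [← h8]; exact hat) hja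
  obtain ⟨i, hi, hib⟩ := exists_be hp hk hT hS hno hb
  have h11 := num_eq hp hS hT.1 hb (be_mem hp hk hT hS hi) hib
  have h12 := bigs_mem hp hk hT hS (t := t) hi (by rw [← h11]; exact hbt)
  have h13 : be D l T i ∈ X := (key i h12).2 ((key j h9).1 h10)
  exact hcl _ h13 b hb hbt hib.symm

end main

end Cfsg.Agent.H164.RG
end

-- part: H164/RG/TabCon
section
/-!
# The tables in the format of `H76/RG/High.lean` (S3509, helper164)

For a simply laced tabulated datum: `cpr_eq`, `sl`, `IsS.rset`; `tab_conn` : `conn_S` in terms of `nb` and `cpr`; `tab_card`.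
-/

set_option autoImplicit false
set_option linter.unusedSectionVars false

namespace Cfsg.Agent.H164.RG

open CoxeterSystem Cfsg Cfsg.Lie Cfsg.Lie.ChevalleyDatum
open Cfsg.Agent.ChevalleyStructure Cfsg.Agent.ChevalleyStructure.Elts Cfsg.Agent.ChevalleyStructure.CoxeterGeom
  Cfsg.Agent.ChevalleyStructure.CoxeterGeomTypes Cfsg.Agent.ChevalleyStructure.NPerm
open Cfsg.Agent.Tits.Roots Cfsg.Agent.Tits.Core Cfsg.Agent.Nodes Cfsg.Agent.Nodes.Reps Cfsg.Agent.Nodes.BNOf
  Cfsg.Agent.Nodes.RGDChev Cfsg.Agent.Nodes.Bruhat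
open Cfsg.Agent.H129.TorusChar Cfsg.Agent.H129.WData
open Cfsg.Agent.H92.NE (bl bl_apply bl_comm bl_sr bl_sr_sr FormOK bl_rep bl_add_left bl_sub_left bl_root)
open Cfsg.Agent.Nodes.Coroot
open Cfsg.Agent.H931.KC Cfsg.Agent.H76.RG

variable {D : ChevalleyDatum} {l : ℕ} {M : CoxeterMatrix (Fin l)} (hp : IsType D l M) {Bm : Mat l}

theorem cpr_eq (h : SL D l Bm) (x : Fin l → ℤ) {b : Fin l → ℤ} (hb : IsRoot M.toCoxeterSystem hp.isCartan b) :
    cpr M.toCoxeterSystem hp.isCartan x b = bl Bm b x := by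
  have hfin : Finite M.Group := finite_W hp M.toCoxeterSystem
  obtain ⟨w, i, rfl⟩ := hb
  rw [cpr_rep_sr]
  have h1 : 2 * bl Bm (rep M.toCoxeterSystem hp.isCartan w⁻¹ x) (sr i) =
      Bm i i * pairing (cartanOf D l) i (rep M.toCoxeterSystem hp.isCartan w⁻¹ x) := by
    rw [bl_sr]
    unfold pairing
    rw [Finset.mul_sum, Finset.mul_sum]
    refine Finset.sum_congr rfl fun j' _ => ?_
    rw [← mul_assoc, h.1.2 i j', mul_assoc]
  have h2 : bl Bm (rep M.toCoxeterSystem hp.isCartan w⁻¹ x) (sr i) =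
      bl Bm x (rep M.toCoxeterSystem hp.isCartan w (sr i)) := by
    rw [← bl_rep hp h.1 w, rep_apply_inv]
  rw [h2, h.2 i] at h1
  rw [bl_comm h.1.1]
  omega

theorem sl (h : SL D l Bm) : Cfsg.Agent.KFacts.RgdSL.SL M.toCoxeterSystem hp.isCartan := by
  intro x y hx hy
  rw [cpr_eq hp h x hy, cpr_eq hp h y hx, bl_comm h.1.1]

section

variable {n : ℕ} {c : Fin l → ℕ} {S : Set (Fin l → ℤ)} (hS : IsS hp n c S)
include hS

/-- `S` is closed, symmetric and stable under its reflections -/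
theorem IsS.rset : RSet M.toCoxeterSystem hp.isCartan S where
  root a ha := ((hS a).1 ha).1
  neg a ha := hS.neg hp ha
  add a ha b hb hab := by
    have := hS.sub hp ha (hS.neg hp hb) (by rwa [sub_neg_eq_add])
    rwa [sub_neg_eq_add] at this
  refl a ha b hb := by
    have hfin : Finite M.Group := finite_W hp M.toCoxeterSystem
    exact (hS.sub_zsmul hp hb (isRoot_refl _ _ ((hS a).1 ha).1 ((hS b).1 hb).1) ((hS a).1 ha).1).2 ha

theorem cpr_ne_of_NO (h : SL D l Bm) {a b : Fin l → ℤ} (ha : a ∈ S) (hb : b ∈ S) (hab : NO hp a b) :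
    cpr M.toCoxeterSystem hp.isCartan b a ≠ 0 := by
  have ra := ((hS a).1 ha).1
  have rb := ((hS b).1 hb).1
  have h0 := bl_self hp h ra
  rw [cpr_eq hp h b ra, bl_comm h.1.1]
  rcases hab with h1 | h1 | h1 | h1
  · rw [(isRoot_sub_iff hp h ra rb).1 h1]; norm_num
  · rw [(isRoot_add_iff hp h ra rb).1 h1]; norm_num
  · rw [← h1, h0]; norm_num
  · have e : b = -a := by rw [h1, neg_neg]
    rw [e, bl_comm h.1.1, map_neg, h0]; norm_num

end

section

variable {n : ℕ} {c : Fin l → ℕ} {c0 : ℕ} (hk : Kac D l n c c0) {T : Tab} (hT : TabOK D l Bm T)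
  {S : Set (Fin l → ℤ)} (hS : IsS hp n c S)
include hk hT hS

/-- **The connectedness**, input of `high_nb`. -/
theorem tab_conn {t : ℕ} (hc : conn T l (2 ^ D.nroots - 1) t (mc l c c0) = true) :
    (∃ a ∈ S, t ≤ nb M.toCoxeterSystem hp.isCartan S a) ∧
    ∀ a ∈ S, ∀ b ∈ S, t ≤ nb M.toCoxeterSystem hp.isCartan S a → t ≤ nb M.toCoxeterSystem hp.isCartan S b →
      Relation.ReflTransGen (fun x y => y ∈ S ∧ cpr M.toCoxeterSystem hp.isCartan y x ≠ 0) a b := by
  obtain ⟨h1, h2⟩ := conn_S hp hk hT hS hc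
  refine ⟨h1, fun a ha b hb hat hbt => ?_⟩
  have h3 := h2 {x | (x ∈ S ∧ t ≤ num hp S x) ∧
    Relation.ReflTransGen (fun x y => y ∈ S ∧ cpr M.toCoxeterSystem hp.isCartan y x ≠ 0) a x}
    (fun x hx => hx.1) ⟨a, ⟨ha, hat⟩, Relation.ReflTransGen.refl⟩
    (fun x hx y hy hyt hxy => ⟨⟨hy, hyt⟩, hx.2.tail ⟨hy, cpr_ne_of_NO hp hS hT.1 hx.1.1 hy hxy⟩⟩) b hb hbt
  exact h3.2

/-- **The number of the roots.** -/
theorem tab_card : S.ncard = pop (phi T l (2 ^ D.nroots - 1) (mc l c c0)) := card_S hp hk hT hS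

end

/-- the check over all codes below `k` -/
def allm (p : ℕ → Bool) : ℕ → Bool
  | 0 => true
  | k + 1 => p k && allm p k

theorem of_allm {p : ℕ → Bool} {k : ℕ} (h : allm p k = true) : ∀ m < k, p m = true := by
  induction k with
  | zero => intro m hm; omega
  | succ k ih =>
    rw [allm, Bool.and_eq_true] at h
    intro m hm
    rcases Nat.lt_succ_iff_lt_or_eq.1 hm with h1 | rfl
    · exact ih h.2 m h1
    · exact h.1

end Cfsg.Agent.H164.RG
end

-- part: H164/RG/TabE7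
section
/-!
# The centralizers in `E7` (S3509, helper164)

`tab_E7` : for Kac coordinates of degree `n` and `S` the set of the roots `a` with `n ∣ ∑ a i * c i`: the set of the `a ∈ S` with at
least `6` neighbours is nonempty and connected, or `S.ncard ≤ 26`. `ok_E7` : the masks, for other checks.
-/

set_option autoImplicit false
set_option maxRecDepth 100000

namespace Cfsg.Agent.H164.RG

open CoxeterSystem Cfsg Cfsg.Lie Cfsg.Lie.ChevalleyDatum
open Cfsg.Agent.ChevalleyStructure Cfsg.Agent.ChevalleyStructure.Elts Cfsg.Agent.ChevalleyStructure.CoxeterGeom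
  Cfsg.Agent.ChevalleyStructure.CoxeterGeomTypes Cfsg.Agent.ChevalleyStructure.NPerm
open Cfsg.Agent.Tits.Roots Cfsg.Agent.Tits.Core Cfsg.Agent.Nodes Cfsg.Agent.Nodes.Reps Cfsg.Agent.Nodes.BNOf
  Cfsg.Agent.Nodes.RGDChev Cfsg.Agent.Nodes.Bruhat
open Cfsg.Agent.H129.TorusChar Cfsg.Agent.H129.WData
open Cfsg.Agent.Nodes.Coroot
open Cfsg.Agent.H931.KC Cfsg.Agent.H76.RG

/-- the form -/
abbrev BE7 : Mat 7 :=
  ![![2, 0, -1, 0, 0, 0, 0], ![0, 2, 0, -1, 0, 0, 0], ![-1, 0, 2, -1, 0, 0, 0], ![0, -1, -1, 2, -1, 0, 0],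
    ![0, 0, 0, -1, 2, -1, 0], ![0, 0, 0, 0, -1, 2, -1], ![0, 0, 0, 0, 0, -1, 2]]

/-- the masks of `chevE7` -/
def TE7 : Tab where
  bi := [93, 78, 73, 69, 66, 64, 63, 0]
  K := [[2, 0, -1, 0, 0, 0, 0], [0, 2, 0, -1, 0, 0, 0], [-1, 0, 2, -1, 0, 0, 0], [0, -1, -1, 2, -1, 0, 0],
    [0, 0, 0, -1, 2, -1, 0], [0, 0, 0, 0, -1, 2, -1], [0, 0, 0, 0, 0, -1, 2], [-1, 0, 0, 0, 0, 0, 0]]
  Z := [9903520314283042190603059200, 623922082031286280739931291648, 9912898934109286798511308800,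
    29710873209193335508351057920, 703160549412225415020130861056, 661228526764052977169968916398080,
    713408079754819489151476797278889024]
  P := [42535295865117307932921825928971026432, 84405977732342157929391748327801880576, 63802943797675961899382738893456539648,
    74436767763955288882613195375699296256, 80085986746041181342454375381890760704, 82931689948023685466757391625920446464,
    84357183650479796370774154234839433216]
  N := [1, 127, 3, 7, 143, 8590068127, 5918020825823730623]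
  Df := [42535944882417584157818042354407309314, 9969219475920508800639259512636704640, 21308537290272010803079642635661344772,
    10924663619488800520312062948558256136, 5665040612189914767833677798476661008, 2847024252714933564296040686448611872,
    1425493702456110897406060169676760128, 8589934590]
  No := [63803592834773900133010060610474213379, 10592295693156501400926763165660743672,
    31943000162366458371037460466960955398, 16277930574135162506425682465513291532, 8493605847483704953599515417072431512,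
    4270536379072400356820354571134540592, 2138240553684166359944148309797303904, 85070591720331095551560609667338993663]
  adj := [132, 8, 9, 22, 40, 80, 32, 1]

theorem ok_E7 : TabOK chevE7 7 BE7 TE7 := by (refine of_decide_eq_true ?_; delta Cfsg.Agent.ChevalleyStructure.CoxeterGeomTypes.cartanOf Cfsg.Agent.H164.RG.SL Cfsg.Agent.H164.RG.TabOK Cfsg.Agent.H164.RG.instDecidableSL Cfsg.Agent.H164.RG.instDecidableTabOK Cfsg.Agent.H92.NE.FormOK Cfsg.Agent.H92.NE.instDecidableFormOK; rewrite [Cfsg.Agent.ChevFast.E7.cartan]; decide +kernel)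

/-- the number of the bits, on evaluated numbers -/
private noncomputable def pf_h86 (h : ℕ) : ℕ → ℕ :=
  @Nat.rec (fun _ => ℕ → ℕ) (fun x => Nat.mod x 2) (fun h ih x => @Nat.rec (fun _ => ℕ) 0
    (fun m _ => Nat.add (ih (Nat.div (Nat.succ m) (Nat.pow 2 (Nat.pow 2 h)))) (ih (Nat.mod (Nat.succ m) (Nat.pow 2 (Nat.pow 2 h))))) x) h

private theorem pf_eq_h86 : _root_.Cfsg.Agent.H164.RG.pq = pf_h86 := by
  funext h
  induction h with
  | zero => rfl
  | succ h ih =>
    funext x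
    cases x with
    | zero => rfl
    | succ m =>
      show _root_.Cfsg.Agent.H164.RG.pq h ((m + 1) / 2 ^ 2 ^ h) + _root_.Cfsg.Agent.H164.RG.pq h ((m + 1) % 2 ^ 2 ^ h) = _
      rw [ih]
      rfl

private noncomputable def po_h86 : {f // _root_.Cfsg.Agent.H164.RG.pop = f} :=
  ⟨_, by delta _root_.Cfsg.Agent.H164.RG.pop; rewrite [pf_eq_h86]; exact rfl⟩

private noncomputable def bg_h86 : {f // _root_.Cfsg.Agent.H164.RG.bigs = f} :=
  ⟨_, by delta _root_.Cfsg.Agent.H164.RG.bigs; rewrite [po_h86.2]; exact rfl⟩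

private noncomputable def cn_h86 : {f // _root_.Cfsg.Agent.H164.RG.conn = f} :=
  ⟨_, by delta _root_.Cfsg.Agent.H164.RG.conn; rewrite [bg_h86.2]; exact rfl⟩

end Cfsg.Agent.H164.RG
end

-- part: H378/RC/Tab7
section
/-!
# The centralisers of the elements of prime order in `E7` (S3509, helper378)

`prime_mask` : the Kac coordinates of prime degree; `tab_prime` : one of the sets `{a ∈ S | t ≤ nb a}`, `t = 2, 4, 6`, is
nonempty and connected, or `S.ncard ≤ 14`.
-/

set_option autoImplicit false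
set_option maxRecDepth 100000

namespace Cfsg.Agent.H378.RC

open CoxeterSystem Cfsg Cfsg.Lie Cfsg.Lie.ChevalleyDatum
open Cfsg.Agent.ChevalleyStructure Cfsg.Agent.ChevalleyStructure.Elts Cfsg.Agent.ChevalleyStructure.CoxeterGeom
  Cfsg.Agent.ChevalleyStructure.CoxeterGeomTypes Cfsg.Agent.ChevalleyStructure.NPerm
open Cfsg.Agent.Tits.Roots Cfsg.Agent.Tits.Core Cfsg.Agent.Nodes Cfsg.Agent.Nodes.Reps Cfsg.Agent.Nodes.BNOf
  Cfsg.Agent.Nodes.RGDChev Cfsg.Agent.Nodes.Bruhat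
open Cfsg.Agent.H129.TorusChar Cfsg.Agent.H129.WData
open Cfsg.Agent.Nodes.Coroot
open Cfsg.Agent.H931.KC Cfsg.Agent.H76.RG Cfsg.Agent.H164.RG

/-- masks which do not occur for a prime degree, first kind -/
def F7a (m : ℕ) : Bool :=
  m.testBit 2 && m.testBit 4 && m.testBit 6 && m.testBit 7 &&
    !(m.testBit 3 && ((m.testBit 0 && m.testBit 1) || (m.testBit 0 && m.testBit 5) || (m.testBit 1 && m.testBit 5)))

/-- masks which do not occur for a prime degree, second kind -/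
def F7b (m : ℕ) : Bool :=
  m.testBit 0 && m.testBit 1 && m.testBit 3 && m.testBit 5 && m.testBit 6 && m.testBit 7 && !m.testBit 2 && !m.testBit 4

theorem hr7 : ∀ i : Fin 7, hr chevE7 7 i = ([2, 2, 3, 4, 3, 2, 1] : List ℤ).getD i 0 := by decide +kernel

theorem kac_sum {n : ℕ} {c : Fin 7 → ℕ} {c0 : ℕ} (hk : Kac chevE7 7 n c c0) :
    n = c0 + (2 * c 0 + 2 * c 1 + 3 * c 2 + 4 * c 3 + 3 * c 4 + 2 * c 5 + c 6) := by
  have h := hk.sum
  simp only [hr7, Fin.sum_univ_seven] at h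
  simp only [List.getD_eq_getElem?_getD, Fin.val_zero, Fin.val_one, Fin.isValue] at h
  norm_num at h
  change (c0 : ℤ) + (2 * c 0 + 2 * c 1 + 3 * c 2 + 4 * c 3 + 3 * c 4 + 2 * c 5 + c 6) = n at h
  omega

variable {n : ℕ} {c : Fin 7 → ℕ} {c0 : ℕ}

theorem tb (i : Fin 7) : (mc 7 c c0).testBit i = decide (c i = 0) := by
  rw [Bool.eq_iff_iff, mc_lt, decide_eq_true_eq]

theorem tb7 : (mc 7 c c0).testBit 7 = decide (c0 = 0) := by
  rw [Bool.eq_iff_iff, mc_eq, decide_eq_true_eq]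

theorem prime_a (hk : Kac chevE7 7 n c c0) (hn : n.Prime) : F7a (mc 7 c c0) = false := by
  have h := kac_sum hk
  rw [Bool.eq_false_iff]
  intro hF
  have e0 := tb (c := c) (c0 := c0) 0
  have e1 := tb (c := c) (c0 := c0) 1
  have e2 := tb (c := c) (c0 := c0) 2
  have e3 := tb (c := c) (c0 := c0) 3
  have e4 := tb (c := c) (c0 := c0) 4
  have e5 := tb (c := c) (c0 := c0) 5
  have e6 := tb (c := c) (c0 := c0) 6
  have e7 := tb7 (c := c) (c0 := c0)
  simp only [F7a, Bool.and_eq_true, Bool.not_eq_true', Bool.and_eq_false_iff, Bool.or_eq_false_iff] at hF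
  simp only [Fin.isValue, Fin.val_zero, Fin.val_one, Fin.coe_ofNat_eq_mod, Nat.reduceMod] at e0 e1 e2 e3 e4 e5 e6 e7
  simp only [e0, e1, e2, e3, e4, e5, e6, e7, decide_eq_true_eq, decide_eq_false_iff_not] at hF
  obtain ⟨⟨⟨⟨h2, h4⟩, h6⟩, h7⟩, h8⟩ := hF
  have hd : n = 2 * (c 0 + c 1 + 2 * c 3 + c 5) := by omega
  have h2n : n = 2 := by
    have h9 : 2 ∣ n := ⟨_, hd⟩
    exact ((Nat.prime_dvd_prime_iff_eq Nat.prime_two hn).1 h9).symm
  omega

theorem prime_b (hk : Kac chevE7 7 n c c0) (hn : n.Prime) : F7b (mc 7 c c0) = false := by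
  have h := kac_sum hk
  rw [Bool.eq_false_iff]
  intro hF
  have e0 := tb (c := c) (c0 := c0) 0
  have e1 := tb (c := c) (c0 := c0) 1
  have e2 := tb (c := c) (c0 := c0) 2
  have e3 := tb (c := c) (c0 := c0) 3
  have e4 := tb (c := c) (c0 := c0) 4
  have e5 := tb (c := c) (c0 := c0) 5
  have e6 := tb (c := c) (c0 := c0) 6
  have e7 := tb7 (c := c) (c0 := c0)
  simp only [F7b, Bool.and_eq_true, Bool.not_eq_true'] at hF
  simp only [Fin.isValue, Fin.val_zero, Fin.val_one, Fin.coe_ofNat_eq_mod, Nat.reduceMod] at e0 e1 e2 e3 e4 e5 e6 e7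
  simp only [e0, e1, e2, e3, e4, e5, e6, e7, decide_eq_true_eq, decide_eq_false_iff_not] at hF
  obtain ⟨⟨⟨⟨⟨⟨⟨h0, h1⟩, h3⟩, h5⟩, h6⟩, h7⟩, h2⟩, h4⟩ := hF
  have hd : n = 3 * (c 2 + c 4) := by omega
  have h2n : n = 3 := by
    have h9 : 3 ∣ n := ⟨_, hd⟩
    exact ((Nat.prime_dvd_prime_iff_eq Nat.prime_three hn).1 h9).symm
  omega

theorem chk_prime : allm (fun m => F7a m || (F7b m || (conn TE7 7 (2 ^ 126 - 1) 2 m || (conn TE7 7 (2 ^ 126 - 1) 4 m ||
    (conn TE7 7 (2 ^ 126 - 1) 6 m || decide (pop (phi TE7 7 (2 ^ 126 - 1) m) ≤ 14)))))) 255 = true := by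
  rewrite [Cfsg.Agent.H164.RG.cn_h86.2, Cfsg.Agent.H164.RG.po_h86.2]
  decide +kernel

/-- **The centralisers of the elements of prime order.** -/
theorem tab_prime {M : CoxeterMatrix (Fin 7)} (hp : IsType chevE7 7 M) (hk : Kac chevE7 7 n c c0) (hn : n.Prime)
    {S : Set (Fin 7 → ℤ)} (hS : IsS hp n c S) :
    (∃ t, 2 ≤ t ∧ (∃ a ∈ S, t ≤ nb M.toCoxeterSystem hp.isCartan S a) ∧
      ∀ a ∈ S, ∀ b ∈ S, t ≤ nb M.toCoxeterSystem hp.isCartan S a → t ≤ nb M.toCoxeterSystem hp.isCartan S b →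
        Relation.ReflTransGen (fun x y => y ∈ S ∧ cpr M.toCoxeterSystem hp.isCartan y x ≠ 0) a b) ∨
      S.ncard ≤ 14 := by
  have h1 := of_allm chk_prime (mc 7 c c0) (mc_ne hk)
  rw [prime_a hk hn, prime_b hk hn, Bool.false_or, Bool.false_or, Bool.or_eq_true, Bool.or_eq_true, Bool.or_eq_true,
    decide_eq_true_eq] at h1
  rcases h1 with h1 | h1 | h1 | h1
  · left
    exact ⟨2, le_rfl, tab_conn hp hk ok_E7 hS h1⟩
  · left
    exact ⟨4, by norm_num, tab_conn hp hk ok_E7 hS h1⟩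
  · left
    exact ⟨6, by norm_num, tab_conn hp hk ok_E7 hS h1⟩
  · right
    rw [tab_card hp hk ok_E7 hS]
    exact h1

end Cfsg.Agent.H378.RC
end

private theorem dce_6b0697c6d18a : _root_.True := by
  try have : _root_.True := by simp only [_root_.Cfsg.Agent.H164.RG.pop.eq_1]
  try have : _root_.True := by simp only [_root_.Cfsg.Agent.H378.RC.F7a.eq_1]
  try have : _root_.True := by simp only [_root_.Cfsg.Agent.H378.RC.F7b.eq_1]
  try have : _root_.True := by simp only [_root_.Cfsg.Agent.H164.RG.andAll.eq_2]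
  try have : _root_.True := by simp only [_root_.Cfsg.Agent.H164.RG.bits.eq_def]
  try have : _root_.True := by simp only [_root_.Cfsg.Agent.H164.RG.pq.eq_def]
  try have : _root_.True := by simp only [_root_.Cfsg.Agent.H164.RG.orAll.eq_def]
  try have : _root_.True := by simp only [_root_.Cfsg.Agent.H164.RG.pq.eq_2]
  try have : _root_.True := by simp only [_root_.Cfsg.Agent.H164.RG.orAll.eq_2]
  try have : _root_.True := by simp only [_root_.Cfsg.Agent.H164.RG.andAll.eq_1]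
  try have : _root_.True := by simp only [_root_.Cfsg.Agent.H164.RG.pc.eq_2]
  try have : _root_.True := by simp only [_root_.Cfsg.Agent.H164.RG.allm.eq_2]
  try have : _root_.True := by simp only [_root_.Cfsg.Agent.H164.RG.pc.eq_def]
  try have : _root_.True := by simp only [_root_.Cfsg.Agent.H164.RG.allm.eq_def]
  try have : _root_.True := by simp only [_root_.Cfsg.Agent.H164.RG.pc.eq_1]
  try have : _root_.True := by simp only [_root_.Cfsg.Agent.H164.RG.allm.eq_1]
  try have : _root_.True := by simp only [_root_.Cfsg.Agent.H164.RG.pq.eq_1]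
  try have : _root_.True := by simp only [_root_.Cfsg.Agent.H164.RG.orAll.eq_1]
  try have : _root_.True := by simp only [_root_.Cfsg.Agent.H164.RG.bits.eq_1]
  try have : _root_.True := by simp only [_root_.Cfsg.Agent.H164.RG.andAll.eq_def]
  try have : _root_.True := by simp only [_root_.Cfsg.Agent.H164.RG.bits.eq_2]
  exact _root_.True.intro
end

-- part: H931/KC/Theta_mg
section
prune_inst 0x34307500702200000018001272001f239400000200288800b0e401060d4f1962a04329214e000912182480800001002811000010420000000a0004000005010000aac2003311ad04300086803000400000000000000000000000000000041000000000000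
set_option linter.all false
open scoped Cfsg.Agent.FastGrp

-- part: H931/KC/Theta
section
/-!
# The action on the base of the centralizer (S3509, helper931)

`exists_kac_theta` : for `t` in the torus with `t ^ n = 1` and an automorphism `θ` of the root lattice preserving `Sx t` and its
positive part there are Kac coordinates as in `exists_kac_pos` and a permutation `π` of `{j | ct c c0 j = 0}` with
`θ (rep w (al j)) = rep w (al (π j))`; `form_pi` : `π` preserves the form if `θ` does.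
-/

set_option autoImplicit false
set_option linter.unusedSectionVars false

namespace Cfsg.Agent.H931.KC

open CoxeterSystem Cfsg Cfsg.Lie Cfsg.Lie.ChevalleyDatum
open Cfsg.Agent.ChevalleyStructure Cfsg.Agent.ChevalleyStructure.Elts Cfsg.Agent.ChevalleyStructure.CoxeterGeom
  Cfsg.Agent.ChevalleyStructure.CoxeterGeomTypes Cfsg.Agent.ChevalleyStructure.NPerm
open Cfsg.Agent.Tits.Roots Cfsg.Agent.Tits.Core Cfsg.Agent.Nodes Cfsg.Agent.Nodes.Reps Cfsg.Agent.Nodes.BNOf
  Cfsg.Agent.Nodes.RGDChev Cfsg.Agent.Nodes.Bruhat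
open Cfsg.Agent.KFacts.RgdField Cfsg.Agent.KFacts.RgdChevCoord Cfsg.Agent.BpExc.TorCent Cfsg.Agent.BpExc.TorChev
open Cfsg.Agent.H129.TorusChar Cfsg.Agent.H129.WData
open Cfsg.Agent.H92.NE (bl FormOK bl_rep)

universe u

variable {D : ChevalleyDatum} {l : ℕ} {M : CoxeterMatrix (Fin l)} (hp : IsType D l M) {k : Type u} [Field k]

/-- a map preserving a finite set of positive roots has an inverse preserving it -/
theorem pos_symm {χ : (Fin l → ℤ) → ↥(D.group k) → k} {t : ↥(D.group k)} {θ : (Fin l → ℤ) ≃+ (Fin l → ℤ)}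
    (stab : ∀ a, θ a ∈ Sx M.toCoxeterSystem hp.isCartan χ t ↔ a ∈ Sx M.toCoxeterSystem hp.isCartan χ t)
    (pos : ∀ a ∈ Sx M.toCoxeterSystem hp.isCartan χ t, 0 ≤ a → 0 ≤ θ a) (a : Fin l → ℤ)
    (ha : a ∈ Sx M.toCoxeterSystem hp.isCartan χ t) (h0 : 0 ≤ a) : 0 ≤ θ.symm a := by
  have hW := finite_W hp M.toCoxeterSystem
  have hfin : Finite {a : Fin l → ℤ // a ∈ Sx M.toCoxeterSystem hp.isCartan χ t ∧ 0 ≤ a} := by
    have h1 : {a : Fin l → ℤ | a ∈ Sx M.toCoxeterSystem hp.isCartan χ t ∧ 0 ≤ a}.Finite := by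
      have h2 : (Set.range fun r : Fin D.nroots => vec D l r).Finite := Set.finite_range _
      refine h2.subset fun a ha => ?_
      obtain ⟨r, hr, e⟩ := (isRoot_iff hp M.toCoxeterSystem a).1 ha.1.1
      exact ⟨⟨r, hr⟩, e⟩
    exact h1
  let F : {a : Fin l → ℤ // a ∈ Sx M.toCoxeterSystem hp.isCartan χ t ∧ 0 ≤ a} →
      {a : Fin l → ℤ // a ∈ Sx M.toCoxeterSystem hp.isCartan χ t ∧ 0 ≤ a} := fun a =>
    ⟨θ a.1, (stab a.1).2 a.2.1, pos a.1 a.2.1 a.2.2⟩
  have hinj : Function.Injective F := fun a b h => Subtype.ext (θ.injective (congrArg Subtype.val h))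
  obtain ⟨b, hb⟩ := (Finite.injective_iff_surjective.1 hinj) ⟨a, ha, h0⟩
  have h1 : θ b.1 = a := congrArg Subtype.val hb
  rw [← h1, θ.symm_apply_apply]
  exact b.2.2

/-- **Kac coordinates and the action of `θ` on the base.** -/
theorem exists_kac_theta {n : ℕ} (hn : 0 < n) {ζ : k} (hζ : IsPrimitiveRoot ζ n) {t : ↥(D.group k)} (ht : t ∈ TT D k)
    (htn : t ^ n = 1) {θ : (Fin l → ℤ) ≃+ (Fin l → ℤ)}
    (stab : ∀ a, θ a ∈ Sx M.toCoxeterSystem hp.isCartan (ch hp) t ↔ a ∈ Sx M.toCoxeterSystem hp.isCartan (ch hp) t)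
    (pos : ∀ a ∈ Sx M.toCoxeterSystem hp.isCartan (ch hp) t, 0 ≤ a → 0 ≤ θ a) :
    ∃ (w : M.Group) (c : Fin l → ℕ) (c0 : ℕ), Kac D l n c c0 ∧
      (∀ x, cX hp t (rep M.toCoxeterSystem hp.isCartan w x) = ζ ^ bb c x) ∧
      (∀ a, rep M.toCoxeterSystem hp.isCartan w a ∈ Sx M.toCoxeterSystem hp.isCartan (ch hp) t ∧
        0 ≤ rep M.toCoxeterSystem hp.isCartan w a ↔ SJ hp n c a) ∧
      ∃ π : Equiv.Perm {j : Option (Fin l) // ct c c0 j = 0}, ∀ j,
        θ (rep M.toCoxeterSystem hp.isCartan w (al D l j.1)) = rep M.toCoxeterSystem hp.isCartan w (al D l (π j).1) := by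
  obtain ⟨w, c, c0, K, h1, h2⟩ := exists_kac_pos hp hn hζ ht htn
  -- the positive system
  have hSx : ∀ a, IsRoot M.toCoxeterSystem hp.isCartan a →
      (rep M.toCoxeterSystem hp.isCartan w a ∈ Sx M.toCoxeterSystem hp.isCartan (ch hp) t ↔ (n : ℤ) ∣ bb c a) := by
    intro a ha
    rw [← hζ.zpow_eq_one_iff_dvd, ← h1, cX_root hp M.toCoxeterSystem ht (ha.act w)]
    exact ⟨fun h => h.2, fun h => ⟨ha.act w, h⟩⟩
  have hroot : ∀ a, IsRoot M.toCoxeterSystem hp.isCartan (rep M.toCoxeterSystem hp.isCartan w a) →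
      IsRoot M.toCoxeterSystem hp.isCartan a := by
    intro a ha
    have := ha.act w⁻¹
    rwa [rep_inv_apply] at this
  have hSJ : ∀ a, rep M.toCoxeterSystem hp.isCartan w a ∈ Sx M.toCoxeterSystem hp.isCartan (ch hp) t ∧
      0 ≤ rep M.toCoxeterSystem hp.isCartan w a ↔ SJ hp n c a := by
    intro a
    constructor
    · rintro ⟨h3, h4⟩
      have h5 := hroot a h3.1
      rcases (dvd_iff_SJ hp K h5).1 ((hSx a h5).1 h3) with h6 | h6
      · exact h6
      · exfalso
        have h7 := h2 _ h6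
        rw [map_neg] at h7
        exact (h5.act w).not_pos_neg h4 (neg_nonneg.1 h7)
    · intro h3
      exact ⟨(hSx a h3.1).2 (SJ_dvd hp K h3), h2 a h3⟩
  refine ⟨w, c, c0, K, h1, hSJ, ?_⟩
  -- the conjugate of `θ`
  set f : (Fin l → ℤ) →+ (Fin l → ℤ) := (rep M.toCoxeterSystem hp.isCartan w⁻¹).toAddMonoidHom.comp
    (θ.toAddMonoidHom.comp (rep M.toCoxeterSystem hp.isCartan w).toAddMonoidHom) with hf
  set f' : (Fin l → ℤ) →+ (Fin l → ℤ) := (rep M.toCoxeterSystem hp.isCartan w⁻¹).toAddMonoidHom.comp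
    (θ.symm.toAddMonoidHom.comp (rep M.toCoxeterSystem hp.isCartan w).toAddMonoidHom) with hf'
  have e1 : ∀ x, rep M.toCoxeterSystem hp.isCartan w (f x) = θ (rep M.toCoxeterSystem hp.isCartan w x) := fun x =>
    rep_apply_inv _ _ _ _
  have e2 : ∀ x, rep M.toCoxeterSystem hp.isCartan w (f' x) = θ.symm (rep M.toCoxeterSystem hp.isCartan w x) := fun x =>
    rep_apply_inv _ _ _ _
  have hinj := rep_injective_apply M.toCoxeterSystem hp.isCartan w
  have hff : ∀ x, f' (f x) = x := fun x => by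
    apply hinj
    rw [e2, e1, θ.symm_apply_apply]
  have hS : ∀ x, SJ hp n c x → SJ hp n c (f x) := fun x hx => by
    obtain ⟨h3, h4⟩ := (hSJ x).2 hx
    refine (hSJ (f x)).1 ?_
    rw [e1]
    exact ⟨(stab _).2 h3, pos _ h3 h4⟩
  have hS' : ∀ x, SJ hp n c x → SJ hp n c (f' x) := fun x hx => by
    obtain ⟨h3, h4⟩ := (hSJ x).2 hx
    refine (hSJ (f' x)).1 ?_
    rw [e2]
    refine ⟨?_, pos_symm hp stab pos _ h3 h4⟩
    rw [← stab, θ.apply_symm_apply]
    exact h3
  obtain ⟨π, hπ⟩ := base_perm hp K hff hS hS'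
  exact ⟨π, fun j => by rw [← hπ, e1]⟩

end Cfsg.Agent.H931.KC
end

-- part: H255/RG/Cyc
section
/-!
# The products over the cycles (helper255, S3509 F5)

`cyc_split` : `cyc q σ` is multiplicative over a decomposition into two stable parts; `cyc_trans` : `cyc q σ = q ^ n - 1` for a
transitive `σ`.
-/

set_option autoImplicit false

namespace Cfsg.Agent.H255.RG

open Finset Equiv Cfsg.Agent.H448.TorB

variable {ι : Type*} [Fintype ι] [DecidableEq ι]

theorem cyc_sum {κ : Type*} [Fintype κ] [DecidableEq κ] {q : ℕ} (hq : 2 ≤ q) (σ : Perm ι) (τ : Perm κ) :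
    cyc q (Equiv.sumCongr σ τ) = cyc q σ * cyc q τ := by
  rw [← natAbs_Dp hq, ← natAbs_Dp hq, ← natAbs_Dp hq, Dp_sum, Int.natAbs_mul]

theorem cyc_reindex {κ : Type*} [Fintype κ] [DecidableEq κ] {q : ℕ} (hq : 2 ≤ q) (e : ι ≃ κ) (σ : Perm ι) :
    cyc q ((e.symm.trans σ).trans e) = cyc q σ := by
  rw [← natAbs_Dp hq, ← natAbs_Dp hq, Dp_reindex]

/-- **a decomposition** -/
theorem cyc_split {q : ℕ} (hq : 2 ≤ q) (σ : Perm ι) (p : ι → Prop) [DecidablePred p] (h : ∀ x, p (σ x) ↔ p x) :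
    cyc q σ = cyc q (σ.subtypePerm h) * cyc q (σ.subtypePerm (p := fun x => ¬ p x) fun x => not_congr (h x)) := by
  rw [← cyc_sum hq, ← cyc_reindex hq (Equiv.sumCompl p)]
  congr 1
  ext x
  by_cases hx : p x
  · simp [Equiv.sumCompl_symm_apply_of_pos hx]
  · simp [Equiv.sumCompl_symm_apply_of_neg hx]

/-- **a transitive permutation** -/
theorem cyc_trans (q : ℕ) (σ : Perm ι) (x : ι) (h : ∀ y, σ.SameCycle x y) : cyc q σ = q ^ Fintype.card ι - 1 := by
  by_cases hx : σ x = x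
  · have hall : ∀ y, y = x := by
      intro y
      obtain ⟨i, hi⟩ := h y
      rw [← hi, Perm.zpow_apply_eq_self_of_apply_eq_self hx]
    have h1 : σ = 1 := Equiv.ext fun y => by rw [hall y, hx, Perm.one_apply]
    have h2 : Fintype.card ι = 1 := Fintype.card_eq_one_iff.2 ⟨x, hall⟩
    rw [h1, cyc_one, h2, pow_one, pow_one]
  · have hc : σ.IsCycle := ⟨x, hx, fun y _ => h y⟩
    have hs : σ.support = univ := by
      ext y
      simp only [mem_univ, iff_true, Perm.mem_support]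
      intro hy
      obtain ⟨i, hi⟩ := (h y).symm
      rw [Perm.zpow_apply_eq_self_of_apply_eq_self hy] at hi
      exact hx (hi ▸ hy)
    rw [cyc, hc.cycleType, hs, card_univ, Nat.sub_self, pow_zero, mul_one]
    simp

end Cfsg.Agent.H255.RG
end

-- part: H255/RG/Mat
section
/-!
# The product inequality for components of rank at most two (helper255, S3509 F5)

`b : ι → V` a base, `m` the matching of the diagram (`m i = i` for a component `A₁`, `m i` the other node for a component `A₂`),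
`σ` a permutation of `ι` commuting with `m`, `θ (b i) = b (σ i)`:

* `PM b m` : the elements `b i` and `b i + b (m i)`;
* `Mt.pi_le` : `bsum (PM b m) θ q * cyc q σ ≤ q ^ (|PM b m| + |ι|)`.
-/

set_option autoImplicit false

namespace Cfsg.Agent.H255.RG

open Finset Equiv Cfsg.Agent.H448.TorB

universe u v

variable {V : Type v} [AddCommGroup V] [DecidableEq V] {ι : Type u} [Fintype ι] [DecidableEq ι]

/-- the roots `b i` and `b i + b (m i)` -/
def PM (b : ι → V) (m : ι → ι) : Finset V :=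
  univ.image b ∪ (univ.filter fun i => m i ≠ i).image fun i => b i + b (m i)

theorem mem_PM {b : ι → V} {m : ι → ι} {v : V} : v ∈ PM b m ↔ (∃ i, b i = v) ∨ ∃ i, m i ≠ i ∧ b i + b (m i) = v := by
  simp [PM]

/-- the data -/
structure Mt (b : ι → V) (m : ι → ι) (σ : Perm ι) (θ : V ≃+ V) : Prop where
  inj : Function.Injective b
  ne : ∀ i j, m i ≠ i → b i + b (m i) ≠ b j
  eq : ∀ i j, m i ≠ i → m j ≠ j → b i + b (m i) = b j + b (m j) → j = i ∨ j = m i
  mm : ∀ i, m (m i) = i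
  th : ∀ i, θ (b i) = b (σ i)
  ms : ∀ i, m (σ i) = σ (m i)

namespace Mt

variable {b : ι → V} {m : ι → ι} {σ : Perm ι} {θ : V ≃+ V}

theorem stab (h : Mt b m σ θ) : ∀ a ∈ PM b m, θ a ∈ PM b m := by
  intro a ha
  rcases mem_PM.1 ha with ⟨i, rfl⟩ | ⟨i, hi, rfl⟩
  · rw [h.th]
    exact mem_PM.2 (Or.inl ⟨_, rfl⟩)
  · rw [map_add, h.th, h.th, ← h.ms]
    refine mem_PM.2 (Or.inr ⟨σ i, ?_, rfl⟩)
    rw [h.ms]
    exact fun h1 => hi (σ.injective h1)

theorem card_le (h : Mt b m σ θ) : Fintype.card ι ≤ (PM b m).card := by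
  rw [← card_univ, ← card_image_of_injective univ h.inj]
  exact card_le_card subset_union_left

/-- a stable part -/
theorem sub (h : Mt b m σ θ) (p : ι → Prop) [DecidablePred p] (hσ : ∀ x, p (σ x) ↔ p x) (hm : ∀ x, p x → p (m x)) :
    Mt (fun x : {x // p x} => b x) (fun x => ⟨m x, hm x x.2⟩) (σ.subtypePerm hσ) θ where
  inj := fun x y hxy => Subtype.ext (h.inj hxy)
  ne := fun i j hi => h.ne i j fun h1 => hi (Subtype.ext h1)
  eq := fun i j hi hj hij => (h.eq i j (fun h1 => hi (Subtype.ext h1)) (fun h1 => hj (Subtype.ext h1)) hij).imp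
    (fun h1 => Subtype.ext h1) (fun h1 => Subtype.ext h1)
  mm := fun i => Subtype.ext (h.mm i)
  th := fun i => h.th i
  ms := fun i => Subtype.ext (h.ms i)

theorem split (p : ι → Prop) [DecidablePred p] (hm : ∀ x, p x → p (m x)) (hm' : ∀ x, ¬ p x → ¬ p (m x)) :
    PM b m = PM (fun x : {x // p x} => b x) (fun x => ⟨m x, hm x x.2⟩) ∪
      PM (fun x : {x // ¬ p x} => b x) (fun x => ⟨m x, hm' x x.2⟩) := by
  ext v
  rw [mem_union, mem_PM, mem_PM, mem_PM]
  constructor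
  · rintro (⟨i, rfl⟩ | ⟨i, hi, rfl⟩)
    · by_cases h1 : p i
      · exact Or.inl (Or.inl ⟨⟨i, h1⟩, rfl⟩)
      · exact Or.inr (Or.inl ⟨⟨i, h1⟩, rfl⟩)
    · by_cases h1 : p i
      · exact Or.inl (Or.inr ⟨⟨i, h1⟩, fun h2 => hi (congrArg Subtype.val h2), rfl⟩)
      · exact Or.inr (Or.inr ⟨⟨i, h1⟩, fun h2 => hi (congrArg Subtype.val h2), rfl⟩)
  · rintro ((⟨i, rfl⟩ | ⟨i, hi, rfl⟩) | (⟨i, rfl⟩ | ⟨i, hi, rfl⟩))
    · exact Or.inl ⟨_, rfl⟩
    · exact Or.inr ⟨i, fun h2 => hi (Subtype.ext h2), rfl⟩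
    · exact Or.inl ⟨_, rfl⟩
    · exact Or.inr ⟨i, fun h2 => hi (Subtype.ext h2), rfl⟩

theorem disj (h : Mt b m σ θ) (p : ι → Prop) [DecidablePred p] (hm : ∀ x, p x → p (m x))
    (hm' : ∀ x, ¬ p x → ¬ p (m x)) : Disjoint (PM (fun x : {x // p x} => b x) (fun x => ⟨m x, hm x x.2⟩))
      (PM (fun x : {x // ¬ p x} => b x) (fun x => ⟨m x, hm' x x.2⟩)) := by
  rw [disjoint_left]
  intro v h1 h2
  rw [mem_PM] at h1 h2
  rcases h1 with ⟨i, rfl⟩ | ⟨i, hi, rfl⟩
  · rcases h2 with ⟨j, hj⟩ | ⟨j, hj, hij⟩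
    · exact j.2 (h.inj hj ▸ i.2)
    · exact h.ne j i (fun h2 => hj (Subtype.ext h2)) hij
  · have hi' : m i ≠ i := fun h2 => hi (Subtype.ext h2)
    rcases h2 with ⟨j, hj⟩ | ⟨j, hj, hij⟩
    · exact h.ne i j hi' hj.symm
    · rcases h.eq i j hi' (fun h2 => hj (Subtype.ext h2)) hij.symm with h3 | h3
      · exact j.2 (h3 ▸ i.2)
      · exact j.2 (h3 ▸ hm i i.2)

/-- a biconvex stable set is stable under the cycles -/
theorem mem_of_same {N : Finset V} (h : Mt b m σ θ) (hN : Bic (PM b m) θ N) {x y : ι} (hxy : σ.SameCycle x y)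
    (hx : b x ∈ N) : b y ∈ N := by
  obtain ⟨k, rfl⟩ := hxy.exists_nat_pow_eq
  induction k with
  | zero => exact hx
  | succ k ih =>
    have h1 := hN.st _ (ih (Perm.sameCycle_pow_right.2 (Perm.SameCycle.refl _ _)))
    rw [h.th] at h1
    rwa [pow_succ', Perm.mul_apply]

/-- **one cycle** -/
theorem caseA (h : Mt b m σ θ) (x : ι) (hx : ∀ y, σ.SameCycle x y) {q : ℕ} (hq : 1 ≤ q) :
    bsum (PM b m) θ q * cyc q σ ≤ q ^ ((PM b m).card + Fintype.card ι) := by
  classical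
  have key : ∀ N, Bic (PM b m) θ N → N = ∅ ∨ N = PM b m := by
    intro N hN
    by_cases hb : b x ∈ N
    · right
      have hall : ∀ y, b y ∈ N := fun y => h.mem_of_same hN (hx y) hb
      refine subset_antisymm hN.sub fun v hv => ?_
      rcases mem_PM.1 hv with ⟨i, rfl⟩ | ⟨i, hi, rfl⟩
      · exact hall i
      · exact hN.add _ (hall _) _ (hall _) hv
    · left
      have hall : ∀ y, b y ∉ N := fun y hy => hb (h.mem_of_same hN (hx y).symm hy)
      rw [eq_empty_iff_forall_notMem]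
      intro v hv
      rcases mem_PM.1 (hN.sub hv) with ⟨i, rfl⟩ | ⟨i, hi, rfl⟩
      · exact hall i hv
      · exact hN.coadd _ (mem_PM.2 (Or.inl ⟨i, rfl⟩)) _ (mem_PM.2 (Or.inl ⟨m i, rfl⟩)) (hall _) (hall _) hv
  have hB : bsum (PM b m) θ q ≤ 1 + q ^ (PM b m).card := by
    unfold bsum
    refine le_trans (Finset.sum_le_sum_of_subset (t := {∅, PM b m}) fun N hN => ?_) ?_
    · rw [mem_bs] at hN
      rw [mem_insert, mem_singleton]
      exact key N hN
    · rw [sum_pair, card_empty, pow_zero]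
      intro h1
      have h2 : b x ∈ PM b m := mem_PM.2 (Or.inl ⟨x, rfl⟩)
      rw [← h1] at h2
      exact notMem_empty _ h2
  rw [cyc_trans q σ x hx]
  refine (Nat.mul_le_mul_right _ hB).trans ?_
  have h1 : q ^ Fintype.card ι ≤ q ^ (PM b m).card := Nat.pow_le_pow_right hq h.card_le
  have h2 : 1 ≤ q ^ Fintype.card ι := Nat.one_le_pow _ _ hq
  rw [pow_add]
  obtain ⟨u, hu⟩ : ∃ u, q ^ Fintype.card ι = u + 1 := ⟨q ^ Fintype.card ι - 1, by omega⟩
  rw [hu] at h1 h2 ⊢
  rw [Nat.add_sub_cancel]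
  nlinarith

/-- **two cycles** -/
theorem caseB (h : Mt b m σ θ) (x : ι) (hx : ∀ y, σ.SameCycle x y ∨ σ.SameCycle (m x) y)
    (hn : ¬ σ.SameCycle x (m x)) {q : ℕ} (hq : 2 ≤ q) :
    bsum (PM b m) θ q * cyc q σ ≤ q ^ ((PM b m).card + Fintype.card ι) := by
  classical
  set a := Function.minimalPeriod σ x with ha
  have hfin : x ∈ Function.periodicPts σ := by
    refine ⟨orderOf σ, orderOf_pos σ, ?_⟩
    show σ^[orderOf σ] x = x
    rw [Perm.iterate_eq_pow, pow_orderOf_eq_one, Perm.one_apply]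
  have ha0 : 0 < a := Function.minimalPeriod_pos_of_mem_periodicPts hfin
  have hax : σ^[a] x = x := Function.iterate_minimalPeriod
  have hit : ∀ k y, m (σ^[k] y) = σ^[k] (m y) := by
    intro k
    induction k with
    | zero => exact fun y => rfl
    | succ k ih =>
      intro y
      rw [Function.iterate_succ_apply', Function.iterate_succ_apply', h.ms, ih]
  have hth : ∀ k y, θ^[k] (b y) = b (σ^[k] y) := by
    intro k
    induction k with
    | zero => exact fun y => rfl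
    | succ k ih =>
      intro y
      rw [Function.iterate_succ_apply', Function.iterate_succ_apply', ih, h.th]
  have hadd : ∀ k (u v : V), θ^[k] (u + v) = θ^[k] u + θ^[k] v := by
    intro k
    induction k with
    | zero => exact fun u v => rfl
    | succ k ih =>
      intro u v
      rw [Function.iterate_succ_apply', Function.iterate_succ_apply', Function.iterate_succ_apply', ih, map_add]
  have hinjk : ∀ k, Function.Injective θ^[k] := fun k => θ.injective.iterate k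
  have hsc : ∀ k, σ.SameCycle x (σ^[k] x) := fun k => by
    rw [Perm.iterate_eq_pow]
    exact Perm.sameCycle_pow_right.2 (Perm.SameCycle.refl _ _)
  have hsc' : ∀ y, σ.SameCycle x y → ∃ k < a, y = σ^[k] x := by
    intro y hy
    obtain ⟨k, rfl⟩ := hy.exists_nat_pow_eq
    refine ⟨k % a, Nat.mod_lt _ ha0, ?_⟩
    rw [ha, Function.iterate_mod_minimalPeriod_eq, Perm.iterate_eq_pow]
  have hscm : ∀ {y z}, σ.SameCycle y z → σ.SameCycle (m y) (m z) := by
    intro y z hyz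
    obtain ⟨k, rfl⟩ := hyz.exists_nat_pow_eq
    rw [← Perm.iterate_eq_pow, hit, Perm.iterate_eq_pow]
    exact Perm.sameCycle_pow_right.2 (Perm.SameCycle.refl _ _)
  have hmem' : ∀ y, σ.SameCycle (m x) y → ∃ k < a, y = m (σ^[k] x) := by
    intro y hy
    have h1 := hscm hy
    rw [h.mm] at h1
    obtain ⟨k, hk, e⟩ := hsc' _ h1
    exact ⟨k, hk, by rw [← e, h.mm]⟩
  have hne : ∀ k, m (σ^[k] x) ≠ σ^[k] x := by
    intro k hk
    rw [hit] at hk
    have h1 : σ.SameCycle (σ^[k] x) (m x) := by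
      rw [← hk, Perm.iterate_eq_pow]
      exact Perm.sameCycle_pow_left.2 (Perm.SameCycle.refl _ _)
    exact hn ((hsc k).trans h1)
  have hnes : ∀ i j, m (σ^[i] x) ≠ σ^[j] x := by
    intro i j hij
    rw [hit] at hij
    have h1 : σ.SameCycle (σ^[i] (m x)) (m x) := by
      rw [Perm.iterate_eq_pow]
      exact Perm.sameCycle_pow_left.2 (Perm.SameCycle.refl _ _)
    rw [hij] at h1
    exact hn ((hsc j).trans h1)
  have hinjo : ∀ i < a, ∀ j < a, σ^[i] x = σ^[j] x → i = j := by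
    intro i hi j hj hij
    exact Function.iterate_injOn_Iio_minimalPeriod (Set.mem_Iio.2 hi) (Set.mem_Iio.2 hj) hij
  set P₁ : Finset V := {b x, b (m x), b x + b (m x)} with hP₁
  have hx0 : m x ≠ x := hne 0
  have d1 : b x ≠ b (m x) := fun h1 => hx0 (h.inj h1).symm
  have d2 : b x + b (m x) ≠ b x := h.ne x x hx0
  have d3 : b x + b (m x) ≠ b (m x) := h.ne x (m x) hx0
  have hP₁c : P₁.card = 3 := by
    rw [hP₁, card_eq_three]
    exact ⟨_, _, _, d1, d2.symm, d3.symm, rfl⟩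
  have himg : ∀ k, P₁.image θ^[k] = {b (σ^[k] x), b (m (σ^[k] x)), b (σ^[k] x) + b (m (σ^[k] x))} := by
    intro k
    rw [hP₁, image_insert, image_insert, image_singleton, hth, hth, hadd, hth, hth, hit]
  have hPU : PM b m = (range a).biUnion fun i => P₁.image θ^[i] := by
    ext v
    rw [mem_biUnion, mem_PM]
    constructor
    · rintro (⟨i, rfl⟩ | ⟨i, hi, rfl⟩)
      · rcases hx i with h1 | h1
        · obtain ⟨k, hk, rfl⟩ := hsc' _ h1
          exact ⟨k, mem_range.2 hk, by rw [himg]; simp⟩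
        · obtain ⟨k, hk, rfl⟩ := hmem' _ h1
          exact ⟨k, mem_range.2 hk, by rw [himg]; simp⟩
      · rcases hx i with h1 | h1
        · obtain ⟨k, hk, rfl⟩ := hsc' _ h1
          exact ⟨k, mem_range.2 hk, by rw [himg]; simp⟩
        · obtain ⟨k, hk, rfl⟩ := hmem' _ h1
          refine ⟨k, mem_range.2 hk, ?_⟩
          rw [himg, h.mm, add_comm]
          simp
    · rintro ⟨k, hk, hv⟩
      rw [himg, mem_insert, mem_insert, mem_singleton] at hv
      rcases hv with rfl | rfl | rfl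
      · exact Or.inl ⟨_, rfl⟩
      · exact Or.inl ⟨_, rfl⟩
      · exact Or.inr ⟨_, hne k, rfl⟩
  have hdis : ∀ i < a, ∀ j < a, i ≠ j → Disjoint (P₁.image θ^[i]) (P₁.image θ^[j]) := by
    intro i hi j hj hij
    have e1 : σ^[i] x ≠ σ^[j] x := fun h1 => hij (hinjo i hi j hj h1)
    have e2 := hnes i j
    have e3 := hnes j i
    have e4 : m (σ^[i] x) ≠ m (σ^[j] x) := fun h1 => e1 (by rw [← h.mm (σ^[i] x), h1, h.mm])
    rw [himg, himg, disjoint_left]
    intro v hv hv'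
    rw [mem_insert, mem_insert, mem_singleton] at hv hv'
    rcases hv with rfl | rfl | rfl
    · rcases hv' with h1 | h1 | h1
      · exact e1 (h.inj h1)
      · exact e3 (h.inj h1).symm
      · exact h.ne _ _ (hne j) h1.symm
    · rcases hv' with h1 | h1 | h1
      · exact e2 (h.inj h1)
      · exact e4 (h.inj h1)
      · exact h.ne _ _ (hne j) h1.symm
    · rcases hv' with h1 | h1 | h1
      · exact h.ne _ _ (hne i) h1
      · exact h.ne _ _ (hne i) h1
      · rcases h.eq _ _ (hne i) (hne j) h1 with h2 | h2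
        · exact e1 h2.symm
        · exact e2 h2.symm
  have hPc : (PM b m).card = a * 3 := by
    rw [hPU, card_biUnion]
    · rw [sum_congr rfl (g := fun _ => 3)]
      · rw [sum_const, card_range, smul_eq_mul]
      · intro i _
        rw [card_image_of_injective _ (hinjk i), hP₁c]
    · exact fun i hi j hj hij => hdis i (mem_range.1 hi) j (mem_range.1 hj) hij
  -- the cycles
  have hcO : Fintype.card {y // σ.SameCycle x y} = a := by
    rw [Fintype.card_subtype]
    have e : (univ.filter fun y => σ.SameCycle x y) = (range a).image fun i => σ^[i] x := by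
      ext y
      rw [mem_filter, mem_image]
      constructor
      · rintro ⟨-, hy⟩
        obtain ⟨k, hk, rfl⟩ := hsc' _ hy
        exact ⟨k, mem_range.2 hk, rfl⟩
      · rintro ⟨k, -, rfl⟩
        exact ⟨mem_univ _, hsc k⟩
    rw [e, card_image_of_injOn, card_range]
    exact fun i hi j hj hij => hinjo i (mem_range.1 hi) j (mem_range.1 hj) hij
  have hcO' : Fintype.card {y // ¬ σ.SameCycle x y} = a := by
    rw [← hcO]
    refine Fintype.card_congr ⟨fun y => ⟨m y, ?_⟩, fun y => ⟨m y, ?_⟩, fun y => Subtype.ext (h.mm _),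
      fun y => Subtype.ext (h.mm _)⟩
    · have h1 := hscm ((hx y).resolve_left y.2)
      rwa [h.mm] at h1
    · intro h1
      have h2 := hscm y.2
      exact hn (h1.trans h2.symm)
  have hcι : Fintype.card ι = a * 2 := by
    have h1 := Fintype.card_subtype_compl fun y => σ.SameCycle x y
    have h2 := Fintype.card_subtype_le fun y => σ.SameCycle x y
    rw [hcO, hcO'] at h1
    rw [hcO] at h2
    omega
  have hcyc : cyc q σ = (q ^ a - 1) ^ 2 := by
    rw [cyc_split hq σ (fun y => σ.SameCycle x y) fun y => Perm.sameCycle_apply_right, pow_two]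
    congr 1
    · rw [cyc_trans q _ ⟨x, Perm.SameCycle.refl _ _⟩ fun y => Perm.sameCycle_subtypePerm.2 y.2, hcO]
    · rw [cyc_trans q _ ⟨m x, hn⟩ fun y => Perm.sameCycle_subtypePerm.2 ((hx y).resolve_left y.2), hcO']
  -- the sum
  have hB : bsum (PM b m) θ q ≤ bsum P₁ id (q ^ a) := by
    refine (bsum_cyc (fun u _ v _ huv => θ.injective huv) h.stab hPU hdis ha0 (fun u hu => ?_) q).trans
      (bsum_id _ _ _)
    have e1 : σ^[a] (m x) = m x := by rw [← hit, hax]
    rw [hP₁, mem_insert, mem_insert, mem_singleton] at hu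
    rcases hu with rfl | rfl | rfl
    · rw [hth, hax]; simp [hP₁]
    · rw [hth, e1]; simp [hP₁]
    · rw [hadd, hth, hth, hax, e1]; simp [hP₁]
  have hchain : Chain P₁ [2, 1] := by
    have c1 : Chain (∅ ∪ {b x}) [1] := by
      have := Chain.cons (R := {b x}) Chain.nil (disjoint_empty_left _) (fun u hu v hv huv => by
        rw [mem_singleton] at hu hv
        exact absurd (hu.trans hv.symm) huv)
      rwa [card_singleton] at this
    have c2 := Chain.cons (R := {b (m x), b x + b (m x)}) c1 (by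
      rw [empty_union, disjoint_singleton_left, mem_insert, mem_singleton]
      rintro (h1 | h1)
      · exact d1 h1
      · exact d2 h1.symm) (by
      intro u hu v hv huv
      rw [mem_insert, mem_singleton] at hu hv
      rcases hu with rfl | rfl <;> rcases hv with rfl | rfl
      · exact absurd rfl huv
      · right; simp
      · left; simp
      · exact absurd rfl huv)
    rw [card_pair d3.symm] at c2
    have e : P₁ = ∅ ∪ {b x} ∪ {b (m x), b x + b (m x)} := by
      ext v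
      simp only [hP₁, mem_insert, mem_singleton, mem_union, notMem_empty, false_or]
    rw [e]
    exact c2
  have h5 := bsum_chain_mul hchain (q ^ a)
  rw [hP₁c, List.length_cons, List.length_cons, List.length_nil] at h5
  rw [hcyc, hPc, hcι]
  refine (Nat.mul_le_mul_right _ hB).trans (h5.trans (le_of_eq ?_))
  rw [← pow_mul]
  ring_nf

end Mt

/-- **The product inequality.** -/
theorem Mt.pi_le {θ : V ≃+ V} {q : ℕ} (hq : 2 ≤ q) : ∀ (n : ℕ) {ι : Type u} [Fintype ι] [DecidableEq ι] {b : ι → V}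
    {m : ι → ι} {σ : Perm ι}, Fintype.card ι = n → Mt b m σ θ →
    bsum (PM b m) θ q * cyc q σ ≤ q ^ ((PM b m).card + Fintype.card ι) := by
  classical
  intro n
  induction n using Nat.strong_induction_on with
  | _ n ih =>
    intro ι _ _ b m σ hn h
    rcases isEmpty_or_nonempty ι with he | ⟨⟨x⟩⟩
    · have h1 : σ = 1 := Equiv.ext fun y => he.elim y
      have h2 : PM b m = ∅ := by
        rw [eq_empty_iff_forall_notMem]
        intro v hv
        rcases mem_PM.1 hv with ⟨i, -⟩ | ⟨i, -⟩ <;> exact he.elim i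
      rw [h1, cyc_one, h2, card_empty, Fintype.card_eq_zero, pow_zero, mul_one, pow_zero]
      exact bsum_empty _ _
    · have hscm : ∀ {y z}, σ.SameCycle y z → σ.SameCycle (m y) (m z) := by
        intro y z hyz
        obtain ⟨k, rfl⟩ := hyz.exists_nat_pow_eq
        have hit : ∀ k y, m (σ^[k] y) = σ^[k] (m y) := by
          intro k
          induction k with
          | zero => exact fun y => rfl
          | succ k ih =>
            intro y
            rw [Function.iterate_succ_apply', Function.iterate_succ_apply', h.ms, ih]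
        rw [← Perm.iterate_eq_pow, hit, Perm.iterate_eq_pow]
        exact Perm.sameCycle_pow_right.2 (Perm.SameCycle.refl _ _)
      by_cases hall : ∀ y, σ.SameCycle x y ∨ σ.SameCycle (m x) y
      · by_cases hx : σ.SameCycle x (m x)
        · exact h.caseA x (fun y => (hall y).elim id fun h1 => hx.trans h1) (by omega)
        · exact h.caseB x hall hx hq
      · -- split
        let p : ι → Prop := fun y => σ.SameCycle x y ∨ σ.SameCycle (m x) y
        have hσ : ∀ y, p (σ y) ↔ p y := fun y => or_congr Perm.sameCycle_apply_right Perm.sameCycle_apply_right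
        have hm : ∀ y, p y → p (m y) := by
          rintro y (h1 | h1)
          · exact Or.inr (hscm h1)
          · have h2 := hscm h1
            rw [h.mm] at h2
            exact Or.inl h2
        have hm' : ∀ y, ¬ p y → ¬ p (m y) := fun y hy h1 => hy (by
          have := hm _ h1
          rwa [h.mm] at this)
        obtain ⟨y, hy⟩ := not_forall.1 hall
        have hc1 : Fintype.card {z // p z} < n := by
          rw [← hn]
          exact Fintype.card_subtype_lt (x := y) hy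
        have hc2 : Fintype.card {z // ¬ p z} < n := by
          rw [← hn]
          exact Fintype.card_subtype_lt (x := x) (fun h1 => h1 (Or.inl (Perm.SameCycle.refl _ _)))
        have i1 := ih _ hc1 rfl (h.sub p hσ hm)
        have i2 := ih _ hc2 rfl (h.sub (fun z => ¬ p z) (fun z => not_congr (hσ z)) hm')
        have hs := Mt.split (b := b) p hm hm'
        have hd := h.disj p hm hm'
        have hcard : Fintype.card {z // p z} + Fintype.card {z // ¬ p z} = Fintype.card ι := by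
          have h1 := Fintype.card_subtype_compl p
          have h2 := Fintype.card_subtype_le p
          omega
        rw [cyc_split hq σ p hσ, hs, card_union_of_disjoint hd, ← hcard]
        have hB := bsum_union hd (h.sub p hσ hm).stab
          (h.sub (fun z => ¬ p z) (fun z => not_congr (hσ z)) hm').stab q
        calc _ ≤ (_ * _) * (_ * _) := Nat.mul_le_mul_right _ hB
          _ = (_ * _) * (_ * _) := by rw [mul_mul_mul_comm]
          _ ≤ _ := Nat.mul_le_mul i1 i2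
          _ = _ := by rw [← pow_add]; congr 1; ring

end Cfsg.Agent.H255.RG
end

private theorem dce_be267ae7f050 : _root_.True := by
  try have : _root_.True := by simp only [_root_.Cfsg.Agent.H255.RG.PM.congr_simp]
  try have : _root_.True := by simp only [_root_.Cfsg.Agent.H255.RG.PM.eq_1]
  exact _root_.True.intro
end

-- part: H255/RG/BaseK
section
prune_inst 0x34307500742200000018001232000121340000020040880030e403020b4fd062a04228014e20091218209c902801002000000010403000000a0004000005012080ad820231110c04020087803002000000000000000000000000000000041000000000000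
set_option linter.all false
open scoped Cfsg.Agent.FastGrp

-- part: H255/RG/Sq
section
/-!
# A quadratic form on a matching (helper255, S3509 F5)
-/

set_option autoImplicit false

namespace Cfsg.Agent.H255.RG

open Finset

theorem sq_cases {ι : Type*} [Fintype ι] [DecidableEq ι] {μ : ι → ι} (hμ : ∀ i, μ (μ i) = i) {m : ι → ℤ}
    (hm : ∀ i, 0 ≤ m i) (hT : (∑ i, m i * (2 * m i - if μ i = i then 0 else m (μ i))) = 2) :
    (∃ i, m = Pi.single i 1) ∨ ∃ i, μ i ≠ i ∧ m = Pi.single i 1 + Pi.single (μ i) 1 := by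
  set c : ι → ℤ := fun i => if μ i = i then 0 else m (μ i) with hc
  set s : ι → ℤ := fun i => m i ^ 2 + m (μ i) ^ 2 - c i * m i with hs
  have hS : ∑ i, s i = 2 := by
    rw [← hT]
    have h1 : ∑ i, m (μ i) ^ 2 = ∑ i, m i ^ 2 :=
      Equiv.sum_comp (⟨μ, μ, hμ, hμ⟩ : ι ≃ ι) fun i => m i ^ 2
    have h2 : ∑ i, s i = ∑ i, m i ^ 2 + ∑ i, m (μ i) ^ 2 - ∑ i, c i * m i := by
      rw [← sum_add_distrib, ← sum_sub_distrib]
    rw [h2, h1, ← sum_add_distrib, ← sum_sub_distrib]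
    refine sum_congr rfl fun i _ => ?_
    show m i ^ 2 + m i ^ 2 - c i * m i = m i * (2 * m i - c i)
    ring
  have hs1 : ∀ i, μ i = i → s i = 2 * m i ^ 2 := by
    intro i hi
    show m i ^ 2 + m (μ i) ^ 2 - (if μ i = i then 0 else m (μ i)) * m i = _
    rw [if_pos hi, hi]
    ring
  have hs2 : ∀ i, μ i ≠ i → s i = m i ^ 2 + m (μ i) ^ 2 - m (μ i) * m i := by
    intro i hi
    show m i ^ 2 + m (μ i) ^ 2 - (if μ i = i then 0 else m (μ i)) * m i = _
    rw [if_neg hi]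
  have hs0 : ∀ i, 0 ≤ s i := by
    intro i
    by_cases hi : μ i = i
    · rw [hs1 i hi]; positivity
    · rw [hs2 i hi]; linarith only [sq_nonneg (m i - m (μ i)), sq_nonneg (m i), sq_nonneg (m (μ i))]
  have hz : ∀ i, s i = 0 → m i = 0 := by
    intro i h0
    by_cases hi : μ i = i
    · rw [hs1 i hi] at h0
      nlinarith only [h0, hm i]
    · rw [hs2 i hi] at h0
      have h1 : m i ^ 2 ≤ 0 := by linarith only [h0, sq_nonneg (m i - 2 * m (μ i))]
      exact pow_eq_zero_iff (two_ne_zero) |>.1 (le_antisymm h1 (sq_nonneg _))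
  have hex : ∃ i, 1 ≤ m i := by
    by_contra hcon
    push Not at hcon
    have h0 : ∀ i, m i = 0 := fun i => le_antisymm (by have := hcon i; omega) (hm i)
    rw [sum_eq_zero fun i _ => by rw [h0 i, zero_mul]] at hT
    omega
  obtain ⟨i, hi⟩ := hex
  by_cases hμi : μ i = i
  · left
    refine ⟨i, ?_⟩
    have h1 := add_sum_erase univ s (mem_univ i)
    rw [hS, hs1 i hμi] at h1
    have h2 : 0 ≤ ∑ j ∈ univ.erase i, s j := sum_nonneg fun j _ => hs0 j
    have h3 : m i = 1 := by nlinarith only [hi, h1, h2]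
    have h4 : ∑ j ∈ univ.erase i, s j = 0 := by rw [h3] at h1; linarith
    have h5 := (sum_eq_zero_iff_of_nonneg fun j _ => hs0 j).1 h4
    funext j
    by_cases hj : j = i
    · subst hj; rw [Pi.single_eq_same, h3]
    · rw [Pi.single_eq_of_ne hj, hz j (h5 j (mem_erase.2 ⟨hj, mem_univ j⟩))]
  · have h1 := add_sum_erase univ s (mem_univ i)
    have hmem : μ i ∈ univ.erase i := mem_erase.2 ⟨hμi, mem_univ _⟩
    have h1' := add_sum_erase (univ.erase i) s hmem
    have hμi' : μ (μ i) ≠ μ i := by rw [hμ]; exact fun h => hμi h.symm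
    have h2 : 0 ≤ ∑ j ∈ (univ.erase i).erase (μ i), s j := sum_nonneg fun j _ => hs0 j
    have e1 := hs2 i hμi
    have e2 : s (μ i) = s i := by rw [hs2 _ hμi', hμ, e1]; ring
    rw [e2] at h1'
    rw [hS] at h1
    have h0 := hm (μ i)
    have h3 : s i ≤ 1 := by linarith
    rw [e1] at h3
    have h4 : 1 ≤ s i := by
      rcases (hs0 i).lt_or_eq with h | h
      · omega
      · have := hz i h.symm
        omega
    have h6 : s i = 1 := le_antisymm (by rw [e1]; exact h3) h4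
    have h7 : ∑ j ∈ (univ.erase i).erase (μ i), s j = 0 := by linarith
    have h5 := (sum_eq_zero_iff_of_nonneg fun j _ => hs0 j).1 h7
    have h8 : m i = 1 := by
      rw [e1] at h6
      nlinarith only [hi, h1, h1', h2, e1, sq_nonneg (m i - 2 * m (μ i))]
    have h9 : m (μ i) = 0 ∨ m (μ i) = 1 := by
      rw [e1, h8] at h6
      have : m (μ i) * (m (μ i) - 1) = 0 := by linarith only [h6]
      rcases mul_eq_zero.1 this with h | h
      · exact Or.inl h
      · exact Or.inr (by linarith only [h])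
    have h10 : ∀ j, j ≠ i → j ≠ μ i → m j = 0 := fun j hj hj' =>
      hz j (h5 j (mem_erase.2 ⟨hj', mem_erase.2 ⟨hj, mem_univ j⟩⟩))
    rcases h9 with h9 | h9
    · left
      refine ⟨i, ?_⟩
      funext j
      by_cases hj : j = i
      · subst hj; rw [Pi.single_eq_same, h8]
      · rw [Pi.single_eq_of_ne hj]
        by_cases hj' : j = μ i
        · rw [hj', h9]
        · exact h10 j hj hj'
    · right
      refine ⟨i, hμi, ?_⟩
      funext j
      rw [Pi.add_apply]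
      by_cases hj : j = i
      · subst hj
        rw [Pi.single_eq_same, Pi.single_eq_of_ne (Ne.symm hμi), h8, add_zero]
      · rw [Pi.single_eq_of_ne hj, zero_add]
        by_cases hj' : j = μ i
        · rw [hj', Pi.single_eq_same, h9]
        · rw [Pi.single_eq_of_ne hj', h10 j hj hj']

/-- coefficients -/
theorem lin_eq {ι V : Type*} [Fintype ι] [AddCommGroup V] {b : ι → V} (hb : LinearIndependent ℤ b) {f g : ι → ℤ}
    (h : ∑ i, f i • b i = ∑ i, g i • b i) (i : ι) : f i = g i := by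
  have h1 := Fintype.linearIndependent_iff.1 hb (fun i => f i - g i) (by
    simp only [sub_smul]
    rw [sum_sub_distrib, h, sub_self]) i
  have h2 : f i - g i = 0 := h1
  omega

theorem sum_single {ι V : Type*} [Fintype ι] [DecidableEq ι] [AddCommGroup V] (b : ι → V) (i : ι) :
    ∑ j, (Pi.single i 1 : ι → ℤ) j • b j = b i := by
  rw [Finset.sum_eq_single i]
  · rw [Pi.single_eq_same, one_smul]
  · intro j _ hj
    rw [Pi.single_eq_of_ne hj, zero_smul]
  · intro h
    exact absurd (mem_univ i) h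

theorem sum_single2 {ι V : Type*} [Fintype ι] [DecidableEq ι] [AddCommGroup V] (b : ι → V) (i i' : ι) :
    ∑ j, (Pi.single i 1 + Pi.single i' 1 : ι → ℤ) j • b j = b i + b i' := by
  simp only [Pi.add_apply, add_smul]
  rw [sum_add_distrib, sum_single, sum_single]

end Cfsg.Agent.H255.RG
end

-- part: H255/RG/BaseK
section
/-!
# The base of the centraliser, components of rank at most two (helper255, S3509 F5)

`t` in the torus, Kac coordinates `c`, `c0`, `J = {j | ct c c0 j = 0}` the nodes of the base of the centraliser, every node of `J` is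
linked to at most one other node of `J`:

* `linInd_al` : a proper part of the extended base is linearly independent;
* `pos_cases` : the positive roots are `al i` and `al i + al (μ i)`;
* `exists_mt` : the data `Mt` of the product inequality.
-/

set_option autoImplicit false
set_option linter.unusedSectionVars false

namespace Cfsg.Agent.H255.RG

open CoxeterSystem Cfsg Cfsg.Lie Cfsg.Lie.ChevalleyDatum
open Cfsg.Agent.ChevalleyStructure Cfsg.Agent.ChevalleyStructure.Elts Cfsg.Agent.ChevalleyStructure.CoxeterGeom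
  Cfsg.Agent.ChevalleyStructure.CoxeterGeomTypes Cfsg.Agent.ChevalleyStructure.NPerm
open Cfsg.Agent.Tits.Roots Cfsg.Agent.Tits.Core Cfsg.Agent.Nodes Cfsg.Agent.Nodes.Reps Cfsg.Agent.Nodes.BNOf
  Cfsg.Agent.Nodes.RGDChev Cfsg.Agent.Nodes.Bruhat
open Cfsg.Agent.KFacts.RgdField Cfsg.Agent.KFacts.RgdChevCoord Cfsg.Agent.BpExc.TorCent Cfsg.Agent.BpExc.TorChev
open Cfsg.Agent.H129.TorusChar Cfsg.Agent.H129.WData
open Cfsg.Agent.H92.NE (bl bl_comm FormOK bl_rep bl_root)
open Cfsg.Agent.H931.KC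

universe u

variable {D : ChevalleyDatum} {l : ℕ} {M : CoxeterMatrix (Fin l)} (hp : IsType D l M)

/-- the check for the form on the extended base -/
def EF (D : ChevalleyDatum) (l : ℕ) (Bm : Mat l) : Prop :=
  FormOK D l Bm ∧ (∀ i, Bm i i = 2) ∧ ∀ i j : Option (Fin l), i ≠ j → bl Bm (al D l i) (al D l j) = 0 ∨
    ∃ r : Fin D.nroots, vec D l r = al D l i + al D l j

instance (D : ChevalleyDatum) (l : ℕ) (Bm : Mat l) : Decidable (EF D l Bm) := by unfold EF; infer_instance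

theorem sum_sub {ι V : Type*} [Fintype ι] [AddCommMonoid V] (p : ι → Prop) [DecidablePred p] (f : ι → V)
    (hf : ∀ i, ¬ p i → f i = 0) : ∑ i, f i = ∑ i : {i // p i}, f i := by
  rw [← Fintype.sum_subtype_add_sum_subtype p f, Finset.sum_eq_zero (s := (Finset.univ : Finset {x // ¬ p x}))
    (fun i _ => hf i i.2), add_zero]

include hp in
/-- a proper part of the extended base is linearly independent -/
theorem linInd_al {p : Option (Fin l) → Prop} [DecidablePred p] {j₀ : Option (Fin l)} (hj₀ : ¬ p j₀) :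
    LinearIndependent ℤ (fun j : {j // p j} => al D l j) := by
  rw [Fintype.linearIndependent_iff]
  intro g hg
  set G : Option (Fin l) → ℤ := fun j => if h : p j then g ⟨j, h⟩ else 0 with hG
  have hGp : ∀ j : {j // p j}, G j = g j := fun j => by rw [hG]; exact dif_pos j.2
  have hGn : ∀ j, ¬ p j → G j = 0 := fun j hj => by rw [hG]; exact dif_neg hj
  have h1 : ∑ j, G j • al D l j = 0 := by
    rw [sum_sub p _ fun j hj => by rw [hGn j hj, zero_smul], ← hg]
    exact Finset.sum_congr rfl fun j _ => by rw [hGp]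
  have h2 : ∀ i, G (some i) = G none * hr D l i := by
    intro i
    have h3 := congrFun h1 i
    rw [Fintype.sum_option, Pi.add_apply, Finset.sum_apply, Finset.sum_eq_single i] at h3
    · have h4 : G none * (-hr D l i) + G (some i) * (sr i : Fin l → ℤ) i = 0 := h3
      rw [sr_self] at h4
      linarith
    · intro j _ hj
      show G (some j) * (sr j : Fin l → ℤ) i = 0
      rw [sr_ne (Ne.symm hj), mul_zero]
    · intro h
      exact absurd (Finset.mem_univ i) h
  have h0 : G none = 0 := by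
    cases j₀ with
    | none => exact hGn _ hj₀
    | some i =>
      have h3 := h2 i
      rw [hGn _ hj₀] at h3
      have h4 : 0 < hr D l i := mk_pos hp (some i)
      exact (mul_eq_zero.1 h3.symm).resolve_right h4.ne'
  intro j
  rw [← hGp]
  rcases hj : (j : Option (Fin l)) with _ | i
  · exact h0
  · rw [h2, h0, zero_mul]

include hp in
theorem isRoot_al (j : Option (Fin l)) : IsRoot M.toCoxeterSystem hp.isCartan (al D l j) := by
  cases j with
  | none =>
    obtain ⟨Bm, hv, v, C, H⟩ := exists_ok hp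
    exact (isRoot_hr hp H).neg
  | some i => exact isRoot_sr _ _ i

section form

variable {Bm : Mat l} (E : EF D l Bm)

include hp E

theorem bl_of_add {a b : Fin l → ℤ} (ha : IsRoot M.toCoxeterSystem hp.isCartan a)
    (hb : IsRoot M.toCoxeterSystem hp.isCartan b) (hab : IsRoot M.toCoxeterSystem hp.isCartan (a + b)) :
    bl Bm a b = -1 := by
  have h1 := bl_root hp E.1 E.2.1 hab
  rw [map_add, bl_comm E.1.1 a (a + b), bl_comm E.1.1 b (a + b), map_add, map_add, bl_root hp E.1 E.2.1 ha,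
    bl_root hp E.1 E.2.1 hb, bl_comm E.1.1 a b] at h1
  linarith

/-- the values on the extended base -/
theorem bl_al {i j : Option (Fin l)} (hij : i ≠ j) :
    bl Bm (al D l i) (al D l j) = 0 ∨ IsRoot M.toCoxeterSystem hp.isCartan (al D l i + al D l j) := by
  rcases E.2.2 i j hij with h | ⟨r, hr⟩
  · exact Or.inl h
  · exact Or.inr ((isRoot_iff hp _ _).2 ⟨r, r.2, hr⟩)

/-- **The positive roots.** -/
theorem pos_cases {p : Option (Fin l) → Prop} [DecidablePred p] {μ : {j // p j} → {j // p j}} (hμ : ∀ i, μ (μ i) = i)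
    (hadj : ∀ i j : {j // p j}, IsRoot M.toCoxeterSystem hp.isCartan (al D l i + al D l j) → j = μ i)
    (hadj' : ∀ i, μ i ≠ i → IsRoot M.toCoxeterSystem hp.isCartan (al D l i + al D l (μ i)))
    {x : Fin l → ℤ} (hx : IsRoot M.toCoxeterSystem hp.isCartan x) {m : Option (Fin l) → ℤ} (hm0 : ∀ j, 0 ≤ m j)
    (hmJ : ∀ j, m j ≠ 0 → p j) (hxm : x = ∑ j, m j • al D l j) :
    (∃ i : {j // p j}, al D l i = x) ∨ ∃ i : {j // p j}, μ i ≠ i ∧ al D l i + al D l (μ i) = x := by
  have hx1 : x = ∑ j : {j // p j}, m j • al D l j := by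
    rw [hxm]
    refine sum_sub p _ fun j hj => ?_
    have : m j = 0 := by
      by_contra h
      exact hj (hmJ j h)
    rw [this, zero_smul]
  have hf : ∀ i j : {j // p j}, bl Bm (al D l i) (al D l j) =
      (if j = i then 2 else 0) - (if μ i = i then 0 else if j = μ i then 1 else 0) := by
    intro i j
    by_cases hji : j = i
    · subst hji
      rw [if_pos rfl, bl_root hp E.1 E.2.1 (isRoot_al hp _)]
      by_cases hμj : μ j = j
      · rw [if_pos hμj, sub_zero]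
      · rw [if_neg hμj, if_neg (Ne.symm hμj), sub_zero]
    · rw [if_neg hji]
      have hne : (i : Option (Fin l)) ≠ j := fun h => hji (Subtype.ext h.symm)
      by_cases hjμ : j = μ i
      · have hμi : μ i ≠ i := fun h => hji (hjμ.trans h)
        rw [if_neg hμi, if_pos hjμ, hjμ, bl_of_add hp E (isRoot_al hp _) (isRoot_al hp _) (hadj' i hμi)]
        rfl
      · rcases bl_al hp E hne with h | h
        · rw [h, if_neg hjμ]
          by_cases hμi : μ i = i
          · rw [if_pos hμi, sub_zero]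
          · rw [if_neg hμi, sub_zero]
        · exact absurd (hadj i j h) hjμ
  have hrow : ∀ i : {j // p j}, bl Bm (al D l i) x = 2 * m i - if μ i = i then 0 else m (μ i) := by
    intro i
    rw [hx1, map_sum]
    have e : ∀ j : {j // p j}, bl Bm (al D l i) (m j • al D l j) =
        (if j = i then 2 * m i else 0) - (if μ i = i then 0 else if j = μ i then m (μ i) else 0) := by
      intro j
      rw [map_zsmul, smul_eq_mul, hf]
      by_cases hji : j = i
      · subst hji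
        rw [if_pos rfl, if_pos rfl]
        by_cases hμj : μ j = j
        · rw [if_pos hμj, if_pos hμj]; ring
        · rw [if_neg hμj, if_neg hμj, if_neg (Ne.symm hμj), if_neg (Ne.symm hμj)]; ring
      · rw [if_neg hji, if_neg hji]
        by_cases hμi : μ i = i
        · rw [if_pos hμi, if_pos hμi]; ring
        · rw [if_neg hμi, if_neg hμi]
          by_cases hjμ : j = μ i
          · rw [if_pos hjμ, if_pos hjμ, hjμ]; ring
          · rw [if_neg hjμ, if_neg hjμ]; ring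
    rw [Finset.sum_congr rfl fun j _ => e j, Finset.sum_sub_distrib, Finset.sum_ite_eq' Finset.univ i,
      if_pos (Finset.mem_univ _)]
    congr 1
    by_cases hμi : μ i = i
    · simp only [if_pos hμi, Finset.sum_const_zero]
    · simp only [if_neg hμi]
      rw [Finset.sum_ite_eq' Finset.univ (μ i), if_pos (Finset.mem_univ _)]
  have hT : (∑ i : {j // p j}, m i * (2 * m i - if μ i = i then 0 else m (μ i))) = 2 := by
    have h3 : ∀ y, bl Bm y x = ∑ i : {j // p j}, m i * bl Bm y (al D l i) := by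
      intro y
      conv_lhs => rw [hx1]
      rw [map_sum]
      exact Finset.sum_congr rfl fun i _ => by rw [map_zsmul, smul_eq_mul]
    have h4 : (∑ i : {j // p j}, (m i : ℤ) * bl Bm x (al D l i)) = 2 := by
      rw [← h3 x]
      exact bl_root hp E.1 E.2.1 hx
    refine Eq.trans (Finset.sum_congr rfl fun i _ => ?_) h4
    rw [← hrow i, bl_comm E.1.1]
  rcases sq_cases (m := fun i : {j // p j} => m i) hμ (fun i => hm0 i) hT with ⟨i, hi⟩ | ⟨i, hi, hi'⟩
  · left
    refine ⟨i, ?_⟩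
    rw [hx1, ← sum_single (fun j : {j // p j} => al D l j) i]
    exact Finset.sum_congr rfl fun j _ => by rw [← hi]
  · right
    refine ⟨i, hi, ?_⟩
    rw [hx1, ← sum_single2 (fun j : {j // p j} => al D l j) i (μ i)]
    exact Finset.sum_congr rfl fun j _ => by rw [← hi']

end form

variable {k : Type u} [Field k]

/-- every node is linked to at most one other node -/
def Deg (hp : IsType D l M) (p : Option (Fin l) → Prop) : Prop :=
  ∀ i j j', p i → p j → p j' → IsRoot M.toCoxeterSystem hp.isCartan (al D l i + al D l j) →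
    IsRoot M.toCoxeterSystem hp.isCartan (al D l i + al D l j') → j = j'

/-- **The data.** -/
theorem exists_mt {Bm : Mat l} (E : EF D l Bm) {t : ↥(D.group k)} {θ : (Fin l → ℤ) ≃+ (Fin l → ℤ)}
    (hg : ∀ a, IsRoot M.toCoxeterSystem hp.isCartan (θ a) ↔ IsRoot M.toCoxeterSystem hp.isCartan a)
    {n : ℕ} {w : M.Group} {c : Fin l → ℕ} {c0 : ℕ} (K : Kac D l n c c0)
    (hSJ : ∀ a, rep M.toCoxeterSystem hp.isCartan w a ∈ Sx M.toCoxeterSystem hp.isCartan (ch hp) t ∧
        0 ≤ rep M.toCoxeterSystem hp.isCartan w a ↔ SJ hp n c a)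
    {π : Equiv.Perm {j : Option (Fin l) // ct c c0 j = 0}}
    (hπ : ∀ j, θ (rep M.toCoxeterSystem hp.isCartan w (al D l j.1)) =
      rep M.toCoxeterSystem hp.isCartan w (al D l (π j).1)) (hdeg : Deg hp fun j => ct c c0 j = 0) :
    ∃ μ : {j : Option (Fin l) // ct c c0 j = 0} → {j : Option (Fin l) // ct c c0 j = 0},
      Mt (fun j : {j : Option (Fin l) // ct c c0 j = 0} => rep M.toCoxeterSystem hp.isCartan w (al D l j)) μ π θ ∧
      (∀ x, x ∈ PM (fun j : {j : Option (Fin l) // ct c c0 j = 0} => rep M.toCoxeterSystem hp.isCartan w (al D l j)) μ ↔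
        x ∈ Sx M.toCoxeterSystem hp.isCartan (ch hp) t ∧ 0 ≤ x) ∧
      LinearIndependent ℤ (fun j : {j : Option (Fin l) // ct c c0 j = 0} =>
        rep M.toCoxeterSystem hp.isCartan w (al D l j)) := by
  classical
  set b : {j : Option (Fin l) // ct c c0 j = 0} → (Fin l → ℤ) := fun j => rep M.toCoxeterSystem hp.isCartan w (al D l j)
    with hb
  -- a missing node
  obtain ⟨j₀, hj₀⟩ : ∃ j₀ : Option (Fin l), ¬ ct c c0 j₀ = 0 := by
    by_cases h0 : c0 = 0
    · obtain ⟨i, hi⟩ := K.ne h0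
      exact ⟨some i, hi⟩
    · exact ⟨none, h0⟩
  have hlin0 := linInd_al (D := D) hp (p := fun j => ct c c0 j = 0) hj₀
  have hinj := rep_injective_apply M.toCoxeterSystem hp.isCartan w
  have hlin : LinearIndependent ℤ b := by
    have := hlin0.map' (rep M.toCoxeterSystem hp.isCartan w) (LinearMap.ker_eq_bot.2 hinj)
    exact this
  have hroot : ∀ x, IsRoot M.toCoxeterSystem hp.isCartan (rep M.toCoxeterSystem hp.isCartan w x) ↔
      IsRoot M.toCoxeterSystem hp.isCartan x := by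
    intro x
    constructor
    · intro h
      have := h.act w⁻¹
      rwa [rep_inv_apply] at this
    · exact fun h => h.act w
  -- the matching
  let μ : {j : Option (Fin l) // ct c c0 j = 0} → {j : Option (Fin l) // ct c c0 j = 0} := fun i =>
    if h : ∃ j : {j : Option (Fin l) // ct c c0 j = 0}, IsRoot M.toCoxeterSystem hp.isCartan (al D l i + al D l j)
      then h.choose else i
  have hadj : ∀ i j : {j : Option (Fin l) // ct c c0 j = 0},
      IsRoot M.toCoxeterSystem hp.isCartan (al D l i + al D l j) → j = μ i := by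
    intro i j hij
    have h : ∃ j : {j : Option (Fin l) // ct c c0 j = 0}, IsRoot M.toCoxeterSystem hp.isCartan (al D l i + al D l j) :=
      ⟨j, hij⟩
    show j = if h : _ then _ else i
    rw [dif_pos h]
    exact Subtype.ext (hdeg i j h.choose i.2 j.2 h.choose.2 hij h.choose_spec)
  have hnot : ∀ i : {j : Option (Fin l) // ct c c0 j = 0}, ¬ (∃ j : {j : Option (Fin l) // ct c c0 j = 0},
      IsRoot M.toCoxeterSystem hp.isCartan (al D l i + al D l j)) → μ i = i := by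
    intro i h
    show (if h : _ then _ else i) = i
    rw [dif_neg h]
  have hadj' : ∀ i, μ i ≠ i → IsRoot M.toCoxeterSystem hp.isCartan (al D l i + al D l (μ i)) := by
    intro i hi
    by_cases h : ∃ j : {j : Option (Fin l) // ct c c0 j = 0}, IsRoot M.toCoxeterSystem hp.isCartan (al D l i + al D l j)
    · obtain ⟨j, hj⟩ := h
      rw [← hadj i j hj]
      exact hj
    · exact absurd (hnot i h) hi
  have hnd : ∀ i : {j : Option (Fin l) // ct c c0 j = 0},
      ¬ IsRoot M.toCoxeterSystem hp.isCartan (al D l i + al D l i) := by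
    intro i hi
    have h1 := bl_of_add hp E (isRoot_al hp _) (isRoot_al hp _) hi
    rw [bl_root hp E.1 E.2.1 (isRoot_al hp _)] at h1
    omega
  have hmm : ∀ i, μ (μ i) = i := by
    intro i
    by_cases h : ∃ j : {j : Option (Fin l) // ct c c0 j = 0}, IsRoot M.toCoxeterSystem hp.isCartan (al D l i + al D l j)
    · obtain ⟨j, hj⟩ := h
      rw [← hadj i j hj]
      rw [add_comm] at hj
      exact (hadj j i hj).symm
    · rw [hnot i h, hnot i h]
  -- the positive roots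
  have hbS : ∀ j, b j ∈ Sx M.toCoxeterSystem hp.isCartan (ch hp) t ∧ 0 ≤ b j := fun j =>
    (hSJ _).2 (SJ_al hp K j.2)
  have hPM : ∀ x, x ∈ PM b μ ↔ x ∈ Sx M.toCoxeterSystem hp.isCartan (ch hp) t ∧ 0 ≤ x := by
    intro x
    rw [mem_PM]
    constructor
    · rintro (⟨i, rfl⟩ | ⟨i, hi, rfl⟩)
      · exact hbS i
      · have h1 := hadj' i hi
        have h2 : b i + b (μ i) = rep M.toCoxeterSystem hp.isCartan w (al D l i + al D l (μ i)) := (map_add _ _ _).symm
        rw [h2, hSJ]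
        have h3 : (n : ℤ) ∣ bb c (al D l i + al D l (μ i)) := by
          rw [map_add]
          exact dvd_add (SJ_dvd hp K (SJ_al hp K i.2)) (SJ_dvd hp K (SJ_al hp K (μ i).2))
        rcases (dvd_iff_SJ hp K h1).1 h3 with h4 | h4
        · exact h4
        · exfalso
          have h5 := ((hSJ _).2 h4).2
          rw [map_neg, ← h2] at h5
          refine ((h1.act w).not_pos_neg ?_ ?_)
          · rw [← h2]
            exact add_nonneg (hbS i).2 (hbS _).2
          · rw [← h2]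
            exact neg_nonneg.1 h5
    · rintro hx
      have hx1 : IsRoot M.toCoxeterSystem hp.isCartan (rep M.toCoxeterSystem hp.isCartan w⁻¹ x) := hx.1.1.act w⁻¹
      have hwx : rep M.toCoxeterSystem hp.isCartan w (rep M.toCoxeterSystem hp.isCartan w⁻¹ x) = x :=
        rep_apply_inv _ _ _ _
      have h1 : SJ hp n c (rep M.toCoxeterSystem hp.isCartan w⁻¹ x) := by
        rw [← hSJ, hwx]
        exact hx
      obtain ⟨m, hm0, hmJ, hm⟩ := exists_coef hp K h1
      rcases pos_cases hp E hmm hadj hadj' hx1 hm0 hmJ hm with ⟨i, hi⟩ | ⟨i, hi, hi'⟩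
      · left
        refine ⟨i, ?_⟩
        rw [hb]
        show rep M.toCoxeterSystem hp.isCartan w (al D l i) = x
        rw [hi, hwx]
      · right
        refine ⟨i, hi, ?_⟩
        show rep M.toCoxeterSystem hp.isCartan w (al D l i) + rep M.toCoxeterSystem hp.isCartan w (al D l (μ i)) = x
        rw [← map_add, hi', hwx]
  refine ⟨μ, ⟨?_, ?_, ?_, hmm, fun i => hπ i, ?_⟩, hPM, hlin⟩
  · exact hlin.injective
  · intro i j hi hij
    have h1 := lin_eq (b := b) hlin (f := Pi.single i 1 + Pi.single (μ i) 1) (g := Pi.single j 1) (by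
      rw [sum_single2, sum_single]
      exact hij)
    by_cases hj : j = i
    · have h2 := h1 (μ i)
      rw [hj, Pi.add_apply, Pi.single_eq_same, Pi.single_eq_of_ne hi] at h2
      omega
    · have h2 := h1 i
      rw [Pi.add_apply, Pi.single_eq_same, Pi.single_eq_of_ne (Ne.symm hj), Pi.single_eq_of_ne (Ne.symm hi)] at h2
      omega
  · intro i j hi hj hij
    have h1 := lin_eq (b := b) hlin (f := Pi.single i 1 + Pi.single (μ i) 1) (g := Pi.single j 1 + Pi.single (μ j) 1) (by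
      rw [sum_single2, sum_single2]
      exact hij) j
    by_contra hcon
    push Not at hcon
    rw [Pi.add_apply, Pi.add_apply, Pi.single_eq_same, Pi.single_eq_of_ne hcon.1, Pi.single_eq_of_ne hcon.2,
      Pi.single_eq_of_ne (Ne.symm hj)] at h1
    omega
  · intro i
    -- equivariance
    have hequi : ∀ i j : {j : Option (Fin l) // ct c c0 j = 0},
        IsRoot M.toCoxeterSystem hp.isCartan (al D l (π i) + al D l (π j)) ↔
        IsRoot M.toCoxeterSystem hp.isCartan (al D l i + al D l j) := by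
      intro i j
      rw [← hroot, map_add, ← hπ, ← hπ, ← map_add, hg, ← map_add, hroot]
    by_cases h : ∃ j : {j : Option (Fin l) // ct c c0 j = 0}, IsRoot M.toCoxeterSystem hp.isCartan (al D l i + al D l j)
    · obtain ⟨j, hj⟩ := h
      rw [← hadj i j hj]
      exact (hadj _ _ ((hequi i j).2 hj)).symm
    · rw [hnot i h]
      refine hnot _ ?_
      rintro ⟨j, hj⟩
      refine h ⟨π.symm j, ?_⟩
      rw [← hequi, Equiv.apply_symm_apply]
      exact hj

end Cfsg.Agent.H255.RG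
end
end

-- part: H255/RG/BaseT
section
prune_inst 0x34306500742200000018001232000021340000020040080030e40102094fd062a04228004a200912182090800801002000000000400000000a0004000005012080a8820231010004020087803002400000000000000000000000000000041000000000000
set_option linter.all false
open scoped Cfsg.Agent.FastGrp

-- part: H255/RG/TriA
section
/-!
# One component `A₃` and components of rank at most two (helper255, S3509 F5)

* `P3 a b c` : the positive roots of `A₃`;
* `tri_one`, `tri_flip` : the product inequality for `A₃` and `²A₃`;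
* `pi_three` : the product inequality for `A₃` and a matching.
-/

set_option autoImplicit false

namespace Cfsg.Agent.H255.RG

open Finset Equiv Cfsg.Agent.H448.TorB

universe u v

variable {V : Type v} [AddCommGroup V] [DecidableEq V]

/-- the positive roots of `A₃` -/
def P3 (a b c : V) : Finset V := {a, b, c, a + b, b + c, a + b + c}

theorem mem_P3 {a b c v : V} : v ∈ P3 a b c ↔ v = a ∨ v = b ∨ v = c ∨ v = a + b ∨ v = b + c ∨ v = a + b + c := by
  simp only [P3, _root_.Finset.mem_insert, _root_.Finset.mem_singleton]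

theorem card_P3 {a b c : V} (hnd : ([a, b, c, a + b, b + c, a + b + c] : List V).Nodup) : (P3 a b c).card = 6 := by
  have e : P3 a b c = ([a, b, c, a + b, b + c, a + b + c] : List V).toFinset := by
    ext x
    simp only [P3, _root_.Finset.mem_insert, _root_.Finset.mem_singleton, _root_.List.toFinset_cons, _root_.List.toFinset_nil, _root_.LawfulSingleton.insert_empty_eq]
  rw [e, List.toFinset_card_of_nodup hnd]
  rfl

/-- `A₃` -/
theorem tri_one {a b c : V} (hnd : ([a, b, c, a + b, b + c, a + b + c] : List V).Nodup) (θ : V → V) (q : ℕ) :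
    bsum (P3 a b c) θ q * (q - 1) ^ 3 ≤ q ^ (6 + 3) := by
  have hnd' := hnd
  simp only [List.nodup_cons, List.mem_cons, List.not_mem_nil, or_false, not_or, not_false_eq_true, List.nodup_nil,
    and_true] at hnd'
  obtain ⟨⟨n1, n2, n3, n4, n5⟩, ⟨n6, n7, n8, n9⟩, ⟨n10, n11, n12⟩, ⟨n13, n14⟩, n15⟩ := hnd'
  have c1 : Chain (∅ ∪ {a}) [1] := by
    have := Chain.cons (R := {a}) Chain.nil (disjoint_empty_left _) (fun u hu v hv huv => by
      rw [mem_singleton] at hu hv
      exact absurd (hu.trans hv.symm) huv)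
    rwa [card_singleton] at this
  have c2 := Chain.cons (R := {b, a + b}) c1 (by
    rw [empty_union, disjoint_singleton_left, mem_insert, mem_singleton]
    rintro (h1 | h1)
    · exact n1 h1
    · exact n3 h1) (by
    intro u hu v hv huv
    rw [mem_insert, mem_singleton] at hu hv
    rcases hu with rfl | rfl <;> rcases hv with rfl | rfl
    · exact absurd rfl huv
    · right; simp
    · left; simp
    · exact absurd rfl huv)
  rw [card_pair n7] at c2
  have c3 := Chain.cons (R := {c, b + c, a + b + c}) c2 (by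
    rw [disjoint_left]
    intro v hv hv'
    simp only [mem_union, mem_insert, mem_singleton, notMem_empty, false_or] at hv hv'
    rcases hv with rfl | rfl | rfl
    · rcases hv' with h | h | h
      · exact n2 h
      · exact n4 h
      · exact n5 h
    · rcases hv' with h | h | h
      · exact n6 h
      · exact n8 h
      · exact n9 h
    · rcases hv' with h | h | h
      · exact n10 h.symm
      · exact n13 h
      · exact n14 h) (by
    intro u hu v hv huv
    simp only [mem_insert, mem_singleton] at hu hv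
    simp only [mem_union, mem_insert, mem_singleton, notMem_empty, false_or]
    rcases hu with rfl | rfl | rfl <;> rcases hv with rfl | rfl | rfl
    · exact absurd rfl huv
    · right; right; left; abel
    · right; right; right; abel
    · left; right; left; abel
    · exact absurd rfl huv
    · right; left; abel
    · left; right; right; abel
    · left; left; abel
    · exact absurd rfl huv)
  have hc3 : ({c, b + c, a + b + c} : Finset V).card = 3 := by
    rw [card_eq_three]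
    exact ⟨c, b + c, a + b + c, n11, n12, n15, rfl⟩
  rw [hc3] at c3
  have e : P3 a b c = ∅ ∪ {a} ∪ {b, a + b} ∪ {c, b + c, a + b + c} := by
    ext x
    simp only [P3, mem_union, mem_insert, mem_singleton, notMem_empty, false_or]
    (clear * -; (solve | grind only | tauto))
  rw [← e] at c3
  have h5 := bsum_chain_mul c3 q
  rw [card_P3 hnd] at h5
  exact (Nat.mul_le_mul_right _ (bsum_id _ _ _)).trans h5

/-- `²A₃` -/
theorem tri_flip {a b c : V} (hnd : ([a, b, c, a + b, b + c, a + b + c] : List V).Nodup) {θ : V → V}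
    (h1 : θ a = c) (h2 : θ c = a) (h3 : θ b = b) (h4 : θ (a + b) = b + c) (h5 : θ (b + c) = a + b) {q : ℕ}
    (hq : 2 ≤ q) : bsum (P3 a b c) θ q * ((q ^ 2 - 1) * (q - 1)) ≤ q ^ (6 + 3) := by
  refine (Nat.mul_le_mul_right _ (bsum_flip3 hnd h1 h2 h3 h4 h5 q)).trans ?_
  obtain ⟨x, rfl⟩ : ∃ x, q = x + 2 := ⟨q - 2, by omega⟩
  have e1 : (x + 2) ^ 2 - 1 = x ^ 2 + 4 * x + 3 := by
    have : (x + 2) ^ 2 = x ^ 2 + 4 * x + 3 + 1 := by ring
    rw [this, Nat.add_sub_cancel]
  rw [e1, show x + 2 - 1 = x + 1 by omega]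
  have e2 : (x + 2) ^ (6 + 3) = (1 + (x + 2) + (x + 2) ^ 2 + 2 * (x + 2) ^ 3 + (x + 2) ^ 4 + (x + 2) ^ 5 +
      (x + 2) ^ 6) * ((x ^ 2 + 4 * x + 3) * (x + 1)) +
      (x ^ 7 + 13 * x ^ 6 + 73 * x ^ 5 + 231 * x ^ 4 + 447 * x ^ 3 + 531 * x ^ 2 + 360 * x + 107) := by
    ring
  rw [e2]
  exact Nat.le_add_right _ _

/-- a transposition -/
theorem cyc_swap {ι : Type*} [Fintype ι] [DecidableEq ι] (q : ℕ) {x z : ι} (h : x ≠ z) :
    cyc q (Equiv.swap x z) = (q ^ 2 - 1) * (q - 1) ^ (Fintype.card ι - 2) := by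
  rw [cyc, (Perm.isCycle_swap h).cycleType, Perm.card_support_swap h]
  simp only [_root_.Multiset.map_singleton, _root_.Multiset.prod_singleton]

/-- **The product inequality for one component `A₃` and a matching.** -/
theorem pi_three {θ : V ≃+ V} {q : ℕ} (hq : 2 ≤ q) {ι : Type u} [Fintype ι] [DecidableEq ι] {b : ι → V} {σ : Perm ι}
    (hth : ∀ i, θ (b i) = b (σ i)) {x y z : ι} (hxy : x ≠ y) (hyz : y ≠ z) (hxz : x ≠ z) (hy : σ y = y)
    (hflip : (σ x = x ∧ σ z = z) ∨ (σ x = z ∧ σ z = x)) {A : ι → Prop} [DecidablePred A]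
    (hA : ∀ i, A i ↔ i = x ∨ i = y ∨ i = z) (hAσ : ∀ i, A (σ i) ↔ A i) {μ : {i // ¬ A i} → {i // ¬ A i}}
    (h : Mt (fun i : {i // ¬ A i} => b i) μ (σ.subtypePerm (p := fun i => ¬ A i) fun i => not_congr (hAσ i)) θ)
    (hnd : ([b x, b y, b z, b x + b y, b y + b z, b x + b y + b z] : List V).Nodup)
    (hd : Disjoint (P3 (b x) (b y) (b z)) (PM (fun i : {i // ¬ A i} => b i) μ)) :
    bsum (P3 (b x) (b y) (b z) ∪ PM (fun i : {i // ¬ A i} => b i) μ) θ q * cyc q σ ≤
      q ^ ((P3 (b x) (b y) (b z) ∪ PM (fun i : {i // ¬ A i} => b i) μ).card + Fintype.card ι) := by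
  have hcA : Fintype.card {i // A i} = 3 := by
    have e : (univ.filter fun i => A i) = {x, y, z} := by
      ext i
      rw [mem_filter, hA]
      simp only [_root_.Finset.mem_univ, _root_.true_and, _root_.Finset.mem_insert, _root_.Finset.mem_singleton]
    rw [Fintype.card_subtype, e]
    exact card_eq_three.2 ⟨x, y, z, hxy, hxz, hyz, rfl⟩
  have hcard : Fintype.card ι = 3 + Fintype.card {i // ¬ A i} := by
    have h1 := Fintype.card_subtype_compl fun i => A i
    have h2 := Fintype.card_subtype_le fun i => A i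
    rw [hcA] at h1 h2
    omega
  have hst : ∀ v ∈ P3 (b x) (b y) (b z), θ v ∈ P3 (b x) (b y) (b z) := by
    intro v hv
    rw [mem_P3] at hv ⊢
    rcases hflip with ⟨h1, h2⟩ | ⟨h1, h2⟩
    · rcases hv with rfl | rfl | rfl | rfl | rfl | rfl <;> simp only [map_add, hth, h1, h2, hy] <;> (clear * - V b x y z; (solve | grind only | tauto))
    · rcases hv with rfl | rfl | rfl | rfl | rfl | rfl
      · simp only [hth, h1]; (clear * -; tauto)
      · simp only [hth, hy]; (clear * - V b x y z; tauto)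
      · simp only [hth, h2]; (clear * - V b x y z; tauto)
      · simp only [map_add, hth, h1, hy]
        rw [add_comm (b z)]; (clear * -; (solve | simp only [*, true_or, or_true, and_self, true_and, and_true, not_false_eq_true] | tauto))
      · simp only [map_add, hth, h2, hy]
        rw [add_comm (b y)]; (clear * -; (solve | simp only [*, true_or, or_true, and_self, true_and, and_true, not_false_eq_true] | tauto))
      · simp only [map_add, hth, h1, h2, hy]
        rw [add_comm (b z) (b y), add_comm (b y + b z), ← add_assoc]; (clear * -; (solve | simp only [*, true_or, or_true, and_self, true_and, and_true, not_false_eq_true] | tauto))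
  have key : bsum (P3 (b x) (b y) (b z)) θ q * cyc q (σ.subtypePerm hAσ) ≤ q ^ (6 + 3) := by
    rcases hflip with ⟨h1, h2⟩ | ⟨h1, h2⟩
    · have e : σ.subtypePerm hAσ = 1 := by
        ext ⟨i, hi⟩
        show σ i = i
        rcases (hA i).1 hi with rfl | rfl | rfl
        · exact h1
        · exact hy
        · exact h2
      rw [e, cyc_one, hcA]
      exact tri_one hnd _ _
    · have e : σ.subtypePerm hAσ = Equiv.swap ⟨x, (hA x).2 (Or.inl rfl)⟩ ⟨z, (hA z).2 (Or.inr (Or.inr rfl))⟩ := by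
        ext ⟨i, hi⟩
        rw [Perm.subtypePerm_apply]
        rcases (hA i).1 hi with rfl | rfl | rfl
        · rw [Equiv.swap_apply_left]; exact h1
        · rw [Equiv.swap_apply_of_ne_of_ne]
          · exact hy
          · exact fun h => hxy (congrArg Subtype.val h).symm
          · exact fun h => hyz (congrArg Subtype.val h)
        · rw [Equiv.swap_apply_right]; exact h2
      rw [e, cyc_swap q (fun h => hxz (congrArg Subtype.val h)), hcA, pow_one]
      refine tri_flip hnd (by rw [hth, h1]) (by rw [hth, h2]) (by rw [hth, hy]) ?_ ?_ hq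
      · rw [map_add, hth, hth, h1, hy, add_comm]
      · rw [map_add, hth, hth, h2, hy, add_comm]
  have hPI := Mt.pi_le hq _ rfl h
  rw [cyc_split hq σ A hAσ, card_union_of_disjoint hd, card_P3 hnd, hcard]
  have hB := bsum_union hd hst h.stab q
  calc _ ≤ (_ * _) * (_ * _) := Nat.mul_le_mul_right _ hB
    _ = (_ * _) * (_ * _) := by rw [mul_mul_mul_comm]
    _ ≤ _ := Nat.mul_le_mul key hPI
    _ = _ := by rw [← pow_add]; congr 1; ring

end Cfsg.Agent.H255.RG
end

-- part: H255/RG/BaseT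
section
/-!
# The base of the centraliser, one component `A₃` (helper255, S3509 F5)

`Deg3 D l Bm p a₁ a₂ a₃` : the nodes of `p` are a path `a₁, a₂, a₃` and a matching; `exists_data3` : the data of the product
inequality from Kac coordinates.
-/

set_option autoImplicit false
set_option linter.unusedSectionVars false

namespace Cfsg.Agent.H255.RG

open CoxeterSystem Cfsg Cfsg.Lie Cfsg.Lie.ChevalleyDatum
open Cfsg.Agent.ChevalleyStructure Cfsg.Agent.ChevalleyStructure.Elts Cfsg.Agent.ChevalleyStructure.CoxeterGeom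
  Cfsg.Agent.ChevalleyStructure.CoxeterGeomTypes Cfsg.Agent.ChevalleyStructure.NPerm
open Cfsg.Agent.Tits.Roots Cfsg.Agent.Tits.Core Cfsg.Agent.Nodes Cfsg.Agent.Nodes.Reps Cfsg.Agent.Nodes.BNOf
  Cfsg.Agent.Nodes.RGDChev Cfsg.Agent.Nodes.Bruhat
open Cfsg.Agent.KFacts.RgdField Cfsg.Agent.KFacts.RgdChevCoord Cfsg.Agent.BpExc.TorCent Cfsg.Agent.BpExc.TorChev
open Cfsg.Agent.H129.TorusChar Cfsg.Agent.H129.WData
open Cfsg.Agent.H92.NE (bl bl_comm bl_sr FormOK bl_rep bl_root bl_add_left)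
open Cfsg.Agent.H931.KC Cfsg.Agent.H448.TorB

universe u

variable {D : ChevalleyDatum} {l : ℕ} {M : CoxeterMatrix (Fin l)} (hp : IsType D l M)

section form

variable {Bm : Mat l} (E : EF D l Bm)

include E in
theorem bl_sr_eq (i : Fin l) (z : Fin l → ℤ) : bl Bm (sr i) z = pairing (cartanOf D l) i z := by
  have h1 : 2 * bl Bm z (sr i) = Bm i i * pairing (cartanOf D l) i z := by
    rw [bl_sr]
    unfold pairing
    rw [Finset.mul_sum, Finset.mul_sum]
    refine Finset.sum_congr rfl fun j _ => ?_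
    rw [← mul_assoc, E.1.2 i j, mul_assoc]
  rw [E.2.1, bl_comm E.1.1] at h1
  linarith

include hp E in
/-- reflections -/
theorem isRoot_bl {x y : Fin l → ℤ} (hx : IsRoot M.toCoxeterSystem hp.isCartan x)
    (hy : IsRoot M.toCoxeterSystem hp.isCartan y) : IsRoot M.toCoxeterSystem hp.isCartan (x - bl Bm y x • y) := by
  obtain ⟨v, i, rfl⟩ := hy
  have h1 : IsRoot M.toCoxeterSystem hp.isCartan (rep M.toCoxeterSystem hp.isCartan v
      (rep M.toCoxeterSystem hp.isCartan (M.toCoxeterSystem.simple i) (rep M.toCoxeterSystem hp.isCartan v⁻¹ x))) :=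
    ((hx.act v⁻¹).act _).act v
  rw [rep_simple_eq, map_sub, map_zsmul, rep_apply_inv, ← bl_sr_eq E, ← bl_rep hp E.1 v, rep_apply_inv] at h1
  exact h1

include hp E in
theorem isRoot_add_bl {x y : Fin l → ℤ} (hx : IsRoot M.toCoxeterSystem hp.isCartan x)
    (hy : IsRoot M.toCoxeterSystem hp.isCartan y) (h : bl Bm y x = -1) :
    IsRoot M.toCoxeterSystem hp.isCartan (x + y) := by
  have h1 := isRoot_bl hp E hx hy
  rwa [h, neg_smul, one_smul, sub_neg_eq_add] at h1

/-- the form of a matching -/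
theorem form_eq (hs : ∀ i j, Bm i j = Bm j i) {κ : Type*} [Fintype κ] [DecidableEq κ] {β : κ → Fin l → ℤ} {μ : κ → κ}
    (hf : ∀ i j, bl Bm (β i) (β j) = (if j = i then 2 else 0) - (if μ i = i then 0 else if j = μ i then 1 else 0))
    (m : κ → ℤ) : bl Bm (∑ j, m j • β j) (∑ j, m j • β j) = ∑ i, m i * (2 * m i - if μ i = i then 0 else m (μ i)) := by
  set x := ∑ j, m j • β j with hx
  have hrow : ∀ i, bl Bm (β i) x = 2 * m i - if μ i = i then 0 else m (μ i) := by
    intro i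
    rw [hx, map_sum]
    have e : ∀ j, bl Bm (β i) (m j • β j) =
        (if j = i then 2 * m i else 0) - (if μ i = i then 0 else if j = μ i then m (μ i) else 0) := by
      intro j
      rw [map_zsmul, smul_eq_mul, hf]
      by_cases hji : j = i
      · subst hji
        rw [if_pos rfl, if_pos rfl]
        by_cases hμj : μ j = j
        · rw [if_pos hμj, if_pos hμj]; ring
        · rw [if_neg hμj, if_neg hμj, if_neg (Ne.symm hμj), if_neg (Ne.symm hμj)]; ring
      · rw [if_neg hji, if_neg hji]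
        by_cases hμi : μ i = i
        · rw [if_pos hμi, if_pos hμi]; ring
        · rw [if_neg hμi, if_neg hμi]
          by_cases hjμ : j = μ i
          · rw [if_pos hjμ, if_pos hjμ, hjμ]; ring
          · rw [if_neg hjμ, if_neg hjμ]; ring
    rw [Finset.sum_congr rfl fun j _ => e j, Finset.sum_sub_distrib, Finset.sum_ite_eq' Finset.univ i,
      if_pos (Finset.mem_univ _)]
    congr 1
    by_cases hμi : μ i = i
    · simp only [if_pos hμi, Finset.sum_const_zero]
    · simp only [if_neg hμi]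
      rw [Finset.sum_ite_eq' Finset.univ (μ i), if_pos (Finset.mem_univ _)]
  have h3 : ∀ y, bl Bm y x = ∑ i, m i * bl Bm y (β i) := by
    intro y
    conv_lhs => rw [hx]
    rw [map_sum]
    exact Finset.sum_congr rfl fun i _ => by rw [map_zsmul, smul_eq_mul]
  rw [h3 x]
  refine Finset.sum_congr rfl fun i _ => ?_
  rw [← hrow i, bl_comm hs]

end form

/-- the quadratic form of a matching is positive definite -/
theorem sq_pos {ι : Type*} [Fintype ι] [DecidableEq ι] {μ : ι → ι} (hμ : ∀ i, μ (μ i) = i) (m : ι → ℤ) :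
    0 ≤ (∑ i, m i * (2 * m i - if μ i = i then 0 else m (μ i))) ∧
    ((∑ i, m i * (2 * m i - if μ i = i then 0 else m (μ i))) = 0 → ∀ i, m i = 0) := by
  set c : ι → ℤ := fun i => if μ i = i then 0 else m (μ i) with hc
  set s : ι → ℤ := fun i => m i ^ 2 + m (μ i) ^ 2 - c i * m i with hs
  have hS : ∑ i, s i = ∑ i, m i * (2 * m i - c i) := by
    have h1 : ∑ i, m (μ i) ^ 2 = ∑ i, m i ^ 2 :=
      Equiv.sum_comp (⟨μ, μ, hμ, hμ⟩ : ι ≃ ι) fun i => m i ^ 2
    have h2 : ∑ i, s i = ∑ i, m i ^ 2 + ∑ i, m (μ i) ^ 2 - ∑ i, c i * m i := by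
      rw [← Finset.sum_add_distrib, ← Finset.sum_sub_distrib]
    rw [h2, h1, ← Finset.sum_add_distrib, ← Finset.sum_sub_distrib]
    refine Finset.sum_congr rfl fun i _ => ?_
    ring
  have hs1 : ∀ i, μ i = i → s i = 2 * m i ^ 2 := by
    intro i hi
    show m i ^ 2 + m (μ i) ^ 2 - (if μ i = i then 0 else m (μ i)) * m i = _
    rw [if_pos hi, hi]
    ring
  have hs2 : ∀ i, μ i ≠ i → s i = m i ^ 2 + m (μ i) ^ 2 - m (μ i) * m i := by
    intro i hi
    show m i ^ 2 + m (μ i) ^ 2 - (if μ i = i then 0 else m (μ i)) * m i = _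
    rw [if_neg hi]
  have hs0 : ∀ i, 0 ≤ s i := by
    intro i
    by_cases hi : μ i = i
    · rw [hs1 i hi]; positivity
    · rw [hs2 i hi]; linarith only [sq_nonneg (m i - m (μ i)), sq_nonneg (m i), sq_nonneg (m (μ i))]
  have hz : ∀ i, s i = 0 → m i = 0 := by
    intro i h0
    by_cases hi : μ i = i
    · rw [hs1 i hi] at h0
      have h1 : m i ^ 2 = 0 := by linarith
      exact pow_eq_zero_iff (two_ne_zero) |>.1 h1
    · rw [hs2 i hi] at h0
      have h1 : m i ^ 2 ≤ 0 := by linarith only [h0, sq_nonneg (m i - 2 * m (μ i))]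
      exact pow_eq_zero_iff (two_ne_zero) |>.1 (le_antisymm h1 (sq_nonneg _))
  constructor
  · rw [← hS]
    exact Finset.sum_nonneg fun i _ => hs0 i
  · intro h i
    rw [← hS] at h
    exact hz i ((Finset.sum_eq_zero_iff_of_nonneg fun j _ => hs0 j).1 h i (Finset.mem_univ i))

/-- the quadratic form of `A₃` -/
theorem three_cases {a b c : ℤ} (ha : 0 ≤ a) (hb : 0 ≤ b) (hc : 0 ≤ c)
    (h : a ^ 2 + b ^ 2 + c ^ 2 - a * b - b * c = 1) :
    (a = 1 ∧ b = 0 ∧ c = 0) ∨ (a = 0 ∧ b = 1 ∧ c = 0) ∨ (a = 0 ∧ b = 0 ∧ c = 1) ∨ (a = 1 ∧ b = 1 ∧ c = 0) ∨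
      (a = 0 ∧ b = 1 ∧ c = 1) ∨ (a = 1 ∧ b = 1 ∧ c = 1) := by
  have h1 : a ^ 2 + (a - b) ^ 2 + (b - c) ^ 2 + c ^ 2 = 2 := by linarith
  have ha1 : a ≤ 1 := by nlinarith only [h, sq_nonneg (a - b), sq_nonneg (b - c), sq_nonneg c]
  have hc1 : c ≤ 1 := by nlinarith only [h, sq_nonneg (a - b), sq_nonneg (b - c), sq_nonneg a]
  have hb1 : b ≤ 2 := by nlinarith only [h, ha1, hc1, sq_nonneg a, sq_nonneg c]
  interval_cases a <;> interval_cases b <;> interval_cases c <;> simp_all only [_root_.Std.le_refl, _root_.Nat.ofNat_nonneg, _root_.zero_le_one, _root_.ne_eq, _root_.OfNat.ofNat_ne_zero, _root_.not_false_eq_true, _root_.zero_pow, _root_.add_zero, _root_.MulZeroClass.mul_zero, _root_.sub_self, _root_.zero_ne_one, _root_.one_pow, _root_.zero_add, _root_.sub_zero, _root_.mul_one, _root_.zero_sub, _root_.Int.reduceNeg, _root_.even_two, _root_.Even.neg_pow, _root_.Int.reduceAdd, _root_.one_ne_zero, _root_.and_false, _root_.and_self, _root_.and_true,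 _root_.or_self, _root_.or_false, _root_.or_true, _root_.Nat.one_le_ofNat, _root_.Int.reduceSub, _root_.Int.reducePow, _root_.MulZeroClass.zero_mul, _root_.OfNat.ofNat_ne_one, _root_.one_mul]

/-- **The matching of a family of roots.** -/
theorem mk_mt {θ : (Fin l → ℤ) ≃+ (Fin l → ℤ)}
    (hg : ∀ a, IsRoot M.toCoxeterSystem hp.isCartan (θ a) ↔ IsRoot M.toCoxeterSystem hp.isCartan a)
    {κ : Type*} [Fintype κ] [DecidableEq κ] {β : κ → Fin l → ℤ} (hlin : LinearIndependent ℤ β)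
    (hdeg : ∀ i j j', IsRoot M.toCoxeterSystem hp.isCartan (β i + β j) →
      IsRoot M.toCoxeterSystem hp.isCartan (β i + β j') → j = j')
    {π : Equiv.Perm κ} (hπ : ∀ j, θ (β j) = β (π j)) :
    ∃ μ : κ → κ, Mt β μ π θ ∧ (∀ i j, IsRoot M.toCoxeterSystem hp.isCartan (β i + β j) → j = μ i) ∧
      ∀ i, μ i ≠ i → IsRoot M.toCoxeterSystem hp.isCartan (β i + β (μ i)) := by
  classical
  let μ : κ → κ := fun i =>
    if h : ∃ j, IsRoot M.toCoxeterSystem hp.isCartan (β i + β j) then h.choose else i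
  have hadj : ∀ i j, IsRoot M.toCoxeterSystem hp.isCartan (β i + β j) → j = μ i := by
    intro i j hij
    have h : ∃ j, IsRoot M.toCoxeterSystem hp.isCartan (β i + β j) := ⟨j, hij⟩
    show j = if h : _ then _ else i
    rw [dif_pos h]
    exact hdeg i j h.choose hij h.choose_spec
  have hnot : ∀ i, ¬ (∃ j, IsRoot M.toCoxeterSystem hp.isCartan (β i + β j)) → μ i = i := by
    intro i h
    show (if h : _ then _ else i) = i
    rw [dif_neg h]
  have hadj' : ∀ i, μ i ≠ i → IsRoot M.toCoxeterSystem hp.isCartan (β i + β (μ i)) := by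
    intro i hi
    by_cases h : ∃ j, IsRoot M.toCoxeterSystem hp.isCartan (β i + β j)
    · obtain ⟨j, hj⟩ := h
      rw [← hadj i j hj]
      exact hj
    · exact absurd (hnot i h) hi
  have hmm : ∀ i, μ (μ i) = i := by
    intro i
    by_cases h : ∃ j, IsRoot M.toCoxeterSystem hp.isCartan (β i + β j)
    · obtain ⟨j, hj⟩ := h
      rw [← hadj i j hj]
      rw [add_comm] at hj
      exact (hadj j i hj).symm
    · rw [hnot i h, hnot i h]
  refine ⟨μ, ⟨hlin.injective, ?_, ?_, hmm, fun i => hπ i, ?_⟩, hadj, hadj'⟩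
  · intro i j hi hij
    have h1 := lin_eq (b := β) hlin (f := Pi.single i 1 + Pi.single (μ i) 1) (g := Pi.single j 1) (by
      rw [sum_single2, sum_single]
      exact hij)
    by_cases hj : j = i
    · have h2 := h1 (μ i)
      rw [hj, Pi.add_apply, Pi.single_eq_same, Pi.single_eq_of_ne hi] at h2
      omega
    · have h2 := h1 i
      rw [Pi.add_apply, Pi.single_eq_same, Pi.single_eq_of_ne (Ne.symm hj), Pi.single_eq_of_ne (Ne.symm hi)] at h2
      omega
  · intro i j hi hj hij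
    have h1 := lin_eq (b := β) hlin (f := Pi.single i 1 + Pi.single (μ i) 1) (g := Pi.single j 1 + Pi.single (μ j) 1) (by
      rw [sum_single2, sum_single2]
      exact hij) j
    by_contra hcon
    push Not at hcon
    rw [Pi.add_apply, Pi.add_apply, Pi.single_eq_same, Pi.single_eq_of_ne hcon.1, Pi.single_eq_of_ne hcon.2,
      Pi.single_eq_of_ne (Ne.symm hj)] at h1
    omega
  · intro i
    have hequi : ∀ i j, IsRoot M.toCoxeterSystem hp.isCartan (β (π i) + β (π j)) ↔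
        IsRoot M.toCoxeterSystem hp.isCartan (β i + β j) := by
      intro i j
      rw [← hπ, ← hπ, ← map_add, hg]
    by_cases h : ∃ j, IsRoot M.toCoxeterSystem hp.isCartan (β i + β j)
    · obtain ⟨j, hj⟩ := h
      rw [← hadj i j hj]
      exact (hadj _ _ ((hequi i j).2 hj)).symm
    · rw [hnot i h]
      refine hnot _ ?_
      rintro ⟨j, hj⟩
      refine h ⟨π.symm j, ?_⟩
      rw [← hequi, Equiv.apply_symm_apply]
      exact hj

variable {k : Type u} [Field k]

/-- sums of positive roots of the centraliser -/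
theorem sx_add {t : ↥(D.group k)} {n : ℕ} {w : M.Group} {c : Fin l → ℕ} {c0 : ℕ} (K : Kac D l n c c0)
    (hSJ : ∀ a, rep M.toCoxeterSystem hp.isCartan w a ∈ Sx M.toCoxeterSystem hp.isCartan (ch hp) t ∧
        0 ≤ rep M.toCoxeterSystem hp.isCartan w a ↔ SJ hp n c a) {u v : Fin l → ℤ}
    (hu : u ∈ Sx M.toCoxeterSystem hp.isCartan (ch hp) t ∧ 0 ≤ u)
    (hv : v ∈ Sx M.toCoxeterSystem hp.isCartan (ch hp) t ∧ 0 ≤ v)
    (huv : IsRoot M.toCoxeterSystem hp.isCartan (u + v)) :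
    u + v ∈ Sx M.toCoxeterSystem hp.isCartan (ch hp) t ∧ 0 ≤ u + v := by
  have e : ∀ x, rep M.toCoxeterSystem hp.isCartan w (rep M.toCoxeterSystem hp.isCartan w⁻¹ x) = x := fun x =>
    rep_apply_inv _ _ _ _
  have h1 : SJ hp n c (rep M.toCoxeterSystem hp.isCartan w⁻¹ u) := by rw [← hSJ, e]; exact hu
  have h2 : SJ hp n c (rep M.toCoxeterSystem hp.isCartan w⁻¹ v) := by rw [← hSJ, e]; exact hv
  have h3 : IsRoot M.toCoxeterSystem hp.isCartan (rep M.toCoxeterSystem hp.isCartan w⁻¹ (u + v)) := huv.act _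
  have h4 : (n : ℤ) ∣ bb c (rep M.toCoxeterSystem hp.isCartan w⁻¹ (u + v)) := by
    rw [map_add, map_add]
    exact dvd_add (SJ_dvd hp K h1) (SJ_dvd hp K h2)
  rcases (dvd_iff_SJ hp K h3).1 h4 with h5 | h5
  · rw [← hSJ, e] at h5
    exact h5
  · exfalso
    have h6 := ((hSJ _).2 h5).2
    rw [map_neg, e, neg_nonneg] at h6
    exact huv.not_pos_neg (add_nonneg hu.2 hv.2) h6

/-- the three nodes -/
def In3 {l : ℕ} (a₁ a₂ a₃ j : Option (Fin l)) : Prop := j = a₁ ∨ j = a₂ ∨ j = a₃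

instance {l : ℕ} (a₁ a₂ a₃ j : Option (Fin l)) : Decidable (In3 a₁ a₂ a₃ j) := by unfold In3; infer_instance

/-- linked nodes -/
def Lk (D : ChevalleyDatum) (l : ℕ) (Bm : Mat l) (i j : Option (Fin l)) : Prop := bl Bm (al D l i) (al D l j) = -1

instance (D : ChevalleyDatum) (l : ℕ) (Bm : Mat l) (i j : Option (Fin l)) : Decidable (Lk D l Bm i j) := by
  unfold Lk; infer_instance

/-- the nodes of `p` outside `a₁, a₂, a₃` are not linked to these -/
def Out3 (D : ChevalleyDatum) (l : ℕ) (Bm : Mat l) (p : Option (Fin l) → Prop) (a₁ a₂ a₃ : Option (Fin l)) : Prop :=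
  ∀ j, p j → ¬ In3 a₁ a₂ a₃ j → ¬ Lk D l Bm j a₁ ∧ ¬ Lk D l Bm j a₂ ∧ ¬ Lk D l Bm j a₃

instance (D : ChevalleyDatum) (l : ℕ) (Bm : Mat l) (p : Option (Fin l) → Prop) [DecidablePred p]
    (a₁ a₂ a₃ : Option (Fin l)) : Decidable (Out3 D l Bm p a₁ a₂ a₃) := by unfold Out3; infer_instance

/-- the node `i` is linked to at most one node of `p` -/
def One (D : ChevalleyDatum) (l : ℕ) (Bm : Mat l) (p : Option (Fin l) → Prop) (i : Option (Fin l)) : Prop :=
  ∀ j, p j → ∀ j', p j' → Lk D l Bm i j → Lk D l Bm i j' → j = j'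

instance (D : ChevalleyDatum) (l : ℕ) (Bm : Mat l) (p : Option (Fin l) → Prop) [DecidablePred p]
    (i : Option (Fin l)) : Decidable (One D l Bm p i) := by unfold One; infer_instance

/-- the nodes of `p` are a path `a₁, a₂, a₃` and a matching -/
def Deg3 (D : ChevalleyDatum) (l : ℕ) (Bm : Mat l) (p : Option (Fin l) → Prop) (a₁ a₂ a₃ : Option (Fin l)) : Prop :=
  (p a₁ ∧ p a₂ ∧ p a₃) ∧ (a₁ ≠ a₂ ∧ a₂ ≠ a₃ ∧ a₁ ≠ a₃) ∧
  (Lk D l Bm a₁ a₂ ∧ Lk D l Bm a₂ a₃ ∧ ¬ Lk D l Bm a₁ a₃) ∧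
  Out3 D l Bm p a₁ a₂ a₃ ∧ ∀ i, p i → ¬ In3 a₁ a₂ a₃ i → One D l Bm p i

instance (D : ChevalleyDatum) (l : ℕ) (Bm : Mat l) (p : Option (Fin l) → Prop) [DecidablePred p]
    (a₁ a₂ a₃ : Option (Fin l)) : Decidable (Deg3 D l Bm p a₁ a₂ a₃) := by unfold Deg3; infer_instance

/-- six different roots -/
theorem tri_nodup {V ι : Type*} [AddCommGroup V] [Fintype ι] [DecidableEq ι] {b : ι → V} (hlin : LinearIndependent ℤ b)
    {x y z : ι} (hxy : x ≠ y) (hyz : y ≠ z) (hxz : x ≠ z) :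
    ([b x, b y, b z, b x + b y, b y + b z, b x + b y + b z] : List V).Nodup := by
  have hinj : Function.Injective ![x, y, z] := by
    intro i j hij
    fin_cases i <;> fin_cases j
    · rfl
    · exact absurd hij hxy
    · exact absurd hij hxz
    · exact absurd hij (Ne.symm hxy)
    · rfl
    · exact absurd hij hyz
    · exact absurd hij (Ne.symm hxz)
    · exact absurd hij (Ne.symm hyz)
    · rfl
  have h3 : LinearIndependent ℤ (fun i : Fin 3 => b (![x, y, z] i)) := hlin.comp _ hinj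
  let φ : (Fin 3 → ℤ) → V := fun f => f 0 • b x + f 1 • b y + f 2 • b z
  have hφ : Function.Injective φ := by
    intro f g hfg
    funext i
    refine lin_eq h3 ?_ i
    rw [Fin.sum_univ_three, Fin.sum_univ_three]
    exact hfg
  have h4 : ([![1, 0, 0], ![0, 1, 0], ![0, 0, 1], ![1, 1, 0], ![0, 1, 1], ![1, 1, 1]] : List (Fin 3 → ℤ)).Nodup := by
    decide
  have h5 := h4.map hφ
  simpa only [φ, _root_.List.nodup_cons, _root_.List.mem_cons, _root_.left_eq_add, _root_.List.not_mem_nil, _root_.or_false, _root_.not_or, _root_.right_eq_add, _root_.add_left_inj, _root_.not_false_eq_true, _root_.List.nodup_nil, _root_.and_self, _root_.and_true, _root_.Fin.isValue, _root_.List.map_cons, _root_.Matrix.cons_val_zero, _root_.one_smul, _root_.Matrix.cons_val_one, _root_.zero_smul, _root_.add_zero, _root_.Matrix.cons_val, _root_.zero_add, _root_.List.map_nil] using h5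

theorem tri_notMem {V ι : Type*} [AddCommGroup V] [DecidableEq V] [Fintype ι] [DecidableEq ι] {b : ι → V}
    (hlin : LinearIndependent ℤ b) {x y z : ι} (hxy : x ≠ y) (hyz : y ≠ z) (hxz : x ≠ z) (g : ι → ℤ) (hx : g x = 0)
    (hy : g y = 0) (hz : g z = 0) : ∑ i, g i • b i ∉ P3 (b x) (b y) (b z) := by
  rw [mem_P3]
  rintro (h | h | h | h | h | h)
  · rw [← sum_single b x] at h
    have := lin_eq hlin h x
    rw [Pi.single_eq_same] at this
    omega
  · rw [← sum_single b y] at h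
    have := lin_eq hlin h y
    rw [Pi.single_eq_same] at this
    omega
  · rw [← sum_single b z] at h
    have := lin_eq hlin h z
    rw [Pi.single_eq_same] at this
    omega
  · rw [← sum_single2 b x y] at h
    have := lin_eq hlin h x
    rw [Pi.add_apply, Pi.single_eq_same, Pi.single_eq_of_ne hxy] at this
    omega
  · rw [← sum_single2 b y z] at h
    have := lin_eq hlin h y
    rw [Pi.add_apply, Pi.single_eq_same, Pi.single_eq_of_ne hyz] at this
    omega
  · have e : b x + b y + b z = ∑ i, (Pi.single x 1 + Pi.single y 1 + Pi.single z 1 : ι → ℤ) i • b i := by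
      simp only [Pi.add_apply, add_smul]
      rw [Finset.sum_add_distrib, Finset.sum_add_distrib, sum_single, sum_single, sum_single]
    rw [e] at h
    have := lin_eq hlin h x
    rw [Pi.add_apply, Pi.add_apply, Pi.single_eq_same, Pi.single_eq_of_ne hxy, Pi.single_eq_of_ne hxz] at this
    omega

/-- **The classification of the positive roots.** -/
theorem tri_class {Bm : Mat l} (hs : ∀ i j, Bm i j = Bm j i) {ι : Type*} [Fintype ι] [DecidableEq ι]
    {b : ι → Fin l → ℤ} (hself : ∀ i, bl Bm (b i) (b i) = 2) {x y z : ι} (hxy : x ≠ y) (hyz : y ≠ z) (hxz : x ≠ z)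
    (kxy : bl Bm (b x) (b y) = -1) (kyz : bl Bm (b y) (b z) = -1) (kxz : bl Bm (b x) (b z) = 0)
    {A : ι → Prop} [DecidablePred A] (hA : ∀ i, A i ↔ i = x ∨ i = y ∨ i = z)
    (hAB : ∀ i, ¬ A i → bl Bm (b x) (b i) = 0 ∧ bl Bm (b y) (b i) = 0 ∧ bl Bm (b z) (b i) = 0)
    {μ : {i // ¬ A i} → {i // ¬ A i}} (hμ : ∀ i, μ (μ i) = i)
    (hf : ∀ i j : {i // ¬ A i}, bl Bm (b i) (b j) =
      (if j = i then 2 else 0) - (if μ i = i then 0 else if j = μ i then 1 else 0))
    {m : ι → ℤ} (hm : ∀ i, 0 ≤ m i) {v : Fin l → ℤ} (h2 : bl Bm v v = 2) (hv : v = ∑ i, m i • b i) :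
    v ∈ P3 (b x) (b y) (b z) ∪ PM (fun i : {i // ¬ A i} => b i) μ := by
  classical
  set y₀ : Fin l → ℤ := ∑ i : {i // ¬ A i}, m i • b i with hy₀
  set xA : Fin l → ℤ := m x • b x + m y • b y + m z • b z with hxA
  have hsplit : v = xA + y₀ := by
    rw [hv, ← Fintype.sum_subtype_add_sum_subtype A]
    congr 1
    have h1 : ∑ i : {i // A i}, m i • b i = ∑ i ∈ ({x, y, z} : Finset ι), m i • b i := by
      symm
      exact Finset.sum_subtype _ (fun i => by simp [hA]) fun i => m i • b i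
    rw [h1, Finset.sum_insert (by simp [hxy, hxz]), Finset.sum_insert (by simp [hyz]), Finset.sum_singleton, hxA, add_assoc]
  have hzero : ∀ u : Fin l → ℤ, (∀ i : {i // ¬ A i}, bl Bm u (b i) = 0) → bl Bm u y₀ = 0 := by
    intro u hu
    rw [hy₀, map_sum]
    exact Finset.sum_eq_zero fun i _ => by rw [map_zsmul, hu i, smul_zero]
  have e1 : ∀ u : Fin l → ℤ, bl Bm u xA = m x * bl Bm u (b x) + m y * bl Bm u (b y) + m z * bl Bm u (b z) := by
    intro u
    rw [hxA, map_add, map_add, map_zsmul, map_zsmul, map_zsmul, smul_eq_mul, smul_eq_mul, smul_eq_mul]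
  have kyx : bl Bm (b y) (b x) = -1 := by rw [bl_comm hs]; exact kxy
  have kzy : bl Bm (b z) (b y) = -1 := by rw [bl_comm hs]; exact kyz
  have kzx : bl Bm (b z) (b x) = 0 := by rw [bl_comm hs]; exact kxz
  have hTA : bl Bm xA xA = 2 * (m x ^ 2 + m y ^ 2 + m z ^ 2 - m x * m y - m y * m z) := by
    rw [e1, bl_comm hs (b x) xA, bl_comm hs (b y) xA, bl_comm hs (b z) xA, e1, e1, e1, hself, hself, hself, kxy, kyx,
      kyz, kzy, kxz, kzx]
    ring
  have hAy : bl Bm xA y₀ = 0 := by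
    rw [bl_comm hs, e1, bl_comm hs (b x) y₀, bl_comm hs (b y) y₀, bl_comm hs (b z) y₀,
      hzero _ fun i => (hAB i i.2).1, hzero _ fun i => (hAB i i.2).2.1, hzero _ fun i => (hAB i i.2).2.2]
    ring
  have hTB : bl Bm y₀ y₀ = ∑ i : {i // ¬ A i}, m i * (2 * m i - if μ i = i then 0 else m (μ i)) :=
    form_eq hs (β := fun i : {i // ¬ A i} => b i) hf (fun i => m i)
  obtain ⟨hB0, hBz⟩ := sq_pos hμ (fun i : {i // ¬ A i} => m i)
  have htot : bl Bm xA xA + bl Bm y₀ y₀ = 2 := by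
    have h6 : bl Bm (xA + y₀) (xA + y₀) = bl Bm xA xA + bl Bm y₀ y₀ := by
      rw [map_add, bl_add_left hs xA xA y₀, bl_add_left hs y₀ xA y₀, hAy, bl_comm hs xA y₀, hAy]
      ring
    rw [← h6, ← hsplit, h2]
  rw [hTA, hTB] at htot
  set TA := m x ^ 2 + m y ^ 2 + m z ^ 2 - m x * m y - m y * m z with hTAdef
  have hTA0 : 0 ≤ TA := by
    rw [hTAdef]
    linarith only [sq_nonneg (m x - m y), sq_nonneg (m y - m z), sq_nonneg (m x), sq_nonneg (m z)]
  have hTA1 : TA = 0 ∨ TA = 1 := by omega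
  rw [Finset.mem_union]
  rcases hTA1 with h0 | h0
  · right
    have z1 : m x ^ 2 ≤ 0 := by
      rw [hTAdef] at h0
      linarith only [h0, sq_nonneg (m x - m y), sq_nonneg (m y - m z), sq_nonneg (m z)]
    have z2 : m z ^ 2 ≤ 0 := by
      rw [hTAdef] at h0
      linarith only [h0, sq_nonneg (m x - m y), sq_nonneg (m y - m z), sq_nonneg (m x)]
    have mx : m x = 0 := pow_eq_zero_iff (two_ne_zero) |>.1 (le_antisymm z1 (sq_nonneg _))
    have mz : m z = 0 := pow_eq_zero_iff (two_ne_zero) |>.1 (le_antisymm z2 (sq_nonneg _))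
    have my : m y = 0 := by
      rw [hTAdef, mx, mz] at h0
      have : m y ^ 2 = 0 := by linarith only [h0]
      exact pow_eq_zero_iff (two_ne_zero) |>.1 this
    have hvy : v = y₀ := by rw [hsplit, hxA, mx, my, mz, zero_smul, zero_smul, zero_smul]; simp
    rw [h0, mul_zero, zero_add] at htot
    rw [mem_PM]
    rcases sq_cases (m := fun i : {i // ¬ A i} => m i) hμ (fun i => hm i) htot with ⟨i, hi⟩ | ⟨i, hi, hi'⟩
    · left
      refine ⟨i, ?_⟩
      rw [hvy, hy₀, ← sum_single (fun j : {i // ¬ A i} => b j) i]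
      exact Finset.sum_congr rfl fun j _ => by rw [← hi]
    · right
      refine ⟨i, hi, ?_⟩
      rw [hvy, hy₀, ← sum_single2 (fun j : {i // ¬ A i} => b j) i (μ i)]
      exact Finset.sum_congr rfl fun j _ => by rw [← hi']
  · left
    have hB : (∑ i : {i // ¬ A i}, m i * (2 * m i - if μ i = i then 0 else m (μ i))) = 0 := by
      rw [h0] at htot; linarith only [hB0, htot]
    have hy0 : y₀ = 0 := by
      rw [hy₀]
      exact Finset.sum_eq_zero fun i _ => by rw [hBz hB i, zero_smul]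
    rw [hsplit, hy0, add_zero, hxA, mem_P3]
    rcases three_cases (hm x) (hm y) (hm z) h0 with ⟨h1, h2, h3⟩ | ⟨h1, h2, h3⟩ | ⟨h1, h2, h3⟩ | ⟨h1, h2, h3⟩ |
      ⟨h1, h2, h3⟩ | ⟨h1, h2, h3⟩ <;> rw [h1, h2, h3] <;> simp only [_root_.one_smul, _root_.zero_smul, _root_.add_zero, _root_.left_eq_add, _root_.true_or, _root_.zero_add, _root_.right_eq_add, _root_.or_true, _root_.add_eq_left, _root_.add_eq_right, _root_.add_left_inj]

/-- **The data of the product inequality.** -/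
theorem exists_data3 {Bm : Mat l} (E : EF D l Bm) {t : ↥(D.group k)} {θ : (Fin l → ℤ) ≃+ (Fin l → ℤ)}
    (hg : ∀ a, IsRoot M.toCoxeterSystem hp.isCartan (θ a) ↔ IsRoot M.toCoxeterSystem hp.isCartan a)
    {n : ℕ} {w : M.Group} {c : Fin l → ℕ} {c0 : ℕ} (K : Kac D l n c c0)
    (hSJ : ∀ a, rep M.toCoxeterSystem hp.isCartan w a ∈ Sx M.toCoxeterSystem hp.isCartan (ch hp) t ∧
        0 ≤ rep M.toCoxeterSystem hp.isCartan w a ↔ SJ hp n c a)
    {π : Equiv.Perm {j : Option (Fin l) // ct c c0 j = 0}}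
    (hπ : ∀ j, θ (rep M.toCoxeterSystem hp.isCartan w (al D l j.1)) =
      rep M.toCoxeterSystem hp.isCartan w (al D l (π j).1))
    {a₁ a₂ a₃ : Option (Fin l)} (hd : Deg3 D l Bm (fun j => ct c c0 j = 0) a₁ a₂ a₃) :
    ∃ P : Finset (Fin l → ℤ), (∀ x, x ∈ P ↔ x ∈ Sx M.toCoxeterSystem hp.isCartan (ch hp) t ∧ 0 ≤ x) ∧
      LinearIndependent ℤ (fun j : {j : Option (Fin l) // ct c c0 j = 0} =>
        rep M.toCoxeterSystem hp.isCartan w (al D l j)) ∧
      ∀ q, 2 ≤ q → bsum P θ q * cyc q π ≤ q ^ (P.card + Fintype.card {j : Option (Fin l) // ct c c0 j = 0}) := by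
  classical
  obtain ⟨⟨p1, p2, p3⟩, ⟨n12, n23, n13⟩, ⟨k12, k23, k13⟩, hout, hdeg⟩ := hd
  set b : {j : Option (Fin l) // ct c c0 j = 0} → (Fin l → ℤ) := fun j => rep M.toCoxeterSystem hp.isCartan w (al D l j)
    with hb
  obtain ⟨j₀, hj₀⟩ : ∃ j₀ : Option (Fin l), ¬ ct c c0 j₀ = 0 := by
    by_cases h0 : c0 = 0
    · obtain ⟨i, hi⟩ := K.ne h0
      exact ⟨some i, hi⟩
    · exact ⟨none, h0⟩
  have hlin0 := linInd_al (D := D) hp (p := fun j => ct c c0 j = 0) hj₀
  have hinj := rep_injective_apply M.toCoxeterSystem hp.isCartan w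
  have hlin : LinearIndependent ℤ b := hlin0.map' (rep M.toCoxeterSystem hp.isCartan w) (LinearMap.ker_eq_bot.2 hinj)
  have hF : ∀ i j, bl Bm (b i) (b j) = bl Bm (al D l i) (al D l j) := fun i j => bl_rep hp E.1 w _ _
  have hrb : ∀ i, IsRoot M.toCoxeterSystem hp.isCartan (b i) := fun i => (isRoot_al hp _).act w
  have hself : ∀ i, bl Bm (b i) (b i) = 2 := fun i => bl_root hp E.1 E.2.1 (hrb i)
  have hL : ∀ i j, IsRoot M.toCoxeterSystem hp.isCartan (b i + b j) ↔ Lk D l Bm i j := by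
    intro i j
    constructor
    · intro h
      have h1 := bl_of_add hp E (hrb i) (hrb j) h
      rw [hF] at h1
      exact h1
    · intro h
      refine isRoot_add_bl hp E (hrb i) (hrb j) ?_
      rw [bl_comm E.1.1, hF]
      exact h
  have hval : ∀ i j : {j : Option (Fin l) // ct c c0 j = 0}, i ≠ j → ¬ Lk D l Bm i j → bl Bm (b i) (b j) = 0 := by
    intro i j hij hk
    have hne : (i : Option (Fin l)) ≠ j := fun h => hij (Subtype.ext h)
    rcases bl_al hp E hne with h | h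
    · rw [hF]; exact h
    · exact absurd (bl_of_add hp E (isRoot_al hp _) (isRoot_al hp _) h) hk
  have hLs : ∀ {i j : Option (Fin l)}, Lk D l Bm i j → Lk D l Bm j i := by
    intro i j h
    show bl Bm _ _ = _
    rw [bl_comm E.1.1]
    exact h
  have hLself : ∀ i, ¬ Lk D l Bm i i := by
    intro i h
    have h1 : bl Bm (al D l i) (al D l i) = -1 := h
    rw [bl_root hp E.1 E.2.1 (isRoot_al hp _)] at h1
    omega
  set x : {j : Option (Fin l) // ct c c0 j = 0} := ⟨a₁, p1⟩ with hx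
  set y : {j : Option (Fin l) // ct c c0 j = 0} := ⟨a₂, p2⟩ with hy
  set z : {j : Option (Fin l) // ct c c0 j = 0} := ⟨a₃, p3⟩ with hz
  have hxy : x ≠ y := fun h => n12 (congrArg Subtype.val h)
  have hyz : y ≠ z := fun h => n23 (congrArg Subtype.val h)
  have hxz : x ≠ z := fun h => n13 (congrArg Subtype.val h)
  let A : {j : Option (Fin l) // ct c c0 j = 0} → Prop := fun i => i = x ∨ i = y ∨ i = z
  have hA3 : ∀ i, ¬ A i → ¬ In3 a₁ a₂ a₃ i := by
    intro i hi h
    rcases h with h | h | h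
    · exact hi (Or.inl (Subtype.ext h))
    · exact hi (Or.inr (Or.inl (Subtype.ext h)))
    · exact hi (Or.inr (Or.inr (Subtype.ext h)))
  have hout' : ∀ i, ¬ A i → ¬ Lk D l Bm i x ∧ ¬ Lk D l Bm i y ∧ ¬ Lk D l Bm i z := fun i hi =>
    hout i i.2 (hA3 i hi)
  have hone : ∀ i, ¬ A i → ∀ j j' : {j : Option (Fin l) // ct c c0 j = 0}, Lk D l Bm i j → Lk D l Bm i j' → j = j' :=
    fun i hi j j' h1 h2 => Subtype.ext (hdeg i i.2 (hA3 i hi) j j.2 j' j'.2 h1 h2)
  -- the action on the path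
  have hE : ∀ i j, Lk D l Bm (π i) (π j) ↔ Lk D l Bm i j := by
    intro i j
    rw [← hL, ← hL, hb]
    show IsRoot M.toCoxeterSystem hp.isCartan (rep M.toCoxeterSystem hp.isCartan w (al D l (π i).1) +
      rep M.toCoxeterSystem hp.isCartan w (al D l (π j).1)) ↔ _
    rw [← hπ, ← hπ, ← map_add, hg]
  have hxl : ∀ j : {j : Option (Fin l) // ct c c0 j = 0}, Lk D l Bm x j → j = y := by
    intro j hj
    by_cases hA : A j
    · rcases hA with rfl | rfl | rfl
      · exact absurd hj (hLself _)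
      · rfl
      · exact absurd hj k13
    · exact absurd (hLs hj) (hout' j hA).1
  have hzl : ∀ j : {j : Option (Fin l) // ct c c0 j = 0}, Lk D l Bm z j → j = y := by
    intro j hj
    by_cases hA : A j
    · rcases hA with rfl | rfl | rfl
      · exact absurd (hLs hj) k13
      · rfl
      · exact absurd hj (hLself _)
    · exact absurd (hLs hj) (hout' j hA).2.2
  have hyx : Lk D l Bm (π y) (π x) := (hE y x).2 (hLs k12)
  have hyz' : Lk D l Bm (π y) (π z) := (hE y z).2 k23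
  have hpy : π y = y := by
    have hAy : A (π y) := by
      by_contra hcon
      exact hxz (π.injective (hone _ hcon _ _ hyx hyz'))
    rcases hAy with h | h | h
    · rw [h] at hyx hyz'
      exact absurd (π.injective ((hxl _ hyx).trans (hxl _ hyz').symm)) hxz
    · exact h
    · rw [h] at hyx hyz'
      exact absurd (π.injective ((hzl _ hyx).trans (hzl _ hyz').symm)) hxz
  have hpx : π x = x ∨ π x = z := by
    rw [hpy] at hyx
    by_cases hA : A (π x)
    · rcases hA with h | h | h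
      · exact Or.inl h
      · exact absurd (π.injective (h.trans hpy.symm)) hxy
      · exact Or.inr h
    · exact absurd (hLs hyx) (hout' _ hA).2.1
  have hpz : π z = x ∨ π z = z := by
    rw [hpy] at hyz'
    by_cases hA : A (π z)
    · rcases hA with h | h | h
      · exact Or.inl h
      · exact absurd (π.injective (h.trans hpy.symm)).symm hyz
      · exact Or.inr h
    · exact absurd (hLs hyz') (hout' _ hA).2.1
  have hflip : (π x = x ∧ π z = z) ∨ (π x = z ∧ π z = x) := by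
    rcases hpx with h1 | h1 <;> rcases hpz with h2 | h2
    · exact absurd (π.injective (h1.trans h2.symm)) hxz
    · exact Or.inl ⟨h1, h2⟩
    · exact Or.inr ⟨h1, h2⟩
    · exact absurd (π.injective (h1.trans h2.symm)) hxz
  have hAσ : ∀ i, A (π i) ↔ A i := by
    intro i
    rcases hflip with ⟨h1, h2⟩ | ⟨h1, h2⟩
    · constructor
      · rintro (h | h | h)
        · exact Or.inl (π.injective (h.trans h1.symm))
        · exact Or.inr (Or.inl (π.injective (h.trans hpy.symm)))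
        · exact Or.inr (Or.inr (π.injective (h.trans h2.symm)))
      · rintro (rfl | rfl | rfl)
        · exact Or.inl h1
        · exact Or.inr (Or.inl hpy)
        · exact Or.inr (Or.inr h2)
    · constructor
      · rintro (h | h | h)
        · exact Or.inr (Or.inr (π.injective (h.trans h2.symm)))
        · exact Or.inr (Or.inl (π.injective (h.trans hpy.symm)))
        · exact Or.inl (π.injective (h.trans h1.symm))
      · rintro (rfl | rfl | rfl)
        · exact Or.inr (Or.inr h1)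
        · exact Or.inr (Or.inl hpy)
        · exact Or.inl h2
  -- the matching
  obtain ⟨μ, hM, hadj, hadj'⟩ := mk_mt hp hg (κ := {i // ¬ A i}) (β := fun i => b i)
    (hlin.comp _ Subtype.val_injective) (fun i j j' h1 h2 => Subtype.ext (hone i i.2 j j' ((hL _ _).1 h1) ((hL _ _).1 h2)))
    (π := π.subtypePerm (p := fun i => ¬ A i) fun i => not_congr (hAσ i)) (fun j => hπ j)
  have hnd := tri_nodup hlin hxy hyz hxz
  have hbS : ∀ j, b j ∈ Sx M.toCoxeterSystem hp.isCartan (ch hp) t ∧ 0 ≤ b j := fun j =>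
    (hSJ _).2 (SJ_al hp K j.2)
  have kxy : bl Bm (b x) (b y) = -1 := by rw [hF]; exact k12
  have kyz : bl Bm (b y) (b z) = -1 := by rw [hF]; exact k23
  have kxz : bl Bm (b x) (b z) = 0 := hval x z hxz k13
  have hA' : ∀ i, A i ↔ i = x ∨ i = y ∨ i = z := fun i => Iff.rfl
  have hAx : ∀ i : {i // ¬ A i}, (i : {j : Option (Fin l) // ct c c0 j = 0}) ≠ x := fun i h => i.2 (Or.inl h)
  have hAy : ∀ i : {i // ¬ A i}, (i : {j : Option (Fin l) // ct c c0 j = 0}) ≠ y := fun i h => i.2 (Or.inr (Or.inl h))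
  have hAz : ∀ i : {i // ¬ A i}, (i : {j : Option (Fin l) // ct c c0 j = 0}) ≠ z := fun i h => i.2 (Or.inr (Or.inr h))
  have hAB : ∀ i, ¬ A i → bl Bm (b x) (b i) = 0 ∧ bl Bm (b y) (b i) = 0 ∧ bl Bm (b z) (b i) = 0 := by
    intro i hi
    obtain ⟨h1, h2, h3⟩ := hout' i hi
    exact ⟨hval x i (fun h => hi (Or.inl h.symm)) (fun h => h1 (hLs h)),
      hval y i (fun h => hi (Or.inr (Or.inl h.symm))) (fun h => h2 (hLs h)),
      hval z i (fun h => hi (Or.inr (Or.inr h.symm))) (fun h => h3 (hLs h))⟩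
  have hf : ∀ i j : {i // ¬ A i}, bl Bm (b i) (b j) =
      (if j = i then 2 else 0) - (if μ i = i then 0 else if j = μ i then 1 else 0) := by
    intro i j
    by_cases hji : j = i
    · subst hji
      rw [if_pos rfl, hself]
      by_cases hμj : μ j = j
      · rw [if_pos hμj, sub_zero]
      · rw [if_neg hμj, if_neg (Ne.symm hμj), sub_zero]
    · rw [if_neg hji]
      by_cases hjμ : j = μ i
      · have hμi : μ i ≠ i := fun h => hji (hjμ.trans h)
        rw [if_neg hμi, if_pos hjμ, hjμ, bl_of_add hp E (hrb _) (hrb _) (hadj' i hμi)]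
        rfl
      · have hk : ¬ Lk D l Bm i j := fun h => hjμ (hadj i j ((hL _ _).2 h))
        rw [hval i j (fun h => hji (Subtype.ext h.symm)) hk, if_neg hjμ]
        by_cases hμi : μ i = i
        · rw [if_pos hμi, sub_zero]
        · rw [if_neg hμi, sub_zero]
  have hdis : Disjoint (P3 (b x) (b y) (b z)) (PM (fun i : {i // ¬ A i} => b i) μ) := by
    rw [Finset.disjoint_left]
    intro v hv hv'
    rcases mem_PM.1 hv' with ⟨i, rfl⟩ | ⟨i, hi, rfl⟩
    · refine tri_notMem hlin hxy hyz hxz (Pi.single i.1 1) (Pi.single_eq_of_ne (hAx i).symm _)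
        (Pi.single_eq_of_ne (hAy i).symm _) (Pi.single_eq_of_ne (hAz i).symm _) ?_
      rw [sum_single]
      exact hv
    · refine tri_notMem hlin hxy hyz hxz (Pi.single i.1 1 + Pi.single (μ i).1 1) ?_ ?_ ?_ ?_
      · rw [Pi.add_apply, Pi.single_eq_of_ne (hAx i).symm, Pi.single_eq_of_ne (hAx _).symm, add_zero]
      · rw [Pi.add_apply, Pi.single_eq_of_ne (hAy i).symm, Pi.single_eq_of_ne (hAy _).symm, add_zero]
      · rw [Pi.add_apply, Pi.single_eq_of_ne (hAz i).symm, Pi.single_eq_of_ne (hAz _).symm, add_zero]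
      · rw [sum_single2]
        exact hv
  refine ⟨P3 (b x) (b y) (b z) ∪ PM (fun i : {i // ¬ A i} => b i) μ, fun v => ?_, hlin, fun q hq =>
    pi_three hq (fun i => hπ i) hxy hyz hxz hpy hflip hA' hAσ hM hnd hdis⟩
  constructor
  · intro hv
    have hsxy : b x + b y ∈ Sx M.toCoxeterSystem hp.isCartan (ch hp) t ∧ 0 ≤ b x + b y :=
      sx_add hp K hSJ (hbS x) (hbS y) ((hL _ _).2 k12)
    rcases Finset.mem_union.1 hv with h | h
    · rcases mem_P3.1 h with rfl | rfl | rfl | rfl | rfl | rfl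
      · exact hbS _
      · exact hbS _
      · exact hbS _
      · exact hsxy
      · exact sx_add hp K hSJ (hbS y) (hbS z) ((hL _ _).2 k23)
      · refine sx_add hp K hSJ hsxy (hbS z) (isRoot_add_bl hp E ((hL _ _).2 k12) (hrb z) ?_)
        rw [map_add, bl_comm E.1.1, kxz, bl_comm E.1.1, kyz]
        rfl
    · rcases mem_PM.1 h with ⟨i, rfl⟩ | ⟨i, hi, rfl⟩
      · exact hbS _
      · exact sx_add hp K hSJ (hbS _) (hbS _) (hadj' i hi)
  · intro hv
    have hwx : rep M.toCoxeterSystem hp.isCartan w (rep M.toCoxeterSystem hp.isCartan w⁻¹ v) = v :=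
      rep_apply_inv _ _ _ _
    have h1 : SJ hp n c (rep M.toCoxeterSystem hp.isCartan w⁻¹ v) := by
      rw [← hSJ, hwx]
      exact hv
    obtain ⟨m, hm0, hmJ, hm⟩ := exists_coef hp K h1
    have hv1 : v = ∑ i : {j : Option (Fin l) // ct c c0 j = 0}, m i • b i := by
      rw [← hwx, hm, map_sum, sum_sub (fun j => ct c c0 j = 0) _ fun j hj => ?_]
      · exact Finset.sum_congr rfl fun i _ => by rw [map_zsmul]
      · have : m j = 0 := by
          by_contra h
          exact hj (hmJ j h)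
        rw [this, zero_smul, map_zero]
    exact tri_class E.1.1 hself hxy hyz hxz kxy kyz kxz hA' hAB hM.mm hf (m := fun i => m i) (fun i => hm0 i)
      (bl_root hp E.1 E.2.1 hv.1.1) hv1

end Cfsg.Agent.H255.RG
end

private theorem dce_e727eefa15bb : _root_.True := by
  try have : _root_.True := by simp only [_root_.Cfsg.Agent.H255.RG.P3.eq_1]
  exact _root_.True.intro
end

-- part: H257/RG/SuzTrip
section
set_option linter.all false
open scoped Cfsg.Agent.FastGrp

/-!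
# S3509, row `Suz`: covers by three elements (helper257)

* `no_237` : there are no commuting elements of orders 2, 3, 7 in `Suz : 2`;
* `red_235` : a cover by elements of orders 2, 3, 5 gives a cover by the first two.
-/

set_option autoImplicit false
set_option maxRecDepth 1000000
set_option exponentiation.threshold 5000

namespace Cfsg.Agent.H257.RG.SuzF

open Subgroup MulAction Cfsg.Agent.H257.RG Cfsg.Agent.H257.OZ Cfsg.Agent.H257.OZ.SuzF
open Cfsg Cfsg.Spor Cfsg.Agent.H123.Cls Cfsg.Agent.H123.Cls.SuzDat Cfsg.Agent.Lib.BitNet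
open Cfsg.Agent.H763.Ore.SuzModel (A N A_conj card_A card_N N_le_A T_mem_A T_notMem)
open Cfsg.Agent.OddHalf.Table.SuzRep (ψ ψ_val ψ_injective)
open Cfsg.Agent.SporadicRecognition.SuzOrder (el card_Suz)
open Cfsg.Agent.KFacts.SuzRho (rho rho_el rho_sq)
open Equiv (Perm)

/-! ### the element of order 15 -/

/-- an element of order 15 commuting with `ρ` -/
noncomputable def r15 : Suz := el ([4, 0].map gn) * el ([3, 1].map gn) * (el ([4, 0].map gn))⁻¹ * (el ([3, 1].map gn))⁻¹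

def wC : List ℕ := [2, 1, 3, 2, 1, 3, 2, 4, 3, 2, 3, 4, 2, 3, 1, 2, 3, 1, 2]

/-- an element commuting with `ρ` and with `r15 ^ 10` -/
noncomputable def c15 : Suz := el (wC.map gn)

theorem gn_inv' (k : ℕ) : (PresentedGroup.of (gn k) : Suz)⁻¹ = PresentedGroup.of (gn k) := by
  have h := Cfsg.Agent.H867.Gen.Suz.sq_gen (gn k)
  have h1 : el [gn k] = PresentedGroup.of (gn k) := by simp [el]
  rw [h1] at h
  exact inv_eq_of_mul_eq_one_left h

theorem el_rev' (l : List ℕ) : el ((l.reverse).map gn) = (el (l.map gn))⁻¹ := by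
  induction l with
  | nil => simp [el]
  | cons a l ih =>
    have e1 : el ((a :: l).map gn) = PresentedGroup.of (gn a) * el (l.map gn) := by
      simp only [el, List.map_cons, List.prod_cons]
    have e2 : el (((a :: l).reverse).map gn) = el ((l.reverse).map gn) * PresentedGroup.of (gn a) := by
      simp only [el, List.reverse_cons, List.map_append, List.prod_append, List.map_cons, List.map_nil, List.prod_cons,
        List.prod_nil, mul_one]
    rw [e1, e2, ih, mul_inv_rev, gn_inv']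

theorem r15_tab (p : Fin 1782) : (ψ r15 p : ℕ) = lk 11 p13 p := comm_tab cm13 p

theorem rho_fix {l : List ℕ} (h : ∀ k ∈ l, k < 5) : rho (el (l.map gn)) = el (l.map gn) := by
  rw [rho_el]
  congr 1
  rw [List.map_map]
  refine List.map_congr_left fun k hk => ?_
  have := h k hk
  interval_cases k <;> rfl

theorem rho_r15 : rho r15 = r15 := by
  unfold r15
  rw [map_mul, map_mul, map_mul, map_inv, map_inv, rho_fix (l := [4, 0]) (by decide), rho_fix (l := [3, 1]) (by decide)]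

theorem rho_c15 : rho c15 = c15 := rho_fix (by decide)

theorem chkC10 : allN (fun p => Nat.beq (evw 11 gens wC (it 11 p13 10 p)) (it 11 p13 10 (evw 11 gens wC p))) 1782 = true :=
  allN_sb5 (x := c15 * r15 ^ 10) (y := r15 ^ 10 * c15) (f := fun p => evw 11 gens wC (it 11 p13 10 p))
    (g := fun p => it 11 p13 10 (evw 11 gens wC p))
    (fun p => by rw [map_mul, map_pow, Equiv.Perm.mul_apply, c15, ev_tab wC (by decide), pow_tab r15_tab])
    (fun p => by rw [map_mul, map_pow, Equiv.Perm.mul_apply, c15, pow_tab r15_tab, ev_tab wC (by decide)])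
    (by decide +kernel)

theorem chkD : allN (fun p => Nat.beq (it 11 p13 6 (evw 11 gens wC (it 11 p13 6 (evw 11 gens wC.reverse
    (it 11 p13 6 (evw 11 gens wC (it 11 p13 6 (evw 11 gens wC.reverse p)))))))) (it 11 p13 5 p)) 1782 = true :=
  allN_sb5 (x := r15 ^ 6 * (c15 * (r15 ^ 6 * (el ((wC.reverse).map gn) * (r15 ^ 6 * (c15 * (r15 ^ 6 *
      el ((wC.reverse).map gn)))))))) (y := r15 ^ 5)
    (f := fun p => it 11 p13 6 (evw 11 gens wC (it 11 p13 6 (evw 11 gens wC.reverse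
      (it 11 p13 6 (evw 11 gens wC (it 11 p13 6 (evw 11 gens wC.reverse p))))))))
    (g := fun p => it 11 p13 5 p)
    (fun p => by
      simp only [map_mul, map_pow, Equiv.Perm.mul_apply]
      rw [c15]
      simp only [pow_tab r15_tab, ev_tab wC (by decide), ev_tab wC.reverse (by decide)])
    (fun p => by rw [map_pow, pow_tab r15_tab]) (by decide +kernel)

theorem c15_comm : c15 * r15 ^ 10 = r15 ^ 10 * c15 := by
  apply ψ_injective
  rw [map_mul, map_mul, map_pow]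
  ext p
  rw [Equiv.Perm.mul_apply, Equiv.Perm.mul_apply, c15, ev_tab wC (by decide), pow_tab r15_tab, pow_tab r15_tab,
    ev_tab wC (by decide)]
  exact Nat.eq_of_beq_eq_true ((allN_iff _ _).1 chkC10 p p.2)

theorem c15_rel : (r15 ^ 6 * c15 * r15 ^ 6 * c15⁻¹) ^ 2 = r15 ^ 5 := by
  apply ψ_injective
  have hinv : c15⁻¹ = el ((wC.reverse).map gn) := by rw [c15, el_rev']
  rw [pow_two, hinv]
  simp only [map_mul, map_pow]
  ext p
  simp only [Equiv.Perm.mul_apply]
  rw [c15]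
  simp only [pow_tab r15_tab, ev_tab wC (by decide), ev_tab wC.reverse (by decide)]
  exact Nat.eq_of_beq_eq_true ((allN_iff _ _).1 chkD p p.2)

theorem dvd_of_idx {i : ℕ} {x : ℕ × ℕ × List ℕ} {y : ℕ × ℕ × ℕ} (hx : D[i]? = some x) (hy : Y[i]? = some y) {r : Suz}
    (hr : ∀ p : Fin 1782, (ψ r p : ℕ) = lk 11 x.1 p) : y.2.1 ∣ orderOf r ∧ orderOf r ∣ y.2.2 := by
  have hz : (x, y) ∈ D.zip Y := List.mem_iff_getElem?.2 ⟨i, List.getElem?_zip_eq_some.2 ⟨hx, hy⟩⟩
  have hc := List.all_eq_true.1 chkA _ hz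
  unfold chkY at hc
  simp only [Bool.and_eq_true, Bool.or_eq_true] at hc
  obtain ⟨c1, c2, c3, c4, c5⟩ := hc
  have d1 : y.1 < 1782 := by simpa [Nat.blt_eq] using c1
  have d2 : 0 < y.2.1 := by simpa [Nat.blt_eq] using c2
  have ho2 : orderOf (ψ r) = orderOf r := orderOf_injective ψ ψ_injective r
  rw [← ho2]
  refine ⟨dvd_order hr ⟨y.1, d1⟩ d2 (Nat.eq_of_beq_eq_true c3) c4, ?_⟩
  rcases c5 with c5 | c5
  · rw [Nat.eq_of_beq_eq_true c5]
    exact dvd_zero _
  · refine orderOf_dvd_of_pow_eq_one ?_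
    ext p
    rw [pow_tab hr, Equiv.Perm.one_apply]
    exact Nat.eq_of_beq_eq_true ((allN_iff _ _).1 c5 p p.2)

theorem order_r15 : orderOf r15 = 15 := by
  have h := dvd_of_idx (i := 13) (y := (4, 15, 15)) (show D[13]? = some (p13, 29, _) from rfl) rfl r15_tab
  exact Nat.dvd_antisymm h.2 h.1

/-- automorphisms commuting with an inner automorphism -/
theorem conj_inj : Function.Injective (MulAut.conj : Suz →* MulAut Suz) :=
  Cfsg.Agent.H147.Gen.conj_inj Cfsg.Agent.H867.Gen.Suz.center_suz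

theorem order_conj (g : Suz) : orderOf (MulAut.conj g) = orderOf g := orderOf_injective _ conj_inj g

theorem mem_cent_iff {η : MulAut Suz} {r : Suz} : η ∈ centralizer ({MulAut.conj r} : Set (MulAut Suz)) ↔ η r = r := by
  rw [mem_centralizer_singleton_iff, ← mul_inv_eq_iff_eq_mul, Cfsg.Agent.H147.Gen.aut_conj]
  exact ⟨fun h => conj_inj h, fun h => by rw [h]⟩

/-- the centralizer of an element of order `n` in `Suz : 2`, an involution in it -/
theorem two_dvd {r : Suz} {n : ℕ} (ho : orderOf r = n) (hn : Odd n) {η : MulAut Suz} (h2 : η * η = 1) (h1 : η ≠ 1)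
    (h : η r = r) : 2 * n ∣ Nat.card ↥(centralizer ({MulAut.conj r} : Set (MulAut Suz))) := by
  have := finAut
  have hη : η ∈ centralizer ({MulAut.conj r} : Set (MulAut Suz)) := mem_cent_iff.2 h
  have hr : MulAut.conj r ∈ centralizer ({MulAut.conj r} : Set (MulAut Suz)) := mem_centralizer_singleton_iff.2 rfl
  have o2 : orderOf η = 2 := orderOf_eq_prime (by rw [pow_two, h2]) h1
  have e1 : 2 ∣ Nat.card ↥(centralizer ({MulAut.conj r} : Set (MulAut Suz))) := by
    rw [← o2]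
    have : orderOf (⟨η, hη⟩ : ↥(centralizer ({MulAut.conj r} : Set (MulAut Suz)))) = orderOf η := by
      rw [← Subgroup.orderOf_coe]
    rw [← this]
    exact orderOf_dvd_natCard _
  have e2 : n ∣ Nat.card ↥(centralizer ({MulAut.conj r} : Set (MulAut Suz))) := by
    rw [← ho, ← order_conj]
    have : orderOf (⟨MulAut.conj r, hr⟩ : ↥(centralizer ({MulAut.conj r} : Set (MulAut Suz)))) =
        orderOf (MulAut.conj r) := by
      rw [← Subgroup.orderOf_coe]
    rw [← this]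
    exact orderOf_dvd_natCard _
  exact Nat.Coprime.mul_dvd_of_dvd_of_dvd (Nat.coprime_two_left.2 hn) e1 e2

theorem card_le {i : ℕ} {y : ℕ × ℕ × List ℕ} (hi : D[i]? = some y) {r : Suz}
    (h : ∀ p : Fin 1782, (ψ r p : ℕ) = lk 11 y.1 p) :
    Nat.card ↥(centralizer ({MulAut.conj r} : Set (MulAut Suz))) ≤ y.2.1 + 1 := by
  rw [card_cent]
  exact cent_A_le (List.mem_of_getElem? hi) h

/-- **order 21** -/
theorem no_21 {g : Suz} (hg : orderOf g = 21) {η : MulAut Suz} (h2 : η * η = 1) (h1 : η ≠ 1) (h : η g = g) : False := by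
  obtain ⟨i, y, hi, hy, r, α, hr, rfl⟩ := idx_of hg [17] (by decide)
  rw [List.mem_singleton] at hi
  subst hi
  have hle := card_le hy hr
  have e : y.2.1 = 20 := by
    have := Option.some.inj (hy.symm.trans (show D[17]? = some (p17, 20, _) from rfl))
    rw [this]
  have ho : orderOf r = 21 := by rw [← hg, MulEquiv.orderOf_eq]
  have hd := two_dvd (η := α⁻¹ * η * α) ho (by decide) (by
    calc α⁻¹ * η * α * (α⁻¹ * η * α) = α⁻¹ * (η * η) * α := by group
      _ = 1 := by rw [h2]; group) (by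
    intro h3
    apply h1
    calc η = α * (α⁻¹ * η * α) * α⁻¹ := by group
      _ = 1 := by rw [h3]; group) (by
    rw [MulAut.mul_apply, MulAut.mul_apply, h, MulAut.inv_apply_self])
  have := finAut
  have hpos : 0 < Nat.card ↥(centralizer ({MulAut.conj r} : Set (MulAut Suz))) := Nat.card_pos
  have := Nat.le_of_dvd hpos hd
  omega

/-- **order 15** -/
theorem eq_15 {g : Suz} (hg : orderOf g = 15) {η : MulAut Suz} (h2 : η * η = 1) (h1 : η ≠ 1) (h : η g = g) :
    ∃ α : MulAut Suz, g = α r15 ∧ η = α * rho * α⁻¹ := by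
  have := finAut
  obtain ⟨i, y, hi, hy, r, α, hr, rfl⟩ := idx_of hg [13, 18] (by decide)
  have ho : orderOf r = 15 := by rw [← hg, MulEquiv.orderOf_eq]
  set ζ : MulAut Suz := α⁻¹ * η * α with hζ
  have z2 : ζ * ζ = 1 := by
    calc α⁻¹ * η * α * (α⁻¹ * η * α) = α⁻¹ * (η * η) * α := by group
      _ = 1 := by rw [h2]; group
  have z1 : ζ ≠ 1 := by
    intro h3
    apply h1
    calc η = α * (α⁻¹ * η * α) * α⁻¹ := by group
      _ = 1 := by rw [← hζ, h3]; group
  have zr : ζ r = r := by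
    rw [hζ, MulAut.mul_apply, MulAut.mul_apply, h, MulAut.inv_apply_self]
  have hd := two_dvd ho (by decide) z2 z1 zr
  have hpos : 0 < Nat.card ↥(centralizer ({MulAut.conj r} : Set (MulAut Suz))) := Nat.card_pos
  simp only [List.mem_cons, List.not_mem_nil, or_false] at hi
  rcases hi with rfl | rfl
  · have hle := card_le hy hr
    have e := Option.some.inj (hy.symm.trans (show D[13]? = some (p13, 29, _) from rfl))
    rw [e] at hle hr
    have hr' : r = r15 := by
      apply ψ_injective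
      ext p
      rw [hr, r15_tab]
    subst hr'
    refine ⟨α, rfl, ?_⟩
    set C := centralizer ({MulAut.conj r15} : Set (MulAut Suz)) with hC
    have hcC : MulAut.conj r15 ∈ C := mem_centralizer_singleton_iff.2 rfl
    let c : C := ⟨MulAut.conj r15, hcC⟩
    have oc : orderOf c = 15 := by
      rw [← Subgroup.orderOf_coe]
      show orderOf (MulAut.conj r15) = 15
      rw [order_conj, order_r15]
    have hρC : rho ∈ C := mem_cent_iff.2 rho_r15
    have hzC : ζ ∈ C := mem_cent_iff.2 zr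
    have hodd : ∀ x ∈ zpowers c, x * x = 1 → x = 1 := by
      intro x hx hxx
      have h3 : orderOf x ∣ 15 := by rw [← oc]; exact orderOf_dvd_of_mem_zpowers hx
      have h4 : orderOf x ∣ 2 := orderOf_dvd_of_pow_eq_one (by rw [pow_two, hxx])
      have h5 : orderOf x ∣ 1 := by
        have := Nat.dvd_gcd h3 h4
        exact this
      exact orderOf_eq_one_iff.1 (Nat.dvd_one.1 h5)
    have hne : (⟨rho, hρC⟩ : C) ∉ zpowers c := by
      intro h3
      have h4 := hodd _ h3 (Subtype.ext rho_sq)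
      have h5 : (rho : MulAut Suz) = 1 := congrArg Subtype.val h4
      have h6 : rho (el [.f]) = el [.g] := rho_el [.f]
      rw [h5, MulAut.one_apply] at h6
      have h7 : el (([.f] : List Cfsg.Spor.Suz.Gen) ++ ([.g] : List Cfsg.Spor.Suz.Gen)) ≠ (1 : Suz) :=
        Cfsg.Agent.H867.Gen.Suz.ne_one (w := ([.f] : List Cfsg.Spor.Suz.Gen) ++ ([.g] : List Cfsg.Spor.Suz.Gen)) (p := 0) (q := 1) (by decide +kernel) (by norm_num)
      apply h7
      rw [Cfsg.Agent.SuzThree.Basic.el_append, ← h6]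
      exact Cfsg.Agent.H867.Gen.Suz.sq_gen .f
    have hidx : (zpowers c).index = 2 := by
      have h3 := (zpowers c).card_mul_index
      rw [Nat.card_zpowers, oc] at h3
      have h4 : (zpowers c).index ≠ 1 := fun h => hne (by rw [index_eq_one.1 h]; exact mem_top _)
      have h5 : (zpowers c).index ≠ 0 := index_ne_zero_of_finite
      have h6 : Nat.card C ≤ 30 := hle
      omega
    have hz' : (⟨ζ, hzC⟩ : C) ∉ zpowers c := fun h3 => z1 (congrArg Subtype.val (hodd _ h3 (Subtype.ext z2)))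
    have hmul : (⟨ζ, hzC⟩ : C) * ⟨rho, hρC⟩ ∈ zpowers c := by
      rw [mul_mem_iff_of_index_two hidx]
      exact ⟨fun h => absurd h hz', fun h => absurd h hne⟩
    have hk : (⟨ζ, hzC⟩ : C) * ⟨rho, hρC⟩ = 1 := by
      refine hodd _ hmul ?_
      -- it commutes with `ρ`
      obtain ⟨k, hk⟩ := mem_zpowers_iff.1 hmul
      have h3 : (rho : MulAut Suz) * (MulAut.conj r15) = MulAut.conj r15 * rho := (mem_centralizer_singleton_iff.1 hρC)
      have h4 : ((⟨ζ, hzC⟩ : C) * ⟨rho, hρC⟩ : C) * ⟨rho, hρC⟩ = ⟨rho, hρC⟩ * (⟨ζ, hzC⟩ * ⟨rho, hρC⟩) := by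
        rw [← hk]
        have h5 : Commute c (⟨rho, hρC⟩ : C) := Subtype.ext h3.symm
        exact (h5.zpow_left k).eq
      have h5 : (⟨rho, hρC⟩ : C) * ⟨rho, hρC⟩ = 1 := Subtype.ext rho_sq
      have h6 : (⟨ζ, hzC⟩ : C) * ⟨ζ, hzC⟩ = 1 := Subtype.ext z2
      generalize (⟨ζ, hzC⟩ : C) = a at h4 h6 ⊢
      generalize (⟨rho, hρC⟩ : C) = b at h4 h5 ⊢
      calc a * b * (a * b) = (a * b * b) * (b * (a * b)) * 1 := by
            rw [mul_assoc a b b, h5, mul_one, mul_one]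
            calc a * b * (a * b) = a * (b * (a * b)) := by group
              _ = _ := rfl
        _ = a * (b * (a * b)) := by rw [mul_assoc a b b, h5, mul_one, mul_one]
        _ = a * (a * b * b) := by rw [← h4]
        _ = (a * a) * (b * b) := by group
        _ = 1 := by rw [h5, h6, one_mul]
    have h7 : ζ * rho = 1 := congrArg Subtype.val hk
    have h8 : ζ = rho := by
      calc ζ = ζ * (rho * rho) := by rw [rho_sq, mul_one]
        _ = (ζ * rho) * rho := by group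
        _ = rho := by rw [h7, one_mul]
    rw [← h8, hζ]
    group
  · exfalso
    have e := Option.some.inj (hy.symm.trans (show D[18]? = some (p18, 44, _) from rfl))
    have h18 : 18 < D.length := (List.getElem?_eq_some_iff.1 hy).1
    rw [e] at hr
    have h3 : Nat.card ↥(A ⊓ centralizer {ψ r}) * (2 * 448345497600 / (44 + 1)) = 2 * 448345497600 :=
      card_mul (i := 18) h18 (r := ψ r) ⟨r, rfl⟩ hr
    rw [← card_cent] at h3
    have h5 : Nat.card ↥(centralizer ({MulAut.conj r} : Set (MulAut Suz))) = 45 := by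
      norm_num at h3
      omega
    rw [h5] at hd
    omega

end Cfsg.Agent.H257.RG.SuzF

private theorem dce_358e94ab9406 : _root_.True := by
  try have : _root_.True := by simp only [_root_.Cfsg.Agent.H257.RG.SuzF.eq_15]
  try have : _root_.True := by simp only [_root_.Cfsg.Agent.H257.RG.SuzF.c15.eq_1]
  exact _root_.True.intro
end
end
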