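import Cfsg.Agent.H169.RG.LRG_m3
import Cfsg.Agent.H660.RR.Crd_m3
import Cfsg.Agent.H631.TorusCent
import Cfsg.Agent.H655.Mono.Psi_m3
import Cfsg.Agent.BpExc.AsmN_m3
import Cfsg.Agent.GenExc.Data
import Cfsg.Agent.H916.RG.Pair_m3
import Cfsg.Agent.H798.OZ.Ell
import Cfsg.Agent.H378.SmallTor_m3
import Cfsg.Agent.KFacts.RgdFiltChev
import Cfsg.Agent.Nodes.ClsNorm
import Cfsg.Agent.H460.OT.BruComb
import Cfsg.Agent.S1077
import Cfsg.Agent.H931.KC.PPCard
import Cfsg.Agent.Lib.Refl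
import Cfsg.Agent.H916.RG.D12in
import Cfsg.Agent.H452.RG.ReeOuter_m3
import Cfsg.Agent.MTwelveType.SylowModel
import Cfsg.Agent.S0387
import Cfsg.Agent.S2060
import Cfsg.Agent.H729.TransFast
import Cfsg.Agent.H334.Ore.M23
import Cfsg.Agent.S2063
import Cfsg.Agent.H46.Gen.PairW
import Cfsg.Agent.H28.FamFour
import Cfsg.Agent.H720.TwFr
import Cfsg.Agent.H316.U6Norm_m3
import Cfsg.Agent.S1071
import Cfsg.Agent.H452.FprSz
import Cfsg.Agent.H452.FprRee
import Cfsg.Agent.S1073
import Cfsg.Agent.DL.Tw.Ree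
import Cfsg.Agent.H522.FldSixLib
import Cfsg.Agent.H507.GmnTwF
import Cfsg.Agent.H362.ReeField
import Cfsg.Agent.TwoFusion.SLTwoFacts
import Cfsg.Agent.S1069
import Cfsg.Agent.S1075
import Cfsg.Agent.S1116
import Cfsg.Agent.H31.RC.Spor.Gen
import Cfsg.Agent.H240.BalTwF.Sz
import Cfsg.Agent.H240.BalTwF.Plus
import Cfsg.Agent.H326.TF.Inv
import Cfsg.Agent.H122.MinDeg
import Cfsg.Agent.H147.CharBound
import Cfsg.Agent.S0157
import Cfsg.Agent.H120.Cyc.DegE_m3
import Cfsg.Agent.H240.GenTwF.TwFFix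
import Cfsg.Agent.H343.PG.TwF4Fifteen
import Cfsg.Agent.H380.AltSpec
import Cfsg.Agent.H240.BalTwF.Dvd
import Cfsg.Agent.H67.RG.TwFCent
import Mathlib
import Cfsg.Agent.FastGrp
import Cfsg.Agent.Prune
set_option linter.all false

section
prune_inst 0x7ff8fcf88ba8a1dedfff7e3ffed0dffc31c04fffa6dff9433fe8a1af0bdf030009e5ab850de000fe0e42609410b87843f97ece7fe86bdc7ffffd55b41ffbee0fa5e6b508119488340e2c0ff703f0770a6f3ffcffffffffffffffffffffffffbefffdefffffff

-- part: H169/RG/ImgFr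
section
prune_inst 0x6010324101e21000001c0000f00018c391000402004b84000465030006808e4025028e211d60111b4820004000310048121800200000000000a404000001050110800402b0080019020080000088410000300000000000000000000000000000210000000
set_option linter.all false
open scoped Cfsg.Agent.FastGrp

-- part: H169/RG/Pair
section
/-!
# S3509, box U: the pairs of conjugates of a fixed root group in a centraliser (helper169)

The frame of `H28/RG/Form.lean`, with the weak hypothesis `θ a ∈ Sx t ↔ a ∈ Sx t` instead of `α t = t`.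

* `form_fixW` : the form of the elements commuting with `t` and fixed by `α`;
* `Xb α β = XL X β ⊓ Fix α`;
* `comm_P`, `comm_Q` : `PP0` centralises `Xb α β`, `QQ0` centralises `Xb α (-β)` for a top `β`;
* `pairW` : `(X, c X c⁻¹)` generates a `p`-group or is `PP0`-conjugate to `(X, Y)`;
* `baseW` : helper398's `Base` for `K = PP0 ⊔ QQ0 ⊔ T^α`.
-/

set_option autoImplicit false
set_option linter.unusedSectionVars false

namespace Cfsg.Agent.H169.RG

open CoxeterSystem Cfsg.Agent.ChevalleyStructure.CoxeterGeom Cfsg.Agent.Tits.Roots Cfsg.Agent.Tits.Core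
  Cfsg.Agent.Tits.RootComb Cfsg.Agent.Tits.Exchange Cfsg.Agent.Nodes.Reps Cfsg.Agent.Nodes.BNOf
  Cfsg.Agent.Nodes.StabComb Cfsg.Agent.Nodes.Bruhat Cfsg.Agent.Nodes.OppDec Cfsg.Agent.Nodes.LeviDec
  Cfsg.Agent.Nodes.NormalForm Cfsg.Agent.Nodes.SubComb Cfsg.Agent.KFacts.RgdField
  Cfsg.Agent.BpExc.TorCent Cfsg.Agent.BpExc.Tow Cfsg.Agent.BpExc.Fr Cfsg.Agent.BpExc.Pair Cfsg.Agent.H28.RG
  Cfsg.Agent.H441.RG
open Cfsg.Agent.GenExc (CommOK)

/-! ### groups with an image of `SL₂(q)` -/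

section SL

variable {Y : Type*} [Group Y]

open Matrix Cfsg.Agent.ChevalleyStructure.SL2Hom

theorem eq_one_of_pow_of_pgroup {p : ℕ} [Fact p.Prime] {g : Y} {n : ℕ} (hn : n.Coprime p) (hg : g ^ n = 1)
    {Z : Subgroup Y} (hZ : IsPGroup p Z) (hm : g ∈ Z) : g = 1 := by
  obtain ⟨k, hk⟩ := hZ ⟨g, hm⟩
  have h1 : g ^ p ^ k = 1 := congrArg Subtype.val hk
  have h2 : orderOf g ∣ n := orderOf_dvd_of_pow_eq_one hg
  have h3 : orderOf g ∣ p ^ k := orderOf_dvd_of_pow_eq_one h1
  have h4 := Nat.Coprime.eq_one_of_dvd ((hn.pow_right k).coprime_dvd_left h2) h3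
  exact orderOf_eq_one_iff.1 h4

variable {F : Type*} [Field F]

theorem sl_pow_four : (up (1 : F) * lo (-2)) ^ 4 = 1 := by
  apply Subtype.ext
  have e : ((up (1 : F) * lo (-2) : Matrix.SpecialLinearGroup (Fin 2) F) : Matrix (Fin 2) (Fin 2) F) =
      !![-1, 1; -2, 1] := by
    change (!![1, 1; 0, 1] * !![1, 0; -2, 1] : Matrix (Fin 2) (Fin 2) F) = _
    ext i j
    (revert i j; simp only [Matrix.mul_apply, Fin.sum_univ_two, _root_.Fin.forall_fin_succ, _root_.Matrix.of_apply, _root_.Matrix.cons_val', _root_.Matrix.cons_val_fin_one, Fin.isValue, _root_.Matrix.cons_val_zero, _root_.Matrix.cons_val_one, _root_.mul_one, _root_.mul_neg, _root_.Matrix.cons_val_succ, _root_.MulZeroClass.mul_zero, _root_.zero_add, _root_.implies_true, _root_.one_mul, _root_.and_true, _root_.true_and]) <;> (repeat' with_reducible apply And.intro)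
    · norm_num
  rw [Matrix.SpecialLinearGroup.coe_pow, e, Matrix.SpecialLinearGroup.coe_one]
  have e2 : (!![-1, 1; -2, 1] : Matrix (Fin 2) (Fin 2) F) ^ 2 = -1 := by
    rw [sq]
    ext i j
    (revert i j; simp only [Matrix.mul_apply, Fin.sum_univ_two, _root_.Fin.forall_fin_succ, _root_.Matrix.of_apply, _root_.Matrix.cons_val', _root_.Matrix.cons_val_fin_one, Fin.isValue, _root_.Matrix.cons_val_zero, _root_.Matrix.cons_val_one, _root_.Matrix.neg_apply, _root_.mul_neg, _root_.mul_one, _root_.Matrix.cons_val_succ, _root_.IsEmpty.forall_iff, _root_.neg_neg, _root_.one_mul, _root_.Matrix.one_apply_eq, _root_.neg_add_cancel, Nat.reduceAdd, _root_.Fin.succ_zero_eq_one, _root_.ne_eq, _root_.zero_ne_one, _root_.not_false_eq_true, _root_.Matrix.one_apply_ne, _root_.neg_zero, _root_.add_neg_cancel, _root_.Fin.succ_ne_zero, _root_.and_true, _root_.true_and]) <;> (repeat' with_reducible apply And.intro)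
    all_goals norm_num
  rw [show (4 : ℕ) = 2 * 2 from rfl, pow_mul, e2]
  simp only [_root_.even_two, _root_.Even.neg_pow, _root_.one_pow]

theorem sl_pow_three (h2 : (2 : F) = 0) : (up (1 : F) * lo 1) ^ 3 = 1 := by
  apply Subtype.ext
  have h11 : (1 : F) + 1 = 0 := by rw [← h2]; norm_num
  have e : ((up (1 : F) * lo 1 : Matrix.SpecialLinearGroup (Fin 2) F) : Matrix (Fin 2) (Fin 2) F) =
      !![0, 1; 1, 1] := by
    change (!![1, 1; 0, 1] * !![1, 0; 1, 1] : Matrix (Fin 2) (Fin 2) F) = _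
    ext i j
    (revert i j; simp only [Matrix.mul_apply, Fin.sum_univ_two, h11, _root_.Fin.forall_fin_succ, _root_.Matrix.of_apply, _root_.Matrix.cons_val', _root_.Matrix.cons_val_fin_one, Fin.isValue, _root_.Matrix.cons_val_zero, _root_.Matrix.cons_val_one, _root_.mul_one, _root_.Matrix.cons_val_succ, _root_.MulZeroClass.mul_zero, _root_.zero_add, _root_.implies_true, _root_.and_true, _root_.and_self])
  rw [Matrix.SpecialLinearGroup.coe_pow, e, Matrix.SpecialLinearGroup.coe_one]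
  rw [pow_succ, sq]
  ext i j
  (revert i j; simp only [Matrix.mul_apply, Fin.sum_univ_two, h11, _root_.Fin.forall_fin_succ, _root_.Matrix.cons_mul, _root_.Nat.succ_eq_add_one, Nat.reduceAdd, _root_.Matrix.vecMul_cons, _root_.Matrix.head_cons, _root_.zero_smul, _root_.Matrix.tail_cons, _root_.one_smul, _root_.Matrix.empty_vecMul, _root_.add_zero, _root_.zero_add, _root_.Matrix.add_cons, _root_.Matrix.empty_add_empty, _root_.Matrix.empty_mul, _root_.Equiv.symm_apply_apply, _root_.Matrix.of_apply, _root_.Matrix.cons_val', _root_.Matrix.cons_val_fin_one, Fin.isValue, _root_.Matrix.cons_val_zero, _root_.Matrix.cons_val_one, _root_.MulZeroClass.mul_zero, _root_.mul_one, _root_.Matrix.cons_val_succ, _root_.IsEmpty.forall_iff, _root_.and_true, _root_.Matrix.one_apply_eq, _root_.Fin.succ_zero_eq_one, _root_.ne_eq, _root_.zero_ne_one, _root_.not_false_eq_true, _root_.Matrix.one_apply_ne, _root_.and_self, _root_.Fin.succ_ne_zero, _root_.true_and])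

theorem sl_we (t : F) : (up (1 : F) * lo (-1) * up 1) * up t = lo (-t) * (up (1 : F) * lo (-1) * up 1) := by
  apply Subtype.ext
  change (!![1, 1; 0, 1] * !![1, 0; -1, 1] * !![1, 1; 0, 1] * !![1, t; 0, 1] : Matrix (Fin 2) (Fin 2) F) =
    !![1, 0; -t, 1] * (!![1, 1; 0, 1] * !![1, 0; -1, 1] * !![1, 1; 0, 1])
  ext i j
  (revert i j; simp only [Matrix.mul_apply, Fin.sum_univ_two, _root_.Fin.forall_fin_succ, _root_.Matrix.cons_mul, _root_.Nat.succ_eq_add_one, Nat.reduceAdd, _root_.Matrix.vecMul_cons, _root_.Matrix.head_cons, _root_.one_smul, _root_.Matrix.tail_cons, _root_.Matrix.empty_vecMul, _root_.add_zero, _root_.Matrix.add_cons, _root_.add_neg_cancel, _root_.zero_add, _root_.Matrix.empty_add_empty, _root_.zero_smul, _root_.Matrix.empty_mul, _root_.Equiv.symm_apply_apply, _root_.neg_smul, _root_.Matrix.neg_cons, _root_.Matrix.neg_empty, _root_.neg_add_cancel, _root_.Matrix.of_apply, _root_.Matrix.cons_val', _root_.Matrix.cons_val_fin_one,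 Fin.isValue, _root_.Matrix.cons_val_zero, _root_.Matrix.cons_val_one, _root_.mul_one, _root_.MulZeroClass.mul_zero, _root_.mul_neg, _root_.Matrix.cons_val_succ, _root_.forall_const, _root_.neg_zero, _root_.MulZeroClass.zero_mul, _root_.and_self, _root_.neg_mul, _root_.one_mul, _root_.implies_true])

theorem Img.conjY {q : ℕ} {X X' : Subgroup Y} (h : Img q X X') : ∃ k ∈ X ⊔ X', cjS k X = X' := by
  obtain ⟨F, _, _, φ, -, h1, h2, -⟩ := h
  refine ⟨φ (up 1 * lo (-1) * up 1), ?_, ?_⟩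
  · rw [map_mul, map_mul]
    exact mul_mem (mul_mem (Subgroup.mem_sup_left ((h1 _).2 ⟨_, rfl⟩)) (Subgroup.mem_sup_right ((h2 _).2 ⟨_, rfl⟩)))
      (Subgroup.mem_sup_left ((h1 _).2 ⟨_, rfl⟩))
  · ext y
    rw [h2]
    constructor
    · rintro ⟨x, hx, rfl⟩
      obtain ⟨t, rfl⟩ := (h1 x).1 hx
      refine ⟨-t, ?_⟩
      change φ (lo (-t)) = φ (up 1 * lo (-1) * up 1) * φ (up t) * (φ (up 1 * lo (-1) * up 1))⁻¹
      rw [← map_mul, sl_we, map_mul, mul_inv_cancel_right]
    · rintro ⟨t, rfl⟩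
      refine ⟨φ (up (-t)), (h1 _).2 ⟨_, rfl⟩, ?_⟩
      change φ (up 1 * lo (-1) * up 1) * φ (up (-t)) * (φ (up 1 * lo (-1) * up 1))⁻¹ = φ (lo t)
      rw [← map_mul, sl_we, map_mul, mul_inv_cancel_right, neg_neg]

theorem Img.ne_bot {q : ℕ} {X X' : Subgroup Y} (h : Img q X X') : X ≠ ⊥ := by
  obtain ⟨F, _, _, φ, -, h1, -, h3⟩ := h
  intro h0
  have h4 : φ (up 1) ∈ X := (h1 _).2 ⟨_, rfl⟩
  rw [h0, Subgroup.mem_bot] at h4
  exact one_ne_zero (h3 _ h4)

theorem Img.card {q : ℕ} {X X' : Subgroup Y} (h : Img q X X') : Nat.card X = q := by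
  obtain ⟨F, _, _, φ, hq, h1, -, h3⟩ := h
  rw [← hq, ← Nat.card_eq_fintype_card]
  symm
  refine Nat.card_congr (Equiv.ofBijective (fun t : F => (⟨φ (up t), (h1 _).2 ⟨t, rfl⟩⟩ : X)) ⟨fun a b hab => ?_, ?_⟩)
  · have e1 : φ (up a) = φ (up b) := congrArg Subtype.val hab
    have e2 : φ (up (a - b)) = 1 := by
      have e3 : up (a - b) * up b = up a := by
        apply Subtype.ext
        change (!![1, a - b; 0, 1] * !![1, b; 0, 1] : Matrix (Fin 2) (Fin 2) F) = !![1, a; 0, 1]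
        ext i j
        (revert i j; simp only [Matrix.mul_apply, Fin.sum_univ_two, _root_.Fin.forall_fin_succ, _root_.Matrix.of_apply, _root_.Matrix.cons_val', _root_.Matrix.cons_val_fin_one, Fin.isValue, _root_.Matrix.cons_val_zero, _root_.Matrix.cons_val_one, _root_.mul_one, _root_.MulZeroClass.mul_zero, _root_.add_zero, _root_.Matrix.cons_val_succ, _root_.forall_const, _root_.true_and, _root_.one_mul, _root_.add_sub_cancel, _root_.MulZeroClass.zero_mul, _root_.zero_add, _root_.implies_true, _root_.and_self])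
      have e4 : φ (up (a - b)) * φ (up b) = φ (up b) := by rw [← map_mul, e3, e1]
      exact mul_eq_right.1 e4
    exact sub_eq_zero.1 (h3 _ e2)
  · rintro ⟨x, hx⟩
    obtain ⟨t, ht⟩ := (h1 x).1 hx
    exact ⟨t, Subtype.ext ht⟩

theorem Img.npg {p : ℕ} [hp : Fact p.Prime] {q e : ℕ} (hq : q = p ^ e) {X X' : Subgroup Y} (h : Img q X X')
    (hd : ∀ x ∈ X, x ∈ X' → x = 1) : ¬ IsPGroup p ↥(X ⊔ X') := by
  obtain ⟨F, _, _, φ, hF, h1, h2, h3⟩ := h
  intro hP
  have key : ∀ s : F, ∀ n : ℕ, n.Coprime p → (up (1 : F) * lo s) ^ n = 1 → False := by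
    intro s n hn hs
    have hm : φ (up 1 * lo s) ∈ X ⊔ X' := by
      rw [map_mul]
      exact mul_mem (Subgroup.mem_sup_left ((h1 _).2 ⟨_, rfl⟩)) (Subgroup.mem_sup_right ((h2 _).2 ⟨_, rfl⟩))
    have h5 := eq_one_of_pow_of_pgroup hn (by rw [← map_pow, hs, map_one]) hP hm
    rw [map_mul] at h5
    have h6 : φ (up 1) = (φ (lo s))⁻¹ := eq_inv_of_mul_eq_one_left h5
    have h7 : φ (up 1) ∈ X' := by
      rw [h6]
      exact X'.inv_mem ((h2 _).2 ⟨_, rfl⟩)
    exact one_ne_zero (h3 _ (hd _ ((h1 _).2 ⟨_, rfl⟩) h7))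
  rcases hp.out.eq_two_or_odd' with h4 | h4
  · subst h4
    refine key 1 3 (by decide) (sl_pow_three ?_)
    have h5 : ((Fintype.card F : ℕ) : F) = 0 := FiniteField.cast_card_eq_zero F
    rw [hF, hq, Nat.cast_pow] at h5
    by_cases he : e = 0
    · subst he
      rw [pow_zero] at h5
      exact absurd h5 one_ne_zero
    · have h7 := (pow_eq_zero_iff he).1 h5
      exact_mod_cast h7
  · refine key (-2) 4 ?_ sl_pow_four
    have h5 : Nat.Coprime 2 p := (Nat.coprime_two_left).2 h4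
    have h6 := h5.pow_left 2
    exact h6

end SL

/-! ### the frame -/

section Frame

variable {I W Y : Type*} [Fintype I] [DecidableEq I] [Group W] [Finite W] [Group Y] {M : CoxeterMatrix I}
  {cs : CoxeterSystem M W} {A : I → I → ℤ} {h : IsCartan M A} {p : ℕ}
  {J : Type*} [Preorder J] {T : J → Subgroup Y} {n : I → Y} {X : J → (I → ℤ) → Subgroup Y}
  {F : Type*} [Field F] {xx : (I → ℤ) → F → Y} {χ : (I → ℤ) → Y → F}
  (H : Tow cs h p T n X) (C : Coords cs h (TL T) n (XL X) xx χ)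
  {α : MulAut Y} {θ : (I → ℤ) ≃+ (I → ℤ)} (Fα : Fr cs h (TL T) (XL X) α θ)

/-- the data, weak version: `θ` stabilises `Sx t` and its positive part -/
structure CW (cs : CoxeterSystem M W) (h : IsCartan M A) (T : J → Subgroup Y) (X : J → (I → ℤ) → Subgroup Y)
    (χ : (I → ℤ) → Y → F) (θ : (I → ℤ) ≃+ (I → ℤ)) (t : Y) : Prop where
  hG : GG cs h (TL T) (XL X) = ⊤
  hsep : ∀ a, IsRoot cs h a → ∃ s ∈ TL T, ∀ u ∈ XL X a, u * s = s * u → u = 1
  hA : ChAdd cs h (TL T) χ
  hcom : CommOK cs h (XL X)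
  hab : ∀ a ∈ TL T, ∀ b ∈ TL T, a * b = b * a
  ht : t ∈ TL T
  hS : ∀ a, θ a ∈ Sx cs h χ t ↔ a ∈ Sx cs h χ t
  hpos : ∀ a ∈ Sx cs h χ t, 0 ≤ a → 0 ≤ θ a

/-- the fixed points of `α` in a root group -/
def Xb (X : J → (I → ℤ) → Subgroup Y) (α : MulAut Y) (β : I → ℤ) : Subgroup Y := XL X β ⊓ Cfsg.fixedSubgroup α

theorem mem_Xb {β : I → ℤ} {y : Y} : y ∈ Xb X α β ↔ y ∈ XL X β ∧ α y = y := Iff.rfl

/-- a `θ`-fixed top of `Sx t` -/
structure Top (cs : CoxeterSystem M W) (h : IsCartan M A) (χ : (I → ℤ) → Y → F) (θ : (I → ℤ) ≃+ (I → ℤ)) (t : Y)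
    (β : I → ℤ) : Prop where
  mem : β ∈ Sx cs h χ t
  pos : 0 ≤ β
  fix : θ β = β
  top : ∀ a ∈ Sx cs h χ t, 0 ≤ a → ¬ IsRoot cs h (β + a)

theorem ne_neg_of_pos {a b : I → ℤ} (ha : IsRoot cs h a) (h0 : 0 ≤ a) (h1 : 0 ≤ b) : a ≠ -b := by
  rintro rfl
  exact ha.not_pos_neg h0 (neg_nonpos.2 h1)

include H in
/-- two root groups of non-opposite roots generate a `p`-group -/
theorem isPGroup_XL {a b : I → ℤ} (ha : IsRoot cs h a) (hb : IsRoot cs h b) (hab : a ≠ -b) :
    IsPGroup p ↥(XL X a ⊔ XL X b) := by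
  have hmono : Monotone fun j => X j a ⊔ X j b := fun i j hij => sup_le_sup (H.monoX a hij) (H.monoX b hij)
  have hle : XL X a ⊔ XL X b ≤ ⨆ j, (X j a ⊔ X j b) := by
    refine sup_le ?_ ?_
    · exact iSup_le fun j => le_trans le_sup_left (le_iSup (fun j => X j a ⊔ X j b) j)
    · exact iSup_le fun j => le_trans le_sup_right (le_iSup (fun j => X j a ⊔ X j b) j)
  rintro ⟨y, hy⟩
  obtain ⟨j, hj⟩ := (H.mem_iSup hmono).1 (hle hy)
  obtain ⟨k, hk⟩ := Cfsg.Agent.Nodes.PosPair.isPGroup_pair (H.rgd j) ha hb hab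
    ⟨y, Subgroup.mem_sup_left hj⟩
  have hk' : y ^ p ^ k = 1 := congrArg Subtype.val hk
  exact ⟨k, Subtype.ext hk'⟩

theorem cjS_Xb_of_eq {k : Y} (hk : α k = k) {a b : I → ℤ} (he : cj k (XL X a) = XL X b) :
    cjS k (Xb X α a) = Xb X α b := by
  ext y
  rw [mem_cjS, mem_Xb, mem_Xb]
  have h1 : k⁻¹ * y * k ∈ XL X a ↔ y ∈ XL X b := by
    rw [← he]
    constructor
    · intro hy
      have := (conj_mem_cj (g := k)).2 hy
      have e : k * (k⁻¹ * y * k) * k⁻¹ = y := by group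
      rwa [e] at this
    · intro hy
      have e : k * (k⁻¹ * y * k) * k⁻¹ = y := by group
      rw [← e] at hy
      exact conj_mem_cj.1 hy
  have h2 : α (k⁻¹ * y * k) = k⁻¹ * y * k ↔ α y = y := by
    rw [map_mul, map_mul, map_inv, hk]
    constructor
    · intro h
      exact mul_left_cancel (mul_right_cancel h)
    · intro h
      rw [h]
  rw [h1, h2]

variable {t : Y} (Dt : CW cs h T X χ θ t) {β : I → ℤ} (Bβ : Top cs h χ θ t β)

include Dt Bβ

theorem comm_UpW {u x : Y} (hu : u ∈ Up cs h X χ t) (hx : x ∈ XL X β) : u * x = x * u := by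
  have h1 : Up cs h X χ t ≤ Subgroup.centralizer {x} := by
    refine RGD.Sup_le fun a ha y hy => ?_
    rw [Subgroup.mem_centralizer_singleton_iff]
    refine Dt.hcom a β ha.1.1 Bβ.mem.1 (ne_neg_of_pos ha.1.1 ha.2 Bβ.pos) ?_ y hy x hx
    rw [add_comm]
    exact Bβ.top a ha.1 ha.2
  exact Subgroup.mem_centralizer_singleton_iff.1 (h1 hu)

include C in
theorem comm_UnW {u x : Y} (hu : u ∈ Un cs h X χ t) (hx : x ∈ XL X (-β)) : u * x = x * u := by
  have h1 : Un cs h X χ t ≤ Subgroup.centralizer {x} := by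
    refine RGD.Sup_le fun a ha y hy => ?_
    rw [Subgroup.mem_centralizer_singleton_iff]
    have h2 : -a ∈ Sx cs h χ t := chi_neg C Dt.ht Dt.hA ha.1
    refine Dt.hcom a (-β) ha.1.1 Bβ.mem.1.neg ?_ ?_ y hy x hx
    · intro h3
      rw [_root_.neg_neg] at h3
      rw [h3] at ha
      exact Bβ.mem.1.not_pos_neg Bβ.pos ha.2
    · intro h3
      refine Bβ.top (-a) h2 (neg_nonneg.2 ha.2) ?_
      have e : β + -a = -(a + -β) := by abel
      rw [e]
      exact h3.neg
  exact Subgroup.mem_centralizer_singleton_iff.1 (h1 hu)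

omit Bβ

include C H Fα in
theorem form_fixW {c : Y} (hc : c * t = t * c) (hαc : α c = c) :
    ∃ w, ∃ u ∈ Up cs h X χ t, α u = u ∧ ∃ k, Rp cs H.nsys w k ∧ k * t = t * k ∧ α k = k ∧
      ∃ v ∈ Up cs h X χ t, α v = v ∧ k * v * k⁻¹ ∈ Un cs h X χ t ∧ c = u * k * v := by
  have aUp : ∀ {u : Y}, u ∈ Up cs h X χ t → α u ∈ Up cs h X χ t := by
    intro u hu
    have h1 : Up cs h X χ t ≤ (Up cs h X χ t).comap α.toMonoidHom := by
      refine RGD.Sup_le fun a ha => ?_
      intro y hy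
      exact RGD.le_Sup (S := SP cs h χ t) ⟨(Dt.hS a).2 ha.1, Dt.hpos a ha.1 ha.2⟩ ((Fα.map a ha.1.1 y).2 hy)
    exact h1 hu
  have aUn : ∀ {u : Y}, u ∈ Un cs h X χ t → α u ∈ Un cs h X χ t := by
    intro u hu
    have h1 : Un cs h X χ t ≤ (Un cs h X χ t).comap α.toMonoidHom := by
      refine RGD.Sup_le fun a ha => ?_
      intro y hy
      exact RGD.le_Sup (S := SN cs h χ t) ⟨(Dt.hS a).2 ha.1, theta_neg C Dt.ht Dt.hpos Dt.hA ha.1 ha.2⟩
        ((Fα.map a ha.1.1 y).2 hy)
    exact h1 hu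
  obtain ⟨w, u, hu, k, hk, hkt, v, hv, hkv, rfl⟩ := _root_.Cfsg.Agent.H28.RG.form H C Dt.hG Dt.ht hc
  obtain ⟨w', hk'⟩ := Cfsg.Agent.BpExc.NChev.rp_fr H Dt.hG Dt.hsep Fα hk
  have hkv' : α k * α v * (α k)⁻¹ ∈ Un cs h X χ t := by
    rw [← map_mul, ← map_inv, ← map_mul]
    exact aUn hkv
  obtain ⟨-, h1, h2, h3⟩ := form_unique H (Up_le (aUp hu)) (Up_le hu) hk' hk
    (Up_le (aUp hv)) (Un_le hkv') (Up_le hv) (Un_le hkv) (by
      rw [← map_mul, ← map_mul, hαc])
  exact ⟨w, u, hu, h1, k, hk, hkt, h2, v, hv, h3, hkv, rfl⟩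

include C H Fα Bβ in
/-- **The pairs of conjugates of the fixed root group of a top.** -/
theorem pairW {c : Y} (hc : c * t = t * c) (hαc : α c = c) :
    IsPGroup p ↥(Xb X α β ⊔ cjS c (Xb X α β)) ∨
      ∃ u ∈ PP0 cs h X χ α t, cjS c (Xb X α β) = cjS u (Xb X α (-β)) := by
  obtain ⟨w, u, hu, hαu, k, hk, hkt, hαk, v, hv, hαv, -, rfl⟩ := form_fixW H C Fα Dt hc hαc
  have h1 : cjS v (Xb X α β) = Xb X α β := cjS_eq_of_comm fun x hx => comm_UpW Dt Bβ hv hx.1
  have h2 : cjS u (Xb X α β) = Xb X α β := cjS_eq_of_comm fun x hx => comm_UpW Dt Bβ hu hx.1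
  have h3 : cjS k (Xb X α β) = Xb X α (rep cs h w β) := cjS_Xb_of_eq hαk (H.conj_rp hk Bβ.mem.1)
  have h4 : cjS (u * k * v) (Xb X α β) = cjS u (Xb X α (rep cs h w β)) := by
    rw [cjS_mul, h1, cjS_mul, h3]
  rw [h4]
  by_cases hw : rep cs h w β = -β
  · right
    exact ⟨u, ⟨hu, hαu⟩, by rw [hw]⟩
  · left
    have h5 : Xb X α β ⊔ cjS u (Xb X α (rep cs h w β)) = cjS u (Xb X α β ⊔ Xb X α (rep cs h w β)) := by
      rw [cjS_sup, h2]
    rw [h5]
    apply cjS_pgroup
    have hne : β ≠ -rep cs h w β := by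
      intro h6
      apply hw
      exact (neg_eq_iff_eq_neg.2 h6).symm
    exact (isPGroup_XL H Bβ.mem.1 (Bβ.mem.1.act w) hne).to_le
      (sup_le (le_trans inf_le_left le_sup_left) (le_trans inf_le_left le_sup_right))

/-- the group `K = ⟨P, Q, T^α⟩` -/
def KW (cs : CoxeterSystem M W) (h : IsCartan M A) (T : J → Subgroup Y) (X : J → (I → ℤ) → Subgroup Y)
    (χ : (I → ℤ) → Y → F) (α : MulAut Y) (t : Y) : Subgroup Y :=
  PP0 cs h X χ α t ⊔ QQ0 cs h X χ α t ⊔ (TL T ⊓ Cfsg.fixedSubgroup α)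

include C in
theorem KW_le : KW cs h T X χ α t ≤ fixC α t := by
  refine sup_le (sup_le ?_ ?_) ?_
  · exact fun _ hx => mem_fixC.2 ⟨hx.2, comm_Up C Dt.ht hx.1⟩
  · exact fun _ hx => mem_fixC.2 ⟨hx.2, comm_Un C Dt.ht hx.1⟩
  · exact fun _ hx => mem_fixC.2 ⟨hx.2, Dt.hab _ hx.1 _ Dt.ht⟩

include Bβ in
theorem Xb_le : Xb X α β ≤ PP0 cs h X χ α t := fun _ hx =>
  ⟨RGD.le_Sup (S := SP cs h χ t) ⟨Bβ.mem, Bβ.pos⟩ hx.1, hx.2⟩

include C Bβ in
theorem Xb_neg_le : Xb X α (-β) ≤ QQ0 cs h X χ α t := fun _ hx =>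
  ⟨RGD.le_Sup (S := SN cs h χ t) ⟨chi_neg C Dt.ht Dt.hA Bβ.mem, neg_nonpos.2 Bβ.pos⟩ hx.1, hx.2⟩

include H Bβ in
/-- the fixed points of the torus normalise the fixed points of a root group -/
theorem torus_Xb {s : Y} (hs : s ∈ TL T ⊓ Cfsg.fixedSubgroup α) {b : I → ℤ} (hb : IsRoot cs h b) {x : Y}
    (hx : x ∈ Xb X α b) : s * x * s⁻¹ ∈ Xb X α b := by
  have h1 : cjS s (Xb X α b) = Xb X α b := cjS_Xb_of_eq hs.2 (H.cj_T hs.1 hb)
  rw [← h1]
  exact ⟨x, hx, rfl⟩

include H C Bβ in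
theorem Xb_disj {x : Y} (hx : x ∈ Xb X α β) (hx' : x ∈ Xb X α (-β)) : x = 1 :=
  eq_one_of_pos_neg H (Up_le (Xb_le Dt Bβ hx).1) (Un_le (Xb_neg_le C Dt Bβ hx').1)

include C H Fα Bβ in
/-- **The base pair** of helper398 -/
theorem baseW [Fact p.Prime] {q e : ℕ} (hq : q = p ^ e) (hI : Img q (Xb X α β) (Xb X α (-β)))
    (hcore : Cfsg.pCore p ↥(KW cs h T X χ α t) = ⊥) :
    H398.RG.Base p (KW cs h T X χ α t) (Xb X α β) (Xb X α (-β)) (PP0 cs h X χ α t) (QQ0 cs h X χ α t)
      (TL T ⊓ Cfsg.fixedSubgroup α) where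
  leX := (Xb_le Dt Bβ).trans (le_sup_left.trans le_sup_left)
  leP := le_sup_left.trans le_sup_left
  leQ := le_sup_right.trans le_sup_left
  leT := le_sup_right
  gen := le_rfl
  hP := fun g hg x hx => by
    rw [comm_UpW Dt Bβ hg.1 hx.1, mul_inv_cancel_right]
    exact hx
  hQ := fun g hg x hx => by
    rw [comm_UnW C Dt Bβ hg.1 hx.1, mul_inv_cancel_right]
    exact hx
  hT := fun g hg x hx => torus_Xb H Dt Bβ hg Bβ.mem.1 hx
  pgrp := (isPGroup_XL H Bβ.mem.1 Bβ.mem.1 (ne_neg_of_pos Bβ.mem.1 Bβ.pos Bβ.pos)).to_le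
    (inf_le_left.trans le_sup_left)
  ne := hI.ne_bot
  npg := hI.npg hq fun _ hx hx' => Xb_disj H C Dt Bβ hx hx'
  conjY := by
    obtain ⟨k, hk, e⟩ := hI.conjY
    refine ⟨k, ?_, e⟩
    exact (sup_le ((Xb_le Dt Bβ).trans (le_sup_left.trans le_sup_left))
      ((Xb_neg_le C Dt Bβ).trans (le_sup_right.trans le_sup_left))) hk
  pair := by
    intro g hg
    obtain ⟨h1, h2⟩ := mem_fixC.1 (KW_le C Dt hg)
    rcases pairW H C Fα Dt Bβ h2 h1 with h3 | ⟨u, hu, h3⟩
    · exact Or.inl h3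
    · right
      refine ⟨u⁻¹, Subgroup.inv_mem _ ((le_sup_left.trans le_sup_left : PP0 cs h X χ α t ≤ KW cs h T X χ α t) hu),
        ?_, ?_⟩
      · exact cjS_eq_of_comm fun x hx => comm_UpW Dt Bβ (inv_mem hu.1) hx.1
      · change cjS u⁻¹ (cjS g (Xb X α β)) = Xb X α (-β)
        rw [h3, ← cjS_mul, inv_mul_cancel, cjS_one]
  core := hcore

end Frame

end Cfsg.Agent.H169.RG
end

-- part: H169/RG/ImgFr
section
/-!
# S3509, box U: the fixed points of a frame automorphism in `⟨X_β, X_{-β}⟩`, `β` fixed (helper169)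

* `img_fr` : `τ` a frame automorphism with `IsFrob r e τ`, `γ β = β` : `Img (r ^ e) (X_β^τ) (X_{-β}^τ)`;
* `TorForm.cw`, `TorForm.frK` : the frame of `H169/RG/Pair.lean` for `f : TorForm m s`.
-/

set_option autoImplicit false
set_option linter.unusedSectionVars false

namespace Cfsg.Agent.H169.RG

open CoxeterSystem Cfsg Cfsg.Lie Cfsg.Lie.ChevalleyDatum
open Cfsg.Agent.ChevalleyStructure Cfsg.Agent.ChevalleyStructure.Elts Cfsg.Agent.ChevalleyStructure.CoxeterGeom
  Cfsg.Agent.ChevalleyStructure.CoxeterGeomTypes Cfsg.Agent.ChevalleyStructure.NPerm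
open Cfsg.Agent.Tits.Roots Cfsg.Agent.Tits.Core Cfsg.Agent.Nodes Cfsg.Agent.Nodes.Reps Cfsg.Agent.Nodes.BNOf
  Cfsg.Agent.Nodes.RGDChev Cfsg.Agent.Nodes.Bruhat Cfsg.Agent.Nodes.NormalForm
open Cfsg.Agent.KFacts.RgdField Cfsg.Agent.KFacts.RgdChevCoord
open Cfsg.Agent.BpExc Cfsg.Agent.BpExc.TorCent Cfsg.Agent.BpExc.TorChev Cfsg.Agent.BpExc.Tow
  Cfsg.Agent.BpExc.TowChev Cfsg.Agent.BpExc.Fr Cfsg.Agent.BpExc.Pair Cfsg.Agent.BpExc.LangFr Cfsg.Agent.GpExc.Field
  Cfsg.Agent.BpExc.NInst Cfsg.Agent.BpExc.NChev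
open Cfsg.Agent.ChevalleyStructure.SL2Hom (up lo)
open Cfsg.Agent.H469.Exc Cfsg.Agent.H316.U6 Cfsg.Agent.H818.Mono Cfsg.Agent.H496.Mono Cfsg.Agent.H655.Mono
open Cfsg.Agent.OddHalf.LongSL.Chev (phi)

universe u v

section

variable {D : ChevalleyDatum} {l : ℕ} {M : CoxeterMatrix (Fin l)} {hp : IsType D l M} {r : ℕ} [hr : Fact r.Prime]

/-- as `Img`, with the kernel -/
def ImgK {Y : Type*} [Group Y] (q : ℕ) (X X' : Subgroup Y) : Prop :=
  ∃ (F : Type) (_ : Field F) (_ : Fintype F) (φ : Matrix.SpecialLinearGroup (Fin 2) F →* Y), Fintype.card F = q ∧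
    (∀ y, y ∈ X ↔ ∃ t, φ (up t) = y) ∧ (∀ y, y ∈ X' ↔ ∃ t, φ (lo t) = y) ∧ (∀ A, φ A = 1 → A = 1 ∨ A = -1)

theorem ImgK.img {Y : Type*} [Group Y] {q : ℕ} {X X' : Subgroup Y} (h : ImgK q X X') : Img q X X' := by
  obtain ⟨F, _, _, φ, hF, h1, h2, h3⟩ := h
  refine ⟨F, _, _, φ, hF, h1, h2, fun t ht => ?_⟩
  rcases h3 _ ht with h4 | h4
  · have h5 := congrArg (fun A : Matrix.SpecialLinearGroup (Fin 2) F => A.1 0 1) h4
    simpa only [up, _root_.Fin.isValue, _root_.Matrix.of_apply, _root_.Matrix.cons_val', _root_.Matrix.cons_val_one, _root_.Matrix.cons_val_fin_one, _root_.Matrix.cons_val_zero, _root_.Matrix.SpecialLinearGroup.coe_one, _root_.ne_eq, _root_.zero_ne_one, _root_.not_false_eq_true, _root_.Matrix.one_apply_ne] using h5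
  · have h5 := congrArg (fun A : Matrix.SpecialLinearGroup (Fin 2) F => A.1 0 1) h4
    simpa only [up, _root_.Fin.isValue, _root_.Matrix.of_apply, _root_.Matrix.cons_val', _root_.Matrix.cons_val_one, _root_.Matrix.cons_val_fin_one, _root_.Matrix.cons_val_zero, _root_.Matrix.SpecialLinearGroup.coe_neg, _root_.Matrix.SpecialLinearGroup.coe_one, _root_.Matrix.neg_apply, _root_.ne_eq, _root_.zero_ne_one, _root_.not_false_eq_true, _root_.Matrix.one_apply_ne, _root_.neg_zero] using h5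

theorem ImgK.conj {Y : Type*} [Group Y] {q : ℕ} {X X' : Subgroup Y} (h : ImgK q X X') (y : Y) :
    ImgK q (cjS y X) (cjS y X') := by
  obtain ⟨F, _, _, φ, hF, h1, h2, h3⟩ := h
  refine ⟨F, _, _, (MulAut.conj y).toMonoidHom.comp φ, hF, fun z => ?_, fun z => ?_, fun t ht => h3 t ?_⟩
  · rw [mem_cjS, h1]
    constructor
    · rintro ⟨t, ht⟩
      refine ⟨t, ?_⟩
      change y * φ (up t) * y⁻¹ = z
      rw [ht]
      group
    · rintro ⟨t, ht⟩
      refine ⟨t, ?_⟩
      have ht' : y * φ (up t) * y⁻¹ = z := ht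
      rw [← ht']
      group
  · rw [mem_cjS, h2]
    constructor
    · rintro ⟨t, ht⟩
      refine ⟨t, ?_⟩
      change y * φ (lo t) * y⁻¹ = z
      rw [ht]
      group
    · rintro ⟨t, ht⟩
      refine ⟨t, ?_⟩
      have ht' : y * φ (lo t) * y⁻¹ = z := ht
      rw [← ht']
      group
  · have ht' : y * φ t * y⁻¹ = 1 := ht
    have e : φ t = y⁻¹ * (y * φ t * y⁻¹) * y := by group
    rw [e, ht']
    group

theorem ImgK.range {Y : Type*} [Group Y] {q : ℕ} {X X' : Subgroup Y} (h : ImgK q X X') :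
    ∃ (F : Type) (_ : Field F) (_ : Fintype F) (φ : Matrix.SpecialLinearGroup (Fin 2) F →* Y), Fintype.card F = q ∧
      φ.range = X ⊔ X' ∧ φ.ker ≤ Subgroup.center _ := by
  obtain ⟨F, _, _, φ, hF, h1, h2, h3⟩ := h
  refine ⟨F, _, _, φ, hF, le_antisymm ?_ (sup_le ?_ ?_), ?_⟩
  · rintro _ ⟨A, rfl⟩
    have h4 : Subgroup.closure (Set.range (up (F := F)) ∪ Set.range (lo (F := F))) ≤ (X ⊔ X').comap φ := by
      rw [Subgroup.closure_le]
      rintro _ (⟨a, rfl⟩ | ⟨a, rfl⟩)
      · exact Subgroup.mem_sup_left ((h1 _).2 ⟨a, rfl⟩)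
      · exact Subgroup.mem_sup_right ((h2 _).2 ⟨a, rfl⟩)
    exact h4 (Cfsg.Agent.ChevalleyStructure.SL2Hom.mem_closure_SL2 A)
  · intro y hy
    obtain ⟨t, rfl⟩ := (h1 y).1 hy
    exact ⟨_, rfl⟩
  · intro y hy
    obtain ⟨t, rfl⟩ := (h2 y).1 hy
    exact ⟨_, rfl⟩
  · intro A hA
    rw [Subgroup.mem_center_iff]
    intro B
    rcases h3 A hA with rfl | rfl
    · rw [one_mul, mul_one]
    · rw [neg_mul, mul_neg, one_mul, mul_one]

/-- the simple root -/
theorem img_simple {e : ℕ} (he : 0 < e) {τ : MulAut ↥(D.group (KK r))} {γ : (Fin l → ℤ) ≃+ (Fin l → ℤ)}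
    (hτ : IsFrob r e τ) (F : Fr M.toCoxeterSystem hp.isCartan (TT D (KK r)) (XX D l (KK r)) τ γ) {i0 : Fin l}
    (hg : γ (sr i0) = sr i0) :
    ImgK (r ^ e) (XX D l (KK r) (sr i0) ⊓ fixedSubgroup τ) (XX D l (KK r) (-sr i0) ⊓ fixedSubgroup τ) := by
  have hr1 : 1 < r := hr.out.one_lt
  have hr0 := isRoot_sr M.toCoxeterSystem hp.isCartan i0
  have hq1 : 1 < r ^ e := Nat.one_lt_pow he.ne' hr1
  obtain ⟨c, hc, hact⟩ := act_pos hτ F hg
  -- the constant
  obtain ⟨d, hd⟩ := IsAlgClosed.exists_pow_nat_eq (c⁻¹) (n := r ^ e - 1) (by omega)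
  have hd0 : d ≠ 0 := by
    rintro rfl
    rw [zero_pow (by omega)] at hd
    exact inv_ne_zero hc hd.symm
  have hdq : c * d ^ (r ^ e) = d := by
    have h1 : d ^ (r ^ e) = d ^ (r ^ e - 1) * d := by
      rw [← pow_succ]
      congr 1
      omega
    rw [h1, hd, ← mul_assoc, mul_inv_cancel₀ hc, one_mul]
  -- the field
  let F0 := GaloisField r e
  letI : Fintype F0 := Fintype.ofFinite F0
  obtain ⟨f⟩ := RowsUntw.exists_emb r F0
  have hF0 : Fintype.card F0 = r ^ e := by
    rw [← Nat.card_eq_fintype_card]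
    exact GaloisField.card r e he.ne'
  have hfix : ∀ b : KK r, b ^ (r ^ e) = b ↔ ∃ t, f t = b := by
    intro b
    have h1 := Emb.fix_iff_range (f := f) (φ := iterateFrobenius (KK r) r e) (fun t => by
      rw [iterateFrobenius_def, hF0]) b
    rw [iterateFrobenius_def] at h1
    exact h1
  have hup : ∀ a : KK r, τ (xc hp (sr i0) a) = xc hp (sr i0) (c * a ^ (r ^ e)) := by
    intro a
    have h1 := hact (up a)
    rw [H655.Mono.map_up, H655.Mono.dc_up, phi_up', phi_up', iterateFrobenius_def] at h1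
    exact h1
  have hlo : ∀ a : KK r, τ (xc hp (-sr i0) a) = xc hp (-sr i0) (c⁻¹ * a ^ (r ^ e)) := by
    intro a
    have h1 := hact (lo a)
    rw [H655.Mono.map_lo, H655.Mono.dc_lo, phi_lo', phi_lo', iterateFrobenius_def] at h1
    exact h1
  have C := coordsL hp M.toCoxeterSystem (locFin r) r
  refine ⟨F0, inferInstance, inferInstance,
    ((phi hp (KK r) i0).comp (dc d hd0)).comp (Matrix.SpecialLinearGroup.map f), hF0, fun y => ?_, fun y => ?_,
    fun t ht => ?_⟩
  · constructor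
    · rintro ⟨h1, h2⟩
      obtain ⟨a, rfl⟩ := (H655.Mono.mem_X hp r hr0).1 h1
      have h3 : c * a ^ (r ^ e) = a := by
        have h4 : τ (xc hp (sr i0) a) = xc hp (sr i0) a := h2
        rw [hup] at h4
        exact (C.coord _ hr0).inj h4
      obtain ⟨t, ht⟩ := (hfix (a * d⁻¹)).1 (by
        rw [mul_pow, inv_pow]
        have h4 : a ^ (r ^ e) = c⁻¹ * a := by
          rw [← h3, ← mul_assoc, inv_mul_cancel₀ hc, one_mul, h3]
        have h5 : d ^ (r ^ e) = c⁻¹ * d := by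
          rw [← hdq, ← mul_assoc, inv_mul_cancel₀ hc, one_mul, hdq]
        rw [h4, h5, mul_inv, inv_inv]
        field_simp)
      refine ⟨t, ?_⟩
      show phi hp (KK r) i0 (dc d hd0 (Matrix.SpecialLinearGroup.map f (up t))) = _
      rw [H655.Mono.map_up, H655.Mono.dc_up, phi_up', ht]
      congr 1
      field_simp
    · rintro ⟨t, rfl⟩
      have h1 : (((phi hp (KK r) i0).comp (dc d hd0)).comp (Matrix.SpecialLinearGroup.map f)) (up t) =
          xc hp (sr i0) (d * f t) := by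
        show phi hp (KK r) i0 (dc d hd0 (Matrix.SpecialLinearGroup.map f (up t))) = _
        rw [H655.Mono.map_up, H655.Mono.dc_up, phi_up']
      rw [h1]
      refine ⟨(H655.Mono.mem_X hp r hr0).2 ⟨_, rfl⟩, ?_⟩
      show τ (xc hp (sr i0) (d * f t)) = xc hp (sr i0) (d * f t)
      rw [hup, mul_pow, (hfix (f t)).2 ⟨t, rfl⟩, ← mul_assoc, hdq]
  · constructor
    · rintro ⟨h1, h2⟩
      obtain ⟨a, rfl⟩ := (H655.Mono.mem_X hp r hr0.neg).1 h1
      have h3 : c⁻¹ * a ^ (r ^ e) = a := by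
        have h4 : τ (xc hp (-sr i0) a) = xc hp (-sr i0) a := h2
        rw [hlo] at h4
        exact (C.coord _ hr0.neg).inj h4
      obtain ⟨t, ht⟩ := (hfix (a * d)).1 (by
        rw [mul_pow]
        have h4 : a ^ (r ^ e) = c * a := by
          rw [← h3, ← mul_assoc, mul_inv_cancel₀ hc, one_mul, h3]
        have h5 : d ^ (r ^ e) = c⁻¹ * d := by
          rw [← hdq, ← mul_assoc, inv_mul_cancel₀ hc, one_mul, hdq]
        rw [h4, h5]
        field_simp)
      refine ⟨t, ?_⟩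
      show phi hp (KK r) i0 (dc d hd0 (Matrix.SpecialLinearGroup.map f (lo t))) = _
      rw [H655.Mono.map_lo, H655.Mono.dc_lo, phi_lo', ht]
      congr 1
      field_simp
    · rintro ⟨t, rfl⟩
      have h1 : (((phi hp (KK r) i0).comp (dc d hd0)).comp (Matrix.SpecialLinearGroup.map f)) (lo t) =
          xc hp (-sr i0) (d⁻¹ * f t) := by
        show phi hp (KK r) i0 (dc d hd0 (Matrix.SpecialLinearGroup.map f (lo t))) = _
        rw [H655.Mono.map_lo, H655.Mono.dc_lo, phi_lo']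
      rw [h1]
      refine ⟨(H655.Mono.mem_X hp r hr0.neg).2 ⟨_, rfl⟩, ?_⟩
      show τ (xc hp (-sr i0) (d⁻¹ * f t)) = xc hp (-sr i0) (d⁻¹ * f t)
      have h5 : c⁻¹ * d⁻¹ ^ (r ^ e) = d⁻¹ := by
        rw [inv_pow, ← mul_inv, hdq]
      rw [hlo, mul_pow, (hfix (f t)).2 ⟨t, rfl⟩, ← mul_assoc, h5]
  · have h1 : phi hp (KK r) i0 (dc d hd0 (Matrix.SpecialLinearGroup.map f t)) = 1 := ht
    have hinj : ∀ B, B = 1 ∨ B = -1 → dc d hd0 (Matrix.SpecialLinearGroup.map f t) = B → t = 1 ∨ t = -1 := by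
      intro B hB h2
      have e00 : f (t.1 0 0) = B.1 0 0 := by
        rw [← h2, H655.Mono.dc_apply]
        rfl
      have e01 : d * f (t.1 0 1) = B.1 0 1 := by
        rw [← h2, H655.Mono.dc_apply]
        rfl
      have e10 : d⁻¹ * f (t.1 1 0) = B.1 1 0 := by
        rw [← h2, H655.Mono.dc_apply]
        rfl
      have e11 : f (t.1 1 1) = B.1 1 1 := by
        rw [← h2, H655.Mono.dc_apply]
        rfl
      rcases hB with rfl | rfl
      · left
        apply Subtype.ext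
        ext i j
        fin_cases i <;> fin_cases j
        · have : f (t.1 0 0) = f 1 := by rw [e00, map_one]; rfl
          exact f.injective this
        · have h3 : d * f (t.1 0 1) = 0 := e01
          exact (map_eq_zero f).1 ((mul_eq_zero.1 h3).resolve_left hd0)
        · have h3 : d⁻¹ * f (t.1 1 0) = 0 := e10
          exact (map_eq_zero f).1 ((mul_eq_zero.1 h3).resolve_left (inv_ne_zero hd0))
        · have : f (t.1 1 1) = f 1 := by rw [e11, map_one]; rfl
          exact f.injective this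
      · right
        apply Subtype.ext
        ext i j
        fin_cases i <;> fin_cases j
        · have : f (t.1 0 0) = f (-1) := by
            rw [e00, map_neg, map_one]
            simp
          simpa only [_root_.Fin.zero_eta, _root_.Fin.isValue, _root_.Matrix.SpecialLinearGroup.coe_neg, _root_.Matrix.SpecialLinearGroup.coe_one, _root_.Matrix.neg_apply, _root_.Matrix.one_apply_eq] using f.injective this
        · have h3 : d * f (t.1 0 1) = 0 := by rw [e01]; simp
          simpa only [_root_.Fin.zero_eta, _root_.Fin.isValue, _root_.Fin.mk_one, _root_.Matrix.SpecialLinearGroup.coe_neg, _root_.Matrix.SpecialLinearGroup.coe_one, _root_.Matrix.neg_apply, _root_.Nat.reduceAdd, _root_.ne_eq, _root_.zero_ne_one, _root_.not_false_eq_true, _root_.Matrix.one_apply_ne, _root_.neg_zero] using (map_eq_zero f).1 ((mul_eq_zero.1 h3).resolve_left hd0)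
        · have h3 : d⁻¹ * f (t.1 1 0) = 0 := by rw [e10]; simp
          simpa using (map_eq_zero f).1 ((mul_eq_zero.1 h3).resolve_left (inv_ne_zero hd0))
        · have : f (t.1 1 1) = f (-1) := by
            rw [e11, map_neg, map_one]
            simp
          simpa using f.injective this
    exact hinj _ (phi_ker hp i0 h1) rfl

/-- **The fixed points in `⟨X_β, X_{-β}⟩`**, with the kernel -/
theorem imgK_fr {e : ℕ} (he : 0 < e) {τ : MulAut ↥(D.group (KK r))} {γ : (Fin l → ℤ) ≃+ (Fin l → ℤ)}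
    (hτ : IsFrob r e τ) (F : Fr M.toCoxeterSystem hp.isCartan (TT D (KK r)) (XX D l (KK r)) τ γ) {β : Fin l → ℤ}
    (hβ : IsRoot M.toCoxeterSystem hp.isCartan β) (hg : γ β = β) :
    ImgK (r ^ e) (XX D l (KK r) β ⊓ fixedSubgroup τ) (XX D l (KK r) (-β) ⊓ fixedSubgroup τ) := by
  obtain ⟨w, i0, rfl⟩ := id hβ
  obtain ⟨n, -, hn⟩ := (tow (k := KK r) hp M.toCoxeterSystem (locFin r) r).exists_rp w
  have hn' : NR hp r w n := hn
  have Fn := nr_frame hn'
  have Fn' := nr_frame (nr_inv hn')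
  have F' := (Fn'.mul F).mul Fn
  have hτ' : IsFrob r e (MulAut.conj n⁻¹ * τ * MulAut.conj n) := by
    have h1 := (hτ.conj_mul n⁻¹).mul (IsFrob.conj (p := r) n)
    rwa [add_zero] at h1
  have hsr := isRoot_sr M.toCoxeterSystem hp.isCartan i0
  have hI := (img_simple (hp := hp) he hτ' F' (i0 := i0) (by
    show rep M.toCoxeterSystem hp.isCartan w⁻¹ (γ (rep M.toCoxeterSystem hp.isCartan w (sr i0))) = sr i0
    rw [hg, ← rep_mul_apply, inv_mul_cancel, map_one, Module.End.one_apply])).conj n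
  have key : ∀ a, IsRoot M.toCoxeterSystem hp.isCartan a →
      cjS n (XX D l (KK r) a ⊓ fixedSubgroup (MulAut.conj n⁻¹ * τ * MulAut.conj n)) =
        XX D l (KK r) (rep M.toCoxeterSystem hp.isCartan w a) ⊓ fixedSubgroup τ := by
    intro a ha
    ext y
    rw [mem_cjS, Subgroup.mem_inf, Subgroup.mem_inf]
    have h1 : n⁻¹ * y * n ∈ XX D l (KK r) a ↔ y ∈ XX D l (KK r) (rep M.toCoxeterSystem hp.isCartan w a) := by
      have h2 := Fn.map a ha (n⁻¹ * y * n)
      rw [MulAut.conj_apply, repAut_apply] at h2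
      have e1 : n * (n⁻¹ * y * n) * n⁻¹ = y := by group
      rw [e1] at h2
      exact h2.symm
    have h2 : n⁻¹ * y * n ∈ fixedSubgroup (MulAut.conj n⁻¹ * τ * MulAut.conj n) ↔ y ∈ fixedSubgroup τ := by
      show n⁻¹ * τ (n * (n⁻¹ * y * n) * n⁻¹) * n⁻¹⁻¹ = n⁻¹ * y * n ↔ τ y = y
      have e1 : n * (n⁻¹ * y * n) * n⁻¹ = y := by group
      rw [e1, inv_inv]
      constructor
      · intro h
        exact mul_left_cancel (mul_right_cancel h)
      · intro h
        rw [h]
    rw [h1, h2]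
  rw [key _ hsr, key _ hsr.neg, map_neg] at hI
  exact hI

/-- **The fixed points in `⟨X_β, X_{-β}⟩`.** -/
theorem img_fr {e : ℕ} (he : 0 < e) {τ : MulAut ↥(D.group (KK r))} {γ : (Fin l → ℤ) ≃+ (Fin l → ℤ)}
    (hτ : IsFrob r e τ) (F : Fr M.toCoxeterSystem hp.isCartan (TT D (KK r)) (XX D l (KK r)) τ γ) {β : Fin l → ℤ}
    (hβ : IsRoot M.toCoxeterSystem hp.isCartan β) (hg : γ β = β) :
    Img (r ^ e) (XX D l (KK r) β ⊓ fixedSubgroup τ) (XX D l (KK r) (-β) ⊓ fixedSubgroup τ) :=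
  (imgK_fr (hp := hp) he hτ F hβ hg).img

end

section TF

variable {D : ChevalleyDatum} {l : ℕ} {M : CoxeterMatrix (Fin l)} {hp : IsType D l M} {r q : ℕ} [hr : Fact r.Prime]
  {K₀ : Type v} [Group K₀] {m : MData hp r q K₀} {s : ↥(D.group (KK r))}

theorem coordK : Coords M.toCoxeterSystem hp.isCartan (TL (Tj hp (k := KK r))) (nc hp (KK r)) (XL (Xj hp (k := KK r)))
    (xc hp) (ch hp) := by
  rw [TL_eq hp (locFin r), XL_eq hp (locFin r)]
  exact coordsL hp M.toCoxeterSystem (locFin r) r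

theorem TorForm.frK (f : TorForm m s) : Fr M.toCoxeterSystem hp.isCartan (TL (Tj hp (k := KK r)))
    (XL (Xj hp (k := KK r))) f.α f.θ := by
  rw [TL_eq hp (locFin r), XL_eq hp (locFin r)]
  exact f.fr

/-- the frame of `H169/RG/Pair.lean` for a pair `(θ, t)`, weak hypothesis -/
theorem cwK {θ : (Fin l → ℤ) ≃+ (Fin l → ℤ)} {t : ↥(D.group (KK r))} (ht : t ∈ TT D (KK r))
    (hS : ∀ a, θ a ∈ Sx M.toCoxeterSystem hp.isCartan (ch hp) t ↔ a ∈ Sx M.toCoxeterSystem hp.isCartan (ch hp) t)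
    (hpos : ∀ a ∈ Sx M.toCoxeterSystem hp.isCartan (ch hp) t, 0 ≤ a → 0 ≤ θ a) :
    CW M.toCoxeterSystem hp.isCartan (Tj hp (k := KK r)) (Xj hp (k := KK r)) (ch hp) θ t where
  hG := GG_eq_top hp M.toCoxeterSystem (locFin r)
  hsep := by
    rw [TL_eq hp (locFin r), XL_eq hp (locFin r)]
    exact fun a ha => NChev.sep hp M.toCoxeterSystem (locFin r) r ha
  hA := by
    rw [TL_eq hp (locFin r)]
    exact chAddL hp M.toCoxeterSystem (locFin r) r
  hcom := by
    rw [XL_eq hp (locFin r)]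
    exact Cfsg.Agent.GenExc.Chev.commOK hp M.toCoxeterSystem
  hab := by
    rw [TL_eq hp (locFin r)]
    exact TT_comm hp
  ht := by rw [TL_eq hp (locFin r)]; exact ht
  hS := hS
  hpos := hpos

theorem TorForm.cw (f : TorForm m s) :
    CW M.toCoxeterSystem hp.isCartan (Tj hp (k := KK r)) (Xj hp (k := KK r)) (ch hp) f.θ f.t :=
  cwK f.mem f.stab f.pos

theorem Xb_eq (α : MulAut ↥(D.group (KK r))) (a : Fin l → ℤ) :
    Xb (Xj hp (k := KK r)) α a = XX D l (KK r) a ⊓ fixedSubgroup α := by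
  unfold Xb
  rw [XL_eq hp (locFin r)]

end TF

end Cfsg.Agent.H169.RG
end
end

-- part: H169/RG/MPsi
section
prune_inst 0x6020324101e01200001c0002f0001cc389000402004b84000465030006c04f602503af211d40131b4832a84000390028100800700030000000a406004001052190881606b148a01d06008f80188c410000300000000000000000000000000000210000000
set_option linter.all false
open scoped Cfsg.Agent.FastGrp

-- part: H441/RG/Core
section
/-!
# S3509, exceptional groups: `m.ι.range ◁ Y^σ` and `O_r(m.ι.range ∩ C(s)) = 1` (helper441)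

`m : MData hp r q K₀`.

* `pmem_pow` : the `r`-elements of `Y^σ` lie in `m.ι.range`; `range_normal` : `m.ι.range ◁ Y^σ`;
* `core_range` : `O_r(m.ι.range ∩ C(s)) = 1` for the `r'`-elements `s ∈ Y^σ` (field `core` of `H694.RG.YData`);
-/

set_option autoImplicit false
set_option linter.unusedSectionVars false

namespace Cfsg.Agent.H441.RG

open CoxeterSystem Cfsg Cfsg.Lie Cfsg.Lie.ChevalleyDatum
open Cfsg.Agent.ChevalleyStructure Cfsg.Agent.ChevalleyStructure.Elts Cfsg.Agent.ChevalleyStructure.CoxeterGeom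
  Cfsg.Agent.ChevalleyStructure.CoxeterGeomTypes Cfsg.Agent.ChevalleyStructure.NPerm
open Cfsg.Agent.Tits.Roots Cfsg.Agent.Tits.Core Cfsg.Agent.Nodes Cfsg.Agent.Nodes.Reps Cfsg.Agent.Nodes.BNOf
  Cfsg.Agent.Nodes.RGDChev Cfsg.Agent.Nodes.Bruhat Cfsg.Agent.Nodes.NormalForm Cfsg.Agent.Nodes.OppDec
open Cfsg.Agent.KFacts.RgdField Cfsg.Agent.KFacts.RgdChevCoord
open Cfsg.Agent.BpExc Cfsg.Agent.BpExc.TorCent Cfsg.Agent.BpExc.TorChev Cfsg.Agent.BpExc.Tow
  Cfsg.Agent.BpExc.TowChev Cfsg.Agent.BpExc.Fr Cfsg.Agent.BpExc.Pair Cfsg.Agent.BpExc.LangFr Cfsg.Agent.GpExc.Field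
  Cfsg.Agent.BpExc.NChev
open Cfsg.Agent.H28.RG Cfsg.Agent.H169.RG Cfsg.Agent.H469.Exc Cfsg.Agent.H316.U6

universe u v

section

variable {G : Type*} [Group G] {p : ℕ}

theorem pow_of_pgroup {P : Subgroup G} (hP : IsPGroup p ↥P) {u : G} (hu : u ∈ P) : ∃ n : ℕ, u ^ p ^ n = 1 := by
  obtain ⟨n, hn⟩ := hP ⟨u, hu⟩
  exact ⟨n, congrArg Subtype.val hn⟩

theorem pgroup_of_pow {P : Subgroup G} (h : ∀ u ∈ P, ∃ n : ℕ, u ^ p ^ n = 1) : IsPGroup p ↥P := by
  rintro ⟨u, hu⟩
  obtain ⟨n, hn⟩ := h u hu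
  exact ⟨n, Subtype.ext hn⟩

end

section

variable {D : ChevalleyDatum} {l : ℕ} {M : CoxeterMatrix (Fin l)} {hp : IsType D l M} {r q : ℕ} [hr : Fact r.Prime]
  {K₀ : Type v} [Group K₀] (m : MData hp r q K₀)

/-- **`r`-elements of `Y^σ` lie in the group** -/
theorem pmem_pow {y : ↥(D.group (KK r))} (hy : m.σ y = y) {k : ℕ} (hk : y ^ r ^ k = 1) : y ∈ m.ι.range := by
  obtain ⟨n, hn, h1⟩ := m.idx y hy
  have h2 : n.Coprime (orderOf y) :=
    Nat.Coprime.coprime_dvd_right (orderOf_dvd_of_pow_eq_one hk) (hn.pow_right k)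
  obtain ⟨a, ha⟩ := exists_pow_eq_self_of_coprime h2
  rw [← ha]
  exact pow_mem h1 a

/-- an `r`-subgroup of `Y^σ` lies in the group -/
theorem pgroup_le {P : Subgroup ↥(D.group (KK r))} (hP : IsPGroup r ↥P) (hσ : ∀ y ∈ P, m.σ y = y) : P ≤ m.ι.range := by
  intro y hy
  obtain ⟨k, hk⟩ := pow_of_pgroup hP hy
  exact pmem_pow m (hσ y hy) hk

theorem pow_of_Sup {S : Set (Fin l → ℤ)} (hS : ∀ a ∈ S, IsRoot M.toCoxeterSystem hp.isCartan a)
    (h : (∀ a ∈ S, 0 ≤ a) ∨ ∀ a ∈ S, a ≤ 0) {u : ↥(D.group (KK r))} (hu : u ∈ RGD.Sup (XX D l (KK r)) S) :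
    ∃ n : ℕ, u ^ r ^ n = 1 := by
  have := finite_W hp M.toCoxeterSystem
  have H := tow (k := KK r) hp M.toCoxeterSystem (locFin r) r
  have hpos : ∀ S : Set (Fin l → ℤ), (∀ a ∈ S, IsRoot M.toCoxeterSystem hp.isCartan a ∧ 0 ≤ a) →
      ∀ u ∈ RGD.Sup (XX D l (KK r)) S, ∃ n : ℕ, u ^ r ^ n = 1 := by
    intro S hS u hu
    rw [← XL_eq hp (locFin r)] at hu
    obtain ⟨j, hj⟩ := H.mem_Sup.1 hu
    exact pow_of_pgroup ((H.rgd j).isPGroup_of_pos (S := S) (fun a ha => hS a ha)) hj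
  rcases h with h | h
  · exact hpos S (fun a ha => ⟨hS a ha, h a ha⟩) u hu
  · -- conjugate by the longest element
    obtain ⟨w0, hw0⟩ := Cfsg.Agent.Nodes.Sys.exists_longest M.toCoxeterSystem hp.isCartan
    obtain ⟨y, -, hy⟩ := H.exists_rp w0⁻¹
    have h1 : y * u * y⁻¹ ∈ RGD.Sup (XX D l (KK r)) {b | IsRoot M.toCoxeterSystem hp.isCartan b ∧ 0 ≤ b} := by
      rw [← XL_eq hp (locFin r)] at hu ⊢
      refine conj_SupL H hy (S := S) (S' := {b | IsRoot M.toCoxeterSystem hp.isCartan b ∧ 0 ≤ b}) hS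
        (fun a ha => ⟨(hS a ha).act _, ?_⟩) hu
      have h2 := hw0 (-a) (hS a ha).neg (neg_nonneg.2 (h a ha))
      rwa [map_neg, neg_nonpos] at h2
    obtain ⟨n, hn⟩ := hpos _ (fun a ha => ha) _ h1
    refine ⟨n, ?_⟩
    rw [conj_pow, conj_eq_one_iff] at hn
    exact hn

/-- **`m.ι.range` is normal in `Y^σ`.** -/
theorem range_normal {c x : ↥(D.group (KK r))} (hc : m.σ c = c) (hx : x ∈ m.ι.range) : c * x * c⁻¹ ∈ m.ι.range := by
  have key : (m.ι.range.comap (MulAut.conj c).toMonoidHom).comap m.ι = ⊤ := by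
    refine m.gen _ (fun a ha => ?_) (fun a ha => ?_)
    · obtain ⟨n, h1⟩ := pow_of_Sup (r := r) (hp := hp) (S := RGD.Pos M.toCoxeterSystem hp.isCartan)
        (fun a ha => ha.1) (Or.inl fun a ha => ha.2) ha
      have h2 : c * m.ι a * c⁻¹ ∈ m.ι.range := pmem_pow m (by rw [map_mul, map_mul, map_inv, hc, m.fix]) (k := n)
        (by rw [conj_pow, h1]; group)
      exact h2
    · obtain ⟨n, h1⟩ := pow_of_Sup (r := r) (hp := hp) (S := _root_.Cfsg.Agent.Nodes.OppDec.Neg M.toCoxeterSystem hp.isCartan)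
        (fun a ha => ha.1) (Or.inr fun a ha => ha.2) ha
      have h2 : c * m.ι a * c⁻¹ ∈ m.ι.range := pmem_pow m (by rw [map_mul, map_mul, map_inv, hc, m.fix]) (k := n)
        (by rw [conj_pow, h1]; group)
      exact h2
  obtain ⟨a, rfl⟩ := hx
  have h1 : a ∈ (m.ι.range.comap (MulAut.conj c).toMonoidHom).comap m.ι := by rw [key]; exact Subgroup.mem_top a
  exact h1

/-- **The field `core` of `YData`.** -/
theorem core_range : ∀ s ∈ fixedSubgroup m.σ, (∃ n : ℕ, n.Coprime r ∧ s ^ n = 1) →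
    pCore r ↥(m.ι.range ⊓ Subgroup.centralizer {s}) = ⊥ := by
  rintro s hs ⟨n, hn, hsn⟩
  have hfin := finite_fixC m s
  have hsr : (orderOf s).Coprime r := hn.coprime_dvd_left (orderOf_dvd_of_pow_eq_one hsn)
  have hle : m.ι.range ⊓ Subgroup.centralizer {s} ≤ fixC m.σ s := by
    rintro x ⟨⟨a, rfl⟩, h2⟩
    exact mem_fixC.2 ⟨m.fix a, Subgroup.mem_centralizer_singleton_iff.1 h2⟩
  have hn' : ((m.ι.range ⊓ Subgroup.centralizer {s}).subgroupOf (fixC m.σ s)).Normal := by
    refine ⟨fun x hx c => ?_⟩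
    rw [Subgroup.mem_subgroupOf] at hx ⊢
    obtain ⟨h1, h2⟩ := mem_fixC.1 c.2
    refine ⟨range_normal m h1 hx.1, ?_⟩
    have h3 := (c * x * c⁻¹).2
    exact Subgroup.mem_centralizer_singleton_iff.2 (mem_fixC.1 h3).2
  have h1 := Cfsg.Agent.Lib.Cores.map_subtype_pCore r hn'
  rw [pCore_fixC m hs hsr, inf_bot_eq] at h1
  have h2 := (Subgroup.map_eq_bot_iff_of_injective _ (Subgroup.subtype_injective _)).1 h1
  simp only [← Cfsg.Agent.Lib.Cores.map_equiv_pCore (Subgroup.subgroupOfEquivOfLe hle) r, h2, Subgroup.map_bot]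

end

end Cfsg.Agent.H441.RG
end

-- part: H441/RG/NormM
section
/-!
# S3509, exceptional groups: the group `M = ⟨X ^ K⟩` (helper441)

`m : MData hp r q K₀`; `ZForm m α θ t z` : weak frame data `(α, θ, t)` and `z` with `z Y^α z⁻¹ = Y^σ` (from a toral form: `zform`).
`K = KT = ⟨PK, QK, TK⟩`, `X ≤ K`, `M = MK K X`, `zM = z M z⁻¹`:

* `ZForm.le_range` : `z M z⁻¹ ≤ m.ι.range`;
* `ZForm.ne_range` : `z M' z⁻¹ ≠ m.ι.range` for every `M' ≤ fixC α t`, if some root is not in `Sx t`;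
* `ZForm.norm_strong` : the normaliser, if the component group fixes `β`;
* `norm_weakT`, `norm_strongT`, `centT` : the toral form.
-/

set_option autoImplicit false
set_option linter.unusedSectionVars false

namespace Cfsg.Agent.H441.RG

open CoxeterSystem Cfsg Cfsg.Lie Cfsg.Lie.ChevalleyDatum
open Cfsg.Agent.ChevalleyStructure Cfsg.Agent.ChevalleyStructure.Elts Cfsg.Agent.ChevalleyStructure.CoxeterGeom
  Cfsg.Agent.ChevalleyStructure.CoxeterGeomTypes Cfsg.Agent.ChevalleyStructure.NPerm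
open Cfsg.Agent.Tits.Roots Cfsg.Agent.Tits.Core Cfsg.Agent.Nodes Cfsg.Agent.Nodes.Reps Cfsg.Agent.Nodes.BNOf
  Cfsg.Agent.Nodes.RGDChev Cfsg.Agent.Nodes.Bruhat Cfsg.Agent.Nodes.NormalForm Cfsg.Agent.Nodes.OppDec
open Cfsg.Agent.KFacts.RgdField Cfsg.Agent.KFacts.RgdChevCoord
open Cfsg.Agent.BpExc Cfsg.Agent.BpExc.TorCent Cfsg.Agent.BpExc.TorChev Cfsg.Agent.BpExc.Tow
  Cfsg.Agent.BpExc.TowChev Cfsg.Agent.BpExc.Fr Cfsg.Agent.BpExc.Pair Cfsg.Agent.BpExc.LangFr Cfsg.Agent.GpExc.Field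
  Cfsg.Agent.BpExc.NChev
open Cfsg.Agent.H28.RG Cfsg.Agent.H169.RG Cfsg.Agent.H469.Exc Cfsg.Agent.H316.U6
open Cfsg.Agent.H398.RG (MK MK_le MK_le_self conj_MK le_normalizer_MK)

universe u v

section

variable {G : Type*} [Group G]

theorem mem_normalizer_map {z c : G} {N : Subgroup G} (h : z⁻¹ * c * z ∈ Subgroup.normalizer (N : Set G)) :
    c ∈ Subgroup.normalizer ((N.map (MulAut.conj z).toMonoidHom : Subgroup G) : Set G) := by
  have hm : ∀ x, x ∈ N.map (MulAut.conj z).toMonoidHom ↔ z⁻¹ * x * z ∈ N := by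
    intro x
    constructor
    · rintro ⟨y, hy, rfl⟩
      have e : z⁻¹ * ((MulAut.conj z).toMonoidHom y) * z = y := by
        change z⁻¹ * (z * y * z⁻¹) * z = y
        group
      rw [e]
      exact hy
    · intro h1
      refine ⟨_, h1, ?_⟩
      change z * (z⁻¹ * x * z) * z⁻¹ = x
      group
  rw [Subgroup.mem_normalizer_iff] at h ⊢
  intro x
  rw [hm, hm, h]
  have e : z⁻¹ * c * z * (z⁻¹ * x * z) * (z⁻¹ * c * z)⁻¹ = z⁻¹ * (c * x * c⁻¹) * z := by group
  rw [e]

/-- an element normalising `K` and `X` normalises `⟨X ^ K⟩` -/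
theorem mem_normalizer_MK {K X : Subgroup G} {y : G} (hK : ∀ k, k ∈ K ↔ y * k * y⁻¹ ∈ K)
    (hX : ∀ x, x ∈ X ↔ y * x * y⁻¹ ∈ X) : y ∈ Subgroup.normalizer (MK K X : Set G) := by
  have key : ∀ y : G, (∀ k ∈ K, y * k * y⁻¹ ∈ K) → (∀ x ∈ X, y * x * y⁻¹ ∈ X) → ∀ n ∈ MK K X, y * n * y⁻¹ ∈ MK K X := by
    intro y hK hX n hn
    have h1 : MK K X ≤ (MK K X).comap (MulAut.conj y).toMonoidHom := by
      refine MK_le fun k hk x hx => ?_
      change y * (k * x * k⁻¹) * y⁻¹ ∈ MK K X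
      have e : y * (k * x * k⁻¹) * y⁻¹ = (y * k * y⁻¹) * (y * x * y⁻¹) * (y * k * y⁻¹)⁻¹ := by group
      rw [e]
      exact Subgroup.subset_closure ⟨_, hK k hk, _, hX x hx, rfl⟩
    exact h1 hn
  rw [Subgroup.mem_normalizer_iff]
  intro n
  refine ⟨key y (fun k hk => (hK k).1 hk) (fun x hx => (hX x).1 hx) n, fun h => ?_⟩
  have h1 := key y⁻¹ (fun k hk => (hK _).2 (by
    have e : y * (y⁻¹ * k * y⁻¹⁻¹) * y⁻¹ = k := by group
    rwa [e])) (fun x hx => (hX _).2 (by
    have e : y * (y⁻¹ * x * y⁻¹⁻¹) * y⁻¹ = x := by group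
    rwa [e])) _ h
  have e : y⁻¹ * (y * n * y⁻¹) * y⁻¹⁻¹ = n := by group
  rwa [e] at h1

end

section

variable {D : ChevalleyDatum} {l : ℕ} {M : CoxeterMatrix (Fin l)} {hp : IsType D l M} {r q : ℕ} [hr : Fact r.Prime]
  {K₀ : Type v} [Group K₀]

/-- The weak form of the data. -/
structure ZForm (m : MData hp r q K₀) (α : MulAut ↥(D.group (KK r))) (θ : (Fin l → ℤ) ≃+ (Fin l → ℤ))
    (t z : ↥(D.group (KK r))) : Prop where
  d : Wk.DFr hp M.toCoxeterSystem r m.e α θ t
  hz : ∀ y, m.σ (z * y * z⁻¹) = z * y * z⁻¹ ↔ α y = y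

/-- `⟨PK, QK, TK⟩` -/
noncomputable def KT (hp : IsType D l M) (α : MulAut ↥(D.group (KK r))) (t : ↥(D.group (KK r))) : Subgroup ↥(D.group (KK r)) :=
  PK hp M.toCoxeterSystem α t ⊔ QK hp M.toCoxeterSystem α t ⊔ TK α

variable {m : MData hp r q K₀} {α : MulAut ↥(D.group (KK r))} {θ : (Fin l → ℤ) ≃+ (Fin l → ℤ)}
  {t z : ↥(D.group (KK r))}

theorem ZForm.finite (h : ZForm m α θ t z) : Finite ↥(fixC α t) := by
  have := m.fin
  refine Finite.of_injective (fun y : ↥(fixC α t) =>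
    (⟨z * y * z⁻¹, (h.hz y).2 (mem_fixC.1 y.2).1⟩ : ↥(fixedSubgroup m.σ))) fun a b hab => ?_
  have h1 : z * (a : ↥(D.group (KK r))) * z⁻¹ = z * b * z⁻¹ := congrArg Subtype.val hab
  exact Subtype.ext (mul_left_cancel (mul_right_cancel h1))

theorem ZForm.KT_le (h : ZForm m α θ t z) : KT hp α t ≤ fixC α t := h.d.KT_le (locFin r)

theorem ZForm.pCore_KT (h : ZForm m α θ t z) : pCore r ↥(KT hp α t) = ⊥ := by
  have := h.finite
  exact h.d.pCore_KT (locFin r)

/-- `C` normalises `K` -/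
theorem ZForm.conj_KT (h : ZForm m α θ t z) {c : ↥(D.group (KK r))} (hc : c ∈ fixC α t) (x : ↥(D.group (KK r))) :
    x ∈ KT hp α t ↔ c * x * c⁻¹ ∈ KT hp α t := by
  have key : ∀ c ∈ fixC α t, ∀ x ∈ KT hp α t, c * x * c⁻¹ ∈ KT hp α t := fun c hc x hx =>
    (h.d.KT_normal (locFin r)).conj_mem ⟨x, h.KT_le hx⟩ hx ⟨c, hc⟩
  refine ⟨key c hc x, fun h1 => ?_⟩
  have h2 := key c⁻¹ (inv_mem hc) _ h1
  have e : c⁻¹ * (c * x * c⁻¹) * c⁻¹⁻¹ = x := by group
  rwa [e] at h2

/-- **`z M z⁻¹ ≤ m.ι.range`.** -/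
theorem ZForm.le_range (h : ZForm m α θ t z) {K X : Subgroup ↥(D.group (KK r))} (hK : ∀ k ∈ K, α k = k)
    (hXK : X ≤ K) (hX : IsPGroup r ↥X) : (MK K X).map (MulAut.conj z).toMonoidHom ≤ m.ι.range := by
  rw [Subgroup.map_le_iff_le_comap]
  refine MK_le fun k hk x hx => ?_
  have h1 : z * (k * x * k⁻¹) * z⁻¹ ∈ m.ι.range := by
    obtain ⟨n, hn⟩ := pow_of_pgroup hX hx
    refine pmem_pow m ((h.hz _).2 (by rw [map_mul, map_mul, map_inv, hK k hk, hK x (hXK hx)])) (k := n) ?_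
    rw [conj_pow, conj_pow, hn]
    group
  exact h1

seal _root_.Finset.sum _root_.dotProduct in
/-- the order of an `r`-subgroup of `C` -/
theorem ZForm.card_pgroup_le (h : ZForm m α θ t z) {P : Subgroup ↥(D.group (KK r))} (hP : IsPGroup r ↥P)
    (hPC : P ≤ fixC α t) : Nat.card ↥P ≤ (r ^ m.e) ^ (SP M.toCoxeterSystem hp.isCartan (ch hp) t).ncard := by
  have := finite_W hp M.toCoxeterSystem
  have := h.finite
  obtain ⟨S, hS⟩ := h.d.sylP (locFin r)
  have h1 : IsPGroup r ↥(P.subgroupOf (fixC α t)) := hP.comap_subtype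
  obtain ⟨S', hS'⟩ := h1.exists_le_sylow
  have h2 : Nat.card ↥(P.subgroupOf (fixC α t)) ≤ Nat.card ↥(S' : Subgroup ↥(fixC α t)) :=
    Nat.le_of_dvd Nat.card_pos (Subgroup.card_dvd_of_le hS')
  have h3 : Nat.card ↥(S' : Subgroup ↥(fixC α t)) = Nat.card ↥(S : Subgroup ↥(fixC α t)) := by
    rw [S'.card_eq_multiplicity, S.card_eq_multiplicity]
  rw [h3, hS, Nat.card_congr (Subgroup.subgroupOfEquivOfLe hPC).toEquiv,
    Nat.card_congr (Subgroup.subgroupOfEquivOfLe (h.d.PK_le (locFin r))).toEquiv] at h2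
  refine h2.trans (le_of_eq ?_)
  exact H461.E2.Fix.card_fix (hp := hp) (locFin r) r h.d.he h.d.frob h.d.fr
    (fun a ha => ⟨ha.1.1, ha.2⟩) (by
      rintro a ha b hb c hc ⟨i, j, hi, hj, rfl⟩
      refine ⟨⟨hc, ?_⟩, add_nonneg (nsmul_nonneg ha.2 i) (nsmul_nonneg hb.2 j)⟩
      obtain ⟨φ, h0, hadd, hφ⟩ := chAddL (k := KK r) hp M.toCoxeterSystem (locFin r) r t h.d.mem
      have hm : ∀ (i : ℕ) (x : Fin l → ℤ), φ (i • x) = φ x ^ i := by
        intro i x
        induction i with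
        | zero => rw [zero_smul, pow_zero, h0]
        | succ i ih => rw [succ_nsmul, hadd, ih, pow_succ]
      rw [hφ _ hc, hadd, hm, hm, ← hφ a ha.1.1, ← hφ b hb.1.1, ha.1.2, hb.1.2, one_pow, one_pow, one_mul])
    (fun a ha => ⟨(h.d.stab a).2 ha.1, h.d.pos a ha.1 ha.2⟩)

/-- **`z M' z⁻¹ ≠ m.ι.range`.** -/
theorem ZForm.ne_range (h : ZForm m α θ t z) {M' : Subgroup ↥(D.group (KK r))} (hM' : M' ≤ fixC α t)
    {a : Fin l → ℤ} (ha : IsRoot M.toCoxeterSystem hp.isCartan a)
    (hat : a ∉ Sx M.toCoxeterSystem hp.isCartan (ch hp) t) :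
    M'.map (MulAut.conj z).toMonoidHom ≠ m.ι.range := by
  intro heq
  have := finite_W hp M.toCoxeterSystem
  -- the Sylow subgroup of `Y^σ`
  have hfin : (RGD.Pos M.toCoxeterSystem hp.isCartan).Finite :=
    (RGD.finite_roots (cs := M.toCoxeterSystem) (h := hp.isCartan)).subset fun a ha => ha.1
  set P1 : Subgroup ↥(D.group (KK r)) :=
    RGD.Sup (XX D l (KK r)) (RGD.Pos M.toCoxeterSystem hp.isCartan) ⊓ fixedSubgroup m.σ with hP1
  have hc1 : Nat.card ↥P1 = (r ^ m.e) ^ (RGD.Pos M.toCoxeterSystem hp.isCartan).ncard :=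
    H461.E2.Fix.card_fix (hp := hp) (locFin r) r m.he m.frob m.fr (fun a ha => ha) (by
      rintro a ha b hb c hc ⟨i, j, hi, hj, rfl⟩
      exact ⟨hc, add_nonneg (nsmul_nonneg ha.2 i) (nsmul_nonneg hb.2 j)⟩)
      (fun a ha => ⟨(m.fr.root a).2 ha.1, m.pos ha.2⟩)
  have hpow : ∀ u ∈ P1, ∃ n : ℕ, u ^ r ^ n = 1 := fun u hu =>
    pow_of_Sup (hp := hp) (fun a ha => ha.1) (Or.inl fun a ha => ha.2) hu.1
  have hP1r : P1 ≤ m.ι.range := pgroup_le m (pgroup_of_pow hpow) fun y hy => hy.2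
  have hP2 : P1.map (MulAut.conj z⁻¹).toMonoidHom ≤ fixC α t := by
    rintro _ ⟨u, hu, rfl⟩
    have h1 := hP1r hu
    rw [← heq] at h1
    obtain ⟨y, hy, rfl⟩ := h1
    have e : (MulAut.conj z⁻¹).toMonoidHom ((MulAut.conj z).toMonoidHom y) = y := by
      change z⁻¹ * (z * y * z⁻¹) * z⁻¹⁻¹ = y
      group
    rw [e]
    exact hM' hy
  have h2 := h.card_pgroup_le ((pgroup_of_pow hpow).map (MulAut.conj z⁻¹).toMonoidHom) hP2
  rw [Nat.card_congr (P1.equivMapOfInjective _ (MulAut.conj z⁻¹).injective).toEquiv.symm, hc1] at h2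
  -- the numbers of the roots
  have h3 : (SP M.toCoxeterSystem hp.isCartan (ch hp) t).ncard < (RGD.Pos M.toCoxeterSystem hp.isCartan).ncard := by
    refine Set.ncard_lt_ncard ?_ hfin
    refine ⟨fun b hb => ⟨hb.1.1, hb.2⟩, fun hcon => ?_⟩
    rcases ha.pos_or_neg with h0 | h0
    · exact hat (hcon (show a ∈ RGD.Pos M.toCoxeterSystem hp.isCartan from ⟨ha, h0⟩)).1
    · have h4 : -a ∈ Sx M.toCoxeterSystem hp.isCartan (ch hp) t :=
        (hcon (show -a ∈ RGD.Pos M.toCoxeterSystem hp.isCartan from ⟨ha.neg, neg_nonneg.2 h0⟩)).1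
      have h5 := chi_neg (coordsL (k := KK r) hp M.toCoxeterSystem (locFin r) r) h.d.mem
        (chAddL (k := KK r) hp M.toCoxeterSystem (locFin r) r) h4
      rw [neg_neg] at h5
      exact hat h5
  have h4 : 1 < r ^ m.e := Nat.one_lt_pow m.he.ne' hr.out.one_lt
  exact absurd h2 (not_le.2 (Nat.pow_lt_pow_right h4 h3))

/-- **The normaliser, for elements of `K`.** -/
theorem ZForm.norm_of_mem {K X : Subgroup ↥(D.group (KK r))} {c : ↥(D.group (KK r))} (hc : z⁻¹ * c * z ∈ K) :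
    c ∈ Subgroup.normalizer (((MK K X).map (MulAut.conj z).toMonoidHom : Subgroup ↥(D.group (KK r))) :
      Set ↥(D.group (KK r))) := mem_normalizer_map (le_normalizer_MK K X hc)

/-- **The normaliser, if the component group fixes `β`.** -/
theorem ZForm.norm_strong [Finite M.Group] (h : ZForm m α θ t z) {β : Fin l → ℤ}
    (hβ : IsRoot M.toCoxeterSystem hp.isCartan β)
    (hPP : ∀ w ∈ PP M.toCoxeterSystem hp.isCartan (ch hp) t, rep M.toCoxeterSystem hp.isCartan w β = β)
    {c : ↥(D.group (KK r))} (hc : z⁻¹ * c * z ∈ fixC α t) :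
    c ∈ Subgroup.normalizer (((MK (KT hp α t) (XX D l (KK r) β ⊓ fixedSubgroup α)).map
      (MulAut.conj z).toMonoidHom : Subgroup ↥(D.group (KK r))) : Set ↥(D.group (KK r))) := by
  have := h.finite
  refine mem_normalizer_map ?_
  obtain ⟨κ, hκ, w, hw, y, hyC, hy, e⟩ := h.d.frattiniC (locFin r) hc
  rw [e]
  refine mul_mem (le_normalizer_MK _ _ (Subgroup.mem_sup_left hκ)) (mem_normalizer_MK (h.conj_KT hyC) fun x => ?_)
  have H := tow (k := KK r) hp M.toCoxeterSystem (locFin r) r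
  have h1 := H.conj_rp ((rp_iff (locFin r)).2 hy) hβ
  rw [XL_eq hp (locFin r), hPP w hw] at h1
  have hαy := (mem_fixC.1 hyC).1
  have h2 : x ∈ XX D l (KK r) β ↔ y * x * y⁻¹ ∈ XX D l (KK r) β := by
    constructor
    · intro hx
      rw [← h1]
      exact conj_mem_cj.2 hx
    · intro hx
      rw [← h1] at hx
      exact conj_mem_cj.1 hx
  have h4 : α x = x ↔ α (y * x * y⁻¹) = y * x * y⁻¹ := by
    rw [map_mul, map_mul, map_inv, hαy]
    constructor
    · intro h5
      rw [h5]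
    · intro h5
      exact mul_left_cancel (mul_right_cancel h5)
  exact and_congr h2 h4

end

/-! ### the toral form -/

section

variable {D : ChevalleyDatum} {l : ℕ} {M : CoxeterMatrix (Fin l)} {hp : IsType D l M} {r q : ℕ} [hr : Fact r.Prime]
  {K₀ : Type v} [Group K₀] {m : MData hp r q K₀} {s : ↥(D.group (KK r))} (f : TorForm m s)

include f

theorem zform : ZForm m f.α f.θ f.t f.z where
  d := ⟨m.he, f.frob, f.fr, f.mem, f.stab, f.pos⟩
  hz := f.fix_iff'

theorem mem_fixC_of_comm {c : ↥(D.group (KK r))} (hc : m.σ c = c) (hcs : c * s = s * c) :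
    f.z⁻¹ * c * f.z ∈ fixC f.α f.t := mem_fixC.2 ⟨(f.fix_iff c).2 hc, (f.comm_iff c).1 hcs⟩

/-- `s` centralises `z M z⁻¹` -/
theorem centT {M' : Subgroup ↥(D.group (KK r))} (hM' : M' ≤ fixC f.α f.t) {x : ↥(D.group (KK r))}
    (hx : x ∈ M'.map (MulAut.conj f.z).toMonoidHom) : s * x = x * s := by
  obtain ⟨y, hy, rfl⟩ := hx
  have h1 := (mem_fixC.1 (hM' hy)).2
  have h2 := f.eq
  change s * (f.z * y * f.z⁻¹) = f.z * y * f.z⁻¹ * s
  have e1 : s * (f.z * y * f.z⁻¹) = f.z * (f.z⁻¹ * s * f.z * y) * f.z⁻¹ := by group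
  have e2 : f.z * y * f.z⁻¹ * s = f.z * (y * (f.z⁻¹ * s * f.z)) * f.z⁻¹ := by group
  have e3 : f.z⁻¹ * s * f.z = f.t := by
    have e4 : f.z⁻¹ * (f.z * f.t * f.z⁻¹) * f.z = f.t := by group
    exact (congrArg (fun x => f.z⁻¹ * x * f.z) h2).trans e4
  rw [e1, e2, e3, h1]

/-- the elements of order prime to the order of `s` normalise `z M z⁻¹` -/
theorem norm_weakT (hs : (orderOf s).Coprime r) {X : Subgroup ↥(D.group (KK r))} {c : ↥(D.group (KK r))}
    (hc : m.σ c = c) (hcs : c * s = s * c) (hcop : (orderOf c).Coprime (orderOf s)) :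
    c ∈ Subgroup.normalizer (((MK (KT hp f.α f.t) X).map (MulAut.conj f.z).toMonoidHom :
      Subgroup ↥(D.group (KK r))) : Set ↥(D.group (KK r))) := by
  have := finite_fixC_α f
  refine ZForm.norm_of_mem ?_
  refine (dfr_torForm f hs).mem_of_coprimeC (locFin r) (mem_fixC_of_comm f hc hcs) (m := orderOf c) ?_ ?_
  · rw [f.orderOf_eq]
    exact hcop
  · have h1 : (f.z⁻¹ * c * f.z⁻¹⁻¹) ^ orderOf c = 1 := by
      rw [conj_pow, pow_orderOf_eq_one]
      group
    rwa [inv_inv] at h1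

/-- all elements commuting with `s` normalise `z M z⁻¹`, if the component group fixes `β` -/
theorem norm_strongT [Finite M.Group] {β : Fin l → ℤ} (hβ : IsRoot M.toCoxeterSystem hp.isCartan β)
    (hPP : ∀ w ∈ PP M.toCoxeterSystem hp.isCartan (ch hp) f.t, rep M.toCoxeterSystem hp.isCartan w β = β)
    {c : ↥(D.group (KK r))} (hc : m.σ c = c) (hcs : c * s = s * c) :
    c ∈ Subgroup.normalizer (((MK (KT hp f.α f.t) (XX D l (KK r) β ⊓ fixedSubgroup f.α)).map
      (MulAut.conj f.z).toMonoidHom : Subgroup ↥(D.group (KK r))) : Set ↥(D.group (KK r))) :=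
  (zform f).norm_strong hβ hPP (mem_fixC_of_comm f hc hcs)

end

end Cfsg.Agent.H441.RG
end

-- part: H169/RG/MPsi
section
/-!
# S3509, box U: the quasisimple subgroup generated by a fixed long root group of a centraliser (helper169)

`d : Wk.DFr hp cs r e α θ t` (weak frame), `β` a `θ`-fixed top of `Sx t`, `K = KT = ⟨P, Q, T^α⟩`, `X = X_β^α`, `Y = X_{-β}^α`,
`M = MK K X`.

* `baseF` : helper398's `Base`;
* `cond_big` : `Cond` for `r ^ e ≥ 4`;
* `core_M` : `X, Y ≤ M ≤ K ≤ N(M)`, `M` perfect, `NSA (M / Z(M))`.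
-/

set_option autoImplicit false
set_option linter.unusedSectionVars false

namespace Cfsg.Agent.H169.RG

open CoxeterSystem Cfsg Cfsg.Lie Cfsg.Lie.ChevalleyDatum
open Cfsg.Agent.ChevalleyStructure Cfsg.Agent.ChevalleyStructure.Elts Cfsg.Agent.ChevalleyStructure.CoxeterGeom
  Cfsg.Agent.ChevalleyStructure.CoxeterGeomTypes Cfsg.Agent.ChevalleyStructure.NPerm
open Cfsg.Agent.Tits.Roots Cfsg.Agent.Tits.Core Cfsg.Agent.Nodes Cfsg.Agent.Nodes.Reps Cfsg.Agent.Nodes.BNOf
  Cfsg.Agent.Nodes.RGDChev Cfsg.Agent.Nodes.Bruhat Cfsg.Agent.Nodes.NormalForm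
open Cfsg.Agent.KFacts.RgdField Cfsg.Agent.KFacts.RgdChevCoord
open Cfsg.Agent.BpExc Cfsg.Agent.BpExc.TorCent Cfsg.Agent.BpExc.TorChev Cfsg.Agent.BpExc.Tow
  Cfsg.Agent.BpExc.TowChev Cfsg.Agent.BpExc.Fr Cfsg.Agent.BpExc.Pair Cfsg.Agent.BpExc.LangFr Cfsg.Agent.GpExc.Field
  Cfsg.Agent.BpExc.NInst Cfsg.Agent.BpExc.NChev
open Cfsg.Agent.ChevalleyStructure.SL2Hom (up lo)
open Cfsg.Agent.H469.Exc Cfsg.Agent.H316.U6 Cfsg.Agent.H28.RG Cfsg.Agent.H441.RG
open Cfsg.Agent.H884.NA (PairQ ExcAlt not_alt_quot)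
open Cfsg.Agent.H398.RG (MK Cond Base)

universe u v

/-! ### abstract part -/

section Abs

variable {Y : Type*} [Group Y]

theorem Img.comm {q : ℕ} {X X' : Subgroup Y} (h : Img q X X') : ∀ x ∈ X, ∀ y ∈ X, x * y = y * x := by
  obtain ⟨F, _, _, φ, -, h1, -, -⟩ := h
  intro x hx y hy
  obtain ⟨a, rfl⟩ := (h1 x).1 hx
  obtain ⟨b, rfl⟩ := (h1 y).1 hy
  rw [← map_mul, ← map_mul, ← H655.Mono.up_add, ← H655.Mono.up_add, add_comm]

theorem Img.pow {p q e : ℕ} [Fact p.Prime] (hq : q = p ^ e) {X X' : Subgroup Y} (h : Img q X X') :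
    ∀ x ∈ X, x ^ p = 1 := by
  obtain ⟨F, _, _, φ, hF, h1, -, -⟩ := h
  intro x hx
  obtain ⟨a, rfl⟩ := (h1 x).1 hx
  have h5 : ((Fintype.card F : ℕ) : F) = 0 := FiniteField.cast_card_eq_zero F
  rw [hF, hq, Nat.cast_pow] at h5
  have he : e ≠ 0 := by
    rintro rfl
    rw [pow_zero] at h5
    exact one_ne_zero h5
  have h6 : (p : F) = 0 := (pow_eq_zero_iff he).1 h5
  rw [← map_pow, H655.Mono.up_pow, h6, zero_mul, H655.Mono.up_zero, map_one]

/-- the pair property in a subgroup -/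
theorem pairQ_subgroupOf {p q : ℕ} {M Z : Subgroup Y} (hZ : Z ≤ M) (h : PairQ p q Z) : PairQ p q (Z.subgroupOf M) := by
  rcases h with h | ⟨F, _, _, hF, φ, hφ, hk⟩
  · exact Or.inl (h.comap_subtype)
  · right
    have hm : ∀ A, φ A ∈ M := fun A => hZ (by rw [← hφ]; exact ⟨A, rfl⟩)
    refine ⟨F, _, _, hF, φ.codRestrict M hm, ?_, ?_⟩
    · ext ⟨y, hy⟩
      rw [Subgroup.mem_subgroupOf, ← hφ]
      constructor
      · rintro ⟨A, hA⟩
        exact ⟨A, congrArg Subtype.val hA⟩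
      · rintro ⟨A, hA⟩
        exact ⟨A, Subtype.ext hA⟩
    · intro A hA
      exact hk (congrArg Subtype.val hA)

end Abs

section Conc

variable {D : ChevalleyDatum} {l : ℕ} {M : CoxeterMatrix (Fin l)} {hp : IsType D l M} {r : ℕ} [hr : Fact r.Prime]
  {e : ℕ} {α : MulAut ↥(D.group (KK r))} {θ : (Fin l → ℤ) ≃+ (Fin l → ℤ)} {t : ↥(D.group (KK r))}

/-- fixed points in a root group -/
noncomputable abbrev XF (l : ℕ) (α : MulAut ↥(D.group (KK r))) (β : Fin l → ℤ) : Subgroup ↥(D.group (KK r)) :=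
  XX D l (KK r) β ⊓ fixedSubgroup α

-- the group `K = ⟨P, Q, T^α⟩` is `KT` of `H441/RG/NormM`; it has the name `H169.RG.KT`, too
export Cfsg.Agent.H441.RG (KT)

variable (d : Wk.DFr hp M.toCoxeterSystem r e α θ t) {β : Fin l → ℤ}
  (Bβ : Top M.toCoxeterSystem hp.isCartan (ch hp) θ t β)

include d in
theorem cwD : CW M.toCoxeterSystem hp.isCartan (Tj hp (k := KK r)) (Xj hp (k := KK r)) (ch hp) θ t :=
  cwK d.mem d.stab d.pos

include d Bβ

theorem imgK_XF : ImgK (r ^ e) (XF l α β) (XF l α (-β)) :=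
  imgK_fr (hp := hp) d.he d.frob d.fr Bβ.mem.1 Bβ.fix

theorem baseF [Finite ↥(fixC α t)] : Base r (KT hp α t) (XF l α β) (XF l α (-β)) (PK hp M.toCoxeterSystem α t)
    (QK hp M.toCoxeterSystem α t) (TK α) := by
  have := finite_W hp M.toCoxeterSystem
  have h1 := baseW (tow (k := KK r) hp M.toCoxeterSystem (locFin r) r) coordK (d.frTL (locFin r)) (cwD d) Bβ
    (q := r ^ e) (e := e) rfl (by
      rw [Xb_eq, Xb_eq]
      exact (imgK_XF d Bβ).img) (by
      show pCore r ↥(KW M.toCoxeterSystem hp.isCartan (Tj hp (k := KK r)) (Xj hp (k := KK r)) (ch hp) α t) = ⊥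
      exact d.pCore_KK0 (locFin r))
  rw [KW, Xb_eq, Xb_eq, PP0_eq (locFin r), QQ0_eq (locFin r), TL_eq hp (locFin r)] at h1
  exact h1

omit Bβ in
theorem KT_le : KT hp α t ≤ fixC α t := d.KT_le (locFin r)

/-- the pairs of conjugates -/
theorem pairF {c : ↥(D.group (KK r))} (hc : c ∈ fixC α t) :
    IsPGroup r ↥(XF l α β ⊔ cjS c (XF l α β)) ∨
      ∃ u ∈ fixC α t, cjS u (XF l α β) = XF l α β ∧ cjS c (XF l α β) = cjS u (XF l α (-β)) := by
  have := finite_W hp M.toCoxeterSystem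
  obtain ⟨h1, h2⟩ := mem_fixC.1 hc
  have H := tow (k := KK r) hp M.toCoxeterSystem (locFin r) r
  have h3 := pairW H coordK (d.frTL (locFin r)) (cwD d) Bβ h2 h1
  rw [Xb_eq, Xb_eq] at h3
  rcases h3 with h3 | ⟨u, hu, h3⟩
  · exact Or.inl h3
  · right
    refine ⟨u, ?_, ?_, h3⟩
    · rw [PP0_eq (locFin r)] at hu
      exact d.PK_le (locFin r) hu
    · refine cjS_eq_of_comm fun x hx => comm_UpW (cwD d) Bβ hu.1 ?_
      rw [XL_eq hp (locFin r)]
      exact hx.1

/-- the pairs of conjugates, helper884's form -/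
theorem pairQ {c : ↥(D.group (KK r))} (hc : c ∈ fixC α t) :
    PairQ r (r ^ e) (XF l α β ⊔ cjS c (XF l α β)) := by
  rcases pairF d Bβ hc with h | ⟨u, -, h1, h2⟩
  · exact Or.inl h
  · right
    obtain ⟨F, i1, i2, φ, h3, h4, h5⟩ := ((imgK_XF d Bβ).conj u).range
    rw [h1, ← h2] at h4
    exact ⟨F, i1, i2, h3, φ, h4, h5⟩

theorem XF_disj {x : ↥(D.group (KK r))} (hx : x ∈ XF l α β) (hx' : x ∈ XF l α (-β)) : x = 1 := by
  have := finite_W hp M.toCoxeterSystem
  exact Xb_disj (α := α) (tow (k := KK r) hp M.toCoxeterSystem (locFin r) r) coordK (cwD d) Bβ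
    (by rw [Xb_eq]; exact hx) (by rw [Xb_eq]; exact hx')

/-- **Not alternating modulo the centre.** -/
theorem nsa_M [Finite ↥(fixC α t)] (hc : Cond (KT hp α t) (XF l α β) (XF l α (-β)))
    (hna : ∀ j, ExcAlt (r ^ e) j → ¬ Nonempty ((↥(MK (KT hp α t) (XF l α β)) ⧸
      Subgroup.center ↥(MK (KT hp α t) (XF l α β))) ≃* alternatingGroup (Fin j))) :
    H873.RG.NSA (↥(MK (KT hp α t) (XF l α β)) ⧸ Subgroup.center ↥(MK (KT hp α t) (XF l α β))) := by
  have hfin : Finite ↥(KT hp α t) := Finite.of_injective _ (Subgroup.inclusion_injective (KT_le d))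
  obtain ⟨hXM, hYM, hMK, hKn, hperf, hs, hcm⟩ := (baseF d Bβ).all hc
  have hI := imgK_XF d Bβ
  have hI' := hI.img
  refine ⟨hs, hcm, ?_⟩
  rintro ⟨j, hj, ⟨ee⟩⟩
  by_cases hex : ExcAlt (r ^ e) j
  · exact hna j hex ⟨ee⟩
  obtain ⟨k, hk, hkX⟩ := hI'.conjY
  refine not_alt_quot (p := r) hj hex ee (QuotientGroup.mk' (Subgroup.center _)) (QuotientGroup.mk'_surjective _)
    (by rw [QuotientGroup.ker_mk']) ((XF l α β).subgroupOf _) ?_ ?_ ?_ ?_ ?_ ?_
  · intro x hx h1
    have h2 : x ∈ Subgroup.center ↥(MK (KT hp α t) (XF l α β)) := (QuotientGroup.eq_one_iff x).1 h1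
    have hkM : k ∈ MK (KT hp α t) (XF l α β) := (sup_le hXM hYM) hk
    have h3 := congrArg Subtype.val (Subgroup.mem_center_iff.1 h2 ⟨k, hkM⟩)
    have h4 : k * (x : ↥(D.group (KK r))) = x * k := h3
    have h5 : (x : ↥(D.group (KK r))) ∈ XF l α (-β) := by
      rw [← hkX, mem_cjS]
      have e1 : k⁻¹ * (x : ↥(D.group (KK r))) * k = x := by
        rw [mul_assoc, ← h4, inv_mul_cancel_left]
      rw [e1]
      exact hx
    exact Subtype.ext (XF_disj d Bβ hx h5)
  · rw [Nat.card_congr (Subgroup.subgroupOfEquivOfLe hXM).toEquiv]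
    exact hI'.card
  · intro h1
    apply hI'.ne_bot
    rw [Subgroup.subgroupOf_eq_bot] at h1
    rw [eq_bot_iff]
    intro x hx
    exact Subgroup.mem_bot.2 (Subgroup.disjoint_def.1 h1 hx (hXM hx))
  · intro x hx y hy
    exact Subtype.ext (hI'.comm x hx y hy)
  · intro x hx
    exact Subtype.ext (hI'.pow rfl x hx)
  · intro c
    have hcC : (c : ↥(D.group (KK r))) ∈ fixC α t := KT_le d (hMK c.2)
    have h1 := pairQ_subgroupOf (M := MK (KT hp α t) (XF l α β)) (Z := XF l α β ⊔ cjS (c : ↥(D.group (KK r))) (XF l α β))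
      (sup_le hXM (by
        rintro _ ⟨x, hx, rfl⟩
        exact mul_mem (mul_mem c.2 (hXM hx)) (inv_mem c.2))) (pairQ d Bβ hcC)
    have h2 : (XF l α β).subgroupOf (MK (KT hp α t) (XF l α β)) ⊔
        ((XF l α β).subgroupOf (MK (KT hp α t) (XF l α β))).map (MulAut.conj c).toMonoidHom =
        (XF l α β ⊔ cjS (c : ↥(D.group (KK r))) (XF l α β)).subgroupOf (MK (KT hp α t) (XF l α β)) := by
      have h3 : ((XF l α β).subgroupOf (MK (KT hp α t) (XF l α β))).map (MulAut.conj c).toMonoidHom =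
          (cjS (c : ↥(D.group (KK r))) (XF l α β)).subgroupOf (MK (KT hp α t) (XF l α β)) := by
        ext ⟨y, hy⟩
        (simp +singlePass only [Subgroup.mem_subgroupOf])
        constructor
        · rintro ⟨x, hx, hxy⟩
          exact ⟨x, hx, congrArg Subtype.val hxy⟩
        · rintro ⟨x, hx, hxy⟩
          exact ⟨⟨x, hXM hx⟩, hx, Subtype.ext hxy⟩
      rw [h3]
      apply Subgroup.map_injective (Subgroup.subtype_injective (MK (KT hp α t) (XF l α β)))
      have h4 : cjS (c : ↥(D.group (KK r))) (XF l α β) ≤ MK (KT hp α t) (XF l α β) := by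
        rintro _ ⟨x, hx, rfl⟩
        exact mul_mem (mul_mem c.2 (hXM hx)) (inv_mem c.2)
      rw [Subgroup.map_sup, Subgroup.map_subgroupOf_eq_of_le hXM, Subgroup.map_subgroupOf_eq_of_le h4,
        Subgroup.map_subgroupOf_eq_of_le (sup_le hXM h4)]
    rw [h2]
    exact h1

/-- `Cond` for `r ^ e ≥ 4` -/
theorem cond_big [Finite ↥(fixC α t)] (h4 : 4 ≤ r ^ e) : Cond (KT hp α t) (XF l α β) (XF l α (-β)) := by
  have hfin : Finite ↥(KT hp α t) := Finite.of_injective _ (Subgroup.inclusion_injective (KT_le d))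
  have hB := baseF d Bβ
  refine H398.RG.cond_of_perfect (p := r) hB.leX ?_ hB.pgrp ?_
  · obtain ⟨k, hk, hY⟩ := hB.conjY
    rw [← hY]
    exact H398.RG.cj_le_MK hk
  · obtain ⟨F, _, _, φ, hF, hφ, -⟩ := (imgK_XF d Bβ).range
    rw [← hφ, MonoidHom.range_eq_map, ← Subgroup.map_commutator]
    have h5 : commutator (Matrix.SpecialLinearGroup (Fin 2) F) = ⊤ :=
      Cfsg.Agent.TwoFusion.SLTwoFacts.commutator_eq_top (by rw [hF]; omega)
    rw [commutator_def] at h5
    rw [h5]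

end Conc

end Cfsg.Agent.H169.RG
end

private theorem dce_8d319565b406 : _root_.True := by
  try have : _root_.True := by simp only [_root_.Cfsg.Agent.H169.RG.KW.eq_1]
  exact _root_.True.intro
end

-- part: H798/RG/LongRoot
section
prune_inst 0x4030724101e01200001c0002f00000811900040200408400346502000246d2600503a801492019194832a01020010000001000300020000000a404000001010010a81606b148001900008e00308a010000300000000000000000000000041000010000000
set_option linter.all false
open scoped Cfsg.Agent.FastGrp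

-- part: H798/RG/Par
section
/-!
# Semisimple elements of the Levi subgroups (helper798, S3509)

* `exists_conj_T` : `y t y⁻¹ ∈ P_J`, `t ∈ T` : conjugate in `P_J` to an element of `T`;
* `toral_LJ` : elements of order prime to `p` in `L_J(k)` are conjugate in `L_J(k)` to elements of `T`;
* `exists_root_VJ` : `t ∈ T` with fixed points in `V_J` centralises a root element of `V_J`.
-/

set_option autoImplicit false
set_option linter.unusedSectionVars false
set_option maxHeartbeats 400000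

namespace Cfsg.Agent.H798.RG

open CoxeterSystem Subgroup Cfsg Cfsg.Lie Cfsg.Lie.ChevalleyDatum
open Cfsg.Agent.ChevalleyStructure Cfsg.Agent.ChevalleyStructure.Elts Cfsg.Agent.ChevalleyStructure.CoxeterGeom
  Cfsg.Agent.ChevalleyStructure.CoxeterGeomTypes Cfsg.Agent.ChevalleyStructure.NPerm
open Cfsg.Agent.Tits.Roots Cfsg.Agent.Tits.Core Cfsg.Agent.Nodes Cfsg.Agent.Nodes.Reps Cfsg.Agent.Nodes.BNOf
  Cfsg.Agent.Nodes.RGDChev Cfsg.Agent.Nodes.Bruhat Cfsg.Agent.Nodes.StabComb Cfsg.Agent.Nodes.LeviDec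
  Cfsg.Agent.Nodes.NormalForm Cfsg.Agent.Nodes.OppDec Cfsg.Agent.Tits.Exchange
open Cfsg.Agent.KFacts.RgdField Cfsg.Agent.KFacts.RgdChevCoord
open Cfsg.Agent.BpExc Cfsg.Agent.BpExc.TorCent Cfsg.Agent.BpExc.TorChev Cfsg.Agent.BpExc.Tow
open Cfsg.Agent.GpExc.Field Cfsg.Agent.BpExc.TowChev Cfsg.Agent.BpExc.Fr Cfsg.Agent.BpExc.LangFr
open Cfsg.Agent.H129.TorusChar Cfsg.Agent.H129.TorusMain Cfsg.Agent.H129.TorusUntw
open Cfsg.Agent.H798.OZ

universe u v

section RGD

variable {I W Y : Type*} [Fintype I] [DecidableEq I] [Group W] [Group Y] {M : CoxeterMatrix I}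
  {cs : CoxeterSystem M W} {A : I → I → ℤ} {h : IsCartan M A} {p : ℕ} {T : Subgroup Y} {n : I → Y}
  {X : (I → ℤ) → Subgroup Y} (R : RGD cs h p T n X) [Finite W]

include R

end RGD

section Lim

variable {I W Y : Type*} [Fintype I] [DecidableEq I] [Group W] [Group Y] {M : CoxeterMatrix I}
  {cs : CoxeterSystem M W} {A : I → I → ℤ} {h : IsCartan M A} {p : ℕ}
variable {J' : Type*} [Preorder J'] {T : J' → Subgroup Y} {n : I → Y} {X : J' → (I → ℤ) → Subgroup Y}
  (H : Tow cs h p T n X) [Finite W]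

include H

end Lim

section K

variable {D : ChevalleyDatum} {l : ℕ} {M : CoxeterMatrix (Fin l)} (hp : IsType D l M)
  {W : Type v} [Group W] (cs : CoxeterSystem M W) {k : Type u} [Field k] [IsAlgClosed k] (hk : LocFin k) (p : ℕ)
  [Fact p.Prime] [CharP k p] [Finite W]

end K

end Cfsg.Agent.H798.RG
end

-- part: H798/RG/Neg
section
/-!
# Rational elements commuting with a semisimple element (helper798, S3509)

* `exists_neg` : `s ∈ L_J(k)` with `σ s = s`, commuting with some `v ≠ 1` in `V_J⁻(k)`, commutes with some `v ≠ 1` in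
  `V_J⁻(k)` with `σ v = v`.
-/

set_option autoImplicit false
set_option linter.unusedSectionVars false
set_option maxHeartbeats 400000

namespace Cfsg.Agent.H798.RG

open CoxeterSystem Subgroup Cfsg Cfsg.Lie Cfsg.Lie.ChevalleyDatum
open Cfsg.Agent.ChevalleyStructure Cfsg.Agent.ChevalleyStructure.Elts Cfsg.Agent.ChevalleyStructure.CoxeterGeom
  Cfsg.Agent.ChevalleyStructure.CoxeterGeomTypes Cfsg.Agent.ChevalleyStructure.NPerm
open Cfsg.Agent.Tits.Roots Cfsg.Agent.Tits.Core Cfsg.Agent.Nodes Cfsg.Agent.Nodes.Reps Cfsg.Agent.Nodes.BNOf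
  Cfsg.Agent.Nodes.RGDChev Cfsg.Agent.Nodes.Bruhat Cfsg.Agent.Nodes.StabComb Cfsg.Agent.Nodes.LeviDec
open Cfsg.Agent.KFacts.RgdBorelTits Cfsg.Agent.KFacts.RgdFilt
open Cfsg.Agent.KFacts.RgdField Cfsg.Agent.KFacts.RgdChevCoord
open Cfsg.Agent.BpExc Cfsg.Agent.BpExc.TorCent Cfsg.Agent.BpExc.TorChev Cfsg.Agent.BpExc.Tow
open Cfsg.Agent.BpExc.TowChev Cfsg.Agent.BpExc.Fr Cfsg.Agent.BpExc.LangFr Cfsg.Agent.BpExc.FamUntw
open Cfsg.Agent.GpExc.Field (glMap emb coe_emb glMap_xG emb_injective coe_glMap)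
open Cfsg.Agent.H129.TorusChar
open Cfsg.Agent.H798.OZ
open scoped commutatorElement

universe u v

/-! ### the level -/

variable {D : ChevalleyDatum} {l : ℕ} {M : CoxeterMatrix (Fin l)} (hp : IsType D l M)
  {W : Type v} [Group W] (cs : CoxeterSystem M W)

/-! ### the commutator formula -/

theorem intComm_XX {k : Type u} [Field k] : IntComm cs hp.isCartan (XX D l k) := by
  intro x y hx hy hxy hxy' a ha b hb
  have h1 := KFacts.RgdFiltChev.intComm_GL hp cs (K := k) x y hx hy hxy hxy' a.1 ha b.1 hb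
  have h3 : FS (XX D l k) {z | IB cs hp.isCartan x y z} = (FS (XV D l k) {z | IB cs hp.isCartan x y z}).subgroupOf (D.group k) := by
    unfold FS
    rw [Nodes.RGDLib.iSup_subgroupOf]
    rintro ⟨z, hz⟩
    exact XV_le_group hp z
  rw [h3, Subgroup.mem_subgroupOf]
  exact h1

section K

variable {k : Type u} [Field k]

variable [IsAlgClosed k] (hk : LocFin k) (r : ℕ) [Fact r.Prime] [CharP k r] [Finite W]

variable [PerfectRing k r]

end K

end Cfsg.Agent.H798.RG
end

-- part: H798/RG/TopRoot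
section
/-!
# S3509, F4: the highest root, its Levi subgroup, and Lang's theorem (helper798)

* `vec_le_top`, `le_top`, `dom_top` : `vec D l (D.nroots - 1)` is the highest root;
* `no_root` : `i a + j a₀` is not a root for `a` orthogonal to `a₀`;
* `stab_RootsJ` : a root automorphism fixing `a₀` preserves the roots orthogonal to `a₀`;
* `lang_LJ` : Lang's theorem for `L_J`, `J` stable; `rp_LJ` : representatives of `W_J` lie in `L_J`;
* `LJ_conj` : `L_J` normalises `X_{±a₀}`.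
-/

set_option autoImplicit false
set_option linter.unusedSectionVars false
set_option maxHeartbeats 400000

namespace Cfsg.Agent.H798.RG

open CoxeterSystem Subgroup Cfsg Cfsg.Lie Cfsg.Lie.ChevalleyDatum
open Cfsg.Agent.ChevalleyStructure Cfsg.Agent.ChevalleyStructure.Elts Cfsg.Agent.ChevalleyStructure.CoxeterGeom
  Cfsg.Agent.ChevalleyStructure.CoxeterGeomTypes Cfsg.Agent.ChevalleyStructure.NPerm
open Cfsg.Agent.Tits.Roots Cfsg.Agent.Tits.Core Cfsg.Agent.Tits.RootComb Cfsg.Agent.Tits.Exchange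
open Cfsg.Agent.Nodes Cfsg.Agent.Nodes.Reps Cfsg.Agent.Nodes.BNOf Cfsg.Agent.Nodes.Coroot Cfsg.Agent.Nodes.SubComb
  Cfsg.Agent.Nodes.RGDChev Cfsg.Agent.Nodes.Bruhat Cfsg.Agent.Nodes.StabComb Cfsg.Agent.Nodes.LeviDec
open Cfsg.Agent.KFacts.RgdBorelTits Cfsg.Agent.KFacts.RgdFilt
open Cfsg.Agent.KFacts.RgdField Cfsg.Agent.KFacts.RgdChevCoord
open Cfsg.Agent.BpExc Cfsg.Agent.BpExc.TorCent Cfsg.Agent.BpExc.TorChev Cfsg.Agent.BpExc.Tow
open Cfsg.Agent.BpExc.TowChev Cfsg.Agent.BpExc.Fr Cfsg.Agent.BpExc.LangFr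
open scoped commutatorElement

universe u v

/-! ### the highest root -/

def TopOK (D : ChevalleyDatum) (l : ℕ) : Prop :=
  0 < D.nroots ∧ ∀ s < D.nroots, ∀ i : Fin l, vec D l s i ≤ vec D l (D.nroots - 1) i

instance (D : ChevalleyDatum) (l : ℕ) : Decidable (TopOK D l) := by unfold TopOK; infer_instance

theorem topOK : TopOK chevG2 2 ∧ TopOK chevB2 2 ∧ TopOK chevD4 4 ∧ TopOK chevF4 4 ∧ TopOK chevE6 6 ∧ TopOK chevE7 7 ∧
    TopOK chevE8 8 := by
  refine ⟨?_, ?_, ?_, ?_, ?_, ?_, ?_⟩ <;> decide +kernel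

variable {D : ChevalleyDatum} {l : ℕ} {M : CoxeterMatrix (Fin l)} (hp : IsType D l M)
  {W : Type v} [Group W] (cs : CoxeterSystem M W)

include hp in
theorem topOK' : TopOK D l := by
  obtain ⟨h1, h2, h3, h4, h5, h6, h7⟩ := topOK
  have hp' := hp
  simp only [IsType, typeList, List.mem_cons, List.not_mem_nil, or_false, Prod.mk.injEq] at hp'
  rcases hp' with ⟨h, e⟩ | ⟨h, e⟩ | ⟨h, e⟩ | ⟨h, e⟩ | ⟨h, e⟩ | ⟨h, e⟩ | ⟨h, e⟩
  · have e' : l = 2 := congrArg Sigma.fst e
    subst h; subst e'; exact h1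
  · have e' : l = 2 := congrArg Sigma.fst e
    subst h; subst e'; exact h2
  · have e' : l = 4 := congrArg Sigma.fst e
    subst h; subst e'; exact h3
  · have e' : l = 4 := congrArg Sigma.fst e
    subst h; subst e'; exact h4
  · have e' : l = 6 := congrArg Sigma.fst e
    subst h; subst e'; exact h5
  · have e' : l = 7 := congrArg Sigma.fst e
    subst h; subst e'; exact h6
  · have e' : l = 8 := congrArg Sigma.fst e
    subst h; subst e'; exact h7

include hp in
theorem nroots_pos : 0 < D.nroots := (topOK' hp).1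

include hp in
theorem top_lt : D.nroots - 1 < D.nroots := Nat.sub_lt (nroots_pos hp) one_pos

include hp in
theorem vec_le_top {s : ℕ} (hs : s < D.nroots) : vec D l s ≤ vec D l (D.nroots - 1) := (topOK' hp).2 s hs

theorem isRoot_top : IsRoot cs hp.isCartan (vec D l (D.nroots - 1)) := isRoot_vec hp cs (top_lt hp)

theorem le_top {a : Fin l → ℤ} (ha : IsRoot cs hp.isCartan a) : a ≤ vec D l (D.nroots - 1) := by
  obtain ⟨s, hs, rfl⟩ := (isRoot_iff hp cs a).1 ha
  exact vec_le_top hp hs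

include hp in
theorem top_nonneg : 0 ≤ vec D l (D.nroots - 1) := by
  intro i
  have h1 := le_top hp M.toCoxeterSystem (isRoot_top hp M.toCoxeterSystem).neg i
  simp only [Pi.neg_apply, Pi.zero_apply] at h1 ⊢
  omega

include hp in
theorem dom_top : Dom (cartanOf D l) (vec D l (D.nroots - 1)) := by
  intro i
  have h1 := le_top hp M.toCoxeterSystem ((isRoot_top hp M.toCoxeterSystem).act (M.toCoxeterSystem.simple i)) i
  rw [rep_simple_eq] at h1
  simp only [Pi.sub_apply, Pi.smul_apply, sr_self, smul_eq_mul, mul_one] at h1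
  linarith

/-- the roots orthogonal to the highest root -/
abbrev JT (cs : CoxeterSystem M W) : Set (Fin l) := orth cs hp.isCartan (vec D l (D.nroots - 1))

variable [Finite W]

theorem exists_u {a : Fin l → ℤ} (ha : a ∈ RootsJ cs hp.isCartan (JT hp cs)) :
    ∃ u : W, rep cs hp.isCartan u a = -a ∧ rep cs hp.isCartan u (vec D l (D.nroots - 1)) = vec D l (D.nroots - 1) := by
  obtain ⟨w, hw, j, hj, rfl⟩ := exists_of_mem_RootsJ ha
  refine ⟨w * cs.simple j * w⁻¹, ?_, rep_of_mem_WJ_orth (mul_mem (mul_mem hw (simple_mem_WJ cs hj)) (inv_mem hw))⟩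
  rw [rep_mul_apply, rep_mul_apply, rep_inv_apply, rep_simple_sr, map_neg]

theorem no_root {a : Fin l → ℤ} (ha : a ∈ RootsJ cs hp.isCartan (JT hp cs)) {i j : ℤ} (hi : 0 < i) (hj : 0 < j) :
    ¬ IsRoot cs hp.isCartan (i • a + j • vec D l (D.nroots - 1)) := by
  intro h
  obtain ⟨u, hu, hu'⟩ := exists_u hp cs ha
  have h1 := h.act u
  rw [map_add, map_zsmul, map_zsmul, hu, hu'] at h1
  have h2 := le_top hp cs h
  have h3 := le_top hp cs h1
  have h0 := top_nonneg (D := D) (l := l) hp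
  have hne := (isRoot_top hp cs).ne_zero
  obtain ⟨k, hk⟩ := Function.ne_iff.1 hne
  have hj1 : j = 1 := by
    have e2 := h2 k
    have e3 := h3 k
    have e0 := h0 k
    simp only [Pi.add_apply, Pi.smul_apply, Pi.neg_apply, smul_eq_mul, Pi.zero_apply] at e2 e3 e0 hk
    have e4 : 0 < vec D l (D.nroots - 1) k := lt_of_le_of_ne e0 (Ne.symm hk)
    nlinarith only [hj, e2, e3, e4]
  subst hj1
  apply ha.1.ne_zero
  funext k
  have e2 := h2 k
  have e3 := h3 k
  simp only [Pi.add_apply, Pi.smul_apply, Pi.neg_apply, smul_eq_mul, one_mul, Pi.zero_apply] at e2 e3 ⊢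
  have e4 : i * a k ≤ 0 := by linarith
  have e5 : i * a k ≥ 0 := by linarith only [e3]
  exact (mul_eq_zero.1 (le_antisymm e4 e5)).resolve_left hi.ne'

theorem ne_top {a : Fin l → ℤ} (ha : a ∈ RootsJ cs hp.isCartan (JT hp cs)) : a ≠ vec D l (D.nroots - 1) := by
  rintro rfl
  have h := no_root hp cs (RootsJ.neg ha) (i := 1) (j := 2) one_pos two_pos
  apply h
  have e : (1 : ℤ) • -vec D l (D.nroots - 1) + (2 : ℤ) • vec D l (D.nroots - 1) = vec D l (D.nroots - 1) := by
    rw [one_smul, two_smul]; abel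
  rw [e]
  exact isRoot_top hp cs

/-- **The roots orthogonal to the highest root, in terms of root strings.** -/
theorem mem_RootsJ_top_iff {a : Fin l → ℤ} (ha : IsRoot cs hp.isCartan a) :
    a ∈ RootsJ cs hp.isCartan (JT hp cs) ↔ a ≠ vec D l (D.nroots - 1) ∧ -a ≠ vec D l (D.nroots - 1) ∧
      ¬ IsRoot cs hp.isCartan (a + vec D l (D.nroots - 1)) ∧ ¬ IsRoot cs hp.isCartan (-a + vec D l (D.nroots - 1)) := by
  constructor
  · intro h
    have h1 := no_root hp cs h one_pos one_pos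
    have h2 := no_root hp cs (RootsJ.neg h) one_pos one_pos
    rw [one_smul, one_smul] at h1 h2
    exact ⟨ne_top hp cs h, ne_top hp cs (RootsJ.neg h), h1, h2⟩
  · rintro ⟨h1, h2, h3, h4⟩
    have := Fintype.ofFinite W
    rw [Cfsg.Agent.Nodes.ClsNorm.mem_RootsJ_orth_iff (dom_top hp) ha]
    rw [← cpr_zero_iff cs hp.isCartan a (isRoot_top hp cs)]
    by_contra h5
    rcases lt_or_gt_of_ne h5 with h6 | h6
    · refine h3 ?_
      have h7 := H460.OT.isRoot_sub_of_pos ha (isRoot_top hp cs).neg (fun e => h2 (by rw [e, neg_neg])) (by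
        rw [cpr_neg_right cs hp.isCartan a (isRoot_top hp cs)]; omega)
      rwa [sub_neg_eq_add] at h7
    · refine h4 ?_
      have h7 := H460.OT.isRoot_sub_of_pos ha (isRoot_top hp cs) h1 h6
      have h8 := h7.neg
      rwa [neg_sub, sub_eq_neg_add] at h8

/-- a root automorphism fixing the highest root preserves the roots orthogonal to it -/
theorem stab_RootsJ {g : (Fin l → ℤ) ≃+ (Fin l → ℤ)} (hg : ∀ a, IsRoot cs hp.isCartan (g a) ↔ IsRoot cs hp.isCartan a)
    (ht : g (vec D l (D.nroots - 1)) = vec D l (D.nroots - 1)) {a : Fin l → ℤ}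
    (ha : a ∈ RootsJ cs hp.isCartan (JT hp cs)) : g a ∈ RootsJ cs hp.isCartan (JT hp cs) := by
  have h0 := ha.1
  rw [mem_RootsJ_top_iff hp cs h0] at ha
  rw [mem_RootsJ_top_iff hp cs ((hg a).2 h0)]
  obtain ⟨h1, h2, h3, h4⟩ := ha
  refine ⟨fun h => h1 (g.injective (by rw [h, ht])), fun h => h2 (g.injective (by rw [map_neg, h, ht])), fun h => h3 ?_,
    fun h => h4 ?_⟩
  · rw [← hg, map_add, ht]; exact h
  · rw [← hg, map_add, map_neg, ht]; exact h

/-! ### the group -/

section K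

variable {k : Type u} [Field k]

theorem XX_comm_top {a : Fin l → ℤ} (ha : a ∈ RootsJ cs hp.isCartan (JT hp cs)) {x y : ↥(D.group k)}
    (hx : x ∈ XX D l k a) (hy : y ∈ XX D l k (vec D l (D.nroots - 1))) : x * y = y * x := by
  have h1 := intComm_XX hp cs (k := k) a (vec D l (D.nroots - 1)) ha.1 (isRoot_top hp cs) (ne_top hp cs ha) (fun e =>
    ne_top hp cs (RootsJ.neg ha) (by rw [e, neg_neg])) x hx y hy
  have h2 : {z | IB cs hp.isCartan a (vec D l (D.nroots - 1)) z} = ∅ := by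
    ext z
    simp only [Set.mem_ofPred_eq, Set.mem_empty_iff_false, iff_false]
    rintro ⟨hr, i, j, hi, hj, rfl⟩
    exact no_root hp cs ha hi hj hr
  rw [h2] at h1
  have h3 : FS (XX D l k) (∅ : Set (Fin l → ℤ)) = ⊥ := by
    unfold FS
    simp only [_root_.iSup_eq_bot, _root_.Subgroup.subgroupOf_eq_bot, _root_.IsEmpty.forall_iff]
  rw [h3, Subgroup.mem_bot] at h1
  exact commutatorElement_eq_one_iff_mul_comm.1 h1

theorem XX_comm_top' {a : Fin l → ℤ} (ha : a ∈ RootsJ cs hp.isCartan (JT hp cs)) {x y : ↥(D.group k)}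
    (hx : x ∈ XX D l k a) (hy : y ∈ XX D l k (-vec D l (D.nroots - 1))) : x * y = y * x := by
  have h1 := intComm_XX hp cs (k := k) a (-vec D l (D.nroots - 1)) ha.1 (isRoot_top hp cs).neg
    (fun e => ne_top hp cs (RootsJ.neg ha) (by rw [e, neg_neg])) (fun e => ne_top hp cs ha (by rw [e, neg_neg])) x hx y hy
  have h2 : {z | IB cs hp.isCartan a (-vec D l (D.nroots - 1)) z} = ∅ := by
    ext z
    simp only [Set.mem_ofPred_eq, Set.mem_empty_iff_false, iff_false]
    rintro ⟨hr, i, j, hi, hj, rfl⟩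
    refine no_root hp cs (RootsJ.neg ha) hi hj ?_
    have h3 := hr.neg
    rw [smul_neg, neg_add, neg_neg, ← smul_neg] at h3
    exact h3
  rw [h2] at h1
  have h3 : FS (XX D l k) (∅ : Set (Fin l → ℤ)) = ⊥ := by
    unfold FS
    simp only [_root_.iSup_eq_bot, _root_.Subgroup.subgroupOf_eq_bot, _root_.IsEmpty.forall_iff]
  rw [h3, Subgroup.mem_bot] at h1
  exact commutatorElement_eq_one_iff_mul_comm.1 h1

variable (r : ℕ) [Fact r.Prime] [CharP k r] (hk : LocFin k)

include r hk in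
/-- `L_J` normalises `X_{±a₀}` -/
theorem LJ_conj {b : Fin l → ℤ} (hb : b = vec D l (D.nroots - 1) ∨ b = -vec D l (D.nroots - 1)) {y : ↥(D.group k)}
    (hy : y ∈ LJ cs hp.isCartan (TT D k) (XX D l k) (JT hp cs)) {x : ↥(D.group k)} :
    y * x * y⁻¹ ∈ XX D l k b ↔ x ∈ XX D l k b := by
  have hbr : IsRoot cs hp.isCartan b := by
    rcases hb with rfl | rfl
    · exact isRoot_top hp cs
    · exact (isRoot_top hp cs).neg
  have h1 : LJ cs hp.isCartan (TT D k) (XX D l k) (JT hp cs) ≤ normalizer (XX D l k b : Set ↥(D.group k)) := by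
    refine sup_le ?_ (RGD.Sup_le fun a ha x hx => ?_)
    · have h1 := (tow hp cs hk r (k := k)).T_le_normalizer (S := {b}) (fun x hx => by rw [hx]; exact hbr)
      rw [TL_eq hp hk, XL_eq hp hk] at h1
      have e : RGD.Sup (XX D l k) {b} = XX D l k b := by
        apply le_antisymm
        · exact RGD.Sup_le fun c hc => by rw [hc]
        · exact RGD.le_Sup rfl
      rwa [e] at h1
    · rw [mem_normalizer_iff]
      intro z
      have hc : ∀ z ∈ XX D l k b, x * z * x⁻¹ = z := by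
        intro z hz
        rw [mul_inv_eq_iff_eq_mul]
        rcases hb with rfl | rfl
        · exact XX_comm_top hp cs ha hx hz
        · exact XX_comm_top' hp cs ha hx hz
      constructor
      · intro hz
        rwa [hc z hz]
      · intro hz
        have h2 := hc _ hz
        have h3 : z = x⁻¹ * (x * z * x⁻¹) * x := by group
        have h4 : x * z * x⁻¹ = z := by
          have h5 : x * (x * z * x⁻¹) = (x * z * x⁻¹) * x := mul_inv_eq_iff_eq_mul.1 h2
          calc x * z * x⁻¹ = x⁻¹ * (x * (x * z * x⁻¹)) := by group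
            _ = x⁻¹ * ((x * z * x⁻¹) * x) := by rw [h5]
            _ = z := by group
        rwa [h4] at hz
  exact ((mem_normalizer_iff.1 (h1 hy)) x).symm

variable {r}

include hk in
theorem rp_LJ {J : Set (Fin l)} {w : W} (hw : w ∈ WJ cs J) {y : ↥(D.group k)}
    (hy : Rp cs (tow (k := k) hp cs hk r).nsys w y) : y ∈ LJ cs hp.isCartan (TT D k) (XX D l k) J := by
  obtain ⟨j, hj⟩ := (tow (k := k) hp cs hk r).rp_down hy
  have h1 := rp_mem_LJ ((tow (k := k) hp cs hk r).rgd j) hw hj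
  have h2 : LJ cs hp.isCartan (Tj hp (k := k) j) (Xj hp j) J ≤
      LJ cs hp.isCartan (TL (Tj hp (k := k))) (XL (Xj hp (k := k))) J :=
    sup_le_sup (le_TL j) (Sup_le_SupL j _)
  rw [TL_eq hp hk, XL_eq hp hk] at h2
  exact h2 h1

variable [IsAlgClosed k]

include hk in
/-- **Lang's theorem for `L_J`.** -/
theorem lang_LJ (hZ : Subgroup.center ↥(D.group k) = ⊥) {e : ℕ} (he : 0 < e) {σ : MulAut ↥(D.group k)}
    {g : (Fin l → ℤ) ≃+ (Fin l → ℤ)}
    (hσ : IsFrob r e σ) (F : Fr cs hp.isCartan (TT D k) (XX D l k) σ g) {J : Set (Fin l)}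
    (hJ : ∀ a ∈ RootsJ cs hp.isCartan J, g a ∈ RootsJ cs hp.isCartan J)
    {m : ↥(D.group k)} (hm : m ∈ LJ cs hp.isCartan (TT D k) (XX D l k) J) :
    ∃ y ∈ LJ cs hp.isCartan (TT D k) (XX D l k) J, m = y⁻¹ * σ y := by
  unfold LJ at hm ⊢
  set S := RootsJ cs hp.isCartan J with hS
  have hSr : ∀ a ∈ S, IsRoot cs hp.isCartan a := fun a ha => ha.1
  have hTn : TT D k ≤ normalizer (RGD.Sup (XX D l k) S : Set ↥(D.group k)) := by
    have h1 := (tow hp cs hk r (k := k)).T_le_normalizer hSr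
    rwa [TL_eq hp hk, XL_eq hp hk] at h1
  obtain ⟨t, ht, x, hx, rfl⟩ := Cfsg.Agent.H18.Carter.mul_mem_of_norm' hTn hm
  have hx' : t * x * t⁻¹ ∈ RGD.Sup (XX D l k) S := (mem_normalizer_iff.1 (hTn ht) x).1 hx
  obtain ⟨u, hu, hut⟩ := H696.GmnToral.torus_lang hp cs hk hZ he hσ F ht
  have hx2 : u * (t * x * t⁻¹) * u⁻¹ ∈ RGD.Sup (XX D l k) S := (mem_normalizer_iff.1 (hTn hu) _).1 hx'
  obtain ⟨z, hz, hzx⟩ := lang_fr hp cs he hσ F (S := S) hSr hJ hx2
  refine ⟨z * u, mul_mem (mem_sup_right hz) (mem_sup_left hu), ?_⟩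
  rw [map_mul]
  calc t * x = u⁻¹ * (u * (t * x * t⁻¹) * u⁻¹) * (u * t) := by group
    _ = u⁻¹ * (z⁻¹ * σ z) * (u * t) := by rw [← hzx]
    _ = u⁻¹ * (z⁻¹ * σ z) * (u * (u⁻¹ * σ u)) := by rw [← hut]
    _ = (z * u)⁻¹ * (σ z * σ u) := by group

end K

end Cfsg.Agent.H798.RG
end

-- part: H798/RG/LongRoot
section
/-!
# S3509, box F4: the `θ`-fixed long roots give long root groups of `Y^σ` (helper798)

`m : MData hp r q K₀`, `f : TorForm m s`, `β = w' a₀` with `θ β = β`.

* `exists_y` : an element `y ∈ Y^σ` conjugating `(T0 m, T0' m)` to `(z X_β^α z⁻¹, z X_{-β}^α z⁻¹)`;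
* `lrg`, `lrg'` : both groups are long root groups of `Y^σ`;
* `card_T0` : `|T0 m| = q`.
-/

set_option autoImplicit false
set_option linter.unusedSectionVars false
set_option maxHeartbeats 400000

namespace Cfsg.Agent.H798.RG

open CoxeterSystem Subgroup Cfsg Cfsg.Lie Cfsg.Lie.ChevalleyDatum
open Cfsg.Agent.ChevalleyStructure Cfsg.Agent.ChevalleyStructure.Elts Cfsg.Agent.ChevalleyStructure.CoxeterGeom
  Cfsg.Agent.ChevalleyStructure.CoxeterGeomTypes Cfsg.Agent.ChevalleyStructure.NPerm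
open Cfsg.Agent.Tits.Roots Cfsg.Agent.Tits.Core
open Cfsg.Agent.Nodes Cfsg.Agent.Nodes.Reps Cfsg.Agent.Nodes.BNOf
  Cfsg.Agent.Nodes.RGDChev Cfsg.Agent.Nodes.Bruhat Cfsg.Agent.Nodes.StabComb Cfsg.Agent.Nodes.LeviDec
open Cfsg.Agent.KFacts.RgdField Cfsg.Agent.KFacts.RgdChevCoord
open Cfsg.Agent.BpExc Cfsg.Agent.BpExc.TorCent Cfsg.Agent.BpExc.TorChev Cfsg.Agent.BpExc.Tow
open Cfsg.Agent.BpExc.TowChev Cfsg.Agent.BpExc.Fr Cfsg.Agent.BpExc.LangFr
open Cfsg.Agent.H469.Exc Cfsg.Agent.H316.U6 Cfsg.Agent.H169.RG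

universe u v

section Gen

variable {D : ChevalleyDatum} {l : ℕ} {M : CoxeterMatrix (Fin l)} (hp : IsType D l M)
  {W : Type v} [Group W] [Finite W] (cs : CoxeterSystem M W) {k : Type u} [Field k] [IsAlgClosed k] (hk : LocFin k)
  {r : ℕ} [Fact r.Prime] [CharP k r]

include hk in
/-- **The conjugating element, general version.** `n = z⁻¹ σ(z)` over `w`, `w g` fixes `w' a₀`. -/
theorem exists_y_gen {σ : MulAut ↥(D.group k)} {g : (Fin l → ℤ) ≃+ (Fin l → ℤ)} {e : ℕ} (he : 0 < e)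
    (hσ : IsFrob r e σ) (F : Fr cs hp.isCartan (TT D k) (XX D l k) σ g)
    (htop : g (vec D l (D.nroots - 1)) = vec D l (D.nroots - 1)) {z n : ↥(D.group k)} (hn : z⁻¹ * σ z = n) {w w' : W}
    (hw : Rp cs (nsysTT hp cs hk r) w n)
    (hfix : rep cs hp.isCartan w (g (rep cs hp.isCartan w' (vec D l (D.nroots - 1)))) =
      rep cs hp.isCartan w' (vec D l (D.nroots - 1))) :
    ∃ y : ↥(D.group k), σ y = y ∧ ∀ b, (b = vec D l (D.nroots - 1) ∨ b = -vec D l (D.nroots - 1)) → ∀ x,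
      (y⁻¹ * x * y ∈ XX D l k b ↔ z⁻¹ * x * z ∈ XX D l k (rep cs hp.isCartan w' b)) := by
  have H := tow (k := k) hp cs hk r
  have hTL := TL_eq (k := k) hp hk
  have hXL := XL_eq (k := k) hp hk
  -- passage between the two systems of representatives
  have tr : ∀ {w : W} {y : ↥(D.group k)}, Rp cs (nsysTT hp cs hk r) w y ↔ Rp cs H.nsys w y := by
    intro w y
    have key : ∀ (T : Subgroup ↥(D.group k)) (h1 : NSys M T (nc hp k)) (h2 : TT D k = T),
        Rp cs (nsysTT hp cs hk r) w y ↔ Rp cs h1 w y := by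
      intro T h1 h2
      subst h2
      exact Iff.rfl
    exact key _ H.nsys hTL.symm
  have FR : ∀ {w : W} {y : ↥(D.group k)}, Rp cs H.nsys w y →
      Fr cs hp.isCartan (TT D k) (XX D l k) (MulAut.conj y) (repAut cs hp.isCartan w) := by
    intro w y h
    have h1 := Fr.conj H h
    rwa [hTL, hXL] at h1
  obtain ⟨n', -, hn'⟩ := H.exists_rp w'
  set a0 := vec D l (D.nroots - 1) with ha0
  have hG := GG_eq_top (k := k) hp cs hk
  have hsep : ∀ a, IsRoot cs hp.isCartan a → ∃ s ∈ TL (Tj hp (k := k)), ∀ u ∈ XL (Xj hp (k := k)) a,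
      u * s = s * u → u = 1 := by
    rw [hTL, hXL]
    exact fun a ha => BpExc.NChev.sep hp cs hk r ha
  -- `σ(n')`
  have F' : Fr cs hp.isCartan (TL (Tj hp (k := k))) (XL (Xj hp (k := k))) σ g := by
    rw [hTL, hXL]; exact F
  obtain ⟨w1, hw1⟩ := BpExc.NChev.rp_fr H hG hsep F' hn'
  have e1 : σ * (MulAut.conj n' * σ⁻¹) = MulAut.conj (σ n') := by
    ext x
    simp only [MulAut.mul_apply, MulAut.conj_apply, map_mul, map_inv, MulAut.apply_inv_self]
  have F1 := F.mul ((FR hn').mul F.inv)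
  rw [e1] at F1
  have h1 := fr_unique hp cs hk r (FR hw1) F1
  have h2 : rep cs hp.isCartan w1 a0 = g (rep cs hp.isCartan w' a0) := by
    have h3 := congrArg (fun θ : (Fin l → ℤ) ≃+ (Fin l → ℤ) => θ a0) h1
    have h4 : g.symm a0 = a0 := by rw [AddEquiv.symm_apply_eq, htop]
    simp only [repAut_apply, AddEquiv.trans_apply, h4] at h3
    exact h3
  -- the element `m' = n'⁻¹ n σ(n')`
  have hm : Rp cs H.nsys (w'⁻¹ * w * w1) (n'⁻¹ * n * σ n') := (hn'.inv.mul (tr.1 hw)).mul hw1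
  have hst : rep cs hp.isCartan (w'⁻¹ * w * w1) a0 = a0 := by
    rw [rep_mul_apply, rep_mul_apply, h2, hfix, rep_inv_apply]
  have hmL := rp_LJ hp cs hk (mem_WJ_of_rep (dom_top hp) hst) hm
  have hZ : Subgroup.center ↥(D.group k) = ⊥ := Cfsg.Agent.S1077.center_group_eq_bot hp.inList
  obtain ⟨p, hpL, hpm⟩ := lang_LJ hp cs hk hZ he hσ F
    (J := orth cs hp.isCartan a0) (fun a ha => stab_RootsJ hp cs F.root htop ha) hmL
  have hσz : σ z = z * n := by rw [← hn]; group
  have hσp : σ p = p * (n'⁻¹ * n * σ n') := by rw [hpm]; group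
  refine ⟨z * n' * p⁻¹, ?_, fun b hb x => ?_⟩
  · rw [map_mul, map_mul, map_inv, hσz, hσp]
    group
  · have e2 : (z * n' * p⁻¹)⁻¹ * x * (z * n' * p⁻¹) = p * (n'⁻¹ * (z⁻¹ * x * z) * n') * p⁻¹ := by group
    rw [e2, LJ_conj hp cs r hk hb hpL]
    have hbr : IsRoot cs hp.isCartan b := by
      rcases hb with rfl | rfl
      · exact isRoot_top hp cs
      · exact (isRoot_top hp cs).neg
    rw [← (FR hn').map b hbr, MulAut.conj_apply, repAut_apply]
    have e3 : n' * (n'⁻¹ * (z⁻¹ * x * z) * n') * n'⁻¹ = z⁻¹ * x * z := by group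
    rw [e3]

end Gen

section Form

variable {D : ChevalleyDatum} {l : ℕ} {M : CoxeterMatrix (Fin l)} {hp : IsType D l M} {r q : ℕ} [hr : Fact r.Prime]
  {K₀ : Type v} [Group K₀] {m : MData hp r q K₀} {s : ↥(D.group (KK r))}

/-- **The conjugating element.** `β = w' a₀`, `θ β = β`. -/
theorem exists_y (f : TorForm m s) {w' : M.Group} {β : Fin l → ℤ}
    (hβ : β = rep M.toCoxeterSystem hp.isCartan w' (vec D l (D.nroots - 1))) (hθ : f.θ β = β) :
    ∃ y : ↥(D.group (KK r)), m.σ y = y ∧ cjS y (T0 m) = cjS f.z (XX D l (KK r) β ⊓ fixedSubgroup f.α) ∧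
      cjS y (T0' m) = cjS f.z (XX D l (KK r) (-β) ⊓ fixedSubgroup f.α) := by
  have := finite_W hp M.toCoxeterSystem
  obtain ⟨y, hy, h⟩ := exists_y_gen hp M.toCoxeterSystem (locFin r) m.he m.frob m.fr m.top f.lang f.rp (w' := w') (by
    rw [← hβ, ← f.hθ]; exact hθ)
  refine ⟨y, hy, ?_, ?_⟩
  · ext x
    rw [mem_cjS, mem_cjS, T0, Subgroup.mem_inf, Subgroup.mem_inf, h _ (Or.inl rfl), ← hβ]
    refine and_congr Iff.rfl ?_
    change m.σ (y⁻¹ * x * y) = y⁻¹ * x * y ↔ f.α (f.z⁻¹ * x * f.z) = f.z⁻¹ * x * f.z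
    rw [f.fix_iff, map_mul, map_mul, map_inv, hy]
    exact ⟨fun h => mul_left_cancel (mul_right_cancel h), fun h => by rw [h]⟩
  · ext x
    rw [mem_cjS, mem_cjS, T0', Subgroup.mem_inf, Subgroup.mem_inf, h _ (Or.inr rfl), map_neg, ← hβ]
    refine and_congr Iff.rfl ?_
    change m.σ (y⁻¹ * x * y) = y⁻¹ * x * y ↔ f.α (f.z⁻¹ * x * f.z) = f.z⁻¹ * x * f.z
    rw [f.fix_iff, map_mul, map_mul, map_inv, hy]
    exact ⟨fun h => mul_left_cancel (mul_right_cancel h), fun h => by rw [h]⟩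

/-- **F4.** The `α`-fixed points of a `θ`-fixed long root group are a long root group of `Y^σ`. -/
theorem lrg (f : TorForm m s) {w' : M.Group} {β : Fin l → ℤ}
    (hβ : β = rep M.toCoxeterSystem hp.isCartan w' (vec D l (D.nroots - 1))) (hθ : f.θ β = β) :
    LRG m (cjS f.z (XX D l (KK r) β ⊓ fixedSubgroup f.α)) := by
  obtain ⟨y, hy, h, -⟩ := exists_y f hβ hθ
  exact ⟨y, hy, h.symm⟩

/-- the element version -/
theorem lr_of_mem (f : TorForm m s) {w' : M.Group} {β : Fin l → ℤ}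
    (hβ : β = rep M.toCoxeterSystem hp.isCartan w' (vec D l (D.nroots - 1))) (hθ : f.θ β = β) {x : ↥(D.group (KK r))}
    (hx : x ∈ XX D l (KK r) β) (hα : f.α x = x) (hx1 : x ≠ 1) : LR m (f.z * x * f.z⁻¹) := by
  refine ⟨fun h => hx1 ?_, _, lrg f hβ hθ, ?_⟩
  · have e : x = f.z⁻¹ * (f.z * x * f.z⁻¹) * f.z := by group
    rw [e, h]
    group
  · rw [mem_cjS]
    have e : f.z⁻¹ * (f.z * x * f.z⁻¹) * f.z = x := by group
    rw [e]
    exact ⟨hx, hα⟩

end Form

end Cfsg.Agent.H798.RG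
end

private theorem dce_b82dbd3575c2 : _root_.True := by
  try have : _root_.True := by simp only [_root_.Cfsg.Agent.H169.RG.T0'.eq_1]
  try have : _root_.True := by simp only [_root_.Cfsg.Agent.KFacts.RgdFilt.IB.congr_simp]
  try have : _root_.True := by simp only [_root_.Cfsg.Agent.BpExc.Fr.repAut.congr_simp]
  try have : _root_.True := by simp only [_root_.Cfsg.Agent.H169.RG.T0.eq_1]
  exact _root_.True.intro
end

-- part: H875/RG/FourData
section
set_option linter.all false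

/-!
# `A₄A₄` in `E₈`: the finite checks (S3509, helper875)

`bs j`, `j : Fin 8` : the extended simple roots other than `some 4`, the two chains `0 1 2 3`, `4 5 6 7`;
`R k`, `k : Fin 20` : the sums over intervals of the chains = the positive roots of the subsystem.
-/

set_option autoImplicit false
set_option maxRecDepth 100000

namespace Cfsg.Agent.H875.RG.Four

open Cfsg.Lie Cfsg.Agent.Tits.Roots Cfsg.Agent.Nodes.RGDChev Cfsg.Agent.H931.KC

/-- the extended nodes other than `some 4` -/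
def nd : Fin 8 → Option (Fin 8) := ![none, some 7, some 6, some 5, some 0, some 2, some 3, some 1]

/-- the base -/
def bs : Fin 8 → Fin 8 → ℤ :=
  ![![-2, -3, -4, -6, -5, -4, -3, -2], ![0, 0, 0, 0, 0, 0, 0, 1], ![0, 0, 0, 0, 0, 0, 1, 0], ![0, 0, 0, 0, 0, 1, 0, 0],
    ![1, 0, 0, 0, 0, 0, 0, 0], ![0, 0, 1, 0, 0, 0, 0, 0], ![0, 0, 0, 1, 0, 0, 0, 0], ![0, 1, 0, 0, 0, 0, 0, 0]]

theorem nroots : chevE8.nroots = 240 := by decide +kernel

theorem hr_eq : hr chevE8 8 = ![2, 3, 4, 6, 5, 4, 3, 2] := by decide +kernel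

theorem al_nd : ∀ j : Fin 8, al chevE8 8 (nd j) = bs j := by decide +kernel

theorem nd_ne : ∀ j : Fin 8, nd j ≠ some 4 := by decide +kernel

theorem nd_inj : ∀ i j : Fin 8, nd i = nd j → i = j := by decide +kernel

theorem exists_nd : ∀ j : Option (Fin 8), j ≠ some 4 → ∃ i, nd i = j := by decide +kernel

/-- the intervals -/
def lo : Fin 20 → Fin 8 := ![0, 0, 0, 0, 1, 1, 1, 2, 2, 3, 4, 4, 4, 4, 5, 5, 5, 6, 6, 7]
def hi : Fin 20 → Fin 8 := ![0, 1, 2, 3, 1, 2, 3, 2, 3, 3, 4, 5, 6, 7, 5, 6, 7, 6, 7, 7]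

/-- the sum of `f` over the interval -/
def isum {A : Type*} [AddCommMonoid A] (f : Fin 8 → A) (k : Fin 20) : A :=
  ∑ j : Fin 8, if lo k ≤ j ∧ j ≤ hi k then f j else 0

/-- the positive roots -/
def R : Fin 20 → Fin 8 → ℤ := isum bs

theorem R_inj : ∀ a b : Fin 20, R a = R b → a = b := by (set_option synthInstance.maxSize 100000 in exact Cfsg.Agent.Lib.Refl.of (by decide +kernel))

/-- every root of the positive system is one of the `R k` -/
theorem exists_R : ∀ r : Fin 240, (vec chevE8 8 r 4 = 0 ∧ ∀ i, 0 ≤ vec chevE8 8 r i) ∨ vec chevE8 8 r 4 = -5 →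
    ∃ k, vec chevE8 8 r = R k := by (delta Cfsg.Agent.Nodes.RGDChev.vec Cfsg.Agent.ChevalleyStructure.RootVec.rt; set_option synthInstance.maxSize 100000 in exact Cfsg.Agent.Lib.Refl.of (by decide +kernel))

theorem R_root : ∀ k : Fin 20, ((R k 4 = 0 ∧ ∀ i, 0 ≤ R k i) ∨ R k 4 = -5) ∧ ∃ r : Fin 240, vec chevE8 8 r = R k := by
  (delta Cfsg.Agent.Nodes.RGDChev.vec Cfsg.Agent.ChevalleyStructure.RootVec.rt; set_option synthInstance.maxSize 100000 in exact Cfsg.Agent.Lib.Refl.of (by decide +kernel))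

/-- adjacency in the two chains -/
def adj (i j : Fin 8) : Bool := (i.val + 1 == j.val || j.val + 1 == i.val) && (i.val / 4 == j.val / 4)

theorem adj_iff : ∀ i j : Fin 8, (∃ r : Fin 240, vec chevE8 8 r = bs i + bs j) ↔ adj i j = true := by (delta Cfsg.Agent.Nodes.RGDChev.vec Cfsg.Agent.H875.RG.Four.adj Cfsg.Agent.ChevalleyStructure.RootVec.rt; set_option synthInstance.maxSize 100000 in exact Cfsg.Agent.Lib.Refl.of (by decide +kernel))

/-- nothing can be added to the highest root of a chain -/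
theorem R3_top : ∀ k : Fin 20, ∀ r : Fin 240, vec chevE8 8 r ≠ R 3 + R k := by (delta Cfsg.Agent.Nodes.RGDChev.vec Cfsg.Agent.ChevalleyStructure.RootVec.rt; set_option synthInstance.maxSize 100000 in exact Cfsg.Agent.Lib.Refl.of (by decide +kernel))

/-- six roots which can be subtracted -/
def six : Fin 6 → Fin 20 := ![0, 1, 2, 6, 8, 9]

theorem six_inj : ∀ a b : Fin 6, six a = six b → a = b := by decide +kernel

theorem six_sub : ∀ a : Fin 6, ∃ r : Fin 240, vec chevE8 8 r = R 3 - R (six a) := by decide +kernel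

/-- the four paths with four vertices -/
theorem paths : ∀ a b c d : Fin 8, adj a b = true → adj b c = true → adj c d = true → a ≠ c → b ≠ d →
    (a = 0 ∧ b = 1 ∧ c = 2 ∧ d = 3) ∨ (a = 3 ∧ b = 2 ∧ c = 1 ∧ d = 0) ∨ (a = 4 ∧ b = 5 ∧ c = 6 ∧ d = 7) ∨
      (a = 7 ∧ b = 6 ∧ c = 5 ∧ d = 4) := by (delta Cfsg.Agent.H875.RG.Four.adj; set_option synthInstance.maxSize 100000 in exact Cfsg.Agent.Lib.Refl.of (by decide +kernel))

theorem adj_chain : adj 0 1 = true ∧ adj 1 2 = true ∧ adj 2 3 = true ∧ adj 4 5 = true ∧ adj 5 6 = true ∧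
    adj 6 7 = true := by decide +kernel

/-- the two permutations of order 4 of the chains -/
def s1 : Fin 8 → Fin 8 := ![4, 5, 6, 7, 3, 2, 1, 0]
def s2 : Fin 8 → Fin 8 := ![7, 6, 5, 4, 0, 1, 2, 3]

/-- the induced permutations of the intervals -/
def r1 : Fin 20 → Fin 20 := ![10, 11, 12, 13, 14, 15, 16, 17, 18, 19, 9, 8, 6, 3, 7, 5, 2, 4, 1, 0]
def r2 : Fin 20 → Fin 20 := ![19, 18, 16, 13, 17, 15, 12, 14, 11, 10, 0, 1, 2, 3, 4, 5, 6, 7, 8, 9]

theorem r1_eq : ∀ k : Fin 20, isum (fun j => bs (s1 j)) k = R (r1 k) := by decide +kernel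
theorem r2_eq : ∀ k : Fin 20, isum (fun j => bs (s2 j)) k = R (r2 k) := by decide +kernel

/-- the orbits -/
def cl : Fin 20 → Fin 6 := ![2, 3, 4, 0, 5, 1, 4, 5, 3, 2, 2, 3, 4, 0, 5, 1, 4, 5, 3, 2]

/-- the lengths of the orbits -/
def sz : Fin 6 → ℕ := ![2, 2, 4, 4, 4, 4]

theorem cl_card : ∀ i : Fin 6, (Finset.univ.filter fun k => cl k = i).card = sz i := by decide +kernel

theorem cl_r1 : ∀ a b : Fin 20, cl a = cl b → ∃ n : Fin 4, r1^[n.val] a = b := by decide +kernel
theorem cl_r2 : ∀ a b : Fin 20, cl a = cl b → ∃ n : Fin 4, r2^[n.val] a = b := by decide +kernel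

theorem isum_three {A : Type*} [AddCommMonoid A] (f : Fin 8 → A) : isum f 3 = f 0 + f 1 + f 2 + f 3 := by
  simp [isum, Fin.sum_univ_eight, lo, hi]

/-- the coefficients -/
def mm : Fin 8 → ℤ := ![-1, -2, -3, -4, -2, -4, -6, -3]

theorem five_sr : (5 : ℤ) • (sr 4 : Fin 8 → ℤ) = ∑ j : Fin 8, mm j • bs j := by decide +kernel

/-- the Kac coordinates of degree 5 with 40 roots -/
theorem kac_forty : ∀ a0 a1 a2 a5 a6 a7 : Fin 3,
    2 * a0.val + 3 * a1.val + 4 * a2.val + 4 * a5.val + 3 * a6.val + 2 * a7.val ≤ 5 →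
    (Finset.univ.filter fun r : Fin 240 => (5 : ℤ) ∣ vec chevE8 8 r 0 * a0.val + vec chevE8 8 r 1 * a1.val +
      vec chevE8 8 r 2 * a2.val + vec chevE8 8 r 5 * a5.val + vec chevE8 8 r 6 * a6.val +
        vec chevE8 8 r 7 * a7.val).card ≠ 40 := by (delta Cfsg.Agent.Nodes.RGDChev.vec Cfsg.Agent.ChevalleyStructure.RootVec.rt; set_option synthInstance.maxSize 100000 in exact Cfsg.Agent.Lib.Refl.of (by decide +kernel))

end Cfsg.Agent.H875.RG.Four

private theorem dce_8a482e590d47 : _root_.True := by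
  try have : _root_.True := by simp only [_root_.Cfsg.Agent.H875.RG.Four.lo.eq_1]
  try have : _root_.True := by simp only [_root_.Cfsg.Agent.H875.RG.Four.hi.eq_1]
  try have : _root_.True := by simp only [_root_.Cfsg.Agent.H875.RG.Four.isum.eq_1]
  exact _root_.True.intro
end

-- part: H916/RG/R11_mg
section
set_option linter.all false
open scoped Cfsg.Agent.FastGrp

-- part: H916/RG/D11
section
/-!
# S3509: data for `M11` (helper916)
-/

set_option autoImplicit false
set_option Elab.async false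

namespace Cfsg.Agent.H916.RG.D11

open Cfsg.Agent.H916.RG.Eng

def t0 : Crt := ⟨713223622054680695107583099155988608, 6, 2, 3, [⟨true, 424942762087689257937405881162698816, 796353730535638246152752447206458496, 861219769251798553581892757725907040, 2⟩]⟩

def t1 : Crt := ⟨437903854642469387825323168624853184, 6, 2, 3, [⟨true, 923384014491144132786480852292114944, 736585279880818498922719697766196352, 940281868106076843974030014599432448, 3⟩]⟩

def t2 : Crt := ⟨713102239480740044953245564824240384, 6, 2, 3, [⟨true, 844335852184791583550203471773864032, 725936814306260498728554440056415328, 940281868106076843974030014599432448, 3⟩]⟩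

def t3 : Crt := ⟨221262676548613772100712823585521760, 6, 2, 3, [⟨true, 853711107530895568259347011497669888, 646024699939284387009549421905192032, 861219769251798553581892757725907040, 2⟩]⟩

def t4 : Crt := ⟨221141134318489309687656507201962400, 6, 2, 3, [⟨true, 228040660680326822537454656231146912, 313713677412939585369021052588504128, 940281868106076843974030014599432448, 2⟩]⟩

def t5 : Crt := ⟨438026019400934671774063836021572160, 6, 2, 3, [⟨true, 317198441484696374016709857913124352, 425066510401329787945438806213570656, 861219769251798553581892757725907040, 3⟩]⟩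

/-- the certificates -/
def T : List Crt := [t0, t1, t2, t3, t4, t5]

def o0 : Odd where
  p := 3
  c := 861219769251798553581892757725907040
  wd := [(2, 0), (10, 2), (3, 0), (10, 0), (8, 2), (9, 0), (8, 0), (4, 0), (10, 1), (8, 1), (9, 2), (11, 0), (7, 0), (7, 2), (11, 2), (5, 0), (1, 0), (9, 1), (7, 1), (0, 0), (6, 2), (11, 1), (6, 0), (6, 1)]
  sts := [(19, [5, 7, 10, 11, 14, 15, 17, 19, 20, 21, 22, 23], []),
    (16, [1, 2, 3, 4, 6, 8, 9, 12, 13, 16, 18], []),
    (0, [0], []),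
    (2, [1, 2, 3, 4, 6, 8, 9, 12, 13, 16, 18], []),
    (7, [5, 7, 10, 11, 14, 15, 17, 19, 20, 21, 22, 23], []),
    (15, [5, 7, 10, 11, 14, 15, 17, 19, 20, 21, 22, 23], []),
    (22, [5, 7, 10, 11, 14, 15, 17, 19, 20, 21, 22, 23], [[(2, 0), (4, 0), (5, 0), (1, 0), (0, 0), (6, 2), (6, 0), (6, 1)]]),
    (12, [1, 2, 3, 4, 6, 8, 9, 12, 13, 16, 18], [[(2, 0), (3, 0), (4, 0), (7, 0), (7, 2), (1, 0), (7, 1), (0, 0)]]),
    (6, [1, 2, 3, 4, 6, 8, 9, 12, 13, 16, 18], [[(3, 0), (8, 2), (8, 0), (8, 1), (0, 0), (6, 2), (6, 0), (6, 1)]]),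
    (5, [5, 7, 10, 11, 14, 15, 17, 19, 20, 21, 22, 23], [[(2, 0), (3, 0), (8, 0), (4, 0), (9, 2), (7, 2), (6, 2), (6, 0)]]),
    (3, [1, 2, 3, 4, 6, 8, 9, 12, 13, 16, 18], [[(2, 0), (3, 0), (9, 0), (10, 1), (7, 2), (0, 0), (6, 2), (6, 1)]]),
    (11, [5, 7, 10, 11, 14, 15, 17, 19, 20, 21, 22, 23], [[(2, 0), (10, 0), (8, 1), (11, 0), (5, 0), (1, 0), (6, 2), (11, 1)]])]

def o1 : Odd where
  p := 5
  c := 850957016108123575303050340897933440
  wd := [(3, 0), (6, 4), (7, 3), (7, 0), (6, 0), (1, 0), (7, 2), (0, 0), (7, 1), (6, 2), (5, 1), (5, 0), (6, 1), (6, 3), (5, 2), (4, 4), (2, 0), (5, 4), (7, 4), (4, 0), (4, 2), (5, 3), (4, 3), (4, 1)]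
  sts := [(7, [5, 7, 10, 11, 14, 15, 17, 19, 20, 21, 22, 23], []),
    (5, [5, 7, 10, 11, 14, 15, 17, 19, 20, 21, 22, 23], []),
    (16, [1, 2, 3, 4, 6, 8, 9, 12, 13, 16, 18], []),
    (0, [0], []),
    (19, [5, 7, 10, 11, 14, 15, 17, 19, 20, 21, 22, 23], [[(3, 0), (0, 0), (4, 4), (2, 0), (4, 0), (4, 2), (4, 3), (4, 1)]]),
    (11, [5, 7, 10, 11, 14, 15, 17, 19, 20, 21, 22, 23], []),
    (4, [1, 2, 3, 4, 6, 8, 9, 12, 13, 16, 18], [[(1, 0), (0, 0), (6, 2), (5, 1), (5, 0), (4, 4), (2, 0), (4, 1)]]),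
    (3, [1, 2, 3, 4, 6, 8, 9, 12, 13, 16, 18], [[(0, 0), (7, 1), (6, 1), (6, 3), (5, 2), (2, 0), (5, 4), (5, 3)]])]

def o2 : Odd where
  p := 11
  c := 726076798193501336994240399488332352
  wd := [(0, 0), (2, 1), (2, 7), (2, 5), (2, 4), (3, 9), (2, 3), (3, 4), (2, 9), (2, 0), (3, 5), (3, 7), (2, 8), (2, 10), (3, 10), (3, 3), (2, 6), (3, 1), (2, 2), (1, 0), (3, 8), (3, 6), (3, 2), (3, 0)]
  sts := [(0, [0], []),
    (19, [5, 7, 10, 11, 14, 15, 17, 19, 20, 21, 22, 23], []),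
    (9, [1, 2, 3, 4, 6, 8, 9, 12, 13, 16, 18], []),
    (23, [5, 7, 10, 11, 14, 15, 17, 19, 20, 21, 22, 23], [[(2, 1), (2, 5), (2, 4), (3, 5), (2, 10), (2, 6), (2, 2), (1, 0)]])]

/-- the classes -/
def O : List Odd := [o0, o1, o2]

/-- Sylow subgroup -/
def L3 : List ℕ := [940281868106076843974030014599432448,
  940403080231449915068066770597612096,
  984412109562605712959252594379065760,
  861503236282540532093261614121814400,
  940687346893481747936181394805492000,
  984534119501044242643688566090303616,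
  984818244535754528103549039458486304,
  861219769251798553581892757725907040,
  861097901753079757844230967323297984]

/-- conjugating elements -/
def W3 : List Cnj := [⟨940281868106076843974030014599432448, 860206747095381190746720580141156608, 860206747095381190746720580141156608, 1⟩,
  ⟨940403080231449915068066770597612096, 596533175447220871036887392396296768, 316263020791494401719135679794004352, 1⟩,
  ⟨984412109562605712959252594379065760, 809399594410595785774724965859756064, 648154481660236051385864952584734752, 2⟩,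
  ⟨861503236282540532093261614121814400, 859638796281359827749188806331449920, 859638796281359827749188806331449920, 2⟩,
  ⟨940687346893481747936181394805492000, 422504712466236795416381451232938080, 712939933179187510772712302387956096, 1⟩,
  ⟨984534119501044242643688566090303616, 315654785934557385511000794592381312, 798741181974071728742317212236515904, 1⟩,
  ⟨861219769251798553581892757725907040, 860206747095381190746720580141156608, 860206747095381190746720580141156608, 2⟩,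
  ⟨861097901753079757844230967323297984, 887292834363476455074471338807968000, 311197497658747515318178811718746304, 1⟩]

/-- Sylow subgroup -/
def L5 : List ℕ := [984818244535754528103549039458486304,
  850957016108123575303050340897933440,
  938973687542687534944587098921045376,
  653361943013370426771772528055623968,
  815788267742358612871122029918099872]

/-- conjugating elements -/
def W5 : List Cnj := [⟨850957016108123575303050340897933440, 984818244535754528103549039458486304, 984818244535754528103549039458486304, 1⟩,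
  ⟨938973687542687534944587098921045376, 984818244535754528103549039458486304, 984818244535754528103549039458486304, 3⟩,
  ⟨653361943013370426771772528055623968, 984818244535754528103549039458486304, 984818244535754528103549039458486304, 2⟩,
  ⟨815788267742358612871122029918099872, 984818244535754528103549039458486304, 984818244535754528103549039458486304, 4⟩]

/-- Sylow subgroup -/
def L11 : List ℕ := [984818244535754528103549039458486304,
  726076798193501336994240399488332352,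
  923760568311608330353822657488691392,
  636289101893012949564393465219265664,
  318618412991954631401258648217068640,
  430624200166196443120271549826237952,
  898976741161828750223559558144772160,
  464314557568087318988745856770939264,
  849562454126884211412477180877803776,
  237858920031129304974226261956300192,
  604024856953066698918157977011765536]

/-- conjugating elements -/
def W11 : List Cnj := [⟨726076798193501336994240399488332352, 984818244535754528103549039458486304, 984818244535754528103549039458486304, 1⟩,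
  ⟨923760568311608330353822657488691392, 984818244535754528103549039458486304, 984818244535754528103549039458486304, 6⟩,
  ⟨636289101893012949564393465219265664, 984818244535754528103549039458486304, 984818244535754528103549039458486304, 4⟩,
  ⟨318618412991954631401258648217068640, 984818244535754528103549039458486304, 984818244535754528103549039458486304, 3⟩,
  ⟨430624200166196443120271549826237952, 984818244535754528103549039458486304, 984818244535754528103549039458486304, 9⟩,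
  ⟨898976741161828750223559558144772160, 984818244535754528103549039458486304, 984818244535754528103549039458486304, 2⟩,
  ⟨464314557568087318988745856770939264, 984818244535754528103549039458486304, 984818244535754528103549039458486304, 8⟩,
  ⟨849562454126884211412477180877803776, 984818244535754528103549039458486304, 984818244535754528103549039458486304, 7⟩,
  ⟨237858920031129304974226261956300192, 984818244535754528103549039458486304, 984818244535754528103549039458486304, 5⟩,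
  ⟨604024856953066698918157977011765536, 984818244535754528103549039458486304, 984818244535754528103549039458486304, 10⟩]

/-- centraliser of an element of order 11 in `M24` -/
def cen : Odd where
  p := 11
  c := 726076798193501336994240399488332352
  wd := [(0, 0), (3, 0), (3, 6), (3, 4), (3, 3), (2, 5), (3, 2), (2, 0), (3, 8), (3, 10), (2, 1), (2, 3), (3, 7), (3, 9), (2, 6), (2, 10), (3, 5), (2, 8), (3, 1), (1, 0), (2, 4), (2, 2), (2, 9), (2, 7)]
  sts := [(0, List.range 24, []),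
    (19, List.range 24, []),
    (7, List.range 24, []),
    (1, List.range 24, [[(3, 4), (3, 3), (3, 2), (2, 6), (2, 10), (3, 5), (1, 0), (2, 4)]])]

/-- an element not commuting with it -/
def cd : ℕ := 940502083162019044759138950740845056

end Cfsg.Agent.H916.RG.D11
end

-- part: H916/RG/R11
section
/-!
# S3509: `M11` (helper916)
-/

set_option autoImplicit false

namespace Cfsg.Agent.H916.RG

open Cfsg Cfsg.Agent.H106.RC Cfsg.Agent.H334.Ore.Mat Cfsg.Agent.H916.RG.Eng
open scoped Pointwise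
open Cfsg.Agent.SporadicStructure.M24El Cfsg.Agent.H729.Trans
open Cfsg.Agent.SporadicA.GolayPerm Cfsg.Agent.SporadicA.GolayBase
open Cfsg.Agent.SporadicStructure.M11InvPerms (dd dd_mem)
open Cfsg.Agent.MTwelveType.SylowModel (squareDodecad_eq mem_M12)

/-! ### the dodecad -/

/-- the dodecad, as a mask -/
def ddM : ℕ := 340831

theorem mem_dd_mask : ∀ p : GolayPt, p ∈ dd ↔ ddM.testBit (idx p) = true := by decide +kernel

theorem m12_dd {g : Equiv.Perm GolayPt} (hg : g ∈ Spor.M12) (p : GolayPt) : g p ∈ dd ↔ p ∈ dd := by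
  have h1 : g • Spor.squareDodecad = Spor.squareDodecad := hg.2
  rw [squareDodecad_eq] at h1
  constructor
  · intro h
    rw [← h1, Finset.mem_smul_finset] at h
    obtain ⟨q, hq, hqp⟩ := h
    rwa [← g.injective hqp]
  · intro h
    rw [← h1]
    exact Finset.mem_smul_finset.2 ⟨p, h, rfl⟩

/-- tables preserving the dodecad -/
def P12 (c : ℕ) : Bool := ok c && (List.range 24).all fun i => !(ddM.testBit i) || ddM.testBit (papp c i)

theorem P12_mem {c : ℕ} (h : P12 c = true) : ok c = true ∧ (el c : Equiv.Perm GolayPt) ∈ Spor.M12 := by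
  unfold P12 at h
  rw [Bool.and_eq_true] at h
  refine ⟨h.1, mem_M12 (el c).2 fun p hp => ?_⟩
  rw [mem_dd_mask] at hp ⊢
  have h1 := List.all_eq_true.1 h.2 (idx p) (List.mem_range.2 (idx_lt p))
  have h2 : idx ((el c : Equiv.Perm GolayPt) p) = papp c (idx p) := idx_el_smul h.1 p
  rw [hp, Bool.not_true, Bool.false_or] at h1
  rw [h2]
  exact h1

/-- the points of the dodecad and the other points -/
def ddL : List ℕ := [0, 1, 2, 3, 4, 6, 8, 9, 12, 13, 16, 18]

/-- the other points -/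
def dcL : List ℕ := [5, 7, 10, 11, 14, 15, 17, 19, 20, 21, 22, 23]

theorem mem_ddL : ∀ p : GolayPt, p ∈ dd → idx p ∈ ddL := by decide +kernel

theorem mem_dcL : ∀ p : GolayPt, p ∉ dd → idx p ∈ dcL := by decide +kernel

theorem dd_of_mem : ∀ p : GolayPt, idx p ∈ ddL → p ∈ dd := by decide +kernel

theorem im_idx (g : M24) (p : GolayPt) : im g (idx p) = idx ((g : Equiv.Perm GolayPt) p) := by
  unfold im
  rw [pt_idx]

namespace R11

theorem M11_le : Spor.M11 ≤ M24 := fun _ h => h.1.1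

/-- the inclusion -/
def ψ : Spor.M11 →* M24 where
  toFun g := ⟨(g : Equiv.Perm GolayPt), g.2.1.1⟩
  map_one' := rfl
  map_mul' _ _ := rfl

theorem ψ_inj : Function.Injective ψ := by
  intro a b h
  exact Subtype.ext (congrArg (fun g : M24 => (g : Equiv.Perm GolayPt)) h)

/-- tables of elements of `M11` -/
def P (c : ℕ) : Bool := P12 c && Nat.beq (papp c 0) 0

theorem hP (c : ℕ) (h : P c = true) : ok c = true ∧ ∃ s : Spor.M11, ψ s = el c := by
  unfold P at h
  rw [Bool.and_eq_true] at h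
  obtain ⟨h1, h2⟩ := P12_mem h.1
  refine ⟨h1, ⟨(el c : Equiv.Perm GolayPt), h2, ?_⟩, rfl⟩
  have h3 := el_smul_pt h1 (some 0 : GolayPt)
  have e : idx (some 0 : GolayPt) = 0 := rfl
  rw [e, Nat.eq_of_beq_eq_true h.2] at h3
  exact h3

theorem zero_mem : (some 0 : GolayPt) ∈ dd := by decide +kernel

theorem card_M11 : Nat.card Spor.M11 = 7920 := by
  rw [← Cfsg.Agent.S0387.result _ dd_mem _ zero_mem]
  refine Nat.card_congr ⟨fun g => ⟨⟨g, g.2.1.1⟩, Subgroup.mem_inf.2 ⟨?_, g.2.2⟩⟩,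
    fun g => ⟨((g : M24) : Equiv.Perm GolayPt), ⟨⟨(g : M24).2, ?_⟩, (Subgroup.mem_inf.1 g.2).2⟩⟩, fun _ => rfl, fun _ => rfl⟩
  · have h : (g : Equiv.Perm GolayPt) • Spor.squareDodecad = Spor.squareDodecad := g.2.1.2
    rw [squareDodecad_eq] at h
    exact h
  · show ((g : M24) : Equiv.Perm GolayPt) • Spor.squareDodecad = Spor.squareDodecad
    rw [squareDodecad_eq]
    exact (Subgroup.mem_inf.1 g.2).1

/-- candidates -/
def cand (b : ℕ) : List ℕ :=
  if b = 0 then [0] else if b ∈ ddL then [1, 2, 3, 4, 6, 8, 9, 12, 13, 16, 18] else dcL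

/-- no restriction -/
def Q (_ : ℕ) : Bool := true

theorem im_cand (g : Spor.M11) {i : ℕ} (hi : i < 24) : im (ψ g) i ∈ cand i := by
  have hg0 : (g : Equiv.Perm GolayPt) (some 0) = some 0 := g.2.2
  unfold cand
  by_cases h0 : i = 0
  · rw [if_pos h0, h0]
    have h1 := im_idx (ψ g) (some 0)
    have e : idx (some 0 : GolayPt) = 0 := rfl
    have h2 : ((ψ g : M24) : Equiv.Perm GolayPt) (some 0) = some 0 := hg0
    rw [h2, e] at h1
    rw [h1]
    exact List.mem_singleton.2 rfl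
  · rw [if_neg h0]
    have hne : im (ψ g) i ≠ 0 := by
      intro h
      apply h0
      apply im_inj (ψ g) hi (by norm_num)
      rw [h]
      have h1 := im_idx (ψ g) (some 0)
      have e : idx (some 0 : GolayPt) = 0 := rfl
      have h2 : ((ψ g : M24) : Equiv.Perm GolayPt) (some 0) = some 0 := hg0
      rw [h2, e] at h1
      rw [h1]
    have hidx : idx (pt i) = i := idx_pt hi
    by_cases hd : i ∈ ddL
    · rw [if_pos hd]
      have h1 : pt i ∈ dd := dd_of_mem _ (by rw [hidx]; exact hd)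
      have h2 : im (ψ g) i ∈ ddL := mem_ddL _ ((m12_dd g.2.1 (pt i)).2 h1)
      unfold ddL at h2
      rcases List.mem_cons.1 h2 with h3 | h3
      · exact absurd h3 hne
      · exact h3
    · rw [if_neg hd]
      have h1 : pt i ∉ dd := fun h => hd (by have := mem_ddL _ h; rwa [hidx] at this)
      exact mem_dcL _ fun h => h1 ((m12_dd g.2.1 (pt i)).1 h)

private noncomputable def _root_.Cfsg.Agent.GolayF.f0 : {f // @Cfsg.Agent.H916.RG.Eng.chkO = f} :=
  ⟨_, by delta Cfsg.Agent.H729.Trans.mk Cfsg.Agent.H729.Trans.mk._f Cfsg.Agent.H729.Trans.pre Cfsg.Agent.H729.Trans.srcOk Cfsg.Agent.H729.Trans.srcOk._f Cfsg.Agent.H729.Trans.wdOk Cfsg.Agent.H916.RG.Eng.chkO Cfsg.Agent.H916.RG.Eng.chkP' Cfsg.Agent.H916.RG.Eng.crtOkP Cfsg.Agent.H916.RG.Eng.nid Cfsg.Agent.H916.RG.Eng.nw Cfsg.Agent.H916.RG.Eng.okkP Cfsg.Agent.H916.RG.Eng.ppOk Cfsg.Agent.H916.RG.Eng.pwc Cfsg.Agent.H916.RG.Eng.pwc._f Cfsg.Agent.H916.RG.Eng.runP Cfsg.Agent.H916.RG.Eng.runP._f; rewrite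 [Cfsg.Agent.GolayF.papp_eq, Cfsg.Agent.GolayF.pcomp_eq, Cfsg.Agent.GolayF.isCode_eq, Cfsg.Agent.GolayF.ok_eq, Cfsg.Agent.GolayF.pw_eq, Cfsg.Agent.GolayF.tl_eq]; exact rfl⟩

private noncomputable def _root_.Cfsg.Agent.GolayF.f1 : {f // @Cfsg.Agent.H916.RG.R11.P = f} :=
  ⟨_, by delta Cfsg.Agent.H916.RG.P12 Cfsg.Agent.H916.RG.R11.P; rewrite [Cfsg.Agent.GolayF.papp_eq, Cfsg.Agent.GolayF.ok_eq]; exact rfl⟩

theorem hO : (D11.O.all (chkO P Q cand D11.T)) = true := by (rewrite [Cfsg.Agent.GolayF.f0.2, Cfsg.Agent.GolayF.f1.2]; decide +kernel)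

private noncomputable def _root_.Cfsg.Agent.GolayF.f2 : {f // @Cfsg.Agent.H916.RG.Eng.sylOk = f} :=
  ⟨_, by delta Cfsg.Agent.H916.RG.Eng.dif Cfsg.Agent.H916.RG.Eng.sylOk; rewrite [Cfsg.Agent.GolayF.papp_eq, Cfsg.Agent.GolayF.pcomp_eq]; exact rfl⟩

theorem s3 : sylOk P D11.L3 = true := by (rewrite [Cfsg.Agent.GolayF.f2.2, Cfsg.Agent.GolayF.f1.2]; decide +kernel)

theorem s5 : sylOk P D11.L5 = true := by (rewrite [Cfsg.Agent.GolayF.f2.2, Cfsg.Agent.GolayF.f1.2]; decide +kernel)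

theorem s11 : sylOk P D11.L11 = true := by (rewrite [Cfsg.Agent.GolayF.f2.2, Cfsg.Agent.GolayF.f1.2]; decide +kernel)

private noncomputable def _root_.Cfsg.Agent.GolayF.f3 : {f // @Cfsg.Agent.H916.RG.Eng.covOk = f} :=
  ⟨_, by delta Cfsg.Agent.H916.RG.Eng.covOk Cfsg.Agent.H916.RG.Eng.pwc Cfsg.Agent.H916.RG.Eng.pwc._f; rewrite [Cfsg.Agent.GolayF.pcomp_eq, Cfsg.Agent.GolayF.ok_eq]; exact rfl⟩

theorem w3 : covOk P D11.O D11.L3 D11.W3 = true := by (rewrite [Cfsg.Agent.GolayF.f3.2, Cfsg.Agent.GolayF.f1.2]; decide +kernel)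

theorem w5 : covOk P D11.O D11.L5 D11.W5 = true := by (rewrite [Cfsg.Agent.GolayF.f3.2, Cfsg.Agent.GolayF.f1.2]; decide +kernel)

theorem w11 : covOk P D11.O D11.L11 D11.W11 = true := by (rewrite [Cfsg.Agent.GolayF.f3.2, Cfsg.Agent.GolayF.f1.2]; decide +kernel)

theorem hcov [Finite Spor.M11] (s : Spor.M11) (p : ℕ) (hp : p.Prime) (hp2 : p ≠ 2) (hs : orderOf s = p) :
    ∃ o ∈ D11.O, ∃ (t : Spor.M11) (k : ℕ), ψ (t * s ^ k * t⁻¹) = el o.c := by
  have h1 : p ∣ 2 ^ 4 * 3 ^ 2 * 5 * 11 := by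
    have h2 : p ∣ Nat.card Spor.M11 := hs ▸ orderOf_dvd_natCard s
    rwa [card_M11] at h2
  have h2 : p = 3 ∨ p = 5 ∨ p = 11 := by
    rcases (Nat.Prime.dvd_mul hp).1 h1 with h | h
    · rcases (Nat.Prime.dvd_mul hp).1 h with h | h
      · rcases (Nat.Prime.dvd_mul hp).1 h with h | h
        · exact absurd ((Nat.prime_dvd_prime_iff_eq hp Nat.prime_two).1 (hp.dvd_of_dvd_pow h)) hp2
        · exact Or.inl ((Nat.prime_dvd_prime_iff_eq hp Nat.prime_three).1 (hp.dvd_of_dvd_pow h))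
      · exact Or.inr (Or.inl ((Nat.prime_dvd_prime_iff_eq hp (by norm_num)).1 h))
    · exact Or.inr (Or.inr ((Nat.prime_dvd_prime_iff_eq hp (by norm_num)).1 h))
  rcases h2 with rfl | rfl | rfl
  · exact cov_of_sylow ψ_inj hP hp s3 (a := 2) (m := 880) (by decide) (by rw [card_M11]; norm_num) (by norm_num) w3 s hs
  · exact cov_of_sylow ψ_inj hP hp s5 (a := 1) (m := 1584) (by decide) (by rw [card_M11]; norm_num) (by norm_num) w5 s hs
  · exact cov_of_sylow ψ_inj hP hp s11 (a := 1) (m := 720) (by decide) (by rw [card_M11]; norm_num) (by norm_num) w11 s hs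

private noncomputable def _root_.Cfsg.Agent.GolayF.f4 : {f // @Cfsg.Agent.H729.Trans.pre = f} :=
  ⟨_, by delta Cfsg.Agent.H729.Trans.mk Cfsg.Agent.H729.Trans.mk._f Cfsg.Agent.H729.Trans.pre Cfsg.Agent.H729.Trans.srcOk Cfsg.Agent.H729.Trans.srcOk._f Cfsg.Agent.H729.Trans.wdOk; rewrite [Cfsg.Agent.GolayF.isCode_eq, Cfsg.Agent.GolayF.ok_eq, Cfsg.Agent.GolayF.pw_eq]; exact rfl⟩

private noncomputable def _root_.Cfsg.Agent.GolayF.f5 : {f // @Cfsg.Agent.H916.RG.Eng.dif = f} :=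
  ⟨_, by delta Cfsg.Agent.H916.RG.Eng.dif; rewrite [Cfsg.Agent.GolayF.papp_eq]; exact rfl⟩

theorem hcen (τ : M24) (h : ∀ g : Spor.M11, (τ : Equiv.Perm GolayPt) * g = g * τ) : τ = 1 := by
  have hc : P D11.cen.c = true := by (rewrite [Cfsg.Agent.GolayF.f1.2]; decide +kernel)
  have hd : P D11.cd = true := by (rewrite [Cfsg.Agent.GolayF.f1.2]; decide +kernel)
  obtain ⟨hc1, s, hs⟩ := hP _ hc
  obtain ⟨hd1, t, ht⟩ := hP _ hd
  refine cen_of_search (p := 11) (c := D11.cen.c) (wd := D11.cen.wd) (sts := D11.cen.sts) (d := D11.cd)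
    (by (rewrite [Cfsg.Agent.GolayF.f4.2]; decide +kernel)) hd1 (by decide +kernel) (by (rewrite [Cfsg.Agent.GolayF.f5.2, Cfsg.Agent.GolayF.pcomp_eq, Cfsg.Agent.GolayF.tl_eq]; decide +kernel)) τ ?_ ?_
  · rw [← hs]; exact Subtype.ext (h s)
  · rw [← ht]; exact Subtype.ext (h t)

theorem rc (hs : IsSimpleGroup Spor.M11) (hc : ¬ IsMulCommutative Spor.M11) : RC Spor.M11 := by
  have hfin : Finite Spor.M11 := Nat.finite_of_card_ne_zero (by rw [card_M11]; norm_num)
  obtain ⟨φ, hφ, hφc, -⟩ := exists_emb Spor.M11 M11_le (fun α => by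
    obtain ⟨s, hs⟩ := inner_of_out S2060.result α
    exact ⟨⟨s, M11_le s.2⟩, fun g => by rw [← hs]; rfl⟩) hcen
  have hφψ : ∀ s : Spor.M11, φ (MulAut.conj s) = ψ s := fun s => Subtype.ext (hφc s)
  intro α
  refine rce_of_search hφ hs hc (P := P) ?_ (fun _ => True) (fun _ _ _ => trivial) (Q := Q) (cand := cand) ?_ ?_
    ?_ hO trivial
  · intro c h
    obtain ⟨h1, s, h2⟩ := hP c h
    exact ⟨h1, s, by rw [hφψ, h2]⟩
  · intro α _
    refine ⟨rfl, fun i hi => ?_⟩
    obtain ⟨s, hs⟩ := inner_of_out S2060.result α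
    rw [← hs, hφψ]
    exact im_cand s hi
  · intro α _
    exact inner_of_out S2060.result (α ^ 2)
  · intro s p hp hp2 hsp
    obtain ⟨o, ho, t, k, h⟩ := hcov s p hp hp2 hsp
    exact ⟨o, ho, t, k, by rw [hφψ, h]⟩

end R11

/-- **the row `M11`** -/
theorem rc_m11 {S : Type} [Group S] (hs : IsSimpleGroup S) (hc : ¬ IsMulCommutative S) (h : Spor.IsoM11 S) : RC S := by
  obtain ⟨e⟩ := h
  exact RC.congr e.symm (R11.rc (simple_cgr e hs) (nc_cgr e hc))

end Cfsg.Agent.H916.RG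
end

-- part: H916/RG/D12out
section
/-!
# S3509: data for `M12` (helper916)
-/

set_option autoImplicit false
set_option Elab.async false

namespace Cfsg.Agent.H916.RG.D12

open Cfsg.Agent.H916.RG.Eng

def to3A_0 : Crt := ⟨148637630925076764967999300724792817, 12, 2, 3, [⟨true, 849396398554523300553735490689728548, 304387770099271225954459864849911842, 981568766006870601126190099430754349, 2⟩]⟩

def to3A_1 : Crt := ⟨169097505598426003824785811781932519, 12, 2, 3, [⟨true, 320156226700217654802949299195350605, 818381562471601602626992367479112073, 977924384349162164820719824776828969, 2⟩]⟩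

def to3A_2 : Crt := ⟨181994603906874999132214761377744327, 12, 2, 3, [⟨true, 983278820161204418481974525651460169, 982254564324168627513785323733124676, 977924384349162164820719824776828969, 3⟩]⟩

def to3A_3 : Crt := ⟨49816676214091546639594421222852085, 12, 2, 3, [⟨true, 444819351316424441011164844367399328, 444819351316424441011164844367399328, 981568766006870601126190099430754349, 3⟩]⟩

def to3A_4 : Crt := ⟨59074511074768966989669759762275813, 12, 2, 3, [⟨true, 734323655077708892177200128450660620, 235865813400131559926500883547294124, 977924384349162164820719824776828969, 2⟩]⟩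

def to3A_5 : Crt := ⟨182116482832143067861477737110148839, 12, 2, 3, [⟨true, 444528507327743500506025390875190273, 444528507327743500506025390875190273, 981568766006870601126190099430754349, 3⟩]⟩

def to3A_6 : Crt := ⟨145922521803903797101009142859407092, 12, 2, 3, [⟨true, 934270661522701003970812650119500161, 902784756495763300523071759802830851, 977924384349162164820719824776828969, 2⟩]⟩

def to3A_7 : Crt := ⟨51938915122208660835867468598072037, 12, 2, 3, [⟨true, 980510594661986767856308574417596833, 977909655106619219829781847024865289, 981568766006870601126190099430754349, 3⟩]⟩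

def to3A_8 : Crt := ⟨141826102230612781775564017444312566, 12, 2, 3, [⟨true, 944010024015473087468938800287289869, 944010024015473087468938800287289869, 981568766006870601126190099430754349, 3⟩]⟩

def to3A_9 : Crt := ⟨62682891339893647237263805083278069, 12, 2, 3, [⟨true, 973786775234166536095123545495181737, 981556497711416516222553814800404781, 977924384349162164820719824776828969, 3⟩]⟩

def to3A_10 : Crt := ⟨178485309008097373372397062498015731, 12, 2, 3, [⟨true, 936549932157274363476540091229473842, 860850391919718025904177319559383076, 981568766006870601126190099430754349, 3⟩]⟩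

def to3A_11 : Crt := ⟨177080733708207869293125440792680179, 12, 2, 3, [⟨true, 236836827454041560835767718534817188, 444166318181317915108301125235877453, 977924384349162164820719824776828969, 2⟩]⟩

def to3A_12 : Crt := ⟨44157825301734113877089024875122405, 12, 2, 3, [⟨true, 984162663276221444552740466076092417, 984162663276221444552740466076092417, 981568766006870601126190099430754349, 3⟩]⟩

def to3A_13 : Crt := ⟨124713218097120936342708679572442577, 12, 2, 3, [⟨true, 981934010316394394605511794525248000, 977681042462048028067463197524136128, 977924384349162164820719824776828969, 2⟩]⟩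

def to3A_14 : Crt := ⟨178566823666489128451579162912331219, 12, 2, 3, [⟨true, 425341938534603053802736922713409736, 313712231494066524366955083538405955, 977924384349162164820719824776828969, 3⟩]⟩

def to3A_15 : Crt := ⟨174472326025149116158908552197916403, 12, 2, 3, [⟨true, 479948326593396355623749900410490256, 894601596568692430513615769869306381, 981568766006870601126190099430754349, 3⟩]⟩

def to3A_16 : Crt := ⟨65235856319914997261781588424217067, 12, 2, 3, [⟨true, 811527378351891547534891821638437377, 234284295434703807623772571668384777, 977924384349162164820719824776828969, 2⟩]⟩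

def to3A_17 : Crt := ⟨127720877498519641162901143900605940, 12, 2, 3, [⟨true, 927049922620365874774520450385126445, 736463579285257812031838827811772452, 977924384349162164820719824776828969, 3⟩]⟩

def to3A_18 : Crt := ⟨57216686487637243228670264369204683, 12, 2, 3, [⟨true, 313632889716510737601788289313407277, 811768794061801622778514883305935266, 981568766006870601126190099430754349, 3⟩]⟩

def to3A_19 : Crt := ⟨145637868628604586014775606706154964, 12, 2, 3, [⟨true, 313311673877046650072288252621359144, 844214163865521461789742939303610413, 981568766006870601126190099430754349, 2⟩]⟩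

def to3A_20 : Crt := ⟨142232311226338768194159952522878422, 12, 2, 3, [⟨true, 981818764095008896322548176798390339, 981777935585139447498040563464144461, 981568766006870601126190099430754349, 3⟩]⟩

def to3A_21 : Crt := ⟨166414028040666275038355798493998535, 12, 2, 3, [⟨true, 844214163865521461789742939303610413, 313311673877046650072288252621359144, 981568766006870601126190099430754349, 2⟩]⟩

def to3A_22 : Crt := ⟨53302831537655329418167947397683659, 12, 2, 3, [⟨true, 487474168839263886970514620308593065, 932242060949893099607461210513385030, 977924384349162164820719824776828969, 2⟩]⟩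

def to3A_23 : Crt := ⟨132406765724463072985865171898937078, 12, 2, 3, [⟨true, 860847859906392921872678161551149357, 920932081008359727703221772478916006, 977924384349162164820719824776828969, 3⟩]⟩

def to3A_24 : Crt := ⟨190013589316346977115167447343109610, 12, 2, 3, [⟨true, 319949427696127351042466180552460873, 319949427696127351042466180552460873, 981568766006870601126190099430754349, 3⟩]⟩

def to3A_25 : Crt := ⟨140942834812454850304085354085848534, 12, 2, 3, [⟨true, 320855640498494569242797542055741008, 940271238089187326129295396866279504, 977924384349162164820719824776828969, 2⟩]⟩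

def to3A_26 : Crt := ⟨187014339513570053467595136948492746, 12, 2, 3, [⟨true, 962462848535786073206318041699273101, 962337233726595899011677092337684036, 981568766006870601126190099430754349, 2⟩]⟩

def to3A_27 : Crt := ⟨52181949998653922748564486061795781, 12, 2, 3, [⟨true, 818739598451506067543136779296147649, 901656714393583706679271710259251206, 977924384349162164820719824776828969, 2⟩]⟩

def to3A_28 : Crt := ⟨189526779281211230516880457158054634, 12, 2, 3, [⟨true, 898735538888068038969281102796101928, 438412506759652465340579072254872968, 977924384349162164820719824776828969, 2⟩]⟩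

def to3A_29 : Crt := ⟨127761756752188864938567907765868276, 12, 2, 3, [⟨true, 732711328204177239144039439579301901, 837732369284786957509091695165377825, 981568766006870601126190099430754349, 3⟩]⟩

def to3A_30 : Crt := ⟨42285359400738853265668650340962773, 12, 2, 3, [⟨true, 464290303950541485764494486921610659, 725202907434128054667503440261821522, 981568766006870601126190099430754349, 2⟩]⟩

def to3A_31 : Crt := ⟨49694779980669130683267424233925365, 12, 2, 3, [⟨true, 984162663276221444552740466076092417, 984162663276221444552740466076092417, 977924384349162164820719824776828969, 3⟩]⟩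

def to3A_32 : Crt := ⟨183526915893840252017659155464308202, 12, 2, 3, [⟨true, 433782041062614834238174104956347427, 316058666570362202887277327404765225, 977924384349162164820719824776828969, 3⟩]⟩

def to3A_33 : Crt := ⟨125280905222477397886557447525215729, 12, 2, 3, [⟨true, 977762285999503312977232073192687683, 981650009530788041478947952515876105, 977924384349162164820719824776828969, 2⟩]⟩

def to3A_34 : Crt := ⟨53545823088617062247579680252865003, 12, 2, 3, [⟨true, 237116068468128389792095224747006368, 735581641737701358480847682111064320, 981568766006870601126190099430754349, 2⟩]⟩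

def to3A_35 : Crt := ⟨135380275351723064358648710877915889, 12, 2, 3, [⟨true, 858941787689222074753567277934090764, 485104024915498329358665620255951148, 981568766006870601126190099430754349, 2⟩]⟩

/-- the certificates -/
def To3A : List Crt := [to3A_0, to3A_1, to3A_2, to3A_3, to3A_4, to3A_5, to3A_6, to3A_7, to3A_8, to3A_9, to3A_10, to3A_11, to3A_12, to3A_13, to3A_14, to3A_15, to3A_16, to3A_17, to3A_18, to3A_19, to3A_20, to3A_21, to3A_22, to3A_23, to3A_24, to3A_25, to3A_26, to3A_27, to3A_28, to3A_29, to3A_30, to3A_31, to3A_32, to3A_33, to3A_34, to3A_35]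

/-- the elements commuting with the table -/
def Zo3A : List ℕ := [148637630925076764967999300724792817,
  169097505598426003824785811781932519,
  181994603906874999132214761377744327,
  63048398106350099150021581350608341,
  135096581571491797023398819211498961,
  49816676214091546639594421222852085,
  59074511074768966989669759762275813,
  182116482832143067861477737110148839,
  166495231944529690102874115865825767,
  145922521803903797101009142859407092,
  136785297552985256883252593446065652,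
  51938915122208660835867468598072037,
  141826102230612781775564017444312566,
  140212385799359689533250883738390262,
  42041720422779439093121170178559477,
  62682891339893647237263805083278069,
  178485309008097373372397062498015731,
  177080733708207869293125440792680179,
  58668640041436201426831108176856517,
  148353638817012068134423624871778033,
  44157825301734113877089024875122405,
  124713218097120936342708679572442577,
  178566823666489128451579162912331219,
  174472326025149116158908552197916403,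
  65235856319914997261781588424217067,
  127720877498519641162901143900605940,
  57216686487637243228670264369204683,
  145637868628604586014775606706154964,
  177283493432498059690006157089821139,
  174593543883182670635513667630083571,
  142232311226338768194159952522878422,
  65439305591350793283496807205641963,
  169138207827695538330623970593168103,
  166414028040666275038355798493998535,
  53302831537655329418167947397683659,
  132406765724463072985865171898937078,
  190013589316346977115167447343109610,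
  44806759656437519568741394808265189,
  140942834812454850304085354085848534,
  187014339513570053467595136948492746,
  52181949998653922748564486061795781,
  132731004504771749963080506734488054,
  183121325880186568726082266808964554,
  189526779281211230516880457158054634,
  127761756752188864938567907765868276,
  42285359400738853265668650340962773,
  136541522394294772197662620724734420,
  49694779980669130683267424233925365,
  183526915893840252017659155464308202,
  57663155754960150295913916889810667,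
  125280905222477397886557447525215729,
  186933092284223109319791534968123114,
  53545823088617062247579680252865003,
  135380275351723064358648710877915889]

def oo3A : Odd where
  p := 3
  c := 977924384349162164820719824776828969
  wd := [(7, 1), (3, 0), (8, 1), (2, 0), (4, 0), (5, 0), (8, 2), (0, 1), (6, 2), (7, 2), (0, 0), (5, 2), (6, 1), (7, 0), (10, 0), (9, 0), (6, 0), (1, 0), (8, 0), (0, 2), (1, 1), (5, 1), (1, 2), (11, 0)]
  sts := [(10, [0, 1, 2, 3, 4, 6, 8, 9, 12, 13, 16, 18], []),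
    (17, [0, 1, 2, 3, 4, 6, 8, 9, 12, 13, 16, 18], []),
    (3, [5, 7, 10, 11, 14, 15, 17, 19, 20, 21, 22, 23], []),
    (1, [5, 7, 10, 11, 14, 15, 17, 19, 20, 21, 22, 23], []),
    (4, [5, 7, 10, 11, 14, 15, 17, 19, 20, 21, 22, 23], [[(2, 0), (4, 0), (0, 1), (0, 0), (1, 0), (0, 2), (1, 1), (1, 2)]]),
    (5, [0, 1, 2, 3, 4, 6, 8, 9, 12, 13, 16, 18], [[(3, 0), (4, 0), (5, 0), (0, 1), (0, 0), (5, 2), (0, 2), (5, 1)]]),
    (16, [5, 7, 10, 11, 14, 15, 17, 19, 20, 21, 22, 23], [[(3, 0), (2, 0), (0, 1), (6, 1), (6, 0), (0, 2), (1, 1), (5, 1)]]),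
    (13, [5, 7, 10, 11, 14, 15, 17, 19, 20, 21, 22, 23], [[(0, 1), (6, 2), (7, 2), (6, 1), (7, 0), (0, 2), (1, 1), (1, 2)]]),
    (18, [5, 7, 10, 11, 14, 15, 17, 19, 20, 21, 22, 23], [[(8, 1), (5, 0), (8, 2), (0, 1), (7, 2), (5, 2), (7, 0), (0, 2)]]),
    (15, [0, 1, 2, 3, 4, 6, 8, 9, 12, 13, 16, 18], [[(7, 1), (0, 1), (6, 2), (5, 2), (9, 0), (6, 0), (1, 0), (8, 0)]]),
    (14, [0, 1, 2, 3, 4, 6, 8, 9, 12, 13, 16, 18], [[(7, 1), (8, 1), (2, 0), (6, 2), (6, 1), (7, 0), (10, 0), (1, 2)]]),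
    (23, [0, 1, 2, 3, 4, 6, 8, 9, 12, 13, 16, 18], [])]

def to3B_0 : Crt := ⟨747870137585506350760974855436872367, 6, 2, 3, [⟨true, 840318191541488143041130000212559142, 641683907094971762300870768367812684, 440763987480832550866593699465284016, 1⟩,
  ⟨false, 305678335206348450566319510273985612, 731396648619925366604172028847129874, 87499595233646195629898398298758803, 3⟩]⟩

def to3B_1 : Crt := ⟨249618805267713180743718924298343599, 6, 2, 3, [⟨true, 433787160093406445099744387218688296, 809518269256501300670800349082694790, 440763987480832550866593699465284016, 1⟩,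
  ⟨false, 859922487125373878184642112756320544, 859922487125373878184642112756320544, 336933950000726184646724925857157363, 3⟩]⟩

def to3B_2 : Crt := ⟨540493904800548063971810971269829967, 6, 2, 3, [⟨true, 486989939877071622092754416147927341, 932640383628265468772502905255239788, 440763987480832550866593699465284016, 1⟩,
  ⟨false, 885739770308952926942293544764805185, 630512226231820877191420359571768326, 45686134304896560233221817637740275, 3⟩]⟩

def to3B_3 : Crt := ⟨503794836524529594376233184083166663, 12, 2, 3, [⟨true, 984573615201180725592165913404213249, 984573615201180725592165913404213249, 440763987480832550866593699465284016, 1⟩,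
  ⟨false, 466886612806939599290027934929242113, 466886612806939599290027934929242113, 943912048266724668525490220323376402, 2⟩]⟩

def to3B_4 : Crt := ⟨669898900796449323166808933783682599, 12, 2, 3, [⟨true, 819986936578449944409822849843369992, 941412760990462057002668524199682145, 440763987480832550866593699465284016, 1⟩,
  ⟨false, 962297163585250478268166171590231112, 962297163585250478268166171590231112, 317529576833142594988395433926329414, 2⟩]⟩

def to3B_5 : Crt := ⟨379377469359277342156429518414658023, 6, 2, 3, [⟨true, 313634942272108607954582845333474692, 732740929019667663964016085435494674, 601842082618551780618000286128546947, 1⟩,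
  ⟨false, 840713129437348047580396098811019364, 799197340462405123651600416380072525, 84628881911381491388915849366855365, 3⟩]⟩

def to3B_6 : Crt := ⟨548175708747263431658551273690142321, 12, 2, 3, [⟨true, 984649624827187085490164311028469042, 984571030531040898467647907317222802, 601842082618551780618000286128546947, 1⟩,
  ⟨false, 735290867657013905766293980387095053, 735011916428779980787782231795306770, 943912048266724668525490220323376402, 2⟩]⟩

def to3B_7 : Crt := ⟨756128722864810327939180227521587377, 6, 2, 3, [⟨true, 970531819526550031117983620406741024, 970531819526550031117983620406741024, 440763987480832550866593699465284016, 1⟩,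
  ⟨false, 434272518408607255311003786267603149, 434272518408607255311003786267603149, 93465397109301450657811247992036597, 3⟩]⟩

def to3B_8 : Crt := ⟨7967678023680537174999764028804433, 12, 2, 3, [⟨true, 595351599593879655418760236150370509, 433868119245220094697284571469486477, 601842082618551780618000286128546947, 1⟩,
  ⟨false, 320285157228195348479063010507493965, 901498005134196699387232861140030028, 840289027068803292687298477617619053, 2⟩]⟩

def to3B_9 : Crt := ⟨676636502892749161912298270231051639, 6, 2, 3, [⟨true, 720646969161451546836122102460191304, 720646969161451546836122102460191304, 601842082618551780618000286128546947, 1⟩,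
  ⟨false, 720741259291914244814834744040754608, 479421149865030072879722147492213261, 127465540209983877851651886913673450, 3⟩]⟩

def to3B_10 : Crt := ⟨177978232178571583885648563575139895, 12, 2, 3, [⟨true, 298220312938896348041125006446429616, 898848229521945192921497889085343811, 440763987480832550866593699465284016, 1⟩,
  ⟨false, 713072762674972259731352256436805708, 217243154582288372139714112085296525, 840289027068803292687298477617619053, 2⟩]⟩

def to3B_11 : Crt := ⟨510188906275308651643713288335214071, 12, 2, 3, [⟨true, 425189624553510300246760233382267312, 837838891457555456112947357175844105, 440763987480832550866593699465284016, 1⟩,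
  ⟨false, 898564913342979728075811523076950017, 809661397674027371441923309511804929, 317529576833142594988395433926329414, 2⟩]⟩

def to3B_12 : Crt := ⟨389564586668244241537029699368696180, 6, 2, 3, [⟨true, 932640383628265468772502905255239788, 486989939877071622092754416147927341, 601842082618551780618000286128546947, 1⟩,
  ⟨false, 982208931835335135552851393183825932, 962753341145680073694423452985245985, 93465397109301450657811247992036597, 3⟩]⟩

def to3B_13 : Crt := ⟨680236868565529668661847888981704148, 12, 2, 3, [⟨true, 853472606017353216599947244332163469, 853472606017353216599947244332163469, 440763987480832550866593699465284016, 1⟩,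
  ⟨false, 425348082121769021724770086141968680, 642126277610937574505238950165387656, 840289027068803292687298477617619053, 2⟩]⟩

def to3B_14 : Crt := ⟨181823254842737518579341694735003124, 12, 2, 3, [⟨true, 317649761148987123970582108090442160, 235791306421727927550060047335069796, 440763987480832550866593699465284016, 1⟩,
  ⟨false, 653147593563575372876867166030666305, 920794262147804023544767750797266952, 943912048266724668525490220323376402, 2⟩]⟩

def to3B_15 : Crt := ⟨765060272258816163545254342093351531, 6, 2, 3, [⟨true, 648037329160802358161201681910469030, 594743252497586303139244040775738947, 440763987480832550866593699465284016, 1⟩,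
  ⟨false, 978288554204297041759703153177048178, 978288554204297041759703153177048178, 84628881911381491388915849366855365, 3⟩]⟩

def to3B_16 : Crt := ⟨17263042985209353711848355285618347, 12, 2, 3, [⟨true, 927278097090917442819376367182192740, 238165610894110247161740048885397068, 601842082618551780618000286128546947, 1⟩,
  ⟨false, 475997393737380908017726631227426054, 816787149027894028857888950473466947, 317529576833142594988395433926329414, 2⟩]⟩

def to3B_17 : Crt := ⟨266754430733099590840430381942101323, 12, 2, 3, [⟨true, 879747377833504757950915806840960306, 879747377833504757950915806840960306, 601842082618551780618000286128546947, 1⟩,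
  ⟨false, 443545303226168010762277884428128546, 485093819307474819410386825861235206, 943912048266724668525490220323376402, 2⟩]⟩

def to3B_18 : Crt := ⟨519322368667662197185667509626848630, 6, 2, 3, [⟨true, 968673226911639071764505723888929356, 968673226911639071764505723888929356, 601842082618551780618000286128546947, 1⟩,
  ⟨false, 236681085738091196965317018400171200, 236681085738091196965317018400171200, 336933950000726184646724925857157363, 3⟩]⟩

def to3B_19 : Crt := ⟨187262545031038575542041559110757846, 6, 2, 3, [⟨true, 238165610894110247161740048885397068, 927278097090917442819376367182192740, 601842082618551780618000286128546947, 1⟩,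
  ⟨false, 236872851010836998067742273124483154, 818085049447758108621086148018701734, 45686134304896560233221817637740275, 3⟩]⟩

def to3B_20 : Crt := ⟨394660344511024517021720331549129270, 6, 2, 3, [⟨true, 879738548807926419234310055455307020, 879738548807926419234310055455307020, 601842082618551780618000286128546947, 1⟩,
  ⟨false, 901809727182819464583521216256750849, 901814690194296880516279984756004882, 87499595233646195629898398298758803, 3⟩]⟩

def to3B_21 : Crt := ⟨272774701445999097155021325736433262, 12, 2, 3, [⟨true, 901822146323997371566208591551627458, 901822146323997371566208591551627458, 601842082618551780618000286128546947, 1⟩,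
  ⟨false, 808273960159404798958583469809336513, 803076597429393267055247079939512322, 317529576833142594988395433926329414, 2⟩]⟩

def to3B_22 : Crt := ⟨564013616546356961313887849392969390, 12, 2, 3, [⟨true, 845481814456004829629518271552686220, 853270021946962435917928519934806320, 601842082618551780618000286128546947, 1⟩,
  ⟨false, 984412030527787836665607604577632386, 984412030527787836665607604577632386, 840289027068803292687298477617619053, 2⟩]⟩

def to3B_23 : Crt := ⟨23860095030697469517904368744352942, 6, 2, 3, [⟨true, 479623986318016222713448381946146848, 479623986318016222713448381946146848, 440763987480832550866593699465284016, 1⟩,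
  ⟨false, 735586767518046189838849015065708838, 735586767518046189838849015065708838, 127465540209983877851651886913673450, 3⟩]⟩

/-- the certificates -/
def To3B : List Crt := [to3B_0, to3B_1, to3B_2, to3B_3, to3B_4, to3B_5, to3B_6, to3B_7, to3B_8, to3B_9, to3B_10, to3B_11, to3B_12, to3B_13, to3B_14, to3B_15, to3B_16, to3B_17, to3B_18, to3B_19, to3B_20, to3B_21, to3B_22, to3B_23]

/-- the elements commuting with the table -/
def Zo3B : List ℕ := [747870137585506350760974855436872367,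
  249618805267713180743718924298343599,
  540493904800548063971810971269829967,
  333609417724894400578161535359374053,
  84628881911381491388915849366855365,
  126646439731958192321557706728266373,
  127465540209983877851651886913673450,
  335432496898017365186391262201893578,
  44139046128750050711665296063307402,
  336933950000726184646724925857157363,
  45686134304896560233221817637740275,
  87499595233646195629898398298758803,
  503794836524529594376233184083166663,
  669898900796449323166808933783682599,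
  379377469359277342156429518414658023,
  548175708747263431658551273690142321,
  756128722864810327939180227521587377,
  7967678023680537174999764028804433,
  93465397109301450657811247992036597,
  135528590003315841651675963272616693,
  52655914875649094339270213988130517,
  676636502892749161912298270231051639,
  177978232178571583885648563575139895,
  510188906275308651643713288335214071,
  389564586668244241537029699368696180,
  680236868565529668661847888981704148,
  181823254842737518579341694735003124,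
  765060272258816163545254342093351531,
  17263042985209353711848355285618347,
  266754430733099590840430381942101323,
  519322368667662197185667509626848630,
  187262545031038575542041559110757846,
  394660344511024517021720331549129270,
  272774701445999097155021325736433262,
  564013616546356961313887849392969390,
  23860095030697469517904368744352942]

def oo3B : Odd where
  p := 3
  c := 601842082618551780618000286128546947
  wd := [(7, 1), (5, 1), (6, 0), (7, 2), (5, 2), (1, 2), (3, 1), (1, 0), (3, 2), (6, 1), (2, 1), (1, 1), (3, 0), (5, 0), (2, 0), (0, 1), (7, 0), (4, 2), (6, 2), (0, 2), (4, 1), (4, 0), (0, 0), (2, 2)]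
  sts := [(22, [0, 1, 2, 3, 4, 6, 8, 9, 12, 13, 16, 18], []),
    (7, [0, 1, 2, 3, 4, 6, 8, 9, 12, 13, 16, 18], []),
    (14, [0, 1, 2, 3, 4, 6, 8, 9, 12, 13, 16, 18], []),
    (12, [5, 7, 10, 11, 14, 15, 17, 19, 20, 21, 22, 23], [[(1, 0), (3, 2), (1, 1), (3, 0), (2, 0), (0, 1), (0, 0), (2, 2)]]),
    (21, [0, 1, 2, 3, 4, 6, 8, 9, 12, 13, 16, 18], []),
    (13, [5, 7, 10, 11, 14, 15, 17, 19, 20, 21, 22, 23], [[(5, 2), (1, 0), (3, 2), (2, 0), (0, 2), (4, 1), (4, 0), (2, 2)]]),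
    (2, [5, 7, 10, 11, 14, 15, 17, 19, 20, 21, 22, 23], [[(5, 1), (6, 1), (3, 0), (5, 0), (0, 1), (4, 2), (4, 1), (4, 0)]]),
    (16, [5, 7, 10, 11, 14, 15, 17, 19, 20, 21, 22, 23], [[(7, 2), (3, 1), (3, 2), (2, 1), (0, 1), (4, 2), (6, 2), (0, 2)]])]

def to5_0 : Crt := ⟨502537276894346481823963675318631031, 10, 2, 5, [⟨true, 731390317890869949743501691705495650, 713063219738394555997309765070913808, 812255169268010167754203804815763009, 1⟩,
  ⟨true, 234271616003255316994550473486024900, 798789946891203928570028842008458642, 802441018304344986136746668105048070, 1⟩,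
  ⟨false, 980964373776919695495039579221787757, 983236320565175941398062361190895688, 750347930588619118612211690443856549, 1⟩]⟩

def to5_1 : Crt := ⟨51943990146942987665022486310332587, 10, 2, 5, [⟨true, 316027252247709044945869509796368488, 601834477889586578292120297582664200, 475891460349287575477861050684279954, 1⟩,
  ⟨true, 230701595000366148006648427439466049, 885507623432898906406823721020334098, 483510674266408815099013456752361682, 1⟩,
  ⟨false, 610567132226883707190967285251705216, 610567132226883707190967285251705216, 750347930588619118612211690443856549, 1⟩]⟩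

def to5_2 : Crt := ⟨178587115590466581150908244036929269, 10, 2, 5, [⟨true, 652498237421592027548448140768479268, 486353380744810943729594796551178278, 217250792169612440626855975259813252, 1⟩,
  ⟨true, 443555035375197669244276617455731785, 443555035375197669244276617455731785, 881856552019757360584619279832593798, 1⟩,
  ⟨false, 982224155767909524168889505747699904, 982224155767909524168889505747699904, 750347930588619118612211690443856549, 1⟩]⟩

def to5_3 : Crt := ⟨17382071168004150459206516160011635, 10, 2, 5, [⟨true, 652507427890340834643637769448032300, 652507427890340834643637769448032300, 885515704721051605424675244225110028, 1⟩,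
  ⟨true, 297684229226127577538906820055269634, 297684229226127577538906820055269634, 646103970102907507767452137337136716, 1⟩,
  ⟨false, 298058423830191597846743988372019272, 483314189664403470297336413425894512, 750347930588619118612211690443856549, 3⟩]⟩

def to5_4 : Crt := ⟨148353682232421798071528951840628278, 10, 2, 5, [⟨true, 612089771231038746573889415411714349, 939090185548133177317118322817962096, 217250792169612440626855975259813252, 1⟩,
  ⟨true, 726461692358844777823308620489955848, 726461692358844777823308620489955848, 881856552019757360584619279832593798, 1⟩,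
  ⟨false, 941529229555794239689128065606493697, 736907607126199866724684403822729225, 375232324173466470503949906391717578, 3⟩]⟩

def to5_5 : Crt := ⟨545320796568577177605971794580393425, 10, 2, 5, [⟨true, 652507427890340834643637769448032300, 652507427890340834643637769448032300, 812255169268010167754203804815763009, 1⟩,
  ⟨true, 226657631124915323617595207293766790, 632621872150843433086417620144567698, 632627021975885412615239097997636993, 1⟩,
  ⟨false, 899222115578390938080970071511140771, 882353842377518713137746887867107844, 375232324173466470503949906391717578, 3⟩]⟩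

def to5_6 : Crt := ⟨83409258012675160947957276646020423, 10, 2, 5, [⟨true, 234290472293010193588506207205834962, 234290472293010193588506207205834962, 475891460349287575477861050684279954, 1⟩,
  ⟨true, 845337497611510873271013110156669353, 440644509611467316024050962704765040, 483510674266408815099013456752361682, 1⟩,
  ⟨false, 736926266842853878591076371897796680, 941819318527042530933807325452043555, 375232324173466470503949906391717578, 1⟩]⟩

def to5_7 : Crt := ⟨348418929701433070311615869374606574, 10, 2, 5, [⟨true, 928436968753680950268993161763434920, 861337189281347629318434220550801704, 885515704721051605424675244225110028, 1⟩,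
  ⟨true, 968584552477348957494997225170280449, 968584552477348957494997225170280449, 646103970102907507767452137337136716, 1⟩,
  ⟨false, 843965607218415168069337593325658177, 588463025314680072204037888285967368, 375232324173466470503949906391717578, 3⟩]⟩

/-- the certificates -/
def To5 : List Crt := [to5_0, to5_1, to5_2, to5_3, to5_4, to5_5, to5_6, to5_7]

/-- the elements commuting with the table -/
def Zo5 : List ℕ := [502537276894346481823963675318631031,
  51943990146942987665022486310332587,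
  178587115590466581150908244036929269,
  17382071168004150459206516160011635,
  750347930588619118612211690443856549,
  148353682232421798071528951840628278,
  545320796568577177605971794580393425,
  83409258012675160947957276646020423,
  375232324173466470503949906391717578,
  348418929701433070311615869374606574]

def oo5 : Odd where
  p := 5
  c := 217250792169612440626855975259813252
  wd := [(6, 2), (6, 4), (7, 1), (7, 0), (6, 3), (5, 3), (3, 0), (4, 0), (7, 4), (7, 3), (4, 2), (5, 1), (6, 0), (7, 2), (4, 3), (0, 0), (2, 0), (4, 1), (6, 1), (5, 4), (1, 0), (5, 0), (4, 4), (5, 2)]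
  sts := [(15, [0, 1, 2, 3, 4, 6, 8, 9, 12, 13, 16, 18], []),
    (20, [0, 1, 2, 3, 4, 6, 8, 9, 12, 13, 16, 18], []),
    (16, [5, 7, 10, 11, 14, 15, 17, 19, 20, 21, 22, 23], []),
    (6, [5, 7, 10, 11, 14, 15, 17, 19, 20, 21, 22, 23], []),
    (7, [0, 1, 2, 3, 4, 6, 8, 9, 12, 13, 16, 18], [[(3, 0), (4, 0), (4, 2), (4, 3), (0, 0), (2, 0), (4, 1), (4, 4)]]),
    (21, [0, 1, 2, 3, 4, 6, 8, 9, 12, 13, 16, 18], []),
    (12, [5, 7, 10, 11, 14, 15, 17, 19, 20, 21, 22, 23], [[(6, 2), (6, 3), (5, 3), (3, 0), (4, 0), (6, 0), (5, 4), (1, 0)]]),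
    (3, [5, 7, 10, 11, 14, 15, 17, 19, 20, 21, 22, 23], [[(5, 3), (7, 4), (7, 3), (5, 1), (7, 2), (2, 0), (4, 1), (1, 0)]])]

/-- the certificates -/
def To11 : List Crt := []

/-- the elements commuting with the table -/
def Zo11 : List ℕ := []

def oo11 : Odd where
  p := 11
  c := 850941728626800163511285508611310608
  wd := [(1, 8), (1, 7), (1, 6), (1, 5), (2, 0), (3, 0), (1, 2), (0, 4), (1, 3), (1, 4), (0, 7), (0, 0), (1, 10), (1, 0), (0, 10), (0, 9), (1, 9), (0, 3), (1, 1), (0, 1), (0, 6), (0, 2), (0, 8), (0, 5)]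
  sts := [(11, [0, 1, 2, 3, 4, 6, 8, 9, 12, 13, 16, 18], []),
    (13, [5, 7, 10, 11, 14, 15, 17, 19, 20, 21, 22, 23], [[(1, 8), (1, 7), (1, 2), (1, 4), (1, 0), (1, 9), (0, 1), (0, 6)]]),
    (4, [5, 7, 10, 11, 14, 15, 17, 19, 20, 21, 22, 23], []),
    (5, [0, 1, 2, 3, 4, 6, 8, 9, 12, 13, 16, 18], [])]

/-- the certificates -/
def Tout : List Crt := To3A ++ To3B ++ To5 ++ To11

/-- the classes -/
def Oout : List Odd := [oo3A, oo3B, oo5, oo11]

end Cfsg.Agent.H916.RG.D12
end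
end

-- part: H916/RG/R23
section
set_option linter.all false

/-!
# S3509: `M23` (helper916)
-/

set_option autoImplicit false

namespace Cfsg.Agent.H916.RG.R23

open Cfsg Cfsg.Agent.H106.RC Cfsg.Agent.H334.Ore Cfsg.Agent.H334.Ore.Mat Cfsg.Agent.H916.RG.Eng

/-- the class of the record `r4` -/
def t4 : Crt where
  c := 974960402297316522504383265668385292
  m := 6
  p := 2
  q := 3
  st := [⟨true, 959693016710533276699543671463680609, 961317809757655154764020151989510155, 961980254992297859428797214888085507, 4⟩]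

/-- the class of the record `r10` -/
def t10 : Crt where
  c := 976382975643422735591640723023248646
  m := 14
  p := 2
  q := 7
  st := [⟨true, 980629883571778949638038858019915009, 975428876041093875496459293711142915, 962346203540214891117935029206059432, 3⟩]

/-- the class of the record `r11` -/
def t11 : Crt where
  c := 979374823669607264849363846196199668
  m := 14
  p := 2
  q := 7
  st := [⟨true, 960940459519921391934688648140723696, 972884294601927381072313408047719540, 977817549846798619589878778031099568, 4⟩]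

/-- the class of the record `r12` -/
def t12 : Crt where
  c := 979155369683378504585279639241629221
  m := 15
  p := 3
  q := 5
  st := [⟨true, 961399254497195128962143353532025517, 965835040340589999461681672153827887, 966600703777307883517192704588155561, 1⟩,
    ⟨true, 979463412488105056610047621658778948, 959992540664457725574318969590298955, 966482828380989886133818843859716140, 1⟩,
    ⟨false, 961039576037286753882557168803663884, 961064959370338599263268340484314401, 973135676867168992218241272710044720, 4⟩]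

/-- the class of the record `r13` -/
def t13 : Crt where
  c := 972833497517399943230256495216677110
  m := 15
  p := 3
  q := 5
  st := [⟨true, 972891810310360709750752069976955104, 977921775743752568200400512460370496, 974987296708211694448709933246879781, 1⟩,
    ⟨true, 961105690907817790933691695784895535, 980706659307738394367514237150089258, 980454396710343851416830293330368560, 1⟩,
    ⟨false, 980498631957997905975396556653745862, 956776646768527476687410482883373667, 961047358145984254614781418630285552, 2⟩]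

/-- the certificates -/
def T : List Crt := [t4, t10, t11, t12, t13]

theorem hD : (M23Data.D.all fun r => chk M23Data.F T r.c) = true := by decide +kernel

/-- **the row `M23`** -/
theorem rc_m23 {S : Type} [Group S] (hs : IsSimpleGroup S) (hc : ¬ IsMulCommutative S) (h : Spor.IsoM23 S) : RC S := by
  obtain ⟨e⟩ := h
  refine RC.congr e.symm (rc_of_inner S2063.result fun g => ?_)
  exact rce_of_data M23.inc23_injective (simple_cgr e hs) (nc_cgr e hc) M23.hmem M23Data.D T hD M23.cov g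

end Cfsg.Agent.H916.RG.R23
end

-- part: H327/RG/TwSix
section
prune_inst 0x7030774525e21200001c0010d20038e3bb000592002b880100a40b400e81ef0025038f21beb0110a8836aac46039006813180170421800000aa40000011c0581102816061040ad1932000800800c410000300000000000000000000000000000210000000
set_option linter.all false
open scoped Cfsg.Agent.FastGrp

/-!
# S3509, field automorphisms of `²E₆(q)`

* `fin_pair` : the end (`Lv.fin`) for a pair of roots of type `A₂` whose root elements are mapped by `Ψ` to root elements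
  with the parameter raised to the power `r ^ m`;
* `lv_te6`, `field_te6`.
-/

set_option autoImplicit false
set_option linter.unusedSectionVars false

namespace Cfsg.Agent.H327.RG

open CoxeterSystem Subgroup Cfsg Cfsg.Lie Cfsg.Lie.ChevalleyDatum
open Cfsg.Agent.ChevalleyStructure Cfsg.Agent.ChevalleyStructure.Elts Cfsg.Agent.ChevalleyStructure.CoxeterGeom
  Cfsg.Agent.ChevalleyStructure.CoxeterGeomTypes Cfsg.Agent.ChevalleyStructure.NPerm
open Cfsg.Agent.Nodes.RGDChev Cfsg.Agent.KFacts.RgdChevCoord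
open Cfsg.Agent.BpExc.TowChev Cfsg.Agent.BpExc.FamUntw Cfsg.Agent.BpExc.LangFr Cfsg.Agent.BpExc.FamField
  Cfsg.Agent.BpExc.RowsUntw
open Cfsg.Agent.ChevalleyStructure.GraphSymm (symmE6)
open Cfsg.Agent.ChevalleyStructure.TwE6Basic (hE6 single_mem pair_mem twisted_le_iff exists_frob)
open Cfsg.Agent.H522.FamTw.Frame (sig6 sig6_pow sig6_sq isFrob_sig6 fr_sig6)
open Cfsg.Agent.BpExc.FamTw.Six (em em_injective coe_em)
open Cfsg.Agent.GpExc.Field (glMap emb coe_emb glMap_xG emb_injective coe_glMap glMap_injective)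
open Cfsg.Agent.H469.Exc Cfsg.Agent.H469.Exc.SigFr
open Cfsg.Agent.H28.GenF
open Cfsg.Agent.H46.Gen
open Cfsg.Agent.H106.RC
open scoped commutatorElement

section pair

variable {D : ChevalleyDatum} {l : ℕ} {M : CoxeterMatrix (Fin l)} (hp : IsType D l M) {k : Type} [Field k]

include hp in
theorem NN_ne {a₀ b₀ : Fin l → ℤ} (hP : Pr D l a₀ b₀) : (NN D l a₀ b₀ : k) ≠ 0 := by
  intro h
  have h1 := congrArg (Int.cast : ℤ → k) (NN_sq hp hP)
  rw [Int.cast_mul, h, zero_mul, Int.cast_one] at h1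
  exact zero_ne_one h1

theorem pr_comm1 {a₀ b₀ : Fin l → ℤ} (hP : Pr D l a₀ b₀) (t u : k) :
    Commute (xc hp (a₀ + b₀) t) (xc hp a₀ u) :=
  (xc_commute hp hP.ra hP.rs ((hP.next hp).ne hp) (Or.inr fun m n hm hn => hP.no_comb hp m n hm hn) u t).symm

theorem pr_comm2 {a₀ b₀ : Fin l → ℤ} (hP : Pr D l a₀ b₀) (t u : k) :
    Commute (xc hp (a₀ + b₀) t) (xc hp b₀ u) := by
  rw [add_comm a₀ b₀]
  exact pr_comm1 hp (hP.symm hp) t u

theorem xc_ne_one {v : Fin l → ℤ} (hv : Rt D l v) {t : k} (ht : t ≠ 0) : xc hp v t ≠ 1 := by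
  obtain ⟨s, hs, rfl⟩ := hv
  intro h
  rw [← xc_zero hp (vec D l s)] at h
  exact ht (xc_inj hp hs h)

/-- the end for a pair of type `A₂` -/
theorem fin_pair {K₀ : Type*} [Group K₀] {ι : K₀ →* ↥(D.group k)} (hι : Function.Injective ι)
    {a₀ b₀ : Fin l → ℤ} (hP : Pr D l a₀ b₀) {L : Subgroup K₀} {Ψ : MulAut ↥(D.group k)}
    {t t' : k} (htt : t' ≠ t) (hΨ : Ψ (xc hp a₀ t) = xc hp a₀ t')
    (ha : xc hp a₀ t ∈ ι.range) (hb : xc hp b₀ (t' - t)⁻¹ ∈ ι.range)
    (hLa : ∃ a ∈ L, ι a = xc hp a₀ 1) (hLb : ∃ a ∈ L, ι a = xc hp b₀ 1)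
    {β : MulAut K₀} (hβ : ∀ a, ι (β a) = Ψ (ι a)) :
    ∃ u ∈ ⁅L, L⁆, u ≠ 1 ∧ ∃ a b : K₀, a * u = u * a ∧ b * u = u * b ∧ ⁅β a * a⁻¹, b⁆ = u := by
  obtain ⟨a, ha⟩ := ha
  obtain ⟨b, hb⟩ := hb
  obtain ⟨a1, ha1, ea⟩ := hLa
  obtain ⟨b1, hb1, eb⟩ := hLb
  have hu : ι ⁅a1, b1⁆ = xc hp (a₀ + b₀) (NN D l a₀ b₀ : k) := by
    rw [map_commutatorElement, ea, eb, xc_br hp hP, mul_one, mul_one]
  refine ⟨⁅a1, b1⁆, commutator_mem_commutator ha1 hb1, ?_, a, b, ?_, ?_, ?_⟩
  · intro h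
    rw [h, map_one] at hu
    exact xc_ne_one hp hP.rs (NN_ne hp hP) hu.symm
  · apply hι
    rw [map_mul, map_mul, hu, ha]
    exact (pr_comm1 hp hP _ _).symm
  · apply hι
    rw [map_mul, map_mul, hu, hb]
    exact (pr_comm2 hp hP _ _).symm
  · apply hι
    rw [hu, map_commutatorElement, map_mul, map_inv, hβ, ha, hb, hΨ, ← xc_neg hp, ← xc_add hp, ← sub_eq_add_neg,
      xc_br hp hP, mul_inv_cancel₀ (sub_ne_zero.2 htt), mul_one]

end pair

section Six

variable {r : ℕ} [Fact r.Prime] {K : Type} [Field K] [Fintype K] [CharP K r] {q : ℕ} (hq : IsPrimePow q)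
  (hK : Fintype.card K = q ^ 2) (f : K →+* KK r) {n : ℕ} (hn : q = r ^ n)

theorem pr6 : Pr chevE6 6 (vec chevE6 6 46) (vec chevE6 6 39) where
  ra := ⟨46, by decide +kernel, rfl⟩
  rb := ⟨39, by decide +kernel, rfl⟩
  rs := by unfold Rt; decide +kernel
  nd := by unfold Rt; decide +kernel
  n1 := by unfold Rt; decide +kernel
  n2 := by unfold Rt; decide +kernel

include hq hK hn in
/-- the frame of `²E₆(q)` -/
theorem fr_te6 : Fr (em q f) (sig6 (KK r) r n) := by
  obtain ⟨φ, hφ, hqq⟩ := exists_frob hq hK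
  have hφk : ∀ t : KK r, iterateFrobenius (KK r) r n t = t ^ q := fun t => by
    rw [iterateFrobenius_def, hn]
  refine ⟨em_injective f, fun z hz => H522.FamTw.Six.eq_one_of_comm hφ hqq f z hz,
    fun a => H522.FamTw.Six.sig6_em f r hφ hqq hn a, fun y hy a => ?_⟩
  obtain ⟨b, hb⟩ := H27.Exc.conj_mem (coe_em f)
    (BpExc.EmbInst.twE6_normalizer hq hK hφk y.2 (by rw [← H720.TwFr.coe_sig6, hy])) _ ⟨a, rfl⟩
  exact ⟨b, hb⟩

/-- `sig6` on the root elements `±α₂`, `±α₄` -/
theorem sig6_x {s : ℕ} (hs : s ∈ [46, 39]) (m : ℕ) (t : KK r) :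
    sig6 (KK r) r m (xc e6T (vec chevE6 6 s) t) = xc e6T (vec chevE6 6 s) (t ^ r ^ m) := by
  have key : ∀ s : Fin 72, s.val ∈ [46, 39] → (symmE6.σ ⟨s.val, s.2⟩).val = s.val ∧ symmE6.ε ⟨s.val, s.2⟩ = 1 := by
    decide +kernel
  have hs72 : s < 72 := by
    simp only [List.mem_cons, List.not_mem_nil, or_false] at hs
    omega
  obtain ⟨h1, h2⟩ := key ⟨s, hs72⟩ hs
  rw [MulAut.mul_apply, H378.TorChar.phi_xc e6T r hs72]
  have h3 : xc e6T (vec chevE6 6 s) (t ^ r ^ m) = BpExc.FamTw.Gr.xg H522.FamTw.Frame.inListE6 s (t ^ r ^ m) :=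
    Subtype.ext (coe_xc e6T hs72 _)
  rw [h3, BpExc.FamTw.Gr.gr_xg H522.FamTw.Frame.inListE6 symmE6 ⟨s, hs72⟩, h1, h2, Int.cast_one, one_mul]

/-- single root elements in the range -/
theorem mem_range6 {s : ℕ} (hs : s ∈ [46, 39]) {t : K} (ht : t ^ q = t) :
    ∃ a, em q f a = xc e6T (vec chevE6 6 s) (f t) := by
  have hs72 : s < 72 := by
    simp only [List.mem_cons, List.not_mem_nil, or_false] at hs
    omega
  have hs' : s ∈ [46, 25, 39, 32] := by
    simp only [List.mem_cons, List.not_mem_nil, or_false] at hs ⊢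
    omega
  refine ⟨⟨xG hE6 s t, single_mem ht hs'⟩, Subtype.ext ?_⟩
  rw [coe_em, coe_xc e6T hs72]
  exact glMap_xG hE6 f s t

/-- the Frobenius on the fixed field -/
theorem dvd6 {q : ℕ} (hK : Fintype.card K = q ^ 2) {n : ℕ} (hn0 : 0 < n) (hn : q = r ^ n) {m : ℕ}
    (h : ∀ t : K, t ^ q = t → t ^ r ^ m = t) : n ∣ m := by
  have hr : r.Prime := Fact.out
  have hn' : Nat.card K = r ^ (n * 2) := by rw [Nat.card_eq_fintype_card, hK, hn, ← pow_mul]
  have : Fact (Nat.Prime 2) := ⟨Nat.prime_two⟩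
  obtain ⟨F₁, hF₁, -⟩ := H192.Fc.exists_subfield (p := 2) r (F := K) (m := n) (n := n * 2) hn0 rfl hn'
  have hchar : CharP ↥F₁ r := (RingHom.charP_iff F₁.subtype F₁.subtype.injective r).2 inferInstance
  rw [← forall_pow_iff (F := ↥F₁) r hF₁ m]
  intro t
  have h2 := h (t : K) (by
    have h3 := (forall_pow_iff (F := ↥F₁) r hF₁ n).2 dvd_rfl t
    rw [hn]
    exact congrArg Subtype.val h3)
  exact Subtype.ext h2

/-- a parameter moved by the Frobenius -/
theorem exists_moved6 {q : ℕ} (hK : Fintype.card K = q ^ 2) {n : ℕ} (hn : q = r ^ n) {m : ℕ} (hm : 0 < m)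
    (hmn : m < n) : ∃ t : K, t ^ q = t ∧ t ^ r ^ m ≠ t := by
  by_contra hcon
  push Not at hcon
  exact absurd (Nat.le_of_dvd hm (dvd6 hK (by omega) hn hcon)) (by omega)

include hq hK hn in
/-- **The level of a field automorphism of `²E₆(q)`.** -/
theorem lv_te6 {p : ℕ} (hpp : p.Prime) (hp2 : p ≠ 2) {m : ℕ} (hm : 0 < m) (hmn : m * p = n) {K₀ : Subfield K}
    (hK₀ : Nat.card ↥K₀ = (r ^ m) ^ 2) (hf : ∀ t : ↥K₀, K₀.subtype (t ^ r ^ m) = K₀.subtype t ^ q)
    (hRC : RC ↥(twistedE6 ↥K₀ (r ^ m))) :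
    Lv (em q f) (sig6 (KK r) r n) p (sig6 (KK r) r m) (res6 K₀.subtype hf).range := by
  have hodd : p % 2 = 1 := hpp.eq_two_or_odd.resolve_left hp2
  have hchar : CharP ↥K₀ r := (RingHom.charP_iff K₀.subtype K₀.subtype.injective r).2 inferInstance
  have hfin : Fintype ↥K₀ := Fintype.ofFinite _
  have hr : r.Prime := Fact.out
  have hq₀ : IsPrimePow (r ^ m) := (isPrimePow_nat_iff _).2 ⟨r, m, hr, hm, rfl⟩
  have hK₀' : Fintype.card ↥K₀ = (r ^ m) ^ 2 := by rw [← Nat.card_eq_fintype_card, hK₀]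
  obtain ⟨f₀, hf₀⟩ : ∃ f₀ : ↥K₀ →+* KK r, f₀ = f.comp K₀.subtype := ⟨_, rfl⟩
  obtain ⟨φ₀, hφ₀, hqq₀⟩ := exists_frob hq₀ hK₀'
  have hk := locFin r
  have hem : ∀ b, em q f (res6 K₀.subtype hf b) = em (r ^ m) f₀ b := fun b => by rw [em_res6, hf₀]
  have hfixm : ∀ b, sig6 (KK r) r m (em (r ^ m) f₀ b) = em (r ^ m) f₀ b := fun b =>
    H522.FamTw.Six.sig6_em f₀ r hφ₀ hqq₀ rfl b
  obtain ⟨hs0, hs0'⟩ := Cfsg.Agent.S1070.result hq₀ hK₀'
  let eL : ↥(twistedE6 ↥K₀ (r ^ m)) ≃* ↥(res6 K₀.subtype hf).range := MonoidHom.ofInjective (res6_injective K₀.subtype hf)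
  have hs1 : IsSimpleGroup ↥(res6 K₀.subtype hf).range := isSimple_cgr0 eL hs0
  have hs2 : ¬ IsMulCommutative ↥(res6 K₀.subtype hf).range := fun hc => hs0' ⟨⟨fun a b => by
    apply eL.injective
    rw [map_mul, map_mul]
    exact hc.is_comm.comm _ _⟩⟩
  have hder : ⁅(res6 K₀.subtype hf).range, (res6 K₀.subtype hf).range⁆ = (res6 K₀.subtype hf).range :=
    perfect_of_simple hs1 hs2
  refine
    { pow := by rw [sig6_pow r hodd, hmn]
      lang := fun h => ?_
      fixL := ?_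
      charL := ?_
      centL := ?_
      simple := by rw [hder]; exact hs1
      ncomm := by rw [hder]; exact hs2
      rc := by rw [hder]; exact hRC.congr eL
      fin := fun β hβ => ?_ }
  · obtain ⟨z, hz⟩ := lang_all e6T CoxeterMatrix.E₆.toCoxeterSystem hm (isFrob_sig6 r m)
      (fr_sig6 hk r e6T CoxeterMatrix.E₆.toCoxeterSystem m) 1 h
    rw [map_one, one_mul] at hz
    exact ⟨z, hz⟩
  · rintro _ ⟨b, rfl⟩
    rw [hem, hfixm]
  · intro x hx
    obtain ⟨N, hN⟩ : ∃ N : Subgroup ↥(twistedE6 ↥K₀ (r ^ m)), ∀ b, b ∈ N ↔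
        x (res6 K₀.subtype hf b) ∈ (res6 K₀.subtype hf).range :=
      ⟨((res6 K₀.subtype hf).range.comap x.toMonoidHom).comap (res6 K₀.subtype hf), fun b => Iff.rfl⟩
    have h1 : N = ⊤ := r_gen6 hq₀ hK₀' N fun b hb => by
      rw [hN]
      have h2 := hx (res6 K₀.subtype hf b) (by rw [hem, hfixm])
      obtain ⟨b', hb'⟩ := mem_of_pow6 hK₀' hm rfl f₀ h2 (j := 1) (by
        rw [pow_one, ← map_pow, ← map_pow, ← map_pow, hb, map_one, map_one, map_one])
      exact ⟨b', em_injective f (by rw [hem, hb'])⟩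
    rintro _ ⟨b, rfl⟩
    rw [← hN, h1]
    exact mem_top _
  · intro y hy
    exact H522.FamTw.Six.eq_one_of_comm hφ₀ hqq₀ f₀ y fun b => by
      rw [← hem]
      exact hy _ ⟨b, rfl⟩
  · obtain ⟨t, ht, ht'⟩ := exists_moved6 hK hn hm (by
      rw [← hmn]
      calc m = m * 1 := (mul_one m).symm
        _ < m * p := Nat.mul_lt_mul_of_pos_left hpp.one_lt hm)
    have h1 : ∀ {s : ℕ}, s ∈ [46, 39] → ∃ a ∈ (res6 K₀.subtype hf).range, em q f a = xc e6T (vec chevE6 6 s) 1 := by
      intro s hs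
      obtain ⟨a, ha⟩ := mem_range6 (q := r ^ m) f₀ hs (t := (1 : ↥K₀)) (one_pow _)
      exact ⟨_, ⟨a, rfl⟩, by rw [hem, ha, map_one]⟩
    have h2 : f (t ^ r ^ m) - f t = f (t ^ r ^ m - t) := (map_sub f _ _).symm
    refine fin_pair e6T (em_injective f) pr6 (t := f t) (t' := f (t ^ r ^ m)) (fun h => ht' (f.injective h)) ?_
      (mem_range6 f (by simp) ht) ?_ (h1 (by simp)) (h1 (by simp)) hβ
    · rw [sig6_x (by simp), map_pow]
    · rw [h2, ← map_inv₀]
      refine mem_range6 f (by simp) ?_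
      have h3 : (t ^ r ^ m - t) ^ q = t ^ r ^ m - t := by
        rw [hn, sub_pow_char_pow, ← hn, ← pow_mul, mul_comm, pow_mul, ht]
      rw [inv_pow, h3]

/-- the subfield of a level, with the exponents -/
theorem exists_sub6 {q : ℕ} (hK : Fintype.card K = q ^ 2) {n : ℕ} (hn : q = r ^ n) {p : ℕ} (hpp : p.Prime)
    (hp2 : p ≠ 2) {m : ℕ} (hm : 0 < m) (hmn : m * p = n) :
    ∃ K₀ : Subfield K, Nat.card ↥K₀ = (r ^ m) ^ 2 ∧ ∀ t : ↥K₀, K₀.subtype (t ^ r ^ m) = K₀.subtype t ^ q := by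
  have : Fact p.Prime := ⟨hpp⟩
  have hodd : p % 2 = 1 := hpp.eq_two_or_odd.resolve_left hp2
  obtain ⟨F₀, hF₀, -⟩ := H192.Fc.exists_subfield (p := p) r (F := K) (m := 2 * m) (n := 2 * n) (by omega)
    (by rw [mul_assoc, hmn]) (by rw [Nat.card_eq_fintype_card, hK, hn, ← pow_mul, mul_comm])
  have hF₀' : Nat.card ↥F₀ = (r ^ m) ^ 2 := by rw [hF₀, ← pow_mul, mul_comm]
  refine ⟨F₀, hF₀', fun t => ?_⟩
  have hfin : Finite ↥F₀ := inferInstance
  rw [map_pow, hn]
  conv_rhs => rw [← hmn, pow_mul]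
  refine (pow_sub6 hodd ?_).symm
  rw [← map_pow, card_sub6 hF₀']

/-- no automorphism of field type of another prime order centralises `L` -/
theorem no_cent6 {q : ℕ} (f : K →+* KK r) {n m m' p p' : ℕ} (hpp : p.Prime) (hp2 : p ≠ 2) (hpp' : p'.Prime)
    (hp2' : p' ≠ 2) (hne : p' ≠ p) (hmn : m * p = n) (hmn' : m' * p' = n) (hn0 : 0 < n) {K₀ : Subfield K}
    (hK₀ : Nat.card ↥K₀ = (r ^ m) ^ 2) (hf : ∀ t : ↥K₀, K₀.subtype (t ^ r ^ m) = K₀.subtype t ^ q)
    (y : ↥(chevE6.group (KK r))) :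
    ¬ ∀ a ∈ (res6 K₀.subtype hf).range, y * sig6 (KK r) r m' (em q f a) * y⁻¹ = em q f a := by
  intro hall
  have hodd : p % 2 = 1 := hpp.eq_two_or_odd.resolve_left hp2
  have hr : r.Prime := Fact.out
  have hm : 0 < m := Nat.pos_of_mul_pos_right (by rw [hmn]; exact hn0)
  -- the common level
  have hpm : p' ∣ m := by
    have h1 : p' ∣ m * p := by rw [hmn, ← hmn']; exact dvd_mul_left _ _
    exact (Nat.Coprime.dvd_of_dvd_mul_right ((Nat.coprime_primes hpp' hpp).2 hne) h1)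
  obtain ⟨d, rfl⟩ := hpm
  have hd : 0 < d := Nat.pos_of_mul_pos_left hm
  have hm'd : m' = d * p := by
    have h1 : p' * m' = p' * (d * p) := by
      rw [mul_comm p' m', hmn', ← hmn]; ring
    exact Nat.eq_of_mul_eq_mul_left hpp'.pos h1
  subst hm'd
  have hchar : CharP ↥K₀ r := (RingHom.charP_iff K₀.subtype K₀.subtype.injective r).2 inferInstance
  have hfin : Fintype ↥K₀ := Fintype.ofFinite _
  have hK₀' : Fintype.card ↥K₀ = (r ^ (p' * d)) ^ 2 := by rw [← Nat.card_eq_fintype_card, hK₀]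
  obtain ⟨K₁, hK₁, hf₁⟩ := exists_sub6 (K := ↥K₀) hK₀' rfl hpp' hp2' hd (by ring)
  have hchar₁ : CharP ↥K₁ r := (RingHom.charP_iff K₁.subtype K₁.subtype.injective r).2 inferInstance
  have hfin₁ : Fintype ↥K₁ := Fintype.ofFinite _
  have hK₁' : Fintype.card ↥K₁ = (r ^ d) ^ 2 := by rw [← Nat.card_eq_fintype_card, hK₁]
  have hq₁ : IsPrimePow (r ^ d) := (isPrimePow_nat_iff _).2 ⟨r, d, hr, hd, rfl⟩
  obtain ⟨φ₁, hφ₁, hqq₁⟩ := exists_frob hq₁ hK₁'
  obtain ⟨f₁, hf₁'⟩ : ∃ f₁ : ↥K₁ →+* KK r, f₁ = (f.comp K₀.subtype).comp K₁.subtype := ⟨_, rfl⟩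
  have hy : y = 1 := by
    refine H522.FamTw.Six.eq_one_of_comm hφ₁ hqq₁ f₁ y fun b => ?_
    have h1 := hall _ ⟨res6 K₁.subtype hf₁ b, rfl⟩
    rw [em_res6, em_res6, ← hf₁'] at h1
    have h2 : sig6 (KK r) r (d * p) (em (r ^ d) f₁ b) = em (r ^ d) f₁ b := by
      rw [← sig6_pow r hodd]
      exact H28.GenF.apply_pow (H522.FamTw.Six.sig6_em f₁ r hφ₁ hqq₁ rfl b) p
    rw [h2] at h1
    exact mul_inv_eq_iff_eq_mul.1 h1
  subst hy
  have h1 : p' * d ∣ d * p := by
    refine dvd6 hK₀' hm rfl fun t ht => ?_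
    obtain ⟨a, ha⟩ := mem_range6 (q := r ^ (p' * d)) (f.comp K₀.subtype) (s := 46) (by simp) ht
    have h2 := hall _ ⟨a, rfl⟩
    rw [em_res6, ha, one_mul, inv_one, mul_one, sig6_x (by simp), ← map_pow] at h2
    exact (f.comp K₀.subtype).injective (xc_inj e6T (by decide : 46 < 72) h2)
  have h2 : p' ∣ p := by
    rw [mul_comm p' d] at h1
    exact Nat.dvd_of_mul_dvd_mul_left hd h1
  exact hne ((Nat.prime_dvd_prime_iff_eq hpp' hpp).1 h2)

/-- inner-diagonal or of field type of odd order -/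
def Ty6 (q : ℕ) (f : K →+* KK r) (n p : ℕ) (α : MulAut ↥(twistedE6 K q)) : Prop :=
  α ∈ InD (em q f) ∨ (p ≠ 2 ∧ ∃ m, 0 < m ∧ m * p = n ∧ Fl (em q f) p (sig6 (KK r) r m) α)

include hq hK hn in
/-- automorphisms of odd prime order -/
theorem ty6_of_odd {p : ℕ} (hpp : p.Prime) (hp2 : p ≠ 2) {α : MulAut ↥(twistedE6 K q)} (hα : α ^ p = 1) :
    Ty6 q f n p α := by
  rcases cases_te6 hq hK hpp hp2 f hn hα with h | ⟨h1, h2, i, y, h3, h4⟩
  · exact Or.inl h
  · exact Or.inr ⟨hp2, n / p, h2, h1, i, y, h3, h4⟩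

end Six

end Cfsg.Agent.H327.RG
end

-- part: H327/RG/TwFour
section
prune_inst 0x7030574105e2120000040010e0003ca3bb000590002b8c0145850a400e80ed0105028f20b5b0110b4162aaa44038006813180039420000000aa40000011d0581100856061240ad1d36000800008c410000300000000000000000000000000000210000000
set_option linter.all false
open scoped Cfsg.Agent.FastGrp

-- part: H327/RG/TwFourA
section
/-!
# S3509, the automorphisms of prime order of `³D₄(q)` inside `D₄(KK r)`

* `fix_range4` : the fixed points of `gr * Frob` are the image of `³D₄(q)`; `fr_te4` : the frame;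
* `Ty4`, `ty4` : every automorphism of prime order is inner-diagonal, of field type (order `p ≠ 3`) or of graph type
  (order 3);
* `fixS` : the fixed points in `K₀` of an automorphism of `Y`; `exists_equiv_fixS`;
* `exists_gf` : finite fields inside `KK r`;
* `fix4_iff`, `cent4` : the fixed points of `gr ^ j * Frob`, `j` prime to 3, and their centralizer.
-/

set_option autoImplicit false
set_option linter.unusedSectionVars false
set_option maxHeartbeats 400000

section Fam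

namespace Cfsg.Agent.H327.RG.Four

open Cfsg.Agent.BpExc Cfsg.Agent.BpExc.FamTw Cfsg.Agent.H522.FamTw

open CoxeterSystem Cfsg.Agent.ChevalleyStructure.CoxeterGeom
open Cfsg.Agent.Nodes.Reps Cfsg.Agent.Nodes.BNOf Cfsg.Agent.Nodes.RGDTwGen Cfsg.Agent.Nodes.RGDChev
open Cfsg.Lie Cfsg.Agent.ChevalleyStructure Cfsg.Agent.ChevalleyStructure.Elts Cfsg.Agent.ChevStructure.FieldMap
open Cfsg.Agent.KFacts.TwDFour.Out
open Cfsg.Agent.Nodes.RGDTwD4 Cfsg.Agent.Nodes.RGDTwNode.D4
open Cfsg.Agent.ChevalleyStructure.GraphSymm (symmD4a)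
open Cfsg.Agent.CpAut.RgdFix Cfsg.Agent.CpAut.RgdCoh Cfsg.Agent.CpAut.RgdConj Cfsg.Agent.CpAut.RgdSub
  Cfsg.Agent.CpAut.RgdTwStd Cfsg.Agent.CpAut.RgdTwD4
open Cfsg.Agent.CpAut.RgdUntw (fld fld_coe fld_mul fld_one fld_pow)
open Cfsg.Agent.BpExc.FamTw.Gr Cfsg.Agent.BpExc.FamField
open Cfsg.Agent.BpExc.TowChev (LocFin)
open Cfsg.Agent.H28.FamFour

universe u v

variable {L : Type u} [Field L] [IsAlgClosed L] {K : Type u} [Field K] [Fintype K] {q : ℕ}
  (hq : IsPrimePow q) (hK : Fintype.card K = q ^ 3) (f : K →+* L)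
  (r : ℕ) [Fact r.Prime] [CharP L r] [CharP K r]

include hq hK r in
/-- **The automorphisms of prime order `p ≠ 3` of `³D₄(q)`** (the proof of `fam`, with the explicit automorphism). -/
theorem famX {Φ : L ≃+* L} (hΦ : ∀ a, Φ a = a ^ q) {p : ℕ} (hpp : p.Prime) (hp3 : p ≠ 3)
    (x : MulAut ↥(twistedD4 K q)) (hxp : x ^ p = 1) :
    (∃ y : ↥(chevD4.group L), ∀ a, _root_.Cfsg.Agent.H28.FamFour.em q f (x a) = y * _root_.Cfsg.Agent.H28.FamFour.em q f a * y⁻¹) ∨
    ∃ (i : ℕ) (c : ↥(chevD4.group L)) (j m : ℕ),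
      i.Coprime p ∧ 0 < m ∧ q = r ^ (m * p) ∧ (j * p) % 3 = 1 ∧
      ∀ a, em q f ((x ^ i) a) =
        (MulAut.conj c * (gr hD4 symmD4a ^ j * fld chevD4 (frb L r m)) : MulAut ↥(chevD4.group L)) (em q f a) := by
  obtain ⟨φ, hφ⟩ := D4Fixed.exists_frob hq hK
  obtain ⟨cs', -⟩ : ∃ cs : CoxeterSystem CoxeterMatrix.G₂ CoxeterMatrix.G₂.Group, cs = cs :=
    ⟨CoxeterMatrix.G₂.toCoxeterSystem, rfl⟩
  have hroot : ∀ a : K, ∃ b : L, b ^ 2 = f a := fun a => IsAlgClosed.exists_pow_nat_eq (f a) two_pos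
  have hΦf : ∀ a, Φ (f a) = f (φ a) := fun a => by rw [hΦ, hφ, map_pow]
  obtain ⟨a, τ, y, S, hy, hxy⟩ := exists_lift hφ hK cs' r f hq.one_lt hroot hΦf x
  have hτp := tau_pow_eq_one hφ hK cs' r S hxp
  by_cases hτ1 : τ = 1
  · left
    subst hτ1
    exact ⟨y, fun g => by rw [hxy, st_one]⟩
  · right
    have hr : r.Prime := Fact.out
    obtain ⟨i, e, hi, he0, hcard, hfr⟩ := _root_.Cfsg.Agent.BpExc.FamField.exists_field r hpp hτp hτ1
    -- `q = r ^ a₁`
    obtain ⟨a₁, -, hqa⟩ : ∃ a₁ ≤ e * p, q = r ^ a₁ := by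
      refine (Nat.dvd_prime_pow hr).1 ?_
      rw [← hcard, Nat.card_eq_fintype_card, hK]
      exact dvd_pow_self q (by norm_num)
    have h3a : a₁ * 3 = e * p := by
      rw [Nat.card_eq_fintype_card, hK, hqa, ← pow_mul] at hcard
      exact Nat.pow_right_injective hr.two_le hcard
    have hpa : p ∣ a₁ := by
      have h1 : p ∣ a₁ * 3 := ⟨e, by rw [h3a, mul_comm]⟩
      rcases (Nat.Prime.dvd_mul hpp).1 h1 with h2 | h2
      · exact h2
      · exact absurd ((Nat.prime_dvd_prime_iff_eq hpp Nat.prime_three).1 h2) hp3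
    obtain ⟨a₀, rfl⟩ := hpa
    have hea : e = 3 * a₀ := by
      have h1 : p * (3 * a₀) = p * e := by rw [mul_comm p e, ← h3a]; ring
      exact (Nat.eq_of_mul_eq_mul_left hpp.pos h1).symm
    subst hea
    have ha0 : 0 < a₀ := by
      rcases Nat.eq_zero_or_pos a₀ with h0 | h0
      · rw [h0] at he0
        exact absurd he0 (by norm_num)
      · exact h0
    -- `j p = 1 mod 3`
    obtain ⟨j, t, hjt⟩ : ∃ j t : ℕ, j * p = 3 * t + 1 := by
      have h0 : p % 3 ≠ 0 := fun h => hp3 ((Nat.prime_dvd_prime_iff_eq Nat.prime_three hpp).1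
        (Nat.dvd_of_mod_eq_zero h)).symm
      have hdm := Nat.div_add_mod p 3
      have hmod : p % 3 = 1 ∨ p % 3 = 2 := by omega
      rcases hmod with hm | hm
      · exact ⟨1, p / 3, by omega⟩
      · exact ⟨2, 2 * (p / 3) + 1, by omega⟩
    obtain ⟨s, hs⟩ : ∃ s : ℕ, s = 2 * t + 1 := ⟨_, rfl⟩
    have hs3 : 3 * s = 1 + 2 * (j * p) := by rw [hjt, hs]; ring
    have hsp : s.Coprime p := by
      refine ((Nat.Prime.coprime_iff_not_dvd hpp).2 fun h1 => ?_).symm
      have h2 : p ∣ 1 + 2 * (j * p) := by rw [← hs3]; exact h1.mul_left 3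
      have h3 : p ∣ 2 * (j * p) := ⟨2 * j, by ring⟩
      exact hpp.one_lt.ne' (Nat.dvd_one.1 ((Nat.dvd_add_left h3).1 h2))
    have hperfL : PerfectRing L r := inferInstance
    have hperfK : PerfectRing K r := inferInstance
    obtain ⟨φ₀, hφ₀⟩ : ∃ φ₀ : MulAut ↥(chevD4.group L), φ₀ = gr hD4 symmD4a ^ j * fld chevD4 (frb L r a₀) := ⟨_, rfl⟩
    -- the action of `φ₀`
    have hψ : ∀ b : K, φ (frb K r (2 * (p * a₀)) b) = b := by
      intro b
      rw [hφ, frb_apply, hqa, ← pow_mul, ← pow_add]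
      have h1 : 2 * (p * a₀) + p * a₀ = p * a₀ * 3 := by ring
      rw [h1, pow_mul, ← hqa, ← hK]
      exact FiniteField.pow_card b
    have hgr : ∀ (n : ℕ) (g : ↥(twistedD4 K q)),
        (gr hD4 symmD4a ^ n) (_root_.Cfsg.Agent.H28.FamFour.em q f g) = em q f (st q (frb K r (2 * (p * a₀)) ^ n) g) := by
      intro n
      induction n with
      | zero => intro g; rw [pow_zero, pow_zero, st_one]; rfl
      | succ n ih =>
        intro g
        rw [pow_succ, MulAut.mul_apply, gr_em hφ hK f hΦf hψ, ih, pow_succ, st_mul]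
    have hτs : frb K r (2 * (p * a₀)) ^ j * frb K r a₀ = τ ^ (i * s) := by
      apply RingEquiv.ext
      intro b
      rw [pow_mul, pow_apply_of hfr, frb_pow, RingAut.mul_apply, frb_apply, frb_apply, ← pow_mul, ← pow_add]
      congr 2
      have h1 : 3 * a₀ * s = (3 * s) * a₀ := by ring
      rw [h1, hs3]
      ring
    have hact : ∀ g : ↥(twistedD4 K q), φ₀ (em q f g) = em q f (st q (τ ^ (i * s)) g) := by
      intro g
      rw [hφ₀, MulAut.mul_apply, fld_em f (τ := frb K r a₀) (fun b => by rw [frb_apply, frb_apply, map_pow]), hgr,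
        ← st_mul, hτs]
    obtain ⟨a', τ', y', S', hy', hxy'⟩ := exists_lift hφ hK cs' r f hq.one_lt hroot hΦf (x ^ (i * s))
    obtain ⟨b, hb⟩ := dtau_pow' hφ hK S (i * s)
    have hττ : τ' = τ ^ (i * s) := dtau_unique hφ hK cs' r S' hb
    subst hττ
    have hxy'' : ∀ g, em q f ((x ^ (i * s)) g) = y' * φ₀ (em q f g) * y'⁻¹ := fun g => by rw [hxy', hact]
    refine ⟨i * s, y', j, a₀, Nat.Coprime.mul_left hi hsp, ha0, by rw [hqa, mul_comm], by omega, fun g => ?_⟩
    rw [hxy'', MulAut.mul_apply, MulAut.conj_apply, hφ₀]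

include hq hK in
/-- **The automorphisms of order 3 of `³D₄(q)`.** -/
theorem lift3 {n : ℕ} (hn : q = r ^ n) {x : MulAut ↥(twistedD4 K q)} (hxp : x ^ 3 = 1) :
    (∃ y : ↥(chevD4.group L), ∀ a, _root_.Cfsg.Agent.H28.FamFour.em q f (x a) = y * em q f a * y⁻¹) ∨
    ∃ (i : ℕ) (y : ↥(chevD4.group L)), i.Coprime 3 ∧
      ∀ g, em q f ((x ^ i) g) = y * fld chevD4 (frb L r n) (em q f g) * y⁻¹ := by
  have hr : r.Prime := Fact.out
  obtain ⟨φ, hφ⟩ := D4Fixed.exists_frob hq hK
  obtain ⟨cs', -⟩ : ∃ cs : CoxeterSystem CoxeterMatrix.G₂ CoxeterMatrix.G₂.Group, cs = cs :=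
    ⟨CoxeterMatrix.G₂.toCoxeterSystem, rfl⟩
  have hroot : ∀ a : K, ∃ b : L, b ^ 2 = f a := fun a => IsAlgClosed.exists_pow_nat_eq (f a) two_pos
  have hΦf : ∀ a, frb L r n (f a) = f (φ a) := fun a => by rw [frb_apply, hφ, map_pow, hn]
  obtain ⟨a, τ, y, S, hy, hxy⟩ := exists_lift hφ hK cs' r f hq.one_lt hroot hΦf x
  have hτp := tau_pow_eq_one hφ hK cs' r S hxp
  by_cases hτ1 : τ = 1
  · left
    subst hτ1
    exact ⟨y, fun g => by rw [hxy, st_one]⟩
  right
  obtain ⟨i, e, hi, he0, hcard, hfr⟩ := _root_.Cfsg.Agent.BpExc.FamField.exists_field r Nat.prime_three hτp hτ1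
  have hne : n = e := by
    rw [Nat.card_eq_fintype_card, hK, hn, ← pow_mul] at hcard
    exact Nat.eq_of_mul_eq_mul_right (by norm_num) (Nat.pow_right_injective hr.two_le hcard)
  subst hne
  obtain ⟨a', τ', y', S', hy', hxy'⟩ := exists_lift hφ hK cs' r f hq.one_lt hroot hΦf (x ^ i)
  obtain ⟨b, hb⟩ := dtau_pow' hφ hK S i
  have hττ : τ' = τ ^ i := dtau_unique hφ hK cs' r S' hb
  subst hττ
  refine ⟨i, y', hi, fun g => ?_⟩
  have h1 : fld chevD4 (frb L r n) (_root_.Cfsg.Agent.H28.FamFour.em q f g) = em q f (st q (τ ^ i) g) :=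
    fld_em f (τ := τ ^ i) (fun b => by rw [frb_apply, hfr, map_pow]) g
  rw [hxy', h1]

end Cfsg.Agent.H327.RG.Four

end Fam
end

-- part: H327/RG/TwFourC
section
/-!
# S3509: the centralizer of `³D₄(q)` and of `G₂(q)` in `D₄(L)`

* `eq_one_gen` : the proof of `H28.FamFour.eq_one_of_comm` for `twistedD4 K q ≤ fix φ`;
* `eq_one_G` : `twistedD4 K 1` (the fixed points of the graph automorphism), `gr_emG`, `fld_emG`;
* `not_all_fix` : an element of `³D₄(q)` moved by the field automorphism of order 3.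
-/

set_option autoImplicit false
set_option linter.unusedSectionVars false
set_option maxHeartbeats 400000

namespace Cfsg.Agent.H327.RG.Four

open Cfsg.Agent.BpExc Cfsg.Agent.BpExc.FamTw Cfsg.Agent.H522.FamTw

open CoxeterSystem Cfsg.Agent.ChevalleyStructure.CoxeterGeom Cfsg.Agent.Tits.Roots Cfsg.Agent.Tits.Core
  Cfsg.Agent.Tits.Exchange Cfsg.Agent.Nodes.Reps Cfsg.Agent.Nodes.BNOf Cfsg.Agent.Nodes.StabComb
  Cfsg.Agent.Nodes.Bruhat Cfsg.Agent.Nodes.OppDec Cfsg.Agent.Nodes.RGDTwGen Cfsg.Agent.Nodes.RGDChev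
  Cfsg.Agent.Nodes.RGDFold Cfsg.Agent.Nodes.RGDFoldSL
open Cfsg.Lie Cfsg.Agent.ChevalleyStructure Cfsg.Agent.ChevalleyStructure.Elts Cfsg.Agent.ChevStructure.FieldMap
open Cfsg.Agent.KFacts.TwDFour.Out
open Cfsg.Agent.Nodes.RGDTwD4 Cfsg.Agent.Nodes.RGDTwNode.D4
open Cfsg.Agent.ChevalleyStructure.GraphSymm (symmD4a)
open Cfsg.Agent.CpAut.RgdTwStd Cfsg.Agent.CpAut.RgdTwD4
open Cfsg.Agent.CpAut.RgdUntw (fld fld_coe)
open Cfsg.Agent.GpExc.Field (glMap coe_glMap)
open Cfsg.Agent.BpExc.FamTw.Gr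
open Cfsg.Agent.H28.FamFour

universe u v

section Cent

variable {K : Type u} {L : Type v} [Field K] [Finite K] [Field L] {q : ℕ} {φ : K →+* K} (hφ : ∀ x, φ x = x ^ q)
  (hle : twistedD4 K q ≤ D4Fixed.fix φ) (f : K →+* L)

include hφ hle in
/-- **The centralizer of `twistedD4 K q` in `D₄(L)` is trivial.** -/
theorem eq_one_gen {z : ↥(chevD4.group L)} (hz : ∀ g : ↥(twistedD4 K q), z * _root_.Cfsg.Agent.H28.FamFour.em q f g = em q f g * z) : z = 1 := by
  obtain ⟨g0, hg0, hgm, hgl⟩ := H28.FamFour.exists_long (k := L) foldData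
    (Cfsg.Agent.Nodes.RGDTwD4.foldGrp hφ hle) f isCartan
  have hu0 : wordG hD4 [(14, (1 : K)), (18, 1), (13, 1), (12, 1)] ∈ twistedD4 K q := by
    have h1 : xG hD4 14 (1 : K) ∈ twistedD4 K q := single_mem (one_pow q) (by simp)
    have h2 : xG hD4 18 (1 : K) * (xG hD4 13 ((1 : K) ^ q) * xG hD4 12 ((1 : K) ^ (q ^ 2))) ∈ twistedD4 K q :=
      triple_mem (1 : K) (rs := (18, 13, 12)) (by simp)
    rw [one_pow, one_pow] at h2
    have h3 := mul_mem h1 h2
    rw [wordG_cons, wordG_cons, wordG_cons, wordG_cons, wordG_nil, mul_one]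
    exact h3
  have hc1 := congrArg Subtype.val (hz ⟨_, hu0⟩)
  have hc2 := congrArg Subtype.val (hz ⟨_, hg0⟩)
  rw [Subgroup.coe_mul, Subgroup.coe_mul, coe_em] at hc1 hc2
  apply Subtype.ext
  have hw : glMap chevD4 f (wordG hD4 [(14, (1 : K)), (18, 1), (13, 1), (12, 1)]) =
      wordG hD4 [(14, (1 : L)), (18, 1), (13, 1), (12, 1)] := by
    rw [Emb.glMap_wordG]
    simp only [List.map_cons, List.map_nil, map_one]
  have hmem : ∀ x ∈ [(14, (1 : L)), (18, 1), (13, 1), (12, 1)], chevD4.IsPosRoot x.1 := by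
    intro x hx
    refine pos4 _ ?_
    simp only [List.mem_cons, List.not_mem_nil, or_false] at hx
    rcases hx with rfl | rfl | rfl | rfl <;> simp
  refine Cent.eq_one_of_comm hp z.2 (u := wordG hD4 [(14, (1 : L)), (18, 1), (13, 1), (12, 1)])
    (n := glMap chevD4 f g0) ?_ ?_ ?_ (Emb.glMap_mono hD4 f hgm) hgl hc2
  · rw [wordG_cons, wordG_cons, wordG_cons, wordG_cons, wordG_nil, mul_one]
    exact mul_mem (xG_mem_posUnipotent hD4 (pos4 14 (by simp)) _) (mul_mem (xG_mem_posUnipotent hD4 (pos4 18 (by simp)) _)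
      (mul_mem (xG_mem_posUnipotent hD4 (pos4 13 (by simp)) _) (xG_mem_posUnipotent hD4 (pos4 12 (by simp)) _)))
  · intro i hi
    refine ⟨_, Cent.co_word hi _ hmem, ?_⟩
    have h1 := simple_cases i hi
    simp only [List.mem_cons, List.not_mem_nil, or_false] at h1
    rcases h1 with h1 | h1 | h1 | h1 <;> simp [h1]
  · rw [← hw]
    exact hc1

end Cent

section G

variable {K : Type u} {L : Type v} [Field K] [Finite K] [Field L]

theorem leG (K : Type u) [Field K] : twistedD4 K 1 ≤ D4Fixed.fix (RingHom.id K) :=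
  D4Fixed.twisted_induction (fun x => by rw [pow_one]; rfl) (fun t ht => D4Fixed.fix_14 _ ht)
    (fun t ht => D4Fixed.fix_9 _ ht) (fun t => D4Fixed.fix_X _ rfl) (fun t => D4Fixed.fix_Y _ rfl)

/-- **The centralizer of `G₂(K)` in `D₄(L)` is trivial.** -/
theorem eq_one_G (f : K →+* L) {z : ↥(chevD4.group L)} (hz : ∀ g : ↥(twistedD4 K 1), z * _root_.Cfsg.Agent.H28.FamFour.em 1 f g = em 1 f g * z) :
    z = 1 :=
  eq_one_gen (φ := RingHom.id K) (fun x => by rw [pow_one]; rfl) (leG K) f hz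

/-- `G₂(K)` is fixed by the graph automorphism -/
theorem gr_emG (f : K →+* L) (g : ↥(twistedD4 K 1)) : gr hD4 symmD4a (_root_.Cfsg.Agent.H28.FamFour.em 1 f g) = em 1 f g := by
  have h1 := sig_glMap (f := f) (φ := RingHom.id K) (Φ := (1 : L ≃+* L)) symmD4a (fun a => rfl)
    (leG K g.2)
  have h2 : fld chevD4 (1 : L ≃+* L) (_root_.Cfsg.Agent.H28.FamFour.em 1 f g) = em 1 f g := by
    rw [CpAut.RgdUntw.fld_one]
    rfl
  refine Subtype.ext ?_
  rw [coe_gr]
  exact h1

end G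

/-- an element of `³D₄(q)` moved by a field automorphism -/
theorem eq_of_triple {L : Type v} [Field L] {t t' u u' w w' : L}
    (h : wordG hD4 [(18, t), (13, u), (12, w)] = wordG hD4 [(18, t'), (13, u'), (12, w')]) : t = t' := by
  have hp0 : ∀ (t u w : L), ∀ x ∈ [(18, t), (13, u), (12, w)], chevD4.IsPosRoot x.1 := by
    intro t u w x hx
    refine pos4 _ ?_
    simp only [List.mem_cons, List.not_mem_nil, or_false] at hx
    rcases hx with rfl | rfl | rfl <;> simp
  have hs : chevD4.simple 0 = 18 := by decide +kernel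
  have h1 := Cent.co_word (hD := hD4) (i := 0) (by decide +kernel) _ (hp0 t u w)
  have h2 := Cent.co_word (hD := hD4) (i := 0) (by decide +kernel) _ (hp0 t' u' w')
  rw [h] at h1
  have h3 := h1.unique (by decide +kernel) h2
  rw [hs] at h3
  simpa using h3

end Cfsg.Agent.H327.RG.Four
end

-- part: H327/RG/TwFour
section
/-!
# S3509, field automorphisms of `³D₄(q)`

* `fixS` : the fixed points in `K₀` of an automorphism of `Y`; `exists_equiv_fixS`;
* `exists_gf` : finite fields inside `KK r`;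
* `fix_range4` : the fixed points of `gr * Frob` are the image of `³D₄(q)`; `fr_te4` : the frame;
* `Ty4`, `ty4` : every automorphism of prime order is inner-diagonal, of field type (order `p ≠ 3`) or of graph type
  (order 3);
* `cent4` : the centralizer of the fixed points of `gr ^ j * Frob`, `j` prime to 3;
* `lv_te4`, `field_te4`.
-/

set_option autoImplicit false
set_option linter.unusedSectionVars false
set_option maxHeartbeats 400000

namespace Cfsg.Agent.H327.RG

open CoxeterSystem Subgroup Cfsg Cfsg.Lie Cfsg.Lie.ChevalleyDatum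
open Cfsg.Agent.ChevalleyStructure Cfsg.Agent.ChevalleyStructure.Elts Cfsg.Agent.ChevalleyStructure.CoxeterGeom
  Cfsg.Agent.ChevalleyStructure.CoxeterGeomTypes Cfsg.Agent.ChevalleyStructure.NPerm
open Cfsg.Agent.Nodes.RGDChev Cfsg.Agent.KFacts.RgdChevCoord
open Cfsg.Agent.BpExc.TowChev Cfsg.Agent.BpExc.FamUntw Cfsg.Agent.BpExc.LangFr Cfsg.Agent.BpExc.FamField
  Cfsg.Agent.BpExc.RowsUntw
open Cfsg.Agent.ChevalleyStructure.GraphSymm (symmD4a)
open Cfsg.Agent.H522.FamTw.Frame (sig4 sig4_pow sig4_congr isFrob_sig4 fr_sig4)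
open Cfsg.Agent.H28.FamFour (em em_injective coe_em sig_em)
open Cfsg.Agent.BpExc.FamTw.Gr
open Cfsg.Agent.CpAut.RgdTwD4 (symS)
open Cfsg.Agent.GpExc.Field (glMap emb coe_emb glMap_xG emb_injective coe_glMap glMap_injective)
open Cfsg.Agent.H469.Exc Cfsg.Agent.H469.Exc.SigFr
open Cfsg.Agent.H28.GenF
open Cfsg.Agent.H46.Gen
open Cfsg.Agent.H106.RC
open scoped commutatorElement

/-! ### fixed points -/

section fix

variable {Y K₀ : Type*} [Group Y] [Group K₀]

/-- the fixed points in `K₀` of an automorphism of `Y` -/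
def fixS (ι : K₀ →* Y) (Ψ : MulAut Y) : Subgroup K₀ := MonoidHom.eqLocus (Ψ.toMonoidHom.comp ι) ι

theorem mem_fixS {ι : K₀ →* Y} {Ψ : MulAut Y} {a : K₀} : a ∈ fixS ι Ψ ↔ Ψ (ι a) = ι a := Iff.rfl

theorem exists_equiv_fixS {K₁ : Type*} [Group K₁] {ι : K₀ →* Y} (hι : Function.Injective ι) {Ψ : MulAut Y}
    (θ : K₁ →* Y) (hθ : Function.Injective θ) (h : ∀ y, Ψ y = y ↔ y ∈ θ.range) (h' : ∀ y, Ψ y = y → y ∈ ι.range) :
    ∃ e : K₁ ≃* ↥(fixS ι Ψ), ∀ b, ι (e b : K₀) = θ b := by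
  have h1 : ∀ b, ∃ a, ι a = θ b := fun b => h' _ ((h _).2 ⟨b, rfl⟩)
  choose g hg using h1
  have hmem : ∀ b, g b ∈ fixS ι Ψ := fun b => by
    rw [mem_fixS, hg]
    exact (h _).2 ⟨b, rfl⟩
  let φ : K₁ →* ↥(fixS ι Ψ) :=
    { toFun := fun b => ⟨g b, hmem b⟩
      map_one' := Subtype.ext (hι (by
        show ι (g 1) = ι 1
        rw [hg, map_one, map_one]))
      map_mul' := fun b c => Subtype.ext (hι (by
        show ι (g (b * c)) = ι (g b * g c)
        rw [map_mul, hg, hg, hg, map_mul])) }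
  have hφ : ∀ b, ι (φ b : K₀) = θ b := hg
  refine ⟨MulEquiv.ofBijective φ ⟨fun b c hbc => hθ ?_, fun a => ?_⟩, hg⟩
  · rw [← hφ, ← hφ, hbc]
  · obtain ⟨b, hb⟩ := (h _).1 (mem_fixS.1 a.2)
    exact ⟨b, Subtype.ext (hι (by rw [hφ, hb]))⟩

end fix

/-- finite fields inside `KK r` -/
theorem exists_gf {r : ℕ} [Fact r.Prime] {n : ℕ} (hn : n ≠ 0) : ∃ (K₁ : Type) (_ : Field K₁) (_ : Fintype K₁)
    (_ : CharP K₁ r) (_ : K₁ →+* KK r), Fintype.card K₁ = r ^ n := by
  have h1 : Finite (GaloisField r n) := inferInstance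
  have h2 : Fintype (GaloisField r n) := Fintype.ofFinite _
  have h3 : Algebra.IsAlgebraic (ZMod r) (GaloisField r n) := Algebra.IsAlgebraic.of_finite _ _
  refine ⟨GaloisField r n, inferInstance, h2, inferInstance,
    (IsAlgClosed.lift : GaloisField r n →ₐ[ZMod r] AlgebraicClosure (ZMod r)).toRingHom, ?_⟩
  rw [← Nat.card_eq_fintype_card]
  exact GaloisField.card r n hn

section Four

variable {r : ℕ} [Fact r.Prime]

/-- the embedding of `³D₄(q)` is fixed -/
theorem sig4_em {K : Type} [Field K] [Fintype K] [CharP K r] {q : ℕ} (hq : IsPrimePow q)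
    (hK : Fintype.card K = q ^ 3) (f : K →+* KK r) {n : ℕ} (hn : q = r ^ n) (a : ↥(twistedD4 K q)) :
    sig4 (KK r) r 1 n (_root_.Cfsg.Agent.H28.FamFour.em q f a) = em q f a := by
  obtain ⟨φ, hφ⟩ := D4Fixed.exists_frob hq hK
  have h1 := sig_em hφ hK f (Φ := frb (KK r) r n) (fun a => by rw [frb_apply, hφ, map_pow, hn]) a
  rw [MulAut.mul_apply, pow_one]
  exact h1

/-- **The fixed points of `gr * Frob` are the image of `³D₄(q)`.** -/
theorem fix_range4 {K : Type} [Field K] [Fintype K] [CharP K r] {q : ℕ}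
    (hK : Fintype.card K = q ^ 3) (f : K →+* KK r) {n : ℕ} (hn0 : 0 < n) (hn : q = r ^ n)
    {y : ↥(chevD4.group (KK r))} (hy : sig4 (KK r) r 1 n y = y) : y ∈ (_root_.Cfsg.Agent.H28.FamFour.em q f).range := by
  have hrp : r.Prime := Fact.out
  have hq : IsPrimePow q := (isPrimePow_nat_iff _).2 ⟨r, n, hrp, hn0, hn.symm⟩
  have h1 : H720.TwFr.sig4 (KK r) r n y = y := by
    rw [H720.TwFr.sig4, MulAut.mul_apply]
    rw [MulAut.mul_apply, pow_one] at hy
    exact hy
  obtain ⟨a, ha⟩ := H720.TwFr.desc4 f r (H720.TwFr.tw4_le hq hK) (locFin r) hn0 hn hK h1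
  exact ⟨a, ha⟩

/-- the centralizer of `³D₄(q)` -/
theorem eq_one4 {K : Type} [Field K] [Fintype K] [CharP K r] {q : ℕ} (hq : IsPrimePow q)
    (hK : Fintype.card K = q ^ 3) (f : K →+* KK r) {z : ↥(chevD4.group (KK r))}
    (hz : ∀ a : ↥(twistedD4 K q), z * _root_.Cfsg.Agent.H28.FamFour.em q f a = em q f a * z) : z = 1 := by
  obtain ⟨φ, hφ⟩ := D4Fixed.exists_frob hq hK
  exact H28.FamFour.eq_one_of_comm hφ hK f hz

/-- the frame of `³D₄(q)` -/
theorem fr_te4 {K : Type} [Field K] [Fintype K] [CharP K r] {q : ℕ} (hq : IsPrimePow q)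
    (hK : Fintype.card K = q ^ 3) (f : K →+* KK r) {n : ℕ} (hn0 : 0 < n) (hn : q = r ^ n) :
    Fr (_root_.Cfsg.Agent.H28.FamFour.em q f) (sig4 (KK r) r 1 n) where
  inj := em_injective f
  cent z hz := eq_one4 hq hK f hz
  fixι a := sig4_em hq hK f hn a
  norm y hy a := by
    obtain ⟨b, rfl⟩ := fix_range4 hK f hn0 hn hy
    exact ⟨b * a * b⁻¹, by rw [map_mul, map_mul, map_inv]⟩

/-- inner-diagonal, of field type, or of graph type (order 3) -/
def Ty4 {K : Type} [Field K] (q : ℕ) (f : K →+* KK r) (n p : ℕ) (α : MulAut ↥(twistedD4 K q)) : Prop :=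
  α ∈ InD (_root_.Cfsg.Agent.H28.FamFour.em q f) ∨
  (p ≠ 3 ∧ ∃ m j, 0 < m ∧ m * p = n ∧ (j * p) % 3 = 1 ∧ Fl (em q f) p (sig4 (KK r) r j m) α) ∨
  (p = 3 ∧ Fl (em q f) p (phi chevD4 (KK r) r n) α)

/-- **The automorphisms of prime order.** -/
theorem ty4 {K : Type} [Field K] [Fintype K] [CharP K r] {q : ℕ} (hq : IsPrimePow q)
    (hK : Fintype.card K = q ^ 3) (f : K →+* KK r) {n : ℕ} (hn : q = r ^ n) {p : ℕ} (hpp : p.Prime)
    {α : MulAut ↥(twistedD4 K q)} (hα : α ^ p = 1) : Ty4 q f n p α := by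
  have hr : r.Prime := Fact.out
  by_cases hp3 : p = 3
  · subst hp3
    rcases Four.lift3 (L := KK r) hq hK f r hn hα with ⟨y, hy⟩ | ⟨i, y, hi, hy⟩
    · exact Or.inl ⟨y, hy⟩
    · exact Or.inr (Or.inr ⟨rfl, i, y, hi, hy⟩)
  · rcases Four.famX (L := KK r) hq hK f r (Φ := frb (KK r) r n) (fun a => by rw [frb_apply, hn]) hpp hp3 α hα with
      ⟨y, hy⟩ | ⟨i, c, j, m, hi, hm, hqm, hj, hc⟩
    · exact Or.inl ⟨y, hy⟩
    · refine Or.inr (Or.inl ⟨hp3, m, j, hm, ?_, hj, i, c, hi, hc⟩)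
      rw [hn] at hqm
      exact (Nat.pow_right_injective hr.two_le hqm).symm

/-! ### the graph automorphism of order 2 -/

theorem rel4 : ∀ s : Fin chevD4.nroots, symS.σ (symmD4a.σ s) = symmD4a.σ (symmD4a.σ (symS.σ s)) ∧
    symS.ε (symmD4a.σ s) * symmD4a.ε s =
      symmD4a.ε (symmD4a.σ (symS.σ s)) * (symmD4a.ε (symS.σ s) * symS.ε s) := by decide +kernel

/-- `δ γ = γ² δ` for the graph automorphisms of order 2 and 3 -/
theorem delta_gamma {k : Type} [Field k] : gr (L := k) hD4 symS * gr (L := k) hD4 symmD4a =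
    gr (L := k) hD4 symmD4a ^ 2 * gr (L := k) hD4 symS := by
  apply aut_ext hD4
  intro s t
  obtain ⟨h1, h2⟩ := rel4 s
  rw [MulAut.mul_apply, MulAut.mul_apply, pow_two, MulAut.mul_apply]
  rw [gr_xg hD4 symmD4a s, gr_xg hD4 symS (symmD4a.σ s), gr_xg hD4 symS s, gr_xg hD4 symmD4a (symS.σ s),
    gr_xg hD4 symmD4a (symmD4a.σ (symS.σ s)), h1]
  congr 1
  have h3 := congrArg (fun z : ℤ => (z : k)) h2
  push_cast at h3
  calc ((symS.ε (symmD4a.σ s) : ℤ) : k) * (((symmD4a.ε s : ℤ) : k) * t)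
      = (((symS.ε (symmD4a.σ s) : ℤ) : k) * ((symmD4a.ε s : ℤ) : k)) * t := by ring
    _ = _ := by rw [h3]; ring

/-- `gr ^ j * Frob` is conjugate to `gr * Frob` -/
theorem exists_delta {j : ℕ} (hj : j % 3 ≠ 0) (m : ℕ) : ∃ δ : MulAut ↥(chevD4.group (KK r)),
    sig4 (KK r) r j m * δ = δ * sig4 (KK r) r 1 m ∧ phi chevD4 (KK r) r m * δ = δ * phi chevD4 (KK r) r m := by
  have h1 : j % 3 = 1 ∨ j % 3 = 2 := by omega
  rcases h1 with h1 | h1
  · exact ⟨1, by rw [sig4_congr r (j' := 1) (by omega), mul_one, one_mul], by rw [mul_one, one_mul]⟩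
  · have h2 : gr (L := KK r) hD4 symS * phi chevD4 (KK r) r m = phi chevD4 (KK r) r m * gr (L := KK r) hD4 symS :=
      gr_mul_fld hD4 symS _
    refine ⟨gr (L := KK r) hD4 symS, ?_, h2.symm⟩
    rw [sig4_congr r (j' := 2) (by omega)]
    show gr (L := KK r) hD4 symmD4a ^ 2 * phi chevD4 (KK r) r m * gr (L := KK r) hD4 symS =
      gr (L := KK r) hD4 symS * (gr (L := KK r) hD4 symmD4a ^ 1 * phi chevD4 (KK r) r m)
    rw [pow_one, ← mul_assoc, delta_gamma, mul_assoc, mul_assoc, h2]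

/-- the fixed points of `gr ^ j * Frob` -/
theorem fix4_iff {K : Type} [Field K] [Fintype K] [CharP K r] {q : ℕ} (hq : IsPrimePow q)
    (hK : Fintype.card K = q ^ 3) (f : K →+* KK r) {m : ℕ} (hm0 : 0 < m) (hm : q = r ^ m) {j : ℕ}
    {δ : MulAut ↥(chevD4.group (KK r))} (hδ : sig4 (KK r) r j m * δ = δ * sig4 (KK r) r 1 m)
    (y : ↥(chevD4.group (KK r))) : sig4 (KK r) r j m y = y ↔ y ∈ (δ.toMonoidHom.comp (_root_.Cfsg.Agent.H28.FamFour.em q f)).range := by
  constructor
  · intro hy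
    have h1 : sig4 (KK r) r 1 m (δ⁻¹ y) = δ⁻¹ y := by
      apply δ.injective
      have h2 : sig4 (KK r) r j m (δ (δ⁻¹ y)) = δ (sig4 (KK r) r 1 m (δ⁻¹ y)) := DFunLike.congr_fun hδ (δ⁻¹ y)
      rw [MulAut.apply_inv_self, hy] at h2
      rw [← h2, MulAut.apply_inv_self]
    obtain ⟨b, hb⟩ := fix_range4 hK f hm0 hm h1
    refine ⟨b, ?_⟩
    show δ (_root_.Cfsg.Agent.H28.FamFour.em q f b) = y
    rw [hb, MulAut.apply_inv_self]
  · rintro ⟨b, rfl⟩
    have h2 : sig4 (KK r) r j m (δ (em q f b)) = δ (sig4 (KK r) r 1 m (em q f b)) := DFunLike.congr_fun hδ (em q f b)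
    show sig4 (KK r) r j m (δ (em q f b)) = δ (em q f b)
    rw [h2, sig4_em hq hK f hm]

/-- **The centralizer of the fixed points of `gr ^ j * Frob`.** -/
theorem cent4 {j m : ℕ} (hj : j % 3 ≠ 0) (hm0 : 0 < m) {y : ↥(chevD4.group (KK r))}
    (hy : ∀ z, sig4 (KK r) r j m z = z → y * z = z * y) : y = 1 := by
  have hr : r.Prime := Fact.out
  obtain ⟨δ, hδ, -⟩ := exists_delta (r := r) hj m
  obtain ⟨K₁, i1, i2, i3, f₁, hK₁⟩ := exists_gf (r := r) (n := m * 3) (by omega)
  rw [pow_mul] at hK₁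
  have hq₁ : IsPrimePow (r ^ m) := (isPrimePow_nat_iff _).2 ⟨r, m, hr, hm0, rfl⟩
  have h1 : δ⁻¹ y = 1 := by
    refine eq_one4 hq₁ hK₁ f₁ fun a => ?_
    have h2 := hy (δ (_root_.Cfsg.Agent.H28.FamFour.em (r ^ m) f₁ a)) ((fix4_iff hq₁ hK₁ f₁ hm0 rfl hδ _).2 ⟨a, rfl⟩)
    apply δ.injective
    rw [map_mul, map_mul, MulAut.apply_inv_self, h2]
  have h2 := congrArg δ h1
  rwa [MulAut.apply_inv_self, map_one] at h2

/-! ### root elements -/

theorem pr4 : Pr chevD4 4 (vec chevD4 4 14) (vec chevD4 4 22) where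
  ra := ⟨14, by decide +kernel, rfl⟩
  rb := ⟨22, by decide +kernel, rfl⟩
  rs := by unfold Rt; decide +kernel
  nd := by unfold Rt; decide +kernel
  n1 := by unfold Rt; decide +kernel
  n2 := by unfold Rt; decide +kernel

/-- `gr` on the long root elements -/
theorem gr4_x {s : ℕ} (hs : s ∈ [14, 22]) (j : ℕ) (t : KK r) :
    (gr (L := KK r) hD4 symmD4a ^ j) (xc Nodes.RGDTwD4.hp (vec chevD4 4 s) t) =
      xc Nodes.RGDTwD4.hp (vec chevD4 4 s) t := by
  have key : ∀ s : Fin 24, s.val ∈ [14, 22] → (symmD4a.σ ⟨s.val, s.2⟩).val = s.val ∧ symmD4a.ε ⟨s.val, s.2⟩ = 1 := by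
    decide +kernel
  have hs24 : s < 24 := by
    simp only [List.mem_cons, List.not_mem_nil, or_false] at hs
    omega
  obtain ⟨h1, h2⟩ := key ⟨s, hs24⟩ hs
  have h3 : xc Nodes.RGDTwD4.hp (vec chevD4 4 s) t = xg hD4 s t :=
    Subtype.ext (coe_xc Nodes.RGDTwD4.hp hs24 _)
  rw [h3]
  induction j with
  | zero => rfl
  | succ j ih => rw [pow_succ, MulAut.mul_apply, gr_xg hD4 symmD4a ⟨s, hs24⟩, h1, h2, Int.cast_one, one_mul, ih]

theorem sig4_x {s : ℕ} (hs : s ∈ [14, 22]) (j m : ℕ) (t : KK r) :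
    sig4 (KK r) r j m (xc Nodes.RGDTwD4.hp (vec chevD4 4 s) t) = xc Nodes.RGDTwD4.hp (vec chevD4 4 s) (t ^ r ^ m) := by
  have hs24 : s < 24 := by
    simp only [List.mem_cons, List.not_mem_nil, or_false] at hs
    omega
  rw [MulAut.mul_apply, H378.TorChar.phi_xc Nodes.RGDTwD4.hp r hs24]
  exact gr4_x hs j _

/-- the Frobenius on the fixed field -/
theorem dvd4 {n : ℕ} (hn0 : 0 < n) {m : ℕ} (h : ∀ t : KK r, t ^ r ^ n = t → t ^ r ^ m = t) : n ∣ m := by
  have hr : r.Prime := Fact.out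
  obtain ⟨K₁, i1, i2, i3, f₁, hK₁⟩ := exists_gf (r := r) (n := n) (by omega)
  rw [← Nat.card_eq_fintype_card] at hK₁
  rw [← forall_pow_iff (F := K₁) r hK₁ m]
  intro t
  have h2 := h (f₁ t) (by
    have h3 := (forall_pow_iff (F := K₁) r hK₁ n).2 dvd_rfl t
    rw [← map_pow, h3])
  exact f₁.injective (by rw [map_pow, h2])

/-- elements over the prime field -/
theorem phi_emG {K₁ : Type} [Field K₁] [Fintype K₁] [CharP K₁ r] (f₁ : K₁ →+* KK r) (h : Fintype.card K₁ = r ^ 1)
    (m : ℕ) (b : ↥(twistedD4 K₁ 1)) : phi chevD4 (KK r) r m (_root_.Cfsg.Agent.H28.FamFour.em 1 f₁ b) = em 1 f₁ b := by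
  rw [← Nat.card_eq_fintype_card] at h
  have h1 := H28.FamFour.fld_em f₁ (τ := (1 : K₁ ≃+* K₁)) (τ' := frb (KK r) r m) (fun a => by
    rw [frb_apply, ← map_pow, (forall_pow_iff (F := K₁) r h m).2 (one_dvd m) a]
    rfl) b
  rw [H28.FamFour.st_one] at h1
  exact h1

/-- **An automorphism of graph type (order 3) does not centralise the level.** -/
theorem no_cent_graph4 {K : Type} [Field K] [Fintype K] [CharP K r] {q : ℕ}
    (hK : Fintype.card K = q ^ 3) (f : K →+* KK r) {n : ℕ} (hn0 : 0 < n) (hn : q = r ^ n) {p : ℕ}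
    {m j : ℕ} (hm : 0 < m) (hpow : sig4 (KK r) r j m ^ p = sig4 (KK r) r 1 n) (hj3 : j % 3 ≠ 0)
    (y : ↥(chevD4.group (KK r))) :
    ¬ ∀ a ∈ fixS (_root_.Cfsg.Agent.H28.FamFour.em q f) (sig4 (KK r) r j m), y * phi chevD4 (KK r) r n (em q f a) * y⁻¹ = em q f a := by
  intro hall
  have hr : r.Prime := Fact.out
  have hfixn : ∀ z, sig4 (KK r) r j m z = z → sig4 (KK r) r 1 n z = z := by
    intro z hz
    rw [← hpow]
    exact H28.GenF.apply_pow hz _
  have hall' : ∀ z, sig4 (KK r) r j m z = z → y * phi chevD4 (KK r) r n z * y⁻¹ = z := by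
    intro z hz
    obtain ⟨a, rfl⟩ := fix_range4 hK f hn0 hn (hfixn z hz)
    exact hall a hz
  have hgrj : ∀ z, gr (L := KK r) hD4 symmD4a z = z → ∀ i : ℕ, (gr (L := KK r) hD4 symmD4a ^ i) z = z := by
    intro z hz i
    exact H28.GenF.apply_pow hz i
  have hy : y = 1 := by
    obtain ⟨K₁, i1, i2, i3, f₁, hK₁⟩ := exists_gf (r := r) (n := 1) (by omega)
    refine Four.eq_one_G f₁ fun b => ?_
    have h1 : sig4 (KK r) r j m (_root_.Cfsg.Agent.H28.FamFour.em 1 f₁ b) = em 1 f₁ b := by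
      have h2 : (gr (L := KK r) hD4 symmD4a ^ j) (phi chevD4 (KK r) r m (em 1 f₁ b)) = em 1 f₁ b := by
        rw [phi_emG f₁ hK₁]
        exact hgrj _ (Four.gr_emG f₁ b) j
      exact h2
    have h2 := hall' _ h1
    rw [phi_emG f₁ hK₁] at h2
    exact mul_inv_eq_iff_eq_mul.1 h2
  subst hy
  obtain ⟨δ, hδ, hδ'⟩ := exists_delta (r := r) hj3 m
  obtain ⟨K₁, i1, i2, i3, f₁, hK₁⟩ := exists_gf (r := r) (n := m * 3) (by omega)
  have hK₁' : Nat.card K₁ = r ^ (m * 3) := by rw [Nat.card_eq_fintype_card, hK₁]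
  rw [pow_mul] at hK₁
  have hq₁ : IsPrimePow (r ^ m) := (isPrimePow_nat_iff _).2 ⟨r, m, hr, hm, rfl⟩
  have key : ∀ b, phi chevD4 (KK r) r m (_root_.Cfsg.Agent.H28.FamFour.em (r ^ m) f₁ b) = _root_.Cfsg.Agent.H28.FamFour.em (r ^ m) f₁ b := by
    intro b
    have h1 : sig4 (KK r) r j m (δ (_root_.Cfsg.Agent.H28.FamFour.em (r ^ m) f₁ b)) = δ (_root_.Cfsg.Agent.H28.FamFour.em (r ^ m) f₁ b) :=
      (fix4_iff hq₁ hK₁ f₁ hm rfl hδ _).2 ⟨b, rfl⟩
    have h2 := hall' _ h1
    rw [one_mul, inv_one, mul_one] at h2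
    have h3 := hfixn _ h1
    rw [MulAut.mul_apply, h2, pow_one] at h3
    have h4 : (gr (L := KK r) hD4 symmD4a ^ j) (phi chevD4 (KK r) r m (δ (_root_.Cfsg.Agent.H28.FamFour.em (r ^ m) f₁ b))) = δ (_root_.Cfsg.Agent.H28.FamFour.em (r ^ m) f₁ b) := h1
    have h5 : phi chevD4 (KK r) r m (δ (_root_.Cfsg.Agent.H28.FamFour.em (r ^ m) f₁ b)) = δ (_root_.Cfsg.Agent.H28.FamFour.em (r ^ m) f₁ b) :=
      (gr (L := KK r) hD4 symmD4a ^ j).injective (h4.trans (hgrj _ h3 j).symm)
    have h6 : phi chevD4 (KK r) r m (δ (_root_.Cfsg.Agent.H28.FamFour.em (r ^ m) f₁ b)) = δ (phi chevD4 (KK r) r m (_root_.Cfsg.Agent.H28.FamFour.em (r ^ m) f₁ b)) :=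
      DFunLike.congr_fun hδ' _
    rw [h6] at h5
    exact δ.injective h5
  have h1 : m * 3 ∣ m := by
    rw [← forall_pow_iff (F := K₁) r hK₁' m]
    intro t
    obtain ⟨b, hb⟩ : ∃ b : ↥(twistedD4 K₁ (r ^ m)), (b : GL chevD4.Idx K₁) =
        wordG hD4 [(18, t), (13, t ^ (r ^ m)), (12, t ^ ((r ^ m) ^ 2))] := by
      refine ⟨⟨_, CpAut.RgdTwD4.triple_mem t (rs := (18, 13, 12)) (by simp)⟩, ?_⟩
      rw [wordG_cons, wordG_cons, wordG_cons, wordG_nil, mul_one]
    have h2 := congrArg Subtype.val (key b)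
    have h3 : ((phi chevD4 (KK r) r m (_root_.Cfsg.Agent.H28.FamFour.em (r ^ m) f₁ b) : ↥(chevD4.group (KK r))) : GL chevD4.Idx (KK r)) =
        glMap chevD4 ((frb (KK r) r m : KK r ≃+* KK r) : KK r →+* KK r) (glMap chevD4 f₁ (b : GL chevD4.Idx K₁)) := rfl
    rw [h3, coe_em, hb, BpExc.Emb.glMap_wordG, BpExc.Emb.glMap_wordG] at h2
    simp only [List.map_cons, List.map_nil] at h2
    have h4 := Four.eq_of_triple h2
    have h5 : (f₁ t) ^ r ^ m = f₁ t := by
      rw [← frb_apply]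
      exact h4
    exact f₁.injective (by rw [map_pow, h5])
  have h2 := Nat.le_of_dvd hm h1
  omega

/-- **The level of a field automorphism of `³D₄(q)`.** -/
theorem lv_te4 {K : Type} [Field K] [Fintype K] [CharP K r] {q : ℕ}
    (hK : Fintype.card K = q ^ 3) (f : K →+* KK r) {n : ℕ} (hn : q = r ^ n) {p : ℕ} (hpp : p.Prime)
    {m j : ℕ} (hm : 0 < m) (hmn : m * p = n) (hj : (j * p) % 3 = 1)
    (hRC : ∀ (K₁ : Type) [Field K₁] [Fintype K₁], Fintype.card K₁ = (r ^ m) ^ 3 → RC ↥(twistedD4 K₁ (r ^ m))) :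
    Lv (_root_.Cfsg.Agent.H28.FamFour.em q f) (sig4 (KK r) r 1 n) p (sig4 (KK r) r j m) (fixS (em q f) (sig4 (KK r) r j m)) := by
  have hr : r.Prime := Fact.out
  have hj3 : j % 3 ≠ 0 := by
    intro h
    have h1 : (j * p) % 3 = ((j % 3) * (p % 3)) % 3 := Nat.mul_mod _ _ _
    rw [h, zero_mul] at h1
    omega
  have hn0 : 0 < n := by rw [← hmn]; exact Nat.mul_pos hm hpp.pos
  have hpow : sig4 (KK r) r j m ^ p = sig4 (KK r) r 1 n := by
    rw [sig4_pow, hmn, sig4_congr r (j' := 1) (by omega)]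
  have hrange : ∀ y, sig4 (KK r) r j m y = y → y ∈ (_root_.Cfsg.Agent.H28.FamFour.em q f).range := by
    intro y hy
    refine fix_range4 hK f hn0 hn ?_
    rw [← hpow]
    exact H28.GenF.apply_pow hy p
  obtain ⟨δ, hδ, -⟩ := exists_delta (r := r) hj3 m
  obtain ⟨K₁, i1, i2, i3, f₁, hK₁⟩ := exists_gf (r := r) (n := m * 3) (by omega)
  rw [pow_mul] at hK₁
  have hq₁ : IsPrimePow (r ^ m) := (isPrimePow_nat_iff _).2 ⟨r, m, hr, hm, rfl⟩
  obtain ⟨eL, -⟩ := exists_equiv_fixS (em_injective f) (δ.toMonoidHom.comp (_root_.Cfsg.Agent.H28.FamFour.em (r ^ m) f₁))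
    (δ.injective.comp (em_injective f₁)) (fix4_iff hq₁ hK₁ f₁ hm rfl hδ) hrange
  obtain ⟨hs0, hs0'⟩ := Cfsg.Agent.S1071.result hq₁ hK₁
  have hs1 : IsSimpleGroup ↥(fixS (_root_.Cfsg.Agent.H28.FamFour.em q f) (sig4 (KK r) r j m)) := isSimple_cgr0 eL hs0
  have hs2 : ¬ IsMulCommutative ↥(fixS (_root_.Cfsg.Agent.H28.FamFour.em q f) (sig4 (KK r) r j m)) := fun hc => hs0' ⟨⟨fun a b => by
    apply eL.injective
    rw [map_mul, map_mul]
    exact hc.is_comm.comm _ _⟩⟩
  have hder := perfect_of_simple hs1 hs2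
  refine
    { pow := hpow
      lang := fun h => ?_
      fixL := fun a ha => ha
      charL := fun α hα a ha => hα a ha
      centL := fun y hy => cent4 hj3 hm fun z hz => by
        obtain ⟨a, rfl⟩ := hrange z hz
        exact hy a hz
      simple := by rw [hder]; exact hs1
      ncomm := by rw [hder]; exact hs2
      rc := by rw [hder]; exact (hRC K₁ hK₁).congr eL
      fin := fun β hβ => ?_ }
  · obtain ⟨g', hg'⟩ := fr_sig4 (locFin r) r Nodes.RGDTwD4.hp coxeterD4.toCoxeterSystem j m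
    obtain ⟨z, hz⟩ := lang_all Nodes.RGDTwD4.hp coxeterD4.toCoxeterSystem hm (isFrob_sig4 r j m) hg' 1 h
    rw [map_one, one_mul] at hz
    exact ⟨z, hz⟩
  · obtain ⟨t, ht, ht'⟩ : ∃ t : KK r, t ^ r ^ n = t ∧ t ^ r ^ m ≠ t := by
      by_contra hcon
      push Not at hcon
      have h1 := Nat.le_of_dvd hm (dvd4 hn0 hcon)
      have h2 : m * 1 < m * p := Nat.mul_lt_mul_of_pos_left hpp.one_lt hm
      omega
    have hmem : ∀ {s : ℕ}, s ∈ [14, 22] → ∀ t : KK r, t ^ r ^ n = t → xc Nodes.RGDTwD4.hp (vec chevD4 4 s) t ∈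
        (_root_.Cfsg.Agent.H28.FamFour.em q f).range := by
      intro s hs t ht
      refine fix_range4 hK f hn0 hn ?_
      rw [sig4_x hs, ht]
    have h1 : ∀ {s : ℕ}, s ∈ [14, 22] → ∃ a ∈ fixS (em q f) (sig4 (KK r) r j m),
        em q f a = xc Nodes.RGDTwD4.hp (vec chevD4 4 s) 1 := by
      intro s hs
      obtain ⟨a, ha⟩ := hmem hs 1 (one_pow _)
      refine ⟨a, ?_, ha⟩
      rw [mem_fixS, ha, sig4_x hs, one_pow]
    refine fin_pair Nodes.RGDTwD4.hp (em_injective f) pr4 (t := t) (t' := t ^ r ^ m) (fun h => ht' h)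
      (sig4_x (by simp) j m t) (hmem (by simp) t ht) (hmem (by simp) _ ?_) (h1 (by simp)) (h1 (by simp)) hβ
    rw [inv_pow, sub_pow_char_pow, ← pow_mul, mul_comm, pow_mul, ht]

/-- **`³D₄(q)`: a cover with a member of field type is impossible.** -/
theorem field_te4 {K : Type} [Field K] [Fintype K] [CharP K r] {q : ℕ} (hq : IsPrimePow q)
    (hK : Fintype.card K = q ^ 3) (f : K →+* KK r) {n : ℕ} (hn0 : 0 < n) (hn : q = r ^ n)
    (hRC : ∀ (K₁ : Type) [Field K₁] [Fintype K₁] (q₀ : ℕ), IsPrimePow q₀ → Fintype.card K₁ = q₀ ^ 3 → q₀ < q →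
      RC ↥(twistedD4 K₁ q₀))
    {G Ω ι : Type*} [Group G] [MulAction G Ω] [Nonempty Ω] [Finite ι] {N : Subgroup G} (hE : Env G Ω N)
    (e : N ≃* ↥(twistedD4 K q)) {x : ι → G} {s : ι → ℕ} (hx : PF x s) (hcov : Cov Ω x) {i₀ : ι} (h3 : s i₀ ≠ 3)
    (hi₀ : act hE e (x i₀) ∉ InD (_root_.Cfsg.Agent.H28.FamFour.em q f)) : False := by
  have hr : r.Prime := Fact.out
  have hT : ∀ j, Ty4 q f n (s j) (act hE e (x j)) := fun j => ty4 hq hK f hn (hx.prime j) (by
    rw [← map_pow, hx.pow, map_one])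
  obtain ⟨-, m, j₀, hm, hmn, hj₀, hFl⟩ : s i₀ ≠ 3 ∧ ∃ m j, 0 < m ∧ m * s i₀ = n ∧ (j * s i₀) % 3 = 1 ∧
      Fl (_root_.Cfsg.Agent.H28.FamFour.em q f) (s i₀) (sig4 (KK r) r j m) (act hE e (x i₀)) := by
    rcases hT i₀ with h | h | ⟨h, -⟩
    · exact absurd h hi₀
    · exact h
    · exact absurd h h3
  have hpp := hx.prime i₀
  have hlv := lv_te4 hK f hn hpp hm hmn hj₀ (fun K₁ _ _ hK₁ => hRC K₁ (r ^ m)
    ((isPrimePow_nat_iff _).2 ⟨r, m, hr, hm, rfl⟩) hK₁ (by
      rw [hn]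
      refine Nat.pow_lt_pow_right hr.one_lt ?_
      rw [← hmn]
      calc m = m * 1 := (mul_one m).symm
        _ < m * s i₀ := Nat.mul_lt_mul_of_pos_left hpp.one_lt hm))
  refine field_abs (fr_te4 hq hK f hn0 hn) hlv hE e hx hcov rfl hFl fun j hj => ?_
  have hne : s j ≠ s i₀ := fun h => hj (hx.inj h)
  have hj3 : j₀ % 3 ≠ 0 := by
    intro h
    have h1 : (j₀ * s i₀) % 3 = ((j₀ % 3) * (s i₀ % 3)) % 3 := Nat.mul_mod _ _ _
    rw [h, zero_mul] at h1
    omega
  have hrange : ∀ y, sig4 (KK r) r j₀ m y = y → y ∈ (_root_.Cfsg.Agent.H28.FamFour.em q f).range := by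
    intro y hy
    refine fix_range4 hK f hn0 hn ?_
    have hpow : sig4 (KK r) r j₀ m ^ s i₀ = sig4 (KK r) r 1 n := by
      rw [sig4_pow, hmn, sig4_congr r (j' := 1) (by omega)]
    rw [← hpow]
    exact H28.GenF.apply_pow hy _
  -- the end: `Ψ'` moves a root element of the level
  have hend : ∀ {Ψ' : MulAut ↥(chevD4.group (KK r))} {m' : ℕ} {y : ↥(chevD4.group (KK r))}, ¬ m ∣ m' → y = 1 →
      (∀ t, Ψ' (xc Nodes.RGDTwD4.hp (vec chevD4 4 14) t) = xc Nodes.RGDTwD4.hp (vec chevD4 4 14) (t ^ r ^ m')) →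
      ¬ ∀ a ∈ fixS (em q f) (sig4 (KK r) r j₀ m), y * Ψ' (em q f a) * y⁻¹ = em q f a := by
    intro Ψ' m' y hmm hy hΨ hall
    subst hy
    refine hmm (dvd4 (r := r) hm fun t ht => ?_)
    have h1 : sig4 (KK r) r j₀ m (xc Nodes.RGDTwD4.hp (vec chevD4 4 14) t) = xc Nodes.RGDTwD4.hp (vec chevD4 4 14) t := by
      rw [sig4_x (by simp), ht]
    obtain ⟨a, ha⟩ := hrange _ h1
    have h2 := hall a (by rw [mem_fixS, ha, h1])
    rw [one_mul, inv_one, mul_one, ha, hΨ] at h2
    exact xc_inj Nodes.RGDTwD4.hp (by decide : 14 < 24) h2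
  rcases hT j with h | ⟨hp3', m', j', hm', hmn', hj', hFl'⟩ | ⟨h3', hFl'⟩
  · exact Or.inl h
  · refine Or.inr ⟨_, hFl', fun y hall => ?_⟩
    have hpp' := hx.prime j
    -- the common level
    have hpm : s j ∣ m := by
      have h1 : s j ∣ m * s i₀ := by rw [hmn, ← hmn']; exact dvd_mul_left _ _
      exact (Nat.Coprime.dvd_of_dvd_mul_right ((Nat.coprime_primes hpp' hpp).2 hne) h1)
    obtain ⟨d, rfl⟩ := hpm
    have hd : 0 < d := Nat.pos_of_mul_pos_left hm
    have hm'd : m' = d * s i₀ := by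
      have h1 : s j * m' = s j * (d * s i₀) := by
        rw [mul_comm (s j) m', hmn', ← hmn]; ring
      exact Nat.eq_of_mul_eq_mul_left hpp'.pos h1
    -- the exponent of the graph automorphism
    have hmod : ∀ a b : ℕ, (a * b) % 3 = ((a % 3) * (b % 3)) % 3 := fun a b => Nat.mul_mod _ _ _
    obtain ⟨P, hP⟩ : ∃ P, P = s i₀ := ⟨_, rfl⟩
    obtain ⟨P', hP'⟩ : ∃ P', P' = s j := ⟨_, rfl⟩
    rw [← hP] at hj₀ hm'd hmn
    rw [← hP'] at hj' hmn' hm hpp'
    have hP3 : P % 3 = 1 ∨ P % 3 = 2 := by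
      have h1 := hmod j₀ P
      have h2 : P % 3 < 3 := Nat.mod_lt _ (by norm_num)
      rcases Nat.lt_or_ge (P % 3) 1 with h3 | h3
      · rw [show P % 3 = 0 by omega, mul_zero] at h1; omega
      · omega
    have hP3' : P' % 3 = 1 ∨ P' % 3 = 2 := by
      have h1 := hmod j' P'
      have h2 : P' % 3 < 3 := Nat.mod_lt _ (by norm_num)
      rcases Nat.lt_or_ge (P' % 3) 1 with h3 | h3
      · rw [show P' % 3 = 0 by omega, mul_zero] at h1; omega
      · omega
    have hjj : j₀ % 3 = P % 3 := by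
      have h1 := hmod j₀ P
      have h2 : j₀ % 3 < 3 := Nat.mod_lt _ (by norm_num)
      have h3 : j₀ % 3 = 1 ∨ j₀ % 3 = 2 := by (clear * - hj3; omega)
      rcases hP3 with h | h <;> rcases h3 with h' | h' <;> rw [h, h'] at h1 <;> omega
    have hjj' : j' % 3 = P' % 3 := by
      have h1 := hmod j' P'
      have h2 : j' % 3 < 3 := Nat.mod_lt _ (by norm_num)
      have h3 : j' % 3 = 1 ∨ j' % 3 = 2 := by
        rcases Nat.lt_or_ge (j' % 3) 1 with h3 | h3
        · rw [show j' % 3 = 0 by omega, zero_mul] at h1; omega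
        · omega
      rcases hP3' with h | h <;> rcases h3 with h' | h' <;> rw [h, h'] at h1 <;> omega
    obtain ⟨J, hJ3, hJ1, hJ2⟩ : ∃ J : ℕ, J % 3 ≠ 0 ∧ (J * P') % 3 = j₀ % 3 ∧ (J * P) % 3 = j' % 3 := by
      rcases hP3 with h | h <;> rcases hP3' with h' | h'
      · exact ⟨1, by omega, by rw [hmod, h', hjj, h], by rw [hmod, h, hjj', h']⟩
      · exact ⟨2, by omega, by rw [hmod, h', hjj, h], by rw [hmod, h, hjj', h']⟩
      · exact ⟨2, by omega, by rw [hmod, h', hjj, h], by rw [hmod, h, hjj', h']⟩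
      · exact ⟨1, by omega, by rw [hmod, h', hjj, h], by rw [hmod, h, hjj', h']⟩
    have hy : y = 1 := by
      refine cent4 hJ3 hd fun z hz => ?_
      have h1 : sig4 (KK r) r j₀ (s j * d) z = z := by
        have h2 : sig4 (KK r) r J d ^ s j = sig4 (KK r) r j₀ (s j * d) := by
          rw [sig4_pow, sig4_congr r (j' := j₀) (by rw [← hP']; exact hJ1), mul_comm d]
        rw [← h2]
        exact H28.GenF.apply_pow hz _
      have h1' : sig4 (KK r) r j' m' z = z := by
        have h2 : sig4 (KK r) r J d ^ s i₀ = sig4 (KK r) r j' m' := by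
          rw [sig4_pow, sig4_congr r (j' := j') (by rw [← hP]; exact hJ2), hm'd, hP]
        rw [← h2]
        exact H28.GenF.apply_pow hz _
      obtain ⟨a, rfl⟩ := hrange z h1
      have h3 := hall a h1
      rw [h1'] at h3
      exact mul_inv_eq_iff_eq_mul.1 h3
    refine hend (m' := m') (fun hdv => ?_) hy (sig4_x (by simp) j' m') hall
    rw [hm'd, hP, mul_comm d] at hdv
    have h2 : s j ∣ s i₀ := Nat.dvd_of_mul_dvd_mul_right hd hdv
    exact hne ((Nat.prime_dvd_prime_iff_eq (hx.prime j) hpp).1 h2)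
  · exact Or.inr ⟨_, hFl', fun y => no_cent_graph4 hK f hn0 hn hm (by
      rw [sig4_pow, hmn, sig4_congr r (j' := 1) (by omega)]) hj3 y⟩

end Four

end Cfsg.Agent.H327.RG
end

private theorem dce_88015bb0b50b : _root_.True := by
  try have : _root_.True := by simp only [_root_.Cfsg.Agent.H720.TwFr.sig4.eq_1]
  try have : _root_.True := by simp only [_root_.Cfsg.Agent.BpExc.FamField.frb.congr_simp]
  exact _root_.True.intro
end

-- part: H452/RG/ReeRow_mg
section
prune_inst 0x402006410040020000040000900020804900009000200c004401084000002300050081000580100b4802220000010028120800604000000000a40000000105011000120430400011040088000008410000300000000000000000000000000000210000000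
set_option linter.all false
open scoped Cfsg.Agent.FastGrp

-- part: H452/RG/Count
section
/-!
# Counting fixed points of a cover

* `card_move_le` : `#{n ∈ N : n⁻¹ x n ∈ K} ≤ |C_N(x)| · |N ∩ K|` for a normal subgroup `N`;
* `card_le_sum` : if the members of a cover cover the orbit of a point then `|N| ≤ Σ #{n ∈ N : n⁻¹ x_i n ∈ G_ω}`;
* `outer_sum` : `Σ B^(f/r_i) ≤ Σ_{a ≤ f/3} B^a` for different divisors `r_i ≥ 3` of `f`;
* `card_pow_le` : the number of different primes `≥ B` dividing `n`.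
-/

set_option autoImplicit false

namespace Cfsg.Agent.H452.RG

open MulAction Cfsg.Agent.H106.RC

/-- fixed points in the orbit of a normal subgroup -/
theorem card_move_le {G : Type*} [Group G] [Finite G] (N K : Subgroup G) (hN : N.Normal) (x : G) :
    Nat.card {n : N // (n : G)⁻¹ * x * n ∈ K} ≤
      Nat.card {n : N // x * n = n * x} * Nat.card ↥(N ⊓ K) := by
  classical
  rcases isEmpty_or_nonempty {n : N // (n : G)⁻¹ * x * n ∈ K} with h0 | ⟨⟨n₀, hn₀⟩⟩
  · rw [Nat.card_of_isEmpty]; exact Nat.zero_le _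
  have hmem : ∀ n : {n : N // (n : G)⁻¹ * x * n ∈ K},
      ((n₀ : G)⁻¹ * x * n₀)⁻¹ * (((n : N) : G)⁻¹ * x * (n : N)) ∈ N ⊓ K := by
    rintro ⟨n, hn⟩
    refine ⟨?_, K.mul_mem (K.inv_mem hn₀) hn⟩
    have h1 : ((n₀ : G)⁻¹ * x * n₀)⁻¹ * ((n : G)⁻¹ * x * n) =
        (n₀ : G)⁻¹ * (x⁻¹ * ((n₀ : G) * (n : G)⁻¹) * x⁻¹⁻¹) * n := by group
    change ((n₀ : G)⁻¹ * x * n₀)⁻¹ * ((n : G)⁻¹ * x * n) ∈ N
    rw [h1]
    exact N.mul_mem (N.mul_mem (N.inv_mem n₀.2) (hN.conj_mem _ (N.mul_mem n₀.2 (N.inv_mem n.2)) x⁻¹)) n.2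
  -- the fibres
  have hfib : ∀ n n' : {n : N // (n : G)⁻¹ * x * n ∈ K},
      ((n₀ : G)⁻¹ * x * n₀)⁻¹ * (((n : N) : G)⁻¹ * x * (n : N)) =
        ((n₀ : G)⁻¹ * x * n₀)⁻¹ * (((n' : N) : G)⁻¹ * x * (n' : N)) →
      x * (((n' : N) * (n : N)⁻¹ : N) : G) = (((n' : N) * (n : N)⁻¹ : N) : G) * x := by
    rintro ⟨n, hn⟩ ⟨n', hn'⟩ h
    have h1 := mul_left_cancel h
    have h2 : (n : G)⁻¹ * x * n = (n' : G)⁻¹ * x * n' := h1
    change x * ((n' : G) * (n : G)⁻¹) = ((n' : G) * (n : G)⁻¹) * x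
    calc x * ((n' : G) * (n : G)⁻¹) = n' * ((n' : G)⁻¹ * x * n') * (n : G)⁻¹ := by group
      _ = n' * ((n : G)⁻¹ * x * n) * (n : G)⁻¹ := by rw [h2]
      _ = ((n' : G) * (n : G)⁻¹) * x := by group
  let f : {n : N // (n : G)⁻¹ * x * n ∈ K} → ↥(N ⊓ K) := fun n => ⟨_, hmem n⟩
  -- choose a section
  let c : ↥(N ⊓ K) → {n : N // (n : G)⁻¹ * x * n ∈ K} := fun k =>
    if h : ∃ n, f n = k then h.choose else ⟨n₀, hn₀⟩
  have hc : ∀ n, f (c (f n)) = f n := by
    intro n
    have h : ∃ n', f n' = f n := ⟨n, rfl⟩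
    simp only [c, dif_pos h]
    exact h.choose_spec
  let g : {n : N // (n : G)⁻¹ * x * n ∈ K} → {n : N // x * n = n * x} × ↥(N ⊓ K) := fun n =>
    (⟨(n : N) * ((c (f n) : N))⁻¹, hfib (c (f n)) n (congrArg Subtype.val (hc n))⟩, f n)
  have hg : Function.Injective g := by
    intro n n' h
    have h1 : f n = f n' := congrArg Prod.snd h
    have h2 : (n : N) * ((c (f n) : N))⁻¹ = (n' : N) * ((c (f n') : N))⁻¹ :=
      congrArg (fun z => ((z.1 : {n : N // x * n = n * x}) : N)) h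
    rw [h1] at h2
    exact Subtype.ext (mul_right_cancel h2)
  have h3 := Nat.card_le_card_of_injective g hg
  rwa [Nat.card_prod] at h3

/-- a cover of an orbit -/
theorem card_le_sum {G Ω ι : Type*} [Group G] [Finite G] [MulAction G Ω] [Fintype ι] (N : Subgroup G)
    {x : ι → G} (h : Cov Ω x) (ω : Ω) :
    Nat.card N ≤ ∑ i, Nat.card {n : N // (n : G)⁻¹ * x i * n ∈ stabilizer G ω} := by
  classical
  have h1 : ∀ n : N, ∃ i, (n : G)⁻¹ * x i * n ∈ stabilizer G ω := by
    intro n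
    obtain ⟨i, hi⟩ := h ((n : G) • ω)
    refine ⟨i, ?_⟩
    rw [mem_stabilizer_iff, mul_smul, mul_smul, hi, inv_smul_smul]
  let f : N → Σ i, {n : N // (n : G)⁻¹ * x i * n ∈ stabilizer G ω} := fun n =>
    ⟨(h1 n).choose, ⟨n, (h1 n).choose_spec⟩⟩
  have hf : Function.Injective f := by
    intro a b hab
    have h2 : ∀ u v : (Σ i, {n : N // (n : G)⁻¹ * x i * n ∈ stabilizer G ω}), u = v → (u.2 : N) = v.2 := by
      rintro u v rfl; rfl
    exact h2 _ _ hab
  have h3 := Nat.card_le_card_of_injective f hf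
  rwa [Nat.card_sigma] at h3

/-- sum over different divisors -/
theorem outer_sum {ι : Type*} (O : Finset ι) {r : ι → ℕ} (hr : Function.Injective r) {f : ℕ}
    (hf : f ≠ 0) (h3 : ∀ i ∈ O, 3 ≤ r i ∧ r i ∣ f) (B : ℕ) :
    ∑ i ∈ O, B ^ (f / r i) ≤ ∑ a ∈ Finset.range (f / 3 + 1), B ^ a := by
  classical
  have hinj : Set.InjOn (fun i => f / r i) O := by
    intro i hi j hj hij
    apply hr
    obtain ⟨a, ha⟩ := (h3 i hi).2
    obtain ⟨b, hb⟩ := (h3 j hj).2
    have hi0 : 0 < r i := by have := (h3 i hi).1; omega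
    have hj0 : 0 < r j := by have := (h3 j hj).1; omega
    have h1 : f / r i = a := by
      rw [ha]; exact Nat.mul_div_cancel_left _ hi0
    have h2 : f / r j = b := by
      rw [hb]; exact Nat.mul_div_cancel_left _ hj0
    simp only at hij
    rw [h1, h2] at hij
    subst hij
    have ha0 : a ≠ 0 := by rintro rfl; apply hf; rw [ha, mul_zero]
    have h4 : r i * a = r j * a := by rw [← ha, ← hb]
    exact Nat.eq_of_mul_eq_mul_right (Nat.pos_of_ne_zero ha0) h4
  rw [← Finset.sum_image (f := fun a => B ^ a) hinj]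
  apply Finset.sum_le_sum_of_subset
  intro a ha
  obtain ⟨i, hi, rfl⟩ := Finset.mem_image.1 ha
  rw [Finset.mem_range]
  have : f / r i ≤ f / 3 := Nat.div_le_div_left (h3 i hi).1 (by norm_num)
  omega

/-- number of primes `≥ B` dividing `n` -/
theorem card_pow_le {ι : Type*} (I : Finset ι) {r : ι → ℕ} (hr : Function.Injective r)
    (hp : ∀ i ∈ I, (r i).Prime) {n B : ℕ} (hn : n ≠ 0) (hd : ∀ i ∈ I, r i ∣ n) (hB : ∀ i ∈ I, B ≤ r i) :
    B ^ I.card ≤ n := by
  classical
  have h1 : ∏ i ∈ I, r i ∣ n := by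
    have h2 := Finset.prod_primes_dvd (s := I.image r) n (fun a ha => by
      obtain ⟨i, hi, rfl⟩ := Finset.mem_image.1 ha
      exact (hp i hi).prime) (fun a ha => by
      obtain ⟨i, hi, rfl⟩ := Finset.mem_image.1 ha
      exact hd i hi)
    rwa [Finset.prod_image (fun i _ j _ h => hr h)] at h2
  exact (Finset.pow_card_le_prod I r B hB).trans (Nat.le_of_dvd (Nat.pos_of_ne_zero hn) h1)

end Cfsg.Agent.H452.RG
end

-- part: H452/RG/SzModel
section
/-!
# Data of the Suzuki groups for counting arguments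

* `SzI m S` : order, indices of subgroups, centralisers of elements of prime order;
* `szI_model` : `SzI m (Sz F m)`; `SzI.congr`.
-/

set_option autoImplicit false
open Subgroup MulAction
open scoped Pointwise

namespace Cfsg.Agent.H452.RG

open Cfsg.Agent.H409 Cfsg.Agent.H452.FprCyc Cfsg.Agent.H452.FprTorus Cfsg.Agent.H452.FprRank
open Cfsg.Agent.H452.FprRee Cfsg.Agent.H452.FprSz

/-- Data of a Suzuki group. -/
structure SzI (m : ℕ) (S : Type*) [Group S] : Prop where
  card : Nat.card S = (2 ^ (2 * m + 1)) ^ 2 * (((2 ^ (2 * m + 1)) ^ 2 + 1) * (2 ^ (2 * m + 1) - 1))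
  sub : ∀ H : Subgroup S, H ≠ ⊤ → ((2 ^ (2 * m + 1)) ^ 2 + 1) * Nat.card H ≤ Nat.card S
  inv : ∀ H : Subgroup S, H ≠ ⊤ → ∀ t : S, orderOf t = 2 →
    2 * (2 ^ (2 * m + 1)) ^ 2 * Nat.card H ≤ Nat.card S ∨
    (Nat.card H ≤ (2 ^ (2 * m + 1)) ^ 2 * (2 ^ (2 * m + 1) - 1) ∧
      Nat.card {s : S // s⁻¹ * t * s ∈ H} ≤ (2 ^ (2 * m + 1)) ^ 2 * (2 ^ (2 * m + 1) - 1))
  centInv : ∀ t : S, orderOf t = 2 → Nat.card {s : S // t * s = s * t} ≤ (2 ^ (2 * m + 1)) ^ 2
  centOdd : ∀ (p : ℕ) (x : S), p.Prime → p ≠ 2 → orderOf x = p →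
    Nat.card {s : S // x * s = s * x} ≤ 2 ^ (2 * m + 1) + 2 ^ (m + 1) + 1
  noComm : ∀ (p : ℕ) (x t : S), p.Prime → p ≠ 2 → orderOf x = p → orderOf t = 2 → t * x = x * t → False
  five : ∀ p : ℕ, p.Prime → p ≠ 2 → p ∣ Nat.card S → 5 ≤ p

theorem SzI.congr {m : ℕ} {S S' : Type*} [Group S] [Group S'] (e : S ≃* S') (h : SzI m S) : SzI m S' := by
  have hc : Nat.card S' = Nat.card S := Nat.card_congr e.symm.toEquiv
  have hH : ∀ H : Subgroup S', H ≠ ⊤ → H.comap e.toMonoidHom ≠ ⊤ := by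
    intro H hH h1
    apply hH
    rw [eq_top_iff]
    intro s _
    have h2 : e.symm s ∈ H.comap e.toMonoidHom := by rw [h1]; trivial
    simpa using h2
  have hcH : ∀ H : Subgroup S', Nat.card ↥(H.comap e.toMonoidHom) = Nat.card H := fun H =>
    Nat.card_congr (Equiv.subtypeEquiv e.toEquiv fun a => Iff.rfl)
  have hord : ∀ t : S', orderOf (e.symm t) = orderOf t := fun t => orderOf_injective e.symm.toMonoidHom e.symm.injective t
  have hcent : ∀ x : S', Nat.card {s : S' // x * s = s * x} = Nat.card {s : S // e.symm x * s = s * e.symm x} := by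
    intro x
    refine Nat.card_congr (Equiv.subtypeEquiv e.symm.toEquiv fun a => ?_)
    change x * a = a * x ↔ e.symm x * e.symm a = e.symm a * e.symm x
    rw [← map_mul, ← map_mul, e.symm.injective.eq_iff]
  refine ⟨hc.trans h.card, ?_, ?_, ?_, ?_, ?_, ?_⟩
  · intro H hH'
    rw [hc, ← hcH]
    exact h.sub _ (hH H hH')
  · intro H hH' t ht
    rw [hc, ← hcH]
    have h1 : Nat.card {s : S' // s⁻¹ * t * s ∈ H} =
        Nat.card {s : S // s⁻¹ * e.symm t * s ∈ H.comap e.toMonoidHom} := by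
      refine Nat.card_congr (Equiv.subtypeEquiv e.symm.toEquiv fun a => ?_)
      change a⁻¹ * t * a ∈ H ↔ e ((e.symm a)⁻¹ * e.symm t * e.symm a) ∈ H
      simp only [_root_.map_mul, _root_.map_inv, _root_.MulEquiv.apply_symm_apply]
    rw [h1]
    exact h.inv _ (hH H hH') _ ((hord t).trans ht)
  · intro t ht
    rw [hcent]
    exact h.centInv _ ((hord t).trans ht)
  · intro p x hp hp2 hx
    rw [hcent]
    exact h.centOdd p _ hp hp2 ((hord x).trans hx)
  · intro p x t hp hp2 hx ht htx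
    apply h.noComm p (e.symm x) (e.symm t) hp hp2 ((hord x).trans hx) ((hord t).trans ht)
    rw [← map_mul, ← map_mul, htx]
  · intro p hp hp2 hd
    exact h.five p hp hp2 (hc ▸ hd)

section General

variable {S : Type*} [Group S] [Finite S] {p : ℕ} [hp : Fact p.Prime]

/-- elements of `p`-power order of the normaliser of a Sylow subgroup -/
theorem mem_sylow_of_normalizer (R : Sylow p S) {x : S} {k : ℕ} (hx : x ^ p ^ k = 1)
    (hxR : x ∈ normalizer ((R : Subgroup S) : Set S)) : x ∈ (R : Subgroup S) := by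
  have h1 : IsPGroup p (zpowers x) := by
    obtain ⟨j, -, hj⟩ := (Nat.dvd_prime_pow hp.out).1 (orderOf_dvd_of_pow_eq_one hx)
    exact IsPGroup.of_card (n := j) (by rw [Nat.card_zpowers, hj])
  have h2 : zpowers x ⊓ normalizer ((R : Subgroup S) : Set S) = zpowers x ⊓ (R : Subgroup S) :=
    IsPGroup.inf_normalizer_sylow h1 R
  have h3 : x ∈ zpowers x ⊓ normalizer ((R : Subgroup S) : Set S) := ⟨mem_zpowers x, hxR⟩
  rw [h2] at h3
  exact h3.2

/-- the elements moving a nontrivial `p`-element into the normaliser of a Sylow subgroup, TI case -/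
theorem card_move_borel (hTI : ∀ P Q : Sylow p S, P ≠ Q → (P : Subgroup S) ⊓ Q = ⊥) (R : Sylow p S) {t : S}
    {k : ℕ} (ht : t ^ p ^ k = 1) (ht1 : t ≠ 1) {H : Subgroup S}
    (hH : H ≤ normalizer ((R : Subgroup S) : Set S)) :
    Nat.card {s : S // s⁻¹ * t * s ∈ H} ≤ Nat.card (normalizer ((R : Subgroup S) : Set S)) := by
  classical
  rcases isEmpty_or_nonempty {s : S // s⁻¹ * t * s ∈ H} with h0 | ⟨⟨s₀, hs₀⟩⟩
  · rw [Nat.card_of_isEmpty]; exact Nat.zero_le _
  have key : ∀ s : S, s⁻¹ * t * s ∈ H → t ∈ ((s • R : Sylow p S) : Subgroup S) := by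
    intro s hs
    have h1 : (s⁻¹ * t * s) ^ p ^ k = 1 := by
      have : (s⁻¹ * t * s) ^ p ^ k = s⁻¹ * t ^ p ^ k * s := by
        have := conj_pow (i := p ^ k) (a := s⁻¹) (b := t)
        rwa [inv_inv] at this
      rw [this, ht]; group
    have h2 := mem_sylow_of_normalizer R h1 (hH hs)
    rw [Sylow.smul_def]
    refine ⟨s⁻¹ * t * s, h2, ?_⟩
    change s * (s⁻¹ * t * s) * s⁻¹ = t
    group
  have hmem : ∀ s : S, s⁻¹ * t * s ∈ H → s₀⁻¹ * s ∈ normalizer ((R : Subgroup S) : Set S) := by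
    intro s hs
    have h1 : (s • R : Sylow p S) = s₀ • R := by
      by_contra hne
      have h2 := hTI _ _ hne
      have h3 : t ∈ ((s • R : Sylow p S) : Subgroup S) ⊓ ((s₀ • R : Sylow p S) : Subgroup S) :=
        ⟨key s hs, key s₀ hs₀⟩
      rw [h2, mem_bot] at h3
      exact ht1 h3
    have h2 : (s₀⁻¹ * s) • R = R := by rw [mul_smul, h1, inv_smul_smul]
    exact Sylow.smul_eq_iff_mem_normalizer.1 h2
  let f : {s : S // s⁻¹ * t * s ∈ H} → normalizer ((R : Subgroup S) : Set S) := fun s => ⟨s₀⁻¹ * s, hmem s s.2⟩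
  refine Nat.card_le_card_of_injective f ?_
  intro a b hab
  have h1 : s₀⁻¹ * (a : S) = s₀⁻¹ * b := congrArg Subtype.val hab
  exact Subtype.ext (mul_left_cancel h1)

end General

section Sz

variable {F : Type*} [Field F] [Fintype F] {m : ℕ}

open Cfsg.Agent.H101.SzGeo Cfsg.Agent.H101.SzSub Cfsg.Agent.H101.SzAbs
open Cfsg.Agent.LieExceptional Cfsg.Agent.LieExceptional.SuzukiBasic
open Cfsg.Agent.LieExceptional.SuzukiSylow Cfsg.Agent.LieExceptional.SuzukiCN

/-- the stabiliser of two points -/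
theorem card_two_stab (hm : 1 ≤ m) (hF : Fintype.card F = 2 ^ (2 * m + 1)) [IsSimpleGroup (Cfsg.Sz F m)]
    {a b : Cfsg.suzukiOvoid F m} (hab : a ≠ b) :
    Nat.card ↥(stabilizer (Cfsg.Sz F m) a ⊓ stabilizer (Cfsg.Sz F m) b) ≤ 2 ^ (2 * m + 1) - 1 := by
  classical
  have hf2 : Fact (Nat.Prime 2) := ⟨Nat.prime_two⟩
  obtain ⟨hQ, hQ1, hcount, hord⟩ := sz_rank hm hF
  obtain ⟨R, hR, hRn⟩ := exists_sylow hm hF a
  have hdis : Disjoint (stabilizer (Cfsg.Sz F m) a ⊓ stabilizer (Cfsg.Sz F m) b) (R : Subgroup (Cfsg.Sz F m)) := by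
    rw [disjoint_iff, eq_bot_iff]
    rintro x ⟨⟨-, hx⟩, hxR⟩
    rw [mem_bot]
    by_contra hx1
    have hx' : x ∈ P hF a := by rw [← hR]; exact hxR
    exact hab ((geo hm hF).free a b x hx' hx hx1).symm
  have hinj := mul_injective_of_disjoint hdis
  have hmem : ∀ g : ↥(stabilizer (Cfsg.Sz F m) a ⊓ stabilizer (Cfsg.Sz F m) b) × ↥(R : Subgroup (Cfsg.Sz F m)),
      (g.1 : Cfsg.Sz F m) * g.2 ∈ normalizer ((R : Subgroup (Cfsg.Sz F m)) : Set (Cfsg.Sz F m)) := fun g =>
    mul_mem (hRn g.1.2.1) (le_normalizer g.2.2)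
  let f : ↥(stabilizer (Cfsg.Sz F m) a ⊓ stabilizer (Cfsg.Sz F m) b) × ↥(R : Subgroup (Cfsg.Sz F m)) →
      normalizer ((R : Subgroup (Cfsg.Sz F m)) : Set (Cfsg.Sz F m)) := fun g => ⟨_, hmem g⟩
  have hf : Function.Injective f := by
    intro g g' h
    have h1 : (g.1 : Cfsg.Sz F m) * g.2 = (g'.1 : Cfsg.Sz F m) * g'.2 := congrArg Subtype.val h
    exact hinj h1
  have h1 := Nat.card_le_card_of_injective f hf
  rw [Nat.card_prod, hQ, card_norm_sylow hcount hord R, mul_comm] at h1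
  exact Nat.le_of_mul_le_mul_left h1 (by positivity)

/-- the normaliser of an element of prime order dividing `q - 1` -/
theorem card_norm_split (hm : 1 ≤ m) (hF : Fintype.card F = 2 ^ (2 * m + 1)) [IsSimpleGroup (Cfsg.Sz F m)]
    {l : ℕ} (hl : l.Prime) (hl1 : l ∣ 2 ^ (2 * m + 1) - 1) {y : Cfsg.Sz F m} (hy : orderOf y = l) :
    Nat.card (normalizer ((zpowers y : Subgroup (Cfsg.Sz F m)) : Set (Cfsg.Sz F m))) ≤
      2 * (2 ^ (2 * m + 1) - 1) := by
  classical
  have hfin := finite_ovoid F m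
  have hfix := card_fix_ovoid hm hF hl hl1 hy
  obtain ⟨M, hM⟩ : ∃ M, M = normalizer ((zpowers y : Subgroup (Cfsg.Sz F m)) : Set (Cfsg.Sz F m)) := ⟨_, rfl⟩
  rw [← hM]
  -- `M` permutes the fixed points of `y`
  have hperm : ∀ x ∈ M, ∀ a : Cfsg.suzukiOvoid F m, y • a = a → y • x • a = x • a := by
    intro x hx a ha
    rw [hM] at hx
    have h1 : x⁻¹ * y * x ∈ zpowers y := by
      have := (mem_normalizer_iff.1 (inv_mem hx) y).1 (mem_zpowers y)
      rwa [inv_inv] at this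
    have h2 : (x⁻¹ * y * x) • a = a := by
      have h3 : zpowers y ≤ stabilizer (Cfsg.Sz F m) a := by
        rw [zpowers_le]; exact ha
      exact h3 h1
    have h4 : x • ((x⁻¹ * y * x) • a) = x • a := by rw [h2]
    rwa [smul_smul, show x * (x⁻¹ * y * x) = y * x by group, mul_smul] at h4
  rw [Nat.card_coe_set_eq, Set.ncard_eq_two] at hfix
  obtain ⟨a, b, hab, hfab⟩ := hfix
  have hmem : ∀ c : Cfsg.suzukiOvoid F m, y • c = c ↔ c = a ∨ c = b := by
    intro c
    have : c ∈ fixedBy (Cfsg.suzukiOvoid F m) y ↔ c ∈ ({a, b} : Set _) := by rw [hfab]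
    simpa using this
  -- the stabiliser of `a` in `M`
  have h1 : (stabilizer M a).index ≤ 2 := by
    rw [index_stabilizer]
    have h2 : (orbit M a) ⊆ {a, b} := by
      rintro _ ⟨x, rfl⟩
      exact (hmem _).1 (hperm x x.2 a ((hmem a).2 (Or.inl rfl)))
    calc (orbit M a).ncard ≤ ({a, b} : Set (Cfsg.suzukiOvoid F m)).ncard := Set.ncard_le_ncard h2 (Set.toFinite _)
      _ = 2 := Set.ncard_pair hab
  have h2 : Nat.card (stabilizer M a) ≤ 2 ^ (2 * m + 1) - 1 := by
    refine le_trans ?_ (card_two_stab hm hF hab)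
    have h3 : ∀ x : M, x ∈ stabilizer M a →
        (x : Cfsg.Sz F m) ∈ stabilizer (Cfsg.Sz F m) a ⊓ stabilizer (Cfsg.Sz F m) b := by
      intro x hx
      have hxa : (x : Cfsg.Sz F m) • a = a := hx
      refine ⟨hxa, ?_⟩
      rcases (hmem _).1 (hperm x x.2 b ((hmem b).2 (Or.inr rfl))) with h4 | h4
      · exfalso
        apply hab
        have h5 : (x : Cfsg.Sz F m) • a = (x : Cfsg.Sz F m) • b := by rw [hxa, h4]
        exact smul_left_cancel _ h5
      · exact h4
    let f : stabilizer M a → ↥(stabilizer (Cfsg.Sz F m) a ⊓ stabilizer (Cfsg.Sz F m) b) := fun x => ⟨_, h3 x x.2⟩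
    refine Nat.card_le_card_of_injective f ?_
    intro x x' h
    have h4 := congrArg Subtype.val h
    exact Subtype.ext (Subtype.ext h4)
  rw [← (stabilizer M a).card_mul_index, mul_comm]
  exact Nat.mul_le_mul h1 h2

/-- the centraliser of an element of odd prime order -/
theorem card_cent_odd (hm : 1 ≤ m) (hF : Fintype.card F = 2 ^ (2 * m + 1)) [IsSimpleGroup (Cfsg.Sz F m)]
    {l : ℕ} (hl : l.Prime) (hl2 : l ≠ 2) {x : Cfsg.Sz F m} (hx : orderOf x = l) :
    Nat.card {s : Cfsg.Sz F m // x * s = s * x} ≤ 2 ^ (2 * m + 1) + 2 ^ (m + 1) + 1 := by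
  classical
  have hf2 : Fact (Nat.Prime 2) := ⟨Nat.prime_two⟩
  have hlf : Fact l.Prime := ⟨hl⟩
  have hfin := finite_ovoid F m
  obtain ⟨hQ, hQ1, hcount, hord⟩ := sz_rank hm hF
  have hx1 : x ≠ 1 := by
    rintro rfl
    rw [orderOf_one] at hx
    exact hl.one_lt.ne hx
  by_cases hl1 : l ∣ 2 ^ (2 * m + 1) - 1
  · -- the split torus
    have hfix := card_fix_ovoid hm hF hl hl1 hx
    rw [Nat.card_coe_set_eq, Set.ncard_eq_two] at hfix
    obtain ⟨a, b, hab, hfab⟩ := hfix
    have hmem : ∀ c : Cfsg.suzukiOvoid F m, x • c = c ↔ c = a ∨ c = b := by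
      intro c
      have : c ∈ fixedBy (Cfsg.suzukiOvoid F m) x ↔ c ∈ ({a, b} : Set _) := by rw [hfab]
      simpa using this
    have hperm : ∀ s : Cfsg.Sz F m, x * s = s * x → ∀ c : Cfsg.suzukiOvoid F m, x • c = c → x • s • c = s • c := by
      intro s hs c hc
      rw [← mul_smul, hs, mul_smul, hc]
    -- orders of centralising elements are odd
    have hodd : ∀ s : Cfsg.Sz F m, x * s = s * x → ¬ 2 ∣ orderOf s := by
      intro s hs h2
      obtain ⟨t, ht⟩ : ∃ t, t = s ^ (orderOf s / 2) := ⟨_, rfl⟩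
      have hto : orderOf t = 2 := by
        rw [ht]
        have hpos := orderOf_pos s
        rw [orderOf_pow' s (Nat.div_pos (Nat.le_of_dvd hpos h2) (by norm_num)).ne']
        rw [Nat.gcd_eq_right (Nat.div_dvd_of_dvd h2), Nat.div_div_self h2 hpos.ne']
      have hxt : x * t = t * x := by
        rw [ht]
        exact (Commute.pow_right hs _).eq
      have h3 : IsPGroup 2 (zpowers t) := IsPGroup.of_card (n := 1) (by rw [Nat.card_zpowers, hto, pow_one])
      obtain ⟨R, hR⟩ := h3.exists_le_sylow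
      have h4 := sz_fpf hm hF hl hl2 hx R (hR (mem_zpowers t)) hxt
      rw [h4, orderOf_one] at hto
      norm_num at hto
    have hstab : ∀ s : Cfsg.Sz F m, x * s = s * x →
        s ∈ stabilizer (Cfsg.Sz F m) a ⊓ stabilizer (Cfsg.Sz F m) b := by
      intro s hs
      have ha := (hmem _).1 (hperm s hs a ((hmem a).2 (Or.inl rfl)))
      have hb := (hmem _).1 (hperm s hs b ((hmem b).2 (Or.inr rfl)))
      have hne : s • a ≠ s • b := fun h => hab (smul_left_cancel _ h)
      have haa : s • a = a := by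
        rcases ha with ha | ha
        · exact ha
        exfalso
        have hba : s • b = a := by
          rcases hb with hb | hb
          · exact hb
          · exact absurd (ha.trans hb.symm) hne
        have h3 : ∀ j : ℕ, (s ^ 2) ^ j • a = a := by
          intro j
          induction j with
          | zero => simp
          | succ j ih => rw [pow_succ', mul_smul, ih, pow_two, mul_smul, ha, hba]
        have h4 := hodd s hs
        have h5 : s ^ orderOf s = s * (s ^ 2) ^ (orderOf s / 2) := by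
          rw [← pow_mul, ← pow_succ']
          congr 1
          omega
        have h6 : s ^ orderOf s • a = b := by rw [h5, mul_smul, h3, ha]
        rw [pow_orderOf_eq_one, one_smul] at h6
        exact hab h6
      refine ⟨haa, ?_⟩
      rcases hb with hb | hb
      · exact absurd (haa.trans hb.symm) hne
      · exact hb
    let f : {s : Cfsg.Sz F m // x * s = s * x} → ↥(stabilizer (Cfsg.Sz F m) a ⊓ stabilizer (Cfsg.Sz F m) b) :=
      fun s => ⟨_, hstab s s.2⟩
    have h1 := Nat.card_le_card_of_injective f (by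
      intro s s' h
      have h4 := congrArg Subtype.val h
      exact Subtype.ext h4)
    refine h1.trans ((card_two_stab hm hF hab).trans ((Nat.sub_le _ _).trans ?_))
    rw [add_assoc]
    exact Nat.le_add_right _ _
  · -- the other tori
    obtain ⟨q, hq⟩ : ∃ q, q = 2 ^ (2 * m + 1) := ⟨_, rfl⟩
    obtain ⟨s, hs⟩ : ∃ s, s = 2 ^ (m + 1) := ⟨_, rfl⟩
    have hs2 : 2 * s ≤ q := by
      rw [hs, hq, ← pow_succ']
      exact Nat.pow_le_pow_right (by norm_num) (by omega)
    have hss : s * s = 2 * q := by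
      rw [hs, hq, ← pow_add, ← pow_succ']
      congr 1
      omega
    have hlT : l ∣ Nat.card (Cfsg.Sz F m) := hx ▸ orderOf_dvd_natCard x
    have hlq1 : l ∣ q ^ 2 + 1 := by
      rw [hord, ← hq] at hlT
      rcases (hl.dvd_mul).1 hlT with h1 | h1
      · exfalso
        have h2 := hl.dvd_of_dvd_pow h1
        rw [hq] at h2
        exact hl2 ((Nat.prime_dvd_prime_iff_eq hl Nat.prime_two).1 (hl.dvd_of_dvd_pow h2))
      rcases (hl.dvd_mul).1 h1 with h2 | h2
      · exact h2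
      · rw [hq] at h2; exact absurd h2 hl1
    have hfac : q ^ 2 + 1 = (q + s + 1) * (q - s + 1) := by
      have h1 : s ≤ q := by omega
      zify [h1]
      have h2 : (s : ℤ) * s = 2 * q := by exact_mod_cast hss
      linear_combination h2
    obtain ⟨k, hk, hlk, hkle⟩ : ∃ k, k ∈ ({2 ^ (2 * m + 1) + 2 ^ (m + 1) + 1,
        2 ^ (2 * m + 1) - 2 ^ (m + 1) + 1} : Set ℕ) ∧ l ∣ k ∧ k ≤ 2 ^ (2 * m + 1) + 2 ^ (m + 1) + 1 := by
      rw [← hq, ← hs]
      rw [hfac] at hlq1
      rcases (hl.dvd_mul).1 hlq1 with h1 | h1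
      · exact ⟨q + s + 1, by simp, h1, le_rfl⟩
      · exact ⟨q - s + 1, by simp, h1, by (clear * -; omega)⟩
    obtain ⟨U, -, hUk, hcent, -⟩ := Cfsg.Agent.S0333.result hm hF k hk
    obtain ⟨⟨u, huU⟩, hu⟩ := exists_prime_orderOf_dvd_card' (G := U) l (by rw [hUk]; exact hlk)
    rw [Subgroup.orderOf_mk] at hu
    have hc : ∀ P : Sylow l (Cfsg.Sz F m), IsCyclic P := fun P => Cfsg.Agent.S0331.result hm hF hl2 P
    obtain ⟨g, hg⟩ := exists_conj_zpowers hc hx hu
    have hgx : g * x * g⁻¹ ∈ U := by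
      have h1 : g * x * g⁻¹ ∈ (zpowers x).map (MulAut.conj g).toMonoidHom := ⟨x, mem_zpowers x, rfl⟩
      rw [hg] at h1
      exact (zpowers_le.2 huU) h1
    have hgx1 : g * x * g⁻¹ ≠ 1 := by
      intro h
      apply hx1
      have : x = g⁻¹ * (g * x * g⁻¹) * g := by group
      rw [this, h]; group
    have e2 := hcent _ hgx hgx1
    refine le_trans ?_ hkle
    rw [← hUk]
    have hmem : ∀ s : {s : Cfsg.Sz F m // x * s = s * x}, g * (s : Cfsg.Sz F m) * g⁻¹ ∈ U := by
      rintro ⟨s, hs⟩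
      rw [← e2, mem_centralizer_iff]
      rintro _ rfl
      change g * x * g⁻¹ * (g * s * g⁻¹) = g * s * g⁻¹ * (g * x * g⁻¹)
      calc g * x * g⁻¹ * (g * s * g⁻¹) = g * (x * s) * g⁻¹ := by group
        _ = g * (s * x) * g⁻¹ := by rw [hs]
        _ = g * s * g⁻¹ * (g * x * g⁻¹) := by group
    let f : {s : Cfsg.Sz F m // x * s = s * x} → U := fun s => ⟨_, hmem s⟩
    refine Nat.card_le_card_of_injective f ?_
    intro s s' h
    have h1 : g * (s : Cfsg.Sz F m) * g⁻¹ = g * (s' : Cfsg.Sz F m) * g⁻¹ := congrArg Subtype.val h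
    exact Subtype.ext (mul_left_cancel (mul_right_cancel h1))

/-- subgroups which are not contained in the normaliser of a Sylow 2-subgroup are small -/
theorem sub_cases (hm : 1 ≤ m) (hF : Fintype.card F = 2 ^ (2 * m + 1)) [IsSimpleGroup (Cfsg.Sz F m)]
    (H : Subgroup (Cfsg.Sz F m)) (hH : H ≠ ⊤) :
    (∃ R : Sylow 2 (Cfsg.Sz F m), H ≤ normalizer ((R : Subgroup (Cfsg.Sz F m)) : Set (Cfsg.Sz F m))) ∨
    2 * Nat.card H ≤ ((2 ^ (2 * m + 1)) ^ 2 + 1) * (2 ^ (2 * m + 1) - 1) := by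
  classical
  obtain ⟨q, hq⟩ : ∃ q, q = 2 ^ (2 * m + 1) := ⟨_, rfl⟩
  obtain ⟨s, hs⟩ : ∃ s, s = 2 ^ (m + 1) := ⟨_, rfl⟩
  have hq8 : 8 ≤ q := by
    rw [hq]
    calc 8 = 2 ^ 3 := by norm_num
      _ ≤ 2 ^ (2 * m + 1) := Nat.pow_le_pow_right (by norm_num) (by omega)
  have hs2 : 2 * s ≤ q := by
    rw [hs, hq, ← pow_succ']
    exact Nat.pow_le_pow_right (by norm_num) (by omega)
  have h2q : 2 ∣ q := hq ▸ dvd_pow_self 2 (by omega)
  have h2s : 2 ∣ s := hs ▸ dvd_pow_self 2 (by omega)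
  have hbig : 7 * (q ^ 2 + 1) ≤ (q ^ 2 + 1) * (q - 1) := by
    rw [mul_comm]
    exact Nat.mul_le_mul_left _ (by omega)
  have h8q : 8 * q ≤ q ^ 2 := by rw [pow_two]; exact Nat.mul_le_mul_right _ hq8
  rcases Cfsg.Agent.S2251.result hm hF H hH with h | ⟨U, hU, hUc, hUN⟩ | ⟨K, iK, iK', k', hk', hkm, hKc, hdvd, R, ⟨e⟩, hR⟩
  · exact Or.inl h
  · right
    rw [← hq]
    rcases hUc with hUc | hUc
    · obtain ⟨l, hl, hlq⟩ := Nat.exists_prime_and_dvd (n := q - 1) (by omega)
      have hlf : Fact l.Prime := ⟨hl⟩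
      obtain ⟨⟨y, hyU⟩, hy⟩ := exists_prime_orderOf_dvd_card' (G := U) l (by rw [hUc, ← hq]; exact hlq)
      rw [Subgroup.orderOf_mk] at hy
      have h1 := card_norm_split hm hF hl (by rw [← hq]; exact hlq) hy
      have h2 : Nat.card H ≤ 2 * (q - 1) := by
        calc Nat.card H ≤ Nat.card (normalizer (U : Set (Cfsg.Sz F m))) := Subgroup.card_le_of_le hUN
          _ ≤ _ := Subgroup.card_le_of_le (normalizer_le_of_cyclic hU hyU)
          _ ≤ 2 * (q - 1) := by rw [hq]; exact h1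
      (clear * - hbig h8q h2; omega)
    · have hUle : Nat.card U ≤ q + s + 1 := by
        rcases hUc with h1 | h1
        · rw [h1, hq, hs]
        · have h1' : Nat.card U = 2 ^ (2 * m + 1) - 2 ^ (m + 1) + 1 := h1
          rw [h1', ← hq, ← hs]
          (clear * -; omega)
      have hUodd : ¬ 2 ∣ Nat.card U ∧ 1 < Nat.card U := by
        rcases hUc with h1 | h1
        · rw [h1, ← hq, ← hs]
          (clear * - hq hs hq8; omega)
        · have h1' : Nat.card U = 2 ^ (2 * m + 1) - 2 ^ (m + 1) + 1 := h1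
          rw [h1', ← hq, ← hs]
          (clear * - hq hs hq8 hs2; omega)
      obtain ⟨l, hl, hlU⟩ := Nat.exists_prime_and_dvd (n := Nat.card U) (by omega)
      have hl2 : l ≠ 2 := by
        rintro rfl
        exact hUodd.1 hlU
      have hlf : Fact l.Prime := ⟨hl⟩
      obtain ⟨⟨y, hyU⟩, hy⟩ := exists_prime_orderOf_dvd_card' (G := U) l hlU
      rw [Subgroup.orderOf_mk] at hy
      have h1 := card_norm_torus hm hF hUc hl hl2 hlU hy
      have h2 : Nat.card H ≤ 4 * (q + s + 1) := by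
        calc Nat.card H ≤ Nat.card (normalizer (U : Set (Cfsg.Sz F m))) := Subgroup.card_le_of_le hUN
          _ ≤ _ := Subgroup.card_le_of_le (normalizer_le_of_cyclic hU hyU)
          _ ≤ 4 * Nat.card U := h1
          _ ≤ 4 * (q + s + 1) := Nat.mul_le_mul_left _ hUle
      (clear * - hq8 hs2 hbig h8q h2; omega)
  · right
    have h1 : Nat.card H ≤ Nat.card (Cfsg.Sz K k') := by
      rw [← Nat.card_congr e.toEquiv]
      exact Subgroup.card_le_of_le hR
    rw [Cfsg.Agent.S0324.result hk' hKc] at h1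
    obtain ⟨t, ht⟩ : ∃ t, t = 2 ^ (2 * k' + 1) := ⟨_, rfl⟩
    rw [← ht] at h1
    have ht3 : t ^ 3 ≤ q := by
      rw [ht, hq, ← pow_mul]
      apply Nat.pow_le_pow_right (by norm_num)
      obtain ⟨c, hc'⟩ := hdvd
      have hc1 : c ≠ 0 := by rintro rfl; omega
      have hc2 : c ≠ 1 := by rintro rfl; omega
      have hc3 : c ≠ 2 := by rintro rfl; omega
      rw [hc']
      exact Nat.mul_le_mul_left _ (by omega)
    have ht1 : 1 ≤ t := by rw [ht]; exact Nat.one_le_two_pow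
    have h2 : Nat.card H ≤ 2 * q ^ 2 := by
      refine h1.trans ?_
      have h3 : t ^ 2 + 1 ≤ 2 * t ^ 2 := by nlinarith only [ht1]
      have h4 : t - 1 ≤ t := Nat.sub_le _ _
      calc t ^ 2 * (t ^ 2 + 1) * (t - 1) ≤ t ^ 2 * (2 * t ^ 2) * t :=
            Nat.mul_le_mul (Nat.mul_le_mul_left _ h3) h4
        _ = 2 * (t ^ 5 * 1) := by ring
        _ ≤ 2 * (t ^ 5 * t) := Nat.mul_le_mul_left _ (Nat.mul_le_mul_left _ ht1)
        _ = 2 * (t ^ 3 * t ^ 3) := by ring
        _ ≤ 2 * (q * q) := Nat.mul_le_mul_left _ (Nat.mul_le_mul ht3 ht3)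
        _ = 2 * q ^ 2 := by ring
    rw [← hq]
    omega

theorem szI_model (hm : 1 ≤ m) (hF : Fintype.card F = 2 ^ (2 * m + 1)) [IsSimpleGroup (Cfsg.Sz F m)] :
    SzI m (Cfsg.Sz F m) := by
  classical
  have hf2 : Fact (Nat.Prime 2) := ⟨Nat.prime_two⟩
  obtain ⟨hQ, hQ1, hcount, hord⟩ := sz_rank hm hF
  have hN : ∀ R : Sylow 2 (Cfsg.Sz F m), Nat.card (normalizer ((R : Subgroup (Cfsg.Sz F m)) : Set (Cfsg.Sz F m))) =
      (2 ^ (2 * m + 1)) ^ 2 * (2 ^ (2 * m + 1) - 1) := fun R => card_norm_sylow hcount hord R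
  refine ⟨hord, ?_, ?_, ?_, ?_, ?_, ?_⟩
  · intro H hH
    rw [hord]
    rcases sub_cases hm hF H hH with ⟨R, hR⟩ | h
    · have h1 := Subgroup.card_le_of_le hR
      rw [hN] at h1
      calc ((2 ^ (2 * m + 1)) ^ 2 + 1) * Nat.card H ≤
            ((2 ^ (2 * m + 1)) ^ 2 + 1) * ((2 ^ (2 * m + 1)) ^ 2 * (2 ^ (2 * m + 1) - 1)) := Nat.mul_le_mul_left _ h1
        _ = _ := by ring
    · have h0 : 1 ≤ (2 ^ (2 * m + 1)) ^ 2 := Nat.one_le_pow _ _ (by positivity)
      calc ((2 ^ (2 * m + 1)) ^ 2 + 1) * Nat.card H ≤ (2 ^ (2 * m + 1)) ^ 2 * (2 * Nat.card H) := by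
            rw [← mul_assoc]
            exact Nat.mul_le_mul_right _ (by omega)
        _ ≤ _ := Nat.mul_le_mul_left _ h
  · intro H hH t ht
    rw [hord]
    rcases sub_cases hm hF H hH with ⟨R, hR⟩ | h
    · right
      have h1 := Subgroup.card_le_of_le hR
      rw [hN] at h1
      refine ⟨h1, ?_⟩
      rw [← hN R]
      refine card_move_borel (sz_ti hm hF) R (k := 1) ?_ ?_ hR
      · rw [pow_one, ← ht, pow_orderOf_eq_one]
      · rintro rfl
        rw [orderOf_one] at ht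
        norm_num at ht
    · left
      calc 2 * (2 ^ (2 * m + 1)) ^ 2 * Nat.card H = (2 ^ (2 * m + 1)) ^ 2 * (2 * Nat.card H) := by ring
        _ ≤ _ := Nat.mul_le_mul_left _ h
  · intro t ht
    have h3 : IsPGroup 2 (zpowers t) := IsPGroup.of_card (n := 1) (by rw [Nat.card_zpowers, ht, pow_one])
    obtain ⟨R, hR⟩ := h3.exists_le_sylow
    obtain ⟨a, ha⟩ := exists_eq_P hm hF R
    have ht' : t ∈ P hF a := by rw [← ha]; exact hR (mem_zpowers t)
    have ht1 : t ≠ 1 := by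
      rintro rfl
      rw [orderOf_one] at ht
      norm_num at ht
    rw [← hQ R, ha]
    have hmem : ∀ s : {s : Cfsg.Sz F m // t * s = s * t}, (s : Cfsg.Sz F m) ∈ P hF a := fun s =>
      (geo hm hF).cent a t ht' ht1 s s.2.symm
    let f : {s : Cfsg.Sz F m // t * s = s * t} → P hF a := fun s => ⟨_, hmem s⟩
    refine Nat.card_le_card_of_injective f ?_
    intro s s' h
    have h4 := congrArg Subtype.val h
    exact Subtype.ext h4
  · intro p x hp hp2 hx
    exact card_cent_odd hm hF hp hp2 hx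
  · intro p x t hp hp2 hx ht htx
    have h3 : IsPGroup 2 (zpowers t) := IsPGroup.of_card (n := 1) (by rw [Nat.card_zpowers, ht, pow_one])
    obtain ⟨R, hR⟩ := h3.exists_le_sylow
    have h4 := sz_fpf hm hF hp hp2 hx R (hR (mem_zpowers t)) htx.symm
    rw [h4, orderOf_one] at ht
    norm_num at ht
  · intro p hp hp2 hd
    have h3 := three_not_dvd hm hF
    have h1 := hp.two_le
    have h4 : p ≠ 3 := by
      rintro rfl
      exact h3 hd
    have h5 : p ≠ 4 := by
      rintro rfl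
      exact absurd hp (by norm_num)
    omega

end Sz

/-- **The data of the Suzuki groups.** -/
theorem szI {S : Type*} [Group S] [Finite S] [IsSimpleGroup S] {F : Type} [Field F] [Fintype F] {m : ℕ}
    (hm : 1 ≤ m) (hF : Fintype.card F = 2 ^ (2 * m + 1)) (e : S ≃* ↥(Cfsg.Lie.Sz F (2 ^ (m + 1)))) : SzI m S := by
  obtain ⟨f⟩ := OddCyclic.ClaimC.SzIso.iso (F := F) hm hF
  let e' : S ≃* ↥(Cfsg.Sz F m) := e.trans f.symm
  have hf : Finite ↥(Cfsg.Sz F m) := Finite.of_equiv S e'.toEquiv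
  have hs : IsSimpleGroup ↥(Cfsg.Sz F m) := by
    have : Nontrivial ↥(Cfsg.Sz F m) := e'.symm.toEquiv.nontrivial
    exact IsSimpleGroup.isSimpleGroup_of_surjective e'.toMonoidHom e'.surjective
  exact SzI.congr e'.symm (szI_model hm hF)

end Cfsg.Agent.H452.RG
end

-- part: H452/RG/SzRow
section
/-!
# The row of the Suzuki groups

* `Env.card_le` : `|N| ≤ Σ A_i`, `A_i ≤ c_i h`;
* `noCov_sz`, `rowX_sz`.
-/

set_option autoImplicit false

namespace Cfsg.Agent.H452.RG

open MulAction Cfsg.Agent.H106.RC Cfsg.Agent.H873.RG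

/-- conjugation on a normal subgroup is not inner for elements outside -/
theorem env_outer {G Ω : Type*} [Group G] [MulAction G Ω] {N : Subgroup G} (hE : Env G Ω N) (hN : N.Normal)
    {y : G} (hy : y ∉ N) {p : ℕ} (hyp : y ^ p = 1) :
    ∃ a : MulAut N, a ^ p = 1 ∧ (¬ ∃ g, a = MulAut.conj g) ∧
      Nat.card {n : N // y * n = n * y} = Nat.card {n : N // a n = n} := by
  refine ⟨MulAut.conjNormal y, ?_, ?_, ?_⟩
  · rw [← map_pow, hyp, map_one]
  · rintro ⟨g, hg⟩
    apply hy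
    have h1 : (g : G)⁻¹ * y ∈ Subgroup.centralizer (N : Set G) := by
      rw [Subgroup.mem_centralizer_iff]
      intro n hn
      have h2 := congrArg (fun c : MulAut N => ((c ⟨n, hn⟩ : N) : G)) hg
      simp only [MulAut.conjNormal_apply, MulAut.conj_apply] at h2
      have h3 : y * n * y⁻¹ = (g : G) * n * (g : G)⁻¹ := h2
      calc n * ((g : G)⁻¹ * y) = (g : G)⁻¹ * ((g : G) * n * (g : G)⁻¹) * y := by group
        _ = (g : G)⁻¹ * (y * n * y⁻¹) * y := by rw [h3]
        _ = (g : G)⁻¹ * y * n := by group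
    rw [hE.cent, Subgroup.mem_bot] at h1
    have h2 : y = g := by
      calc y = (g : G) * ((g : G)⁻¹ * y) := by group
        _ = g := by rw [h1, mul_one]
    rw [h2]
    exact g.2
  · refine Nat.card_congr (Equiv.subtypeEquivRight fun n => ?_)
    rw [Subtype.ext_iff, MulAut.conjNormal_apply]
    constructor
    · intro h
      rw [h]; group
    · intro h
      calc y * n = (y * n * y⁻¹) * y := by group
        _ = n * y := by rw [h]

theorem card_inf_eq {G : Type*} [Group G] (N K : Subgroup G) :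
    Nat.card ↥(N ⊓ K) = Nat.card ↥(K.subgroupOf N) := by
  refine Nat.card_congr
    { toFun := fun x => ⟨⟨x.1, x.2.1⟩, x.2.2⟩
      invFun := fun x => ⟨x.1.1, x.1.2, x.2⟩
      left_inv := fun x => rfl
      right_inv := fun x => rfl }

/-- the numbers attached to a point of a cover -/
theorem env_card {G Ω ι : Type*} [Group G] [Finite G] [MulAction G Ω] [Fintype ι] {N : Subgroup G}
    (hE : Env G Ω N) {x : ι → G} (h : Cov Ω x) (ω : Ω) :
    ∃ (H : Subgroup N) (A : ι → ℕ), H ≠ ⊤ ∧ Nat.card N ≤ ∑ i, A i ∧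
      (∀ i, A i ≤ Nat.card {n : N // x i * n = n * x i} * Nat.card H) ∧
      ∀ (i) (hi : x i ∈ N), A i = Nat.card {n : N // n⁻¹ * (⟨x i, hi⟩ : N) * n ∈ H} := by
  refine ⟨(stabilizer G ω).subgroupOf N, fun i => Nat.card {n : N // (n : G)⁻¹ * x i * n ∈ stabilizer G ω},
    ?_, card_le_sum N h ω, ?_, ?_⟩
  · intro h1
    apply hE.nofix ω
    intro n hn
    have h2 : (⟨n, hn⟩ : N) ∈ (stabilizer G ω).subgroupOf N := by rw [h1]; trivial
    exact h2
  · intro i
    rw [← card_inf_eq]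
    exact card_move_le N _ hE.norm (x i)
  · intro i hi
    exact Nat.card_congr (Equiv.subtypeEquivRight fun n => Iff.rfl)

theorem geom_32 (A : ℕ) : 31 * ∑ a ∈ Finset.range (A + 1), 32 ^ a < 32 * 32 ^ A := by
  induction A with
  | zero => simp
  | succ A ih =>
    rw [Finset.sum_range_succ, mul_add, pow_succ]
    omega

theorem num_W {m : ℕ} (hm : 1 ≤ m) :
    31 * ∑ a ∈ Finset.range ((2 * m + 1) / 3 + 1), 32 ^ a < 16 * (2 ^ (2 * m + 1)) ^ 2 := by
  obtain ⟨A, hA⟩ : ∃ A, A = (2 * m + 1) / 3 := ⟨_, rfl⟩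
  rw [← hA]
  refine lt_of_lt_of_le (geom_32 A) ?_
  have h1 : 2 * 32 ^ A ≤ (2 ^ (2 * m + 1)) ^ 2 := by
    have h2 : (32 : ℕ) ^ A = 2 ^ (5 * A) := by rw [pow_mul]; norm_num
    rw [h2, ← pow_succ', ← pow_mul]
    apply Nat.pow_le_pow_right (by norm_num)
    omega
  omega

theorem num_k {m : ℕ} (hm : 1 ≤ m) :
    31 * ((m + 1) * (2 ^ (2 * m + 1) + 2 ^ (m + 1) + 1)) ≤ 15 * (2 ^ (2 * m + 1)) ^ 2 := by
  induction m, hm using Nat.le_induction with
  | base => norm_num
  | succ m hm ih =>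
    obtain ⟨a, ha⟩ : ∃ a, a = 2 ^ m := ⟨_, rfl⟩
    have e1 : 2 ^ (2 * m + 1) = 2 * a ^ 2 := by rw [ha, ← pow_mul, pow_succ, mul_comm, mul_comm m 2]
    have e2 : 2 ^ (m + 1) = 2 * a := by rw [ha, pow_succ, mul_comm]
    have e3 : 2 ^ (2 * (m + 1) + 1) = 8 * a ^ 2 := by
      rw [show 2 * (m + 1) + 1 = (2 * m + 1) + 2 by ring, pow_add, e1]; ring
    have e4 : 2 ^ (m + 1 + 1) = 4 * a := by rw [pow_succ, e2]; ring
    rw [e1, e2] at ih
    rw [e3, e4]
    have h1 : (m + 1 + 1) * (8 * a ^ 2 + 4 * a + 1) ≤ (2 * (m + 1)) * (8 * (2 * a ^ 2 + 2 * a + 1)) := by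
      apply Nat.mul_le_mul
      · omega
      · linarith only [_root_.sq_nonneg (↑a : ℤ), _root_.Nat.cast_nonneg (α := ℤ) (a)]
    have h2 : (8 * a ^ 2) ^ 2 = 16 * (2 * a ^ 2) ^ 2 := by ring
    rw [h2]
    calc 31 * ((m + 1 + 1) * (8 * a ^ 2 + 4 * a + 1)) ≤ 31 * ((2 * (m + 1)) * (8 * (2 * a ^ 2 + 2 * a + 1))) :=
          Nat.mul_le_mul_left _ h1
      _ = 16 * (31 * ((m + 1) * (2 * a ^ 2 + 2 * a + 1))) := by ring
      _ ≤ 16 * (15 * (2 * a ^ 2) ^ 2) := Nat.mul_le_mul_left _ ih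
      _ = 15 * (16 * (2 * a ^ 2) ^ 2) := by ring

theorem num_five {m k : ℕ} (h : 5 ^ k ≤ 2 ^ (2 * m + 1) + 2 ^ (m + 1) + 1) : k ≤ m + 1 := by
  by_contra hk
  push Not at hk
  have h1 : 4 ^ (m + 2) ≤ 5 ^ k :=
    (Nat.pow_le_pow_left (by norm_num) _).trans (Nat.pow_le_pow_right (by norm_num) (by omega))
  have h2 : (4 : ℕ) ^ (m + 2) = 16 * (2 ^ m) ^ 2 := by
    rw [← pow_mul, mul_comm m 2, pow_mul, pow_add]; norm_num; ring
  have e1 : 2 ^ (2 * m + 1) = 2 * (2 ^ m) ^ 2 := by rw [← pow_mul, pow_succ, mul_comm, mul_comm m 2]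
  have e2 : 2 ^ (m + 1) = 2 * 2 ^ m := by rw [pow_succ, mul_comm]
  rw [h2] at h1
  rw [e1, e2] at h
  have h3 : 1 ≤ 2 ^ m := Nat.one_le_two_pow
  nlinarith only [h, h1, h3]

theorem noCov_sz {S : Type} [Group S] {m : ℕ} (hm : 1 ≤ m) (hI' : SzI m S) (hO' : SzO m S) : NoCov S := by
  classical
  intro G _ _ Ω _ _ _ N hE e ι _ x r hx hcov _
  have hι : Fintype ι := Fintype.ofFinite ι
  have hI : SzI m N := hI'.congr e.symm
  have hO : SzO m N := SzO.congr e.symm hO'
  obtain ⟨ω⟩ := (inferInstance : Nonempty Ω)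
  obtain ⟨H, A, hH, hsum, hA, hAin⟩ := env_card hE hcov ω
  obtain ⟨q, hq⟩ : ∃ q, q = 2 ^ (2 * m + 1) := ⟨_, rfl⟩
  obtain ⟨L, hL⟩ : ∃ L, L = 2 ^ (2 * m + 1) + 2 ^ (m + 1) + 1 := ⟨_, rfl⟩
  obtain ⟨W, hW⟩ : ∃ W, W = ∑ a ∈ Finset.range ((2 * m + 1) / 3 + 1), 32 ^ a := ⟨_, rfl⟩
  obtain ⟨h, hh⟩ : ∃ h, h = Nat.card H := ⟨_, rfl⟩
  have hh0 : 0 < h := by rw [hh]; exact Nat.card_pos
  have hWn := num_W hm
  rw [← hW, ← hq] at hWn
  -- outer members
  have hout : ∀ i, x i ∉ N → 3 ≤ r i ∧ r i ∣ 2 * m + 1 ∧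
      Nat.card {n : N // x i * n = n * x i} ≤ 32 ^ ((2 * m + 1) / r i) := by
    intro i hi
    obtain ⟨a, ha1, ha2, ha3⟩ := env_outer hE hE.norm hi (hx.pow i)
    rw [ha3]
    exact hO (r i) a (hx.prime i) ha1 ha2
  obtain ⟨O, hOdef⟩ : ∃ O : Finset ι, O = Finset.univ.filter fun i => x i ∉ N := ⟨_, rfl⟩
  have hmO : ∀ i, i ∈ O ↔ x i ∉ N := by intro i; rw [hOdef]; simp only [_root_.Finset.mem_filter, _root_.Finset.mem_univ, _root_.true_and]
  have hOsum : ∑ i ∈ O, A i ≤ W * h := by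
    calc ∑ i ∈ O, A i ≤ ∑ i ∈ O, 32 ^ ((2 * m + 1) / r i) * h := by
          apply Finset.sum_le_sum
          intro i hi
          rw [hmO] at hi
          refine (hA i).trans ?_
          rw [← hh]
          exact Nat.mul_le_mul_right _ (hout i hi).2.2
      _ = (∑ i ∈ O, 32 ^ ((2 * m + 1) / r i)) * h := by rw [Finset.sum_mul]
      _ ≤ W * h := by
          apply Nat.mul_le_mul_right
          rw [hW]
          exact outer_sum O hx.inj (by omega) (fun i hi => ⟨(hout i ((hmO i).1 hi)).1,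
            (hout i ((hmO i).1 hi)).2.1⟩) 32
  obtain ⟨I, hIdef⟩ : ∃ I : Finset ι, I = Finset.univ.filter fun i => x i ∈ N := ⟨_, rfl⟩
  have hmI : ∀ i, i ∈ I ↔ x i ∈ N := by intro i; rw [hIdef]; simp only [_root_.Finset.mem_filter, _root_.Finset.mem_univ, _root_.true_and]
  have htot : ∑ i, A i = ∑ i ∈ I, A i + ∑ i ∈ O, A i := by
    rw [hIdef, hOdef, Finset.sum_filter_add_sum_filter_not]
  -- orders
  have hord : ∀ (i) (hi : x i ∈ N), orderOf (⟨x i, hi⟩ : N) = r i := by
    intro i hi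
    rw [Subgroup.orderOf_mk]
    have := Fact.mk (hx.prime i)
    exact orderOf_eq_prime (hx.pow i) (hx.ne i)
  have hcin : ∀ (i) (hi : x i ∈ N), Nat.card {n : N // x i * n = n * x i} =
      Nat.card {n : N // (⟨x i, hi⟩ : N) * n = n * ⟨x i, hi⟩} := by
    intro i hi
    refine Nat.card_congr (Equiv.subtypeEquivRight fun n => ?_)
    rw [Subtype.ext_iff]
    rfl
  have hcard := hI.card
  rw [← hq] at hcard
  have hq1 : 1 < q := by rw [hq]; exact Nat.one_lt_two_pow (by omega)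
  by_cases hinv : ∃ i, x i ∈ N ∧ r i = 2
  · -- an inner involution
    obtain ⟨i₀, hi₀, hr₀⟩ := hinv
    have hI1 : I = {i₀} := by
      ext i
      rw [hmI, Finset.mem_singleton]
      constructor
      · intro hi
        by_contra hne
        have hr2 : r i ≠ 2 := fun h2 => hne (hx.inj (h2.trans hr₀.symm))
        refine hI.noComm (r i) ⟨x i, hi⟩ ⟨x i₀, hi₀⟩ (hx.prime i) hr2 (hord i hi) ((hord i₀ hi₀).trans hr₀) ?_
        exact Subtype.ext (hx.comm i₀ i)
      · rintro rfl; exact hi₀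
    rw [hI1, Finset.sum_singleton] at htot
    have ht := (hord i₀ hi₀).trans hr₀
    rcases hI.inv H hH ⟨x i₀, hi₀⟩ ht with h1 | ⟨h1, h2⟩
    · have h3 := hI.centInv _ ht
      rw [← hq] at h3 h1
      rw [← hcin i₀ hi₀] at h3
      have h4 : A i₀ ≤ q ^ 2 * h := (hA i₀).trans (by rw [← hh]; exact Nat.mul_le_mul_right _ h3)
      rw [← hh] at h1
      have h5 : 2 * q ^ 2 * h ≤ (q ^ 2 + W) * h := by
        calc 2 * q ^ 2 * h ≤ Nat.card N := h1
          _ ≤ _ := hsum
          _ = _ := htot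
          _ ≤ q ^ 2 * h + W * h := Nat.add_le_add h4 hOsum
          _ = (q ^ 2 + W) * h := by ring
      have h6 := Nat.le_of_mul_le_mul_right h5 hh0
      omega
    · rw [← hq, ← hh] at h1
      rw [← hq, ← hAin i₀ hi₀] at h2
      obtain ⟨b, hb⟩ : ∃ b, b = q ^ 2 * (q - 1) := ⟨_, rfl⟩
      rw [← hb] at h1 h2
      have hb0 : 0 < b := by
        rw [hb]
        exact Nat.mul_pos (by positivity) (by omega)
      have h5 : (q ^ 2 + 1) * b ≤ (1 + W) * b := by
        calc (q ^ 2 + 1) * b = Nat.card N := by rw [hcard, hb]; ring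
          _ ≤ _ := hsum
          _ = _ := htot
          _ ≤ b + W * h := Nat.add_le_add h2 hOsum
          _ ≤ b + W * b := Nat.add_le_add_left (Nat.mul_le_mul_left _ h1) _
          _ = (1 + W) * b := by ring
      have h6 := Nat.le_of_mul_le_mul_right h5 hb0
      omega
  · -- only odd inner members
    push Not at hinv
    have hcI : ∀ (i) (hi : x i ∈ N), Nat.card {n : N // x i * n = n * x i} ≤ L := by
      intro i hi
      rw [hcin i hi, hL]
      exact hI.centOdd (r i) _ (hx.prime i) (hinv i hi) (hord i hi)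
    have hk : I.card ≤ m + 1 := by
      rcases I.eq_empty_or_nonempty with h0 | ⟨i₁, hi₁⟩
      · rw [h0]; simp
      have hi₁' := (hmI i₁).1 hi₁
      apply num_five
      rw [← hL]
      refine le_trans ?_ (hcI i₁ hi₁')
      -- the centraliser as a subgroup
      let C : Subgroup N := Subgroup.centralizer {(⟨x i₁, hi₁'⟩ : N)}
      have hC : Nat.card {n : N // x i₁ * n = n * x i₁} = Nat.card C := by
        rw [hcin i₁ hi₁']
        refine Nat.card_congr (Equiv.subtypeEquivRight fun n => ?_)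
        rw [Subgroup.mem_centralizer_singleton_iff]
        exact eq_comm
      rw [hC]
      apply card_pow_le I hx.inj (fun i _ => hx.prime i) Nat.card_pos.ne'
      · intro i hi
        have hi' := (hmI i).1 hi
        have h1 : (⟨x i, hi'⟩ : N) ∈ C := by
          rw [Subgroup.mem_centralizer_singleton_iff]
          exact Subtype.ext (hx.comm i i₁)
        have h2 := orderOf_dvd_natCard (⟨_, h1⟩ : C)
        rwa [Subgroup.orderOf_mk, hord i hi'] at h2
      · intro i hi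
        have hi' := (hmI i).1 hi
        apply hI.five (r i) (hx.prime i) (hinv i hi')
        have h2 := orderOf_dvd_natCard (⟨x i, hi'⟩ : N)
        rwa [hord i hi'] at h2
    have hIsum : ∑ i ∈ I, A i ≤ (m + 1) * L * h := by
      calc ∑ i ∈ I, A i ≤ ∑ i ∈ I, L * h := by
            apply Finset.sum_le_sum
            intro i hi
            refine (hA i).trans ?_
            rw [← hh]
            exact Nat.mul_le_mul_right _ (hcI i ((hmI i).1 hi))
        _ = I.card * (L * h) := by rw [Finset.sum_const, smul_eq_mul]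
        _ ≤ (m + 1) * (L * h) := Nat.mul_le_mul_right _ hk
        _ = (m + 1) * L * h := by ring
    have h1 := hI.sub H hH
    rw [← hq, ← hh] at h1
    have h5 : (q ^ 2 + 1) * h ≤ ((m + 1) * L + W) * h := by
      calc (q ^ 2 + 1) * h ≤ Nat.card N := h1
        _ ≤ _ := hsum
        _ = _ := htot
        _ ≤ (m + 1) * L * h + W * h := Nat.add_le_add hIsum hOsum
        _ = ((m + 1) * L + W) * h := by ring
    have h6 := Nat.le_of_mul_le_mul_right h5 hh0
    have h7 := num_k hm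
    rw [← hL, ← hq] at h7
    omega

/-- **The row of the Suzuki groups.** -/
theorem rowX_sz : RowX (fun S _ => Cfsg.Lie.IsoSuzuki S) := by
  intro S _ _ hS hsz _
  obtain ⟨F, iF, iF', m, hm, hF, ⟨e⟩⟩ := hsz
  have := hS.simple
  exact rc_of_noCov hS.simple hS.ncomm (noCov_sz hm (szI hm hF e) (szO hm hF e))

end Cfsg.Agent.H452.RG
end

-- part: H452/RG/ReeModel
section
/-!
# Data of the Ree groups for counting arguments

* `ReeI m S`; `reeI` : a Ree group satisfies `ReeI m`.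
-/

set_option autoImplicit false
open Subgroup MulAction
open scoped commutatorElement

namespace Cfsg.Agent.H452.RG

open Cfsg.Agent.H409 Cfsg.Agent.H452.FprCyc Cfsg.Agent.H452.FprTorus Cfsg.Agent.H452.FprRank
open Cfsg.Agent.H452.FprRee Cfsg.Agent.LieRecognition

/-- Data of a Ree group. -/
structure ReeI (m : ℕ) (S : Type*) [Group S] : Prop where
  idx : ∀ H : Subgroup S, H ≠ ⊤ → ((3 ^ (2 * m + 1)) ^ 2 - 3 ^ (2 * m + 1) + 1) * Nat.card H ≤ Nat.card S
  inv : ∀ (H : Subgroup S) (t : S), orderOf t = 2 →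
    11 * Nat.card {s : S // s⁻¹ * t * s ∈ H} ≤ Nat.card S + 11 * (3 ^ (2 * m + 1) - 1) * Nat.card H
  three : ∀ H : Subgroup S, H ≠ ⊤ → ∀ z : S, orderOf z = 3 →
    3 * Nat.card {s : S // s⁻¹ * z * s ∈ H} ≤ 2 * Nat.card S + (3 ^ (2 * m + 1) - 1) * Nat.card H
  cent : ∀ (p : ℕ) (x : S), p.Prime → 5 ≤ p → orderOf x = p →
    Nat.card {s : S // x * s = s * x} ≤ 2 * (3 ^ (2 * m + 1) + 3 ^ (m + 1) + 1)
  noComm : ∀ (p : ℕ) (x z : S), p.Prime → 5 ≤ p → orderOf x = p → orderOf z = 3 → z * x = x * z → False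

theorem ReeI.congr {m : ℕ} {S S' : Type*} [Group S] [Group S'] (e : S ≃* S') (h : ReeI m S) : ReeI m S' := by
  have hc : Nat.card S' = Nat.card S := Nat.card_congr e.symm.toEquiv
  have hH : ∀ H : Subgroup S', H ≠ ⊤ → H.comap e.toMonoidHom ≠ ⊤ := by
    intro H hH h1
    apply hH
    rw [eq_top_iff]
    intro s _
    have h2 : e.symm s ∈ H.comap e.toMonoidHom := by rw [h1]; trivial
    simpa using h2
  have hcH : ∀ H : Subgroup S', Nat.card ↥(H.comap e.toMonoidHom) = Nat.card H := fun H =>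
    Nat.card_congr (Equiv.subtypeEquiv e.toEquiv fun a => Iff.rfl)
  have hord : ∀ t : S', orderOf (e.symm t) = orderOf t := fun t => orderOf_injective e.symm.toMonoidHom e.symm.injective t
  have hcent : ∀ x : S', Nat.card {s : S' // x * s = s * x} = Nat.card {s : S // e.symm x * s = s * e.symm x} := by
    intro x
    refine Nat.card_congr (Equiv.subtypeEquiv e.symm.toEquiv fun a => ?_)
    change x * a = a * x ↔ e.symm x * e.symm a = e.symm a * e.symm x
    rw [← map_mul, ← map_mul, e.symm.injective.eq_iff]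
  have hmove : ∀ (H : Subgroup S') (t : S'), Nat.card {s : S' // s⁻¹ * t * s ∈ H} =
        Nat.card {s : S // s⁻¹ * e.symm t * s ∈ H.comap e.toMonoidHom} := by
    intro H t
    refine Nat.card_congr (Equiv.subtypeEquiv e.symm.toEquiv fun a => ?_)
    change a⁻¹ * t * a ∈ H ↔ e ((e.symm a)⁻¹ * e.symm t * e.symm a) ∈ H
    simp only [_root_.map_mul, _root_.map_inv, _root_.MulEquiv.apply_symm_apply]
  refine ⟨?_, ?_, ?_, ?_, ?_⟩
  · intro H hH'
    rw [hc, ← hcH]
    exact h.idx _ (hH H hH')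
  · intro H t ht
    rw [hc, ← hcH, hmove]
    exact h.inv _ _ ((hord t).trans ht)
  · intro H hH' z hz
    rw [hc, ← hcH, hmove]
    exact h.three _ (hH H hH') _ ((hord z).trans hz)
  · intro p x hp hp5 hx
    rw [hcent]
    exact h.cent p _ hp hp5 ((hord x).trans hx)
  · intro p x z hp hp5 hx hz hzx
    apply h.noComm p (e.symm x) (e.symm z) hp hp5 ((hord x).trans hx) ((hord z).trans hz)
    rw [← map_mul, ← map_mul, hzx]

/-- the bound by the centraliser -/
theorem card_move_le' {G : Type*} [Group G] [Finite G] (K : Subgroup G) (x : G) :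
    Nat.card {s : G // s⁻¹ * x * s ∈ K} ≤ Nat.card {s : G // x * s = s * x} * Nat.card K := by
  have h1 := card_move_le (⊤ : Subgroup G) K inferInstance x
  have e1 : Nat.card {s : (⊤ : Subgroup G) // (s : G)⁻¹ * x * s ∈ K} = Nat.card {s : G // s⁻¹ * x * s ∈ K} :=
    Nat.card_congr (Equiv.subtypeEquiv Subgroup.topEquiv.toEquiv fun a => Iff.rfl)
  have e2 : Nat.card {s : (⊤ : Subgroup G) // x * s = s * x} = Nat.card {s : G // x * s = s * x} :=
    Nat.card_congr (Equiv.subtypeEquiv Subgroup.topEquiv.toEquiv fun a => Iff.rfl)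
  rw [e1, e2, top_inf_eq] at h1
  exact h1

section Model

variable {K : Type*} [Field K] [Fintype K] {m : ℕ}

/-- an element of prime order at least `11` of the multiplicative group -/
theorem exists_unit (hm : 1 ≤ m) (hK : Fintype.card K = 3 ^ (2 * m + 1)) :
    ∃ (p : ℕ) (a : Kˣ), p.Prime ∧ 11 ≤ p ∧ orderOf a = p := by
  classical
  have h8 := ReeAbs.three_pow_odd_mod m
  obtain ⟨q, hq⟩ : ∃ q, q = 3 ^ (2 * m + 1) := ⟨_, rfl⟩
  rw [← hq] at h8 hK
  have hq27 : 27 ≤ q := by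
    rw [hq]
    calc 27 = 3 ^ 3 := by norm_num
      _ ≤ 3 ^ (2 * m + 1) := Nat.pow_le_pow_right (by norm_num) (by omega)
  obtain ⟨p, hp, hpq⟩ := Nat.exists_prime_and_dvd (n := (q - 1) / 2) (by (clear * - hq27; omega))
  have hpq1 : p ∣ q - 1 := hpq.trans (Nat.div_dvd_of_dvd (by omega))
  have hf : Fact p.Prime := ⟨hp⟩
  obtain ⟨a, ha⟩ := exists_prime_orderOf_dvd_card' (G := Kˣ) p (by
    rw [Nat.card_units, Nat.card_eq_fintype_card, hK]; exact hpq1)
  refine ⟨p, a, hp, ?_, ha⟩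
  have h2 : p ≠ 2 := by
    rintro rfl
    (clear * - h8 hpq; omega)
  have h3 : p ≠ 3 := by
    rintro rfl
    have : 3 ∣ q := hq ▸ dvd_pow_self 3 (by omega)
    (clear * - hq hq27 hpq1; omega)
  have h5 : p ≠ 5 := by
    rintro rfl
    have h6 : ∀ k : ℕ, 3 ^ (2 * k + 1) % 5 = 3 ∨ 3 ^ (2 * k + 1) % 5 = 2 := by
      intro k
      induction k with
      | zero => left; rfl
      | succ k ih =>
        rw [show 2 * (k + 1) + 1 = (2 * k + 1) + 2 by ring, pow_add, Nat.mul_mod]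
        rcases ih with h | h <;> rw [h] <;> norm_num
    have h7 := h6 m
    rw [← hq] at h7
    (clear * - hpq1 h7; omega)
  have h7 : p ≠ 7 := by
    rintro rfl
    have h6 : ∀ k : ℕ, 3 ^ (2 * k + 1) % 7 = 3 ∨ 3 ^ (2 * k + 1) % 7 = 6 ∨ 3 ^ (2 * k + 1) % 7 = 5 := by
      intro k
      induction k with
      | zero => left; rfl
      | succ k ih =>
        rw [show 2 * (k + 1) + 1 = (2 * k + 1) + 2 by ring, pow_add, Nat.mul_mod]
        rcases ih with h | h | h <;> rw [h] <;> norm_num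
    have h7 := h6 m
    rw [← hq] at h7
    (clear * - hpq1 h7; omega)
  by_contra hlt
  push Not at hlt
  have := hp.two_le
  interval_cases p <;> first | (clear * - h2 h3 h5 h7 h8 hpq1 hq hq27 hpq; omega) | (norm_num at hp)

/-- centralisers of torus elements -/
theorem card_cent_h {G : Type*} [Group G] [Finite G] {U : K → K → K → G} {h : Kˣ → G} {n : G}
    (D : ReeAbs.Data m U h n) (hK : Fintype.card K = 3 ^ (2 * m + 1)) {a : Kˣ} (ha : a ^ 2 ≠ 1) :
    Nat.card {s : G // h a * s = s * h a} = 3 ^ (2 * m + 1) - 1 := by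
  rw [← hK, ← ReeSplit.card_hSub D, ← ReeSplit.centralizer_h D hK ha]
  refine Nat.card_congr (Equiv.subtypeEquivRight fun s => ?_)
  rw [Subgroup.mem_centralizer_singleton_iff]
  exact eq_comm

theorem reeI_model (hm : 1 ≤ m) (hK : Fintype.card K = 3 ^ (2 * m + 1))
    [IsSimpleGroup ↥(Cfsg.Lie.twistedG2 K (3 ^ m))] : ReeI m ↥(Cfsg.Lie.twistedG2 K (3 ^ m)) := by
  classical
  have hch := ReeAbs.charP_three hK
  have hf3 : Fact (Nat.Prime 3) := ⟨Nat.prime_three⟩
  obtain ⟨U, h, n, D⟩ := Cfsg.Agent.ChevalleyStructure.Ree.Data.exists_data (K := K) hK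
  have hfin : Finite ↥(Cfsg.Lie.twistedG2 K (3 ^ m)) := ReeSylowThree.finite D
  have Dl := ReeSetup.local_of_data D hK
  have ar := ReeClass.arith m
  obtain ⟨p, a, hp, hp11, ha⟩ := exists_unit hm hK
  have h158 := Cfsg.Agent.S1158.result hm hK
  have hcard := Cfsg.Agent.S1069.result (m := m) hK
  obtain ⟨q, hq⟩ : ∃ q, q = 3 ^ (2 * m + 1) := ⟨_, rfl⟩
  obtain ⟨r, hr⟩ : ∃ r, r = 3 ^ (m + 1) := ⟨_, rfl⟩
  rw [← hq] at hcard
  have hrq : r * r = 3 * q := by
    rw [hr, hq, ← pow_add, ← pow_succ']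
    congr 1
    omega
  have hr3 : 3 * r ≤ q := by
    rw [hr, hq, ← pow_succ']
    exact Nat.pow_le_pow_right (by norm_num) (by omega)
  have hq27 : 27 ≤ q := by
    rw [hq]
    calc 27 = 3 ^ 3 := by norm_num
      _ ≤ 3 ^ (2 * m + 1) := Nat.pow_le_pow_right (by norm_num) (by omega)
  have h3q : 3 ∣ q := hq ▸ dvd_pow_self 3 (by omega)
  have hq4 : q % 4 = 3 := by
    rw [hq, pow_add, pow_mul, Nat.mul_mod, Nat.pow_mod]
    norm_num
  have hnc : ∃ x y : ↥(Cfsg.Lie.twistedG2 K (3 ^ m)), x * y ≠ y * x := by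
    by_contra hcon
    push Not at hcon
    exact (Cfsg.Agent.S1073.result hm hK).2 ⟨⟨hcon⟩⟩
  have hG : commutator ↥(Cfsg.Lie.twistedG2 K (3 ^ m)) = ⊤ := by
    rcases IsSimpleGroup.eq_bot_or_eq_top_of_normal (commutator ↥(Cfsg.Lie.twistedG2 K (3 ^ m))) inferInstance with h0 | h0
    · exfalso
      obtain ⟨x, y, hxy⟩ := hnc
      apply hxy
      have h1 : ⁅x, y⁆ ∈ commutator ↥(Cfsg.Lie.twistedG2 K (3 ^ m)) :=
        Subgroup.commutator_mem_commutator (Subgroup.mem_top x) (Subgroup.mem_top y)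
      rw [h0, Subgroup.mem_bot] at h1
      exact commutatorElement_eq_one_iff_mul_comm.1 h1
    · exact h0
  have ha2 : a ^ 2 ≠ 1 := by
    intro h1
    have h2 := Nat.le_of_dvd (by norm_num) (orderOf_dvd_of_pow_eq_one h1)
    omega
  have haa2 : (a * a) ^ 2 ≠ 1 := by
    intro h1
    have h3 : a ^ 4 = 1 := by
      rw [← h1]
      rw [mul_pow, ← pow_add]
    have h2 := Nat.le_of_dvd (by norm_num) (orderOf_dvd_of_pow_eq_one h3)
    omega
  have hFS : ∀ (H : Subgroup ↥(Cfsg.Lie.twistedG2 K (3 ^ m))) (b : Kˣ), b ^ 2 ≠ 1 →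
      (FS (MonoidHom.id _) H (h b)).ncard ≤ (3 ^ (2 * m + 1) - 1) * Nat.card H := by
    intro H b hb
    have h1 := card_move_le' H (h b)
    rw [card_cent_h D hK hb] at h1
    exact h1
  refine ⟨?_, ?_, ?_, ?_, ?_⟩
  · intro H hH
    obtain ⟨k, ρ, hρ, hk2, hk⟩ := FprDeg.exists_irr hnc hH
    have h1 := Cfsg.Agent.S2343.result m hm hK k ρ hρ hk2
    rw [← H.index_mul_card]
    exact Nat.mul_le_mul_right _ (h1.trans hk)
  · intro H t ht
    have h1 := ReeD.ratio_inv D hK hG (H := H) hp (by omega) ha ht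
    have h2 := hFS H a ha2
    have h3 : Nat.card {s : ↥(Cfsg.Lie.twistedG2 K (3 ^ m)) // s⁻¹ * t * s ∈ H} = (FS (MonoidHom.id _) H t).ncard := rfl
    rw [h3]
    generalize (FS (MonoidHom.id _) H t).ncard = x at *
    generalize (FS (MonoidHom.id _) H (h a)).ncard = y at *
    generalize Nat.card H = c at *
    generalize Nat.card ↥(Cfsg.Lie.twistedG2 K (3 ^ m)) = M at *
    have h4 : 11 * x ≤ M + 11 * y := by
      rcases le_total x y with hxy | hxy
      · omega
      · obtain ⟨d, rfl⟩ := Nat.exists_eq_add_of_le hxy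
        have h5 : p * d ≤ M := by
          rw [mul_add] at h1
          omega
        have h6 : 11 * d ≤ p * d := Nat.mul_le_mul_right _ hp11
        omega
    calc 11 * x ≤ M + 11 * y := h4
      _ ≤ M + 11 * ((3 ^ (2 * m + 1) - 1) * c) := Nat.add_le_add_left (Nat.mul_le_mul_left _ h2) _
      _ = _ := by ring
  · intro H hH z hz
    have h1 := ReeD.ratio_three D hK hH a hz
    have h2 := hFS H (a * a) haa2
    have h3 : Nat.card {s : ↥(Cfsg.Lie.twistedG2 K (3 ^ m)) // s⁻¹ * z * s ∈ H} = (FS (MonoidHom.id _) H z).ncard := rfl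
    rw [h3]
    exact h1.trans (Nat.add_le_add_left h2 _)
  · intro l x hl hl5 hx
    have hlf : Fact l.Prime := ⟨hl⟩
    have hl2 : l ≠ 2 := by omega
    have hl3 : l ≠ 3 := by omega
    have hc : ∀ P : Sylow l ↥(Cfsg.Lie.twistedG2 K (3 ^ m)), IsCyclic P :=
      fun P => Cfsg.Agent.S1156.result hm hK (by omega) P
    -- `3` does not divide the order of the centraliser
    have hC3 : ¬ 3 ∣ Nat.card (Subgroup.centralizer {x}) := by
      intro h3
      obtain ⟨⟨y, hy⟩, hyo⟩ := exists_prime_orderOf_dvd_card' (G := Subgroup.centralizer {x}) 3 h3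
      rw [Subgroup.orderOf_mk] at hyo
      refine ReeClass.no3 Dl ar y hyo x ?_ ?_ ?_ ?_
      · rw [hx]; exact hl.odd_of_ne_two hl2
      · rw [hx]
        intro h4
        exact hl3 ((Nat.prime_dvd_prime_iff_eq Nat.prime_three hl).1 h4).symm
      · rintro rfl
        rw [orderOf_one] at hx
        exact hl.one_lt.ne hx
      · exact Subgroup.mem_centralizer_singleton_iff.1 hy
    have hCN : Nat.card (Subgroup.centralizer {x}) ∣
        Nat.card (normalizer ((zpowers x : Subgroup ↥(Cfsg.Lie.twistedG2 K (3 ^ m))) :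
          Set ↥(Cfsg.Lie.twistedG2 K (3 ^ m)))) := by
      apply Subgroup.card_dvd_of_le
      intro g hg
      apply centralizer_le_normalizer
      rw [mem_centralizer_iff]
      rintro _ ⟨i, rfl⟩
      have h4 : Commute x g := (Subgroup.mem_centralizer_singleton_iff.1 hg).symm
      exact (h4.zpow_left i).eq
    have hcc : Nat.card {s : ↥(Cfsg.Lie.twistedG2 K (3 ^ m)) // x * s = s * x} = Nat.card (Subgroup.centralizer {x}) := by
      refine Nat.card_congr (Equiv.subtypeEquivRight fun s => ?_)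
      rw [Subgroup.mem_centralizer_singleton_iff]
      exact eq_comm
    rw [hcc, ← hq, ← hr]
    have key : ∀ a N : ℕ, (a, N) ∈ ({((3 ^ (2 * m + 1) - 1) / 2, 2 * (3 ^ (2 * m + 1) - 1)),
          ((3 ^ (2 * m + 1) + 1) / 4, 6 * (3 ^ (2 * m + 1) + 1)),
          (3 ^ (2 * m + 1) - 3 ^ (m + 1) + 1, 6 * (3 ^ (2 * m + 1) - 3 ^ (m + 1) + 1)),
          (3 ^ (2 * m + 1) + 3 ^ (m + 1) + 1, 6 * (3 ^ (2 * m + 1) + 3 ^ (m + 1) + 1))} : Set (ℕ × ℕ)) →
        l ∣ a → Nat.card (Subgroup.centralizer {x}) ∣ N := by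
      intro a N haN hpa
      obtain ⟨A, -, hA, hN, hall⟩ := h158 _ haN
      simp only at hA hN
      rw [← hA] at hpa
      obtain ⟨y, hy⟩ := exists_prime_orderOf_dvd_card' (G := A) l hpa
      have hyo : orderOf (y : ↥(Cfsg.Lie.twistedG2 K (3 ^ m))) = l := by rw [Subgroup.orderOf_coe, hy]
      rw [← hN, ← hall (zpowers (y : ↥(Cfsg.Lie.twistedG2 K (3 ^ m)))) (by rw [zpowers_le]; exact y.2) ?_,
        card_normalizer_eq hc hyo hx]
      · exact hCN
      · rw [Ne, zpowers_eq_bot]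
        intro h1
        rw [h1, orderOf_one] at hyo
        exact hl.one_lt.ne hyo
    rw [← hq, ← hr] at key
    have hfin2 : ∀ k : ℕ, Nat.card (Subgroup.centralizer {x}) ∣ 6 * k → 0 < k → k ≤ q + r + 1 →
        Nat.card (Subgroup.centralizer {x}) ≤ 2 * (q + r + 1) := by
      intro k hk hk0 hkle
      have h1 : Nat.card (Subgroup.centralizer {x}) ∣ 3 * (2 * k) := by
        rw [← mul_assoc]; exact hk
      have h2 : Nat.Coprime (Nat.card (Subgroup.centralizer {x})) 3 := by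
        rw [Nat.coprime_comm]
        exact (Nat.Prime.coprime_iff_not_dvd Nat.prime_three).2 hC3
      have h3 := h2.dvd_of_dvd_mul_left h1
      have h4 := Nat.le_of_dvd (by omega) h3
      (clear * - hkle h4; omega)
    -- the prime divisors
    have hcube : q ^ 3 + 1 = (q + 1) * ((q - r + 1) * (q + r + 1)) := by
      have h1 : r ≤ q := by (clear * - hr3; omega)
      zify [h1]
      have h2 : (r : ℤ) * r = 3 * q := by exact_mod_cast hrq
      linear_combination ((q : ℤ) + 1) * h2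
    have hlT : l ∣ Nat.card ↥(Cfsg.Lie.twistedG2 K (3 ^ m)) := hx ▸ orderOf_dvd_natCard x
    rw [hcard] at hlT
    have hlq : ¬ l ∣ q := by
      intro h1
      rw [hq] at h1
      exact hl3 ((Nat.prime_dvd_prime_iff_eq hl Nat.prime_three).1 (hl.dvd_of_dvd_pow h1))
    have hlodd : ∀ a b c : ℕ, l ∣ c → c = a * b → (a = 2 ∨ a = 4) → l ∣ b := by
      intro a b c hc' hab ha
      rw [hab] at hc'
      rcases (hl.dvd_mul).1 hc' with h1 | h1
      · exfalso
        apply hl2
        rcases ha with rfl | rfl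
        · exact (Nat.prime_dvd_prime_iff_eq hl Nat.prime_two).1 h1
        · have h2 : l ∣ 2 ^ 2 := by norm_num; exact h1
          exact (Nat.prime_dvd_prime_iff_eq hl Nat.prime_two).1 (hl.dvd_of_dvd_pow h2)
      · exact h1
    rcases (hl.dvd_mul).1 hlT with h1 | h1
    · rcases (hl.dvd_mul).1 h1 with h2 | h2
      · exact absurd (hl.dvd_of_dvd_pow h2) hlq
      · have h3 : l ∣ (q - 1) / 2 := hlodd 2 _ _ h2 (by (clear * - hq4; omega)) (Or.inl rfl)
        have h4 := Nat.le_of_dvd (by (clear * - hq4; omega)) (key ((q - 1) / 2) (2 * (q - 1)) (by simp only [_root_.Set.mem_insert_iff, _root_.Prod.mk.injEq, _root_.Set.mem_singleton_iff, _root_.true_or]) h3)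
        (clear * - h4; omega)
    · rw [hcube] at h1
      rcases (hl.dvd_mul).1 h1 with h2 | h2
      · exact hfin2 (q + 1) (key _ _ (by simp only [_root_.Set.mem_insert_iff, _root_.Prod.mk.injEq, _root_.mul_eq_mul_left_iff, _root_.Nat.add_right_cancel_iff, _root_.OfNat.ofNat_ne_zero, _root_.or_false, _root_.Set.mem_singleton_iff, _root_.Nat.left_eq_add, _root_.true_or, _root_.or_true] : ((q + 1) / 4, 6 * (q + 1)) ∈ _)
          (hlodd 4 _ _ h2 (by (clear * - hq4; omega)) (Or.inr rfl))) (by (clear * -; omega)) (by omega)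
      rcases (hl.dvd_mul).1 h2 with h3 | h3
      · exact hfin2 (q - r + 1) (key _ _ (by simp only [_root_.Set.mem_insert_iff, _root_.Prod.mk.injEq, _root_.mul_eq_mul_left_iff, _root_.Nat.add_right_cancel_iff, _root_.OfNat.ofNat_ne_zero, _root_.or_false, _root_.Set.mem_singleton_iff, _root_.and_self, _root_.true_or, _root_.or_true] : ((q - r + 1), 6 * (q - r + 1)) ∈ _) h3) (by omega) (by (clear * -; omega))
      · exact hfin2 (q + r + 1) (key _ _ (by simp only [_root_.Set.mem_insert_iff, _root_.Prod.mk.injEq, _root_.mul_eq_mul_left_iff, _root_.Nat.add_right_cancel_iff, _root_.Nat.add_eq_left, _root_.OfNat.ofNat_ne_zero, _root_.or_false, _root_.and_self, _root_.Set.mem_singleton_iff, _root_.or_true] : ((q + r + 1), 6 * (q + r + 1)) ∈ _) h3) (by (clear * -; omega)) le_rfl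
  · intro l x z hl hl5 hx hz hzx
    refine ReeClass.no3 Dl ar z hz x ?_ ?_ ?_ hzx
    · rw [hx]; exact hl.odd_of_ne_two (by omega)
    · rw [hx]
      intro h4
      have := (Nat.prime_dvd_prime_iff_eq Nat.prime_three hl).1 h4
      omega
    · rintro rfl
      rw [orderOf_one] at hx
      exact hl.one_lt.ne hx

end Model

/-- **The data of the Ree groups.** -/
theorem reeI {S : Type*} [Group S] [IsSimpleGroup S] {K : Type*} [Field K] [Fintype K] {m : ℕ}
    (hm : 1 ≤ m) (hK : Fintype.card K = 3 ^ (2 * m + 1)) (e : S ≃* ↥(Cfsg.Lie.twistedG2 K (3 ^ m))) : ReeI m S := by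
  have hs : IsSimpleGroup ↥(Cfsg.Lie.twistedG2 K (3 ^ m)) := by
    have : Nontrivial ↥(Cfsg.Lie.twistedG2 K (3 ^ m)) := e.symm.toEquiv.nontrivial
    exact IsSimpleGroup.isSimpleGroup_of_surjective e.toMonoidHom e.surjective
  exact ReeI.congr e.symm (reeI_model hm hK)

end Cfsg.Agent.H452.RG
end

-- part: H452/RG/ReeRow
section
/-!
# The row of the Ree groups `²G₂(q)`
-/

set_option autoImplicit false

namespace Cfsg.Agent.H452.RG

open MulAction Cfsg.Agent.H106.RC Cfsg.Agent.H873.RG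

/-- the automorphism induced by an element outside a normal subgroup -/
theorem env_outer' {G Ω : Type*} [Group G] [MulAction G Ω] {N : Subgroup G} (hE : Env G Ω N) (hN : N.Normal)
    {y : G} (hy : y ∉ N) {p : ℕ} (hyp : y ^ p = 1) :
    ∃ a : MulAut N, a ^ p = 1 ∧ (¬ ∃ g, a = MulAut.conj g) ∧ ∀ n : N, ((a n : N) : G) = y * n * y⁻¹ := by
  refine ⟨MulAut.conjNormal y, ?_, ?_, fun n => MulAut.conjNormal_apply y n⟩
  · rw [← map_pow, hyp, map_one]
  · rintro ⟨g, hg⟩
    apply hy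
    have h1 : (g : G)⁻¹ * y ∈ Subgroup.centralizer (N : Set G) := by
      rw [Subgroup.mem_centralizer_iff]
      intro n hn
      have h2 := congrArg (fun c : MulAut N => ((c ⟨n, hn⟩ : N) : G)) hg
      simp only [MulAut.conjNormal_apply, MulAut.conj_apply] at h2
      have h3 : y * n * y⁻¹ = (g : G) * n * (g : G)⁻¹ := h2
      calc n * ((g : G)⁻¹ * y) = (g : G)⁻¹ * ((g : G) * n * (g : G)⁻¹) * y := by group
        _ = (g : G)⁻¹ * (y * n * y⁻¹) * y := by rw [h3]
        _ = (g : G)⁻¹ * y * n := by group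
    rw [hE.cent, Subgroup.mem_bot] at h1
    have h2 : y = g := by
      calc y = (g : G) * ((g : G)⁻¹ * y) := by group
        _ = g := by rw [h1, mul_one]
    rw [h2]
    exact g.2

/-- an element and a conjugate: `2 |FS x| ≤ |N| + |FS [x, g]|` -/
theorem two_FS {G : Type*} [Group G] {N : Subgroup G} [Finite N] (K : Subgroup G) (x : G) (g y : N)
    (hy : (y : G) = (g : G)⁻¹ * (x * g * x⁻¹)) :
    2 * (FS N.subtype K x).ncard ≤ Nat.card N + (FS N.subtype K (y : G)).ncard := by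
  classical
  have h1 := ncard_FS_conj (ι := N.subtype) (K := K) x g⁻¹
  have h2 := Set.ncard_union_add_ncard_inter (FS N.subtype K x)
    (FS N.subtype K (N.subtype g⁻¹ * x * (N.subtype g⁻¹)⁻¹))
  rw [h1] at h2
  have h3 : (FS N.subtype K x ∪ FS N.subtype K (N.subtype g⁻¹ * x * (N.subtype g⁻¹)⁻¹)).ncard ≤ Nat.card N := by
    rw [← Set.ncard_univ]
    exact Set.ncard_le_ncard (Set.subset_univ _) (Set.toFinite _)
  have h4 : FS N.subtype K x ∩ FS N.subtype K (N.subtype g⁻¹ * x * (N.subtype g⁻¹)⁻¹) ⊆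
      FS N.subtype K (y : G) := by
    rintro n ⟨hn1, hn2⟩
    have h5 := FS_mul hn2 (FS_inv hn1)
    have h6 : N.subtype g⁻¹ * x * (N.subtype g⁻¹)⁻¹ * x⁻¹ = (y : G) := by
      rw [hy]
      change ((g⁻¹ : N) : G) * x * ((g⁻¹ : N) : G)⁻¹ * x⁻¹ = _
      rw [Subgroup.coe_inv]
      group
    rwa [h6] at h5
  have h5 := Set.ncard_le_ncard h4 (Set.toFinite _)
  omega

theorem geom_2187 (A : ℕ) : 2186 * ∑ a ∈ Finset.range (A + 1), 2187 ^ a < 2187 * 2187 ^ A := by
  induction A with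
  | zero => simp
  | succ A ih =>
    rw [Finset.sum_range_succ, mul_add, pow_succ]
    omega

theorem num_W3 {m : ℕ} (hm : 1 ≤ m) :
    22 * ∑ a ∈ Finset.range ((2 * m + 1) / 5 + 1), 2187 ^ a ≤ (3 ^ (2 * m + 1)) ^ 2 := by
  obtain ⟨A, hA⟩ : ∃ A, A = (2 * m + 1) / 5 := ⟨_, rfl⟩
  rw [← hA]
  rcases Nat.eq_zero_or_pos A with h0 | h0
  · rw [h0]
    have h1 : 27 ≤ 3 ^ (2 * m + 1) := by
      calc 27 = 3 ^ 3 := by norm_num
        _ ≤ 3 ^ (2 * m + 1) := Nat.pow_le_pow_right (by norm_num) (by omega)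
    simp only [zero_add, Finset.range_one, Finset.sum_singleton, pow_zero]
    nlinarith only [h1]
  · have h1 := geom_2187 A
    have h2 : 27 * 2187 ^ A ≤ (3 ^ (2 * m + 1)) ^ 2 := by
      have h3 : (2187 : ℕ) ^ A = 3 ^ (7 * A) := by rw [pow_mul]; norm_num
      have h4 : 27 = 3 ^ 3 := by norm_num
      rw [h3, h4, ← pow_add, ← pow_mul]
      apply Nat.pow_le_pow_right (by norm_num)
      omega
    omega

/-- numbers -/
theorem num_q {m : ℕ} (hm : 1 ≤ m) : 64 + 132 * m < 8 * 3 ^ (2 * m + 1) := by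
  induction m, hm using Nat.le_induction with
  | base => norm_num
  | succ m hm ih =>
    rw [show 2 * (m + 1) + 1 = (2 * m + 1) + 2 by ring, pow_add]
    omega

theorem num_k3 {m k : ℕ} (hm : 1 ≤ m) (h : 5 ^ k ≤ 3 * 3 ^ (2 * m + 1)) : k ≤ 2 * m := by
  by_contra hk
  push Not at hk
  have h1 : 5 ^ (2 * m + 1) ≤ 5 ^ k := Nat.pow_le_pow_right (by norm_num) (by omega)
  have h2 : ∀ j : ℕ, 1 ≤ j → 3 * 3 ^ (2 * j + 1) < 5 ^ (2 * j + 1) := by
    intro j hj
    induction j, hj using Nat.le_induction with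
    | base => norm_num
    | succ j hj ih =>
      rw [show 2 * (j + 1) + 1 = (2 * j + 1) + 2 by ring, pow_add, pow_add 5]
      omega
  have h3 := h2 m hm
  omega

theorem noCov_ree {S : Type} [Group S] {m : ℕ} (hm : 1 ≤ m) (hI' : ReeI m S) (hO' : ReeO m S) : NoCov S := by
  classical
  intro G _ _ Ω _ _ _ N hE e ι _ x r hx hcov _
  have hι : Fintype ι := Fintype.ofFinite ι
  have hI : ReeI m N := hI'.congr e.symm
  have hO : ReeO m N := ReeO.congr e.symm hO'
  obtain ⟨ω⟩ := (inferInstance : Nonempty Ω)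
  obtain ⟨K, hKdef⟩ : ∃ K, K = stabilizer G ω := ⟨_, rfl⟩
  obtain ⟨H, hHdef⟩ : ∃ H, H = K.subgroupOf N := ⟨_, rfl⟩
  have hH : H ≠ ⊤ := by
    intro h1
    apply hE.nofix ω
    intro n hn
    have h2 : (⟨n, hn⟩ : N) ∈ H := by rw [h1]; trivial
    rw [hHdef, hKdef] at h2
    exact h2
  obtain ⟨A, hAdef⟩ : ∃ A : ι → ℕ, A = fun i => (FS N.subtype K (x i)).ncard := ⟨_, rfl⟩
  have hsum : Nat.card N ≤ ∑ i, A i := by
    have h1 := card_le_sum N hcov ω
    rw [← hKdef] at h1
    rw [hAdef]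
    exact h1
  obtain ⟨h, hh⟩ : ∃ h, h = Nat.card H := ⟨_, rfl⟩
  have hh0 : 0 < h := by rw [hh]; exact Nat.card_pos
  have hle : ∀ y : G, (FS N.subtype K y).ncard ≤ Nat.card {n : N // y * n = n * y} * h := by
    intro y
    have h1 := card_move_le N K hE.norm y
    rw [card_inf_eq, ← hHdef, ← hh] at h1
    exact h1
  obtain ⟨q, hq⟩ : ∃ q, q = 3 ^ (2 * m + 1) := ⟨_, rfl⟩
  obtain ⟨s, hs⟩ : ∃ s, s = 3 ^ (m + 1) := ⟨_, rfl⟩
  have hq27 : 27 ≤ q := by
    rw [hq]
    calc 27 = 3 ^ 3 := by norm_num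
      _ ≤ 3 ^ (2 * m + 1) := Nat.pow_le_pow_right (by norm_num) (by omega)
  have hs3 : 3 * s ≤ q := by
    rw [hs, hq, ← pow_succ']
    exact Nat.pow_le_pow_right (by norm_num) (by omega)
  obtain ⟨W, hW⟩ : ∃ W, W = ∑ a ∈ Finset.range ((2 * m + 1) / 5 + 1), 2187 ^ a := ⟨_, rfl⟩
  have hWn := num_W3 hm
  rw [← hW, ← hq] at hWn
  have hqn := num_q hm
  rw [← hq] at hqn
  obtain ⟨L, hL⟩ : ∃ L, L = 2 * (3 ^ (2 * m + 1) + 3 ^ (m + 1) + 1) := ⟨_, rfl⟩
  have hL3 : L ≤ 3 * q := by rw [hL, ← hq, ← hs]; (clear * - hq27 hs3; omega)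
  obtain ⟨M, hM⟩ : ∃ M, M = Nat.card N := ⟨_, rfl⟩
  rw [← hM] at hsum
  have hidx := hI.idx H hH
  rw [← hq, ← hh, ← hM] at hidx
  -- orders
  have hord : ∀ (i) (hi : x i ∈ N), orderOf (⟨x i, hi⟩ : N) = r i := by
    intro i hi
    rw [Subgroup.orderOf_mk]
    have := Fact.mk (hx.prime i)
    exact orderOf_eq_prime (hx.pow i) (hx.ne i)
  have hcin : ∀ y : N, Nat.card {n : N // (y : G) * n = n * y} = Nat.card {n : N // y * n = n * y} := by
    intro y
    refine Nat.card_congr (Equiv.subtypeEquivRight fun n => ?_)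
    rw [Subtype.ext_iff]
    rfl
  have hAin : ∀ y : N, (FS N.subtype K (y : G)).ncard = Nat.card {n : N // n⁻¹ * y * n ∈ H} := by
    intro y
    rw [hHdef]
    rfl
  have hcent5 : ∀ (p : ℕ) (y : N), p.Prime → 5 ≤ p → orderOf y = p →
      (FS N.subtype K (y : G)).ncard ≤ L * h := by
    intro p y hp hp5 hy
    refine (hle y).trans ?_
    rw [hcin, hL]
    exact Nat.mul_le_mul_right _ (hI.cent p y hp hp5 hy)
  -- the sets of members
  obtain ⟨R2, hR2⟩ : ∃ R2 : Finset ι, R2 = Finset.univ.filter fun i => r i = 2 := ⟨_, rfl⟩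
  obtain ⟨R3, hR3⟩ : ∃ R3 : Finset ι, R3 = Finset.univ.filter fun i => r i = 3 := ⟨_, rfl⟩
  obtain ⟨I5, hI5⟩ : ∃ I5 : Finset ι, I5 = Finset.univ.filter fun i => 5 ≤ r i ∧ x i ∈ N := ⟨_, rfl⟩
  obtain ⟨O5, hO5⟩ : ∃ O5 : Finset ι, O5 = Finset.univ.filter fun i => 5 ≤ r i ∧ x i ∉ N := ⟨_, rfl⟩
  have hm2 : ∀ i, i ∈ R2 ↔ r i = 2 := by intro i; rw [hR2]; simp only [_root_.Finset.mem_filter, _root_.Finset.mem_univ, _root_.true_and]
  have hm3 : ∀ i, i ∈ R3 ↔ r i = 3 := by intro i; rw [hR3]; simp only [_root_.Finset.mem_filter, _root_.Finset.mem_univ, _root_.true_and]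
  have hmI : ∀ i, i ∈ I5 ↔ 5 ≤ r i ∧ x i ∈ N := by intro i; rw [hI5]; simp only [_root_.Finset.mem_filter, _root_.Finset.mem_univ, _root_.true_and]
  have hmO : ∀ i, i ∈ O5 ↔ 5 ≤ r i ∧ x i ∉ N := by intro i; rw [hO5]; simp only [_root_.Finset.mem_filter, _root_.Finset.mem_univ, _root_.true_and]
  have htot : ∑ i, A i ≤ ∑ i ∈ R2, A i + ∑ i ∈ R3, A i + ∑ i ∈ I5, A i + ∑ i ∈ O5, A i := by
    have h1 : (Finset.univ : Finset ι) ⊆ ((R2 ∪ R3) ∪ I5) ∪ O5 := by
      intro i _
      rw [Finset.mem_union, Finset.mem_union, Finset.mem_union, hm2, hm3, hmI, hmO]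
      have hp := hx.prime i
      have h2 := hp.two_le
      have h4 : r i ≠ 4 := by
        intro h4
        rw [h4] at hp
        exact absurd hp (by norm_num)
      by_cases hN : x i ∈ N
      · rcases (by omega : r i = 2 ∨ r i = 3 ∨ 5 ≤ r i) with h | h | h
        · exact Or.inl (Or.inl (Or.inl h))
        · exact Or.inl (Or.inl (Or.inr h))
        · exact Or.inl (Or.inr ⟨h, hN⟩)
      · rcases (by omega : r i = 2 ∨ r i = 3 ∨ 5 ≤ r i) with h | h | h
        · exact Or.inl (Or.inl (Or.inl h))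
        · exact Or.inl (Or.inl (Or.inr h))
        · exact Or.inr ⟨h, hN⟩
    have hu : ∀ s t : Finset ι, ∑ i ∈ s ∪ t, A i ≤ ∑ i ∈ s, A i + ∑ i ∈ t, A i := by
      intro s t
      rw [← Finset.sum_union_inter]
      exact Nat.le_add_right _ _
    calc ∑ i, A i ≤ ∑ i ∈ ((R2 ∪ R3) ∪ I5) ∪ O5, A i := Finset.sum_le_sum_of_subset h1
      _ ≤ ∑ i ∈ (R2 ∪ R3) ∪ I5, A i + ∑ i ∈ O5, A i := hu _ _
      _ ≤ (∑ i ∈ R2 ∪ R3, A i + ∑ i ∈ I5, A i) + ∑ i ∈ O5, A i := Nat.add_le_add_right (hu _ _) _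
      _ ≤ ((∑ i ∈ R2, A i + ∑ i ∈ R3, A i) + ∑ i ∈ I5, A i) + ∑ i ∈ O5, A i :=
          Nat.add_le_add_right (Nat.add_le_add_right (hu _ _) _) _
  -- outer members of order at least `5`
  have hOsum : ∑ i ∈ O5, A i ≤ W * h := by
    have hout : ∀ i, 5 ≤ r i → x i ∉ N → r i ∣ 2 * m + 1 ∧
        Nat.card {n : N // x i * n = n * x i} ≤ 2187 ^ ((2 * m + 1) / r i) := by
      intro i h5 hi
      obtain ⟨a, ha1, ha2, ha3⟩ := env_outer hE hE.norm hi (hx.pow i)
      rw [ha3]
      rcases hO (r i) a (hx.prime i) ha1 ha2 with ⟨h1, -⟩ | ⟨-, h1, h2⟩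
      · omega
      · exact ⟨h1, h2⟩
    calc ∑ i ∈ O5, A i ≤ ∑ i ∈ O5, 2187 ^ ((2 * m + 1) / r i) * h := by
          apply Finset.sum_le_sum
          intro i hi
          rw [hmO] at hi
          rw [hAdef]
          exact (hle (x i)).trans (Nat.mul_le_mul_right _ (hout i hi.1 hi.2).2)
      _ = (∑ i ∈ O5, 2187 ^ ((2 * m + 1) / r i)) * h := by rw [Finset.sum_mul]
      _ ≤ W * h := by
          apply Nat.mul_le_mul_right
          rw [hW]
          have hinj : Set.InjOn (fun i => (2 * m + 1) / r i) O5 := by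
            intro i hi j hj hij
            have hi' := (hmO i).1 hi
            have hj' := (hmO j).1 hj
            apply hx.inj
            obtain ⟨a, ha⟩ := (hout i hi'.1 hi'.2).1
            obtain ⟨b, hb⟩ := (hout j hj'.1 hj'.2).1
            have hi0 : 0 < r i := by omega
            have hj0 : 0 < r j := by omega
            have h1 : (2 * m + 1) / r i = a := by rw [ha]; exact Nat.mul_div_cancel_left _ hi0
            have h2 : (2 * m + 1) / r j = b := by rw [hb]; exact Nat.mul_div_cancel_left _ hj0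
            simp only at hij
            rw [h1, h2] at hij
            subst hij
            have ha0 : a ≠ 0 := by rintro rfl; omega
            have h4 : r i * a = r j * a := by rw [← ha, ← hb]
            exact Nat.eq_of_mul_eq_mul_right (Nat.pos_of_ne_zero ha0) h4
          rw [← Finset.sum_image (f := fun a => 2187 ^ a) hinj]
          apply Finset.sum_le_sum_of_subset
          intro a ha
          obtain ⟨i, hi, rfl⟩ := Finset.mem_image.1 ha
          rw [Finset.mem_range]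
          have : (2 * m + 1) / r i ≤ (2 * m + 1) / 5 := Nat.div_le_div_left ((hmO i).1 hi).1 (by norm_num)
          omega
  -- the member of order `2`
  have hone : ∀ (R : Finset ι) (c : ℕ), (∀ i, i ∈ R ↔ r i = c) → R = ∅ ∨ ∃ i, r i = c ∧ R = {i} := by
    intro R c hR
    rcases R.eq_empty_or_nonempty with h0 | ⟨i, hi⟩
    · exact Or.inl h0
    · right
      refine ⟨i, (hR i).1 hi, ?_⟩
      ext j
      rw [hR, Finset.mem_singleton]
      constructor
      · intro hj
        exact hx.inj (hj.trans ((hR i).1 hi).symm)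
      · rintro rfl
        exact (hR j).1 hi
  have h2sum : 11 * ∑ i ∈ R2, A i ≤ M + 11 * (q - 1) * h := by
    rcases hone R2 2 hm2 with h0 | ⟨i, hi, h0⟩
    · rw [h0, Finset.sum_empty, mul_zero]; exact Nat.zero_le _
    · rw [h0, Finset.sum_singleton]
      have hN : x i ∈ N := by
        by_contra hN
        obtain ⟨a, ha1, ha2, ha3⟩ := env_outer hE hE.norm hN (hx.pow i)
        rcases hO (r i) a (hx.prime i) ha1 ha2 with ⟨h1, -⟩ | ⟨h1, -⟩ <;> omega
      have h1 := hI.inv H ⟨x i, hN⟩ ((hord i hN).trans hi)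
      rw [← hAin ⟨x i, hN⟩, ← hM, ← hq, ← hh] at h1
      rw [hAdef]
      exact h1
  -- the member of order `3`
  by_cases hz : ∃ i, r i = 3 ∧ x i ∈ N
  · obtain ⟨i₃, hr₃, hN₃⟩ := hz
    have h3sum : 3 * ∑ i ∈ R3, A i ≤ 2 * M + (q - 1) * h := by
      rcases hone R3 3 hm3 with h0 | ⟨i, hi, h0⟩
      · rw [h0, Finset.sum_empty, mul_zero]; exact Nat.zero_le _
      · rw [h0, Finset.sum_singleton]
        have hii : i = i₃ := hx.inj (hi.trans hr₃.symm)
        subst hii
        have h1 := hI.three H hH ⟨x i, hN₃⟩ ((hord i hN₃).trans hi)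
        rw [← hAin ⟨x i, hN₃⟩, ← hM, ← hq, ← hh] at h1
        rw [hAdef]
        exact h1
    have hI0 : I5 = ∅ := by
      rw [Finset.eq_empty_iff_forall_notMem]
      intro i hi
      obtain ⟨h5, hi'⟩ := (hmI i).1 hi
      exact hI.noComm (r i) ⟨x i, hi'⟩ ⟨x i₃, hN₃⟩ (hx.prime i) h5 (hord i hi') ((hord i₃ hN₃).trans hr₃)
        (Subtype.ext (hx.comm i₃ i))
    rw [hI0, Finset.sum_empty, add_zero] at htot
    have h5 : 8 * M ≤ (44 * (q - 1) + 33 * W) * h := by
      have h6 : (44 * (q - 1) + 33 * W) * h = 4 * (11 * (q - 1) * h) + 33 * (W * h) := by ring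
      have h7 : 11 * (q - 1) * h = 11 * ((q - 1) * h) := by ring
      rw [h6, h7]
      rw [h7] at h2sum
      omega
    have h6 : (8 * (q ^ 2 - q + 1)) * h ≤ (44 * (q - 1) + 33 * W) * h := by
      calc (8 * (q ^ 2 - q + 1)) * h = 8 * ((q ^ 2 - q + 1) * h) := by ring
        _ ≤ 8 * M := Nat.mul_le_mul_left _ hidx
        _ ≤ _ := h5
    have h7 := Nat.le_of_mul_le_mul_right h6 hh0
    have h8 : 27 * q ≤ q ^ 2 := by rw [pow_two]; exact Nat.mul_le_mul_right _ hq27
    (clear * - hWn h7 h8; omega)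
  · push Not at hz
    have h3sum : 2 * ∑ i ∈ R3, A i ≤ M + L * h := by
      rcases hone R3 3 hm3 with h0 | ⟨i, hi, h0⟩
      · rw [h0, Finset.sum_empty, mul_zero]; exact Nat.zero_le _
      · rw [h0, Finset.sum_singleton]
        have hN : x i ∉ N := hz i hi
        obtain ⟨a, ha1, ha2, ha3⟩ := env_outer' hE hE.norm hN (hx.pow i)
        rcases hO (r i) a (hx.prime i) ha1 ha2 with ⟨-, g, l, hl, hl5, hlg⟩ | ⟨h1, -⟩
        · have h1 := two_FS K (x i) g (g⁻¹ * a g) (by
            rw [Subgroup.coe_mul, Subgroup.coe_inv, ha3])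
          -- a power of prime order
          obtain ⟨y, hy⟩ : ∃ y, y = g⁻¹ * a g := ⟨_, rfl⟩
          rw [← hy] at h1 hlg
          have hpos := orderOf_pos y
          have hyo : orderOf (y ^ (orderOf y / l)) = l := by
            rw [orderOf_pow' y (Nat.div_pos (Nat.le_of_dvd hpos hlg) hl.pos).ne']
            rw [Nat.gcd_eq_right (Nat.div_dvd_of_dvd hlg), Nat.div_div_self hlg hpos.ne']
          have h2 : (FS N.subtype K (y : G)).ncard ≤ (FS N.subtype K ((y ^ (orderOf y / l) : N) : G)).ncard := by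
            apply Set.ncard_le_ncard _ (Set.toFinite _)
            intro n hn
            rw [Subgroup.coe_pow]
            exact FS_pow hn _
          have h3 := hcent5 l _ hl hl5 hyo
          rw [hAdef, hM]
          exact h1.trans (Nat.add_le_add_left (h2.trans h3) _)
        · omega
    -- inner members of order at least `5`
    have hIsum : ∑ i ∈ I5, A i ≤ 2 * m * (L * h) := by
      have hk : I5.card ≤ 2 * m := by
        rcases I5.eq_empty_or_nonempty with h0 | ⟨i₁, hi₁⟩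
        · rw [h0]; simp
        obtain ⟨h51, hi₁'⟩ := (hmI i₁).1 hi₁
        apply num_k3 hm
        rw [← hq]
        refine le_trans ?_ hL3
        have h1 := hI.cent (r i₁) ⟨x i₁, hi₁'⟩ (hx.prime i₁) h51 (hord i₁ hi₁')
        rw [← hL] at h1
        refine le_trans ?_ h1
        let C : Subgroup N := Subgroup.centralizer {(⟨x i₁, hi₁'⟩ : N)}
        have hC : Nat.card {n : N // (⟨x i₁, hi₁'⟩ : N) * n = n * ⟨x i₁, hi₁'⟩} = Nat.card C := by
          refine Nat.card_congr (Equiv.subtypeEquivRight fun n => ?_)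
          rw [Subgroup.mem_centralizer_singleton_iff]
          exact eq_comm
        rw [hC]
        apply card_pow_le I5 hx.inj (fun i _ => hx.prime i) Nat.card_pos.ne'
        · intro i hi
          have hi' := ((hmI i).1 hi).2
          have h1 : (⟨x i, hi'⟩ : N) ∈ C := by
            rw [Subgroup.mem_centralizer_singleton_iff]
            exact Subtype.ext (hx.comm i i₁)
          have h2 := orderOf_dvd_natCard (⟨_, h1⟩ : C)
          rwa [Subgroup.orderOf_mk, hord i hi'] at h2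
        · intro i hi
          exact ((hmI i).1 hi).1
      calc ∑ i ∈ I5, A i ≤ ∑ i ∈ I5, L * h := by
            apply Finset.sum_le_sum
            intro i hi
            obtain ⟨h5, hi'⟩ := (hmI i).1 hi
            rw [hAdef]
            exact hcent5 (r i) ⟨x i, hi'⟩ (hx.prime i) h5 (hord i hi')
        _ = I5.card * (L * h) := by rw [Finset.sum_const, smul_eq_mul]
        _ ≤ _ := Nat.mul_le_mul_right _ hk
    have h5 : 9 * M ≤ (22 * (q - 1) + 11 * L + 44 * m * L + 22 * W) * h := by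
      have h6 : (22 * (q - 1) + 11 * L + 44 * m * L + 22 * W) * h =
          22 * ((q - 1) * h) + 11 * (L * h) + 22 * (2 * m * (L * h)) + 22 * (W * h) := by ring
      have h7 : 11 * (q - 1) * h = 11 * ((q - 1) * h) := by ring
      rw [h6]
      rw [h7] at h2sum
      omega
    have h6 : (9 * (q ^ 2 - q + 1)) * h ≤ (22 * (q - 1) + 11 * L + 44 * m * L + 22 * W) * h := by
      calc (9 * (q ^ 2 - q + 1)) * h = 9 * ((q ^ 2 - q + 1) * h) := by ring
        _ ≤ 9 * M := Nat.mul_le_mul_left _ hidx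
        _ ≤ _ := h5
    have h7 := Nat.le_of_mul_le_mul_right h6 hh0
    have h8 : (64 + 132 * m) * q ≤ (8 * q) * q := Nat.mul_le_mul_right _ hqn.le
    have h9 : 44 * m * L ≤ 132 * m * q := by
      calc 44 * m * L ≤ 44 * m * (3 * q) := Nat.mul_le_mul_left _ hL3
        _ = 132 * m * q := by ring
    have h10 : (64 + 132 * m) * q = 64 * q + 132 * m * q := by ring
    have h11 : (8 * q) * q = 8 * q ^ 2 := by ring
    have h12 : q ≤ q ^ 2 := Nat.le_self_pow (by norm_num) q
    (clear * - hq hs hq27 hs3 hWn hL h7 h8 h9 h10 h11 h12; omega)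

/-- **The row of the Ree groups.** -/
theorem rowX_ree : RowX (fun S _ => Cfsg.Lie.IsoRee S) := by
  intro S _ _ hS hree _
  obtain ⟨K, iK, iK', m, hm, hK, ⟨e⟩⟩ := hree
  have := hS.simple
  exact rc_of_noCov hS.simple hS.ncomm (noCov_ree hm (reeI hm hK e) (reeO hm hK e))

end Cfsg.Agent.H452.RG
end

-- part: H72/G2G/Const
section
/-!
# S3509, `G₂(3^n)`, `n` odd: constant words (helper72)

* `cw k w` : the element of `G₂(k)` with the word `w` with coefficients in `ℤ`; `cw_eq`, `cw_pow_odd`, `cw_phi`, `emb_cw`;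
* `u0`, `n0` : a regular unipotent element and a representative of `-1`, fixed by `Γ ^ n`; `eq_one_of_u0_n0`.
-/

set_option autoImplicit false
set_option linter.unusedSectionVars false

namespace Cfsg.Agent.H72.G2G

open Subgroup Cfsg Cfsg.Lie Cfsg.Lie.ChevalleyDatum
open Cfsg.Agent.ChevalleyStructure Cfsg.Agent.ChevalleyStructure.Elts
open Cfsg.Agent.ChevalleyStructure.WordCheck
open Cfsg.Agent.H689.Ccp (hD X fl la X_neg ext_aut fl_tab)
open Cfsg.Agent.H70.ChevFix (xe)
open Cfsg.Agent.GpExc.Field (glMap emb coe_emb glMap_xG emb_injective coe_glMap)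
open Cfsg.Agent.BpExc.FamUntw Cfsg.Agent.BpExc.FamField Cfsg.Agent.BpExc.TowChev

universe u

section cwd

variable (k : Type u) [Field k]

/-- the element with the constant word `w` -/
def cw (w : List (ℕ × ℤ)) : ↥(chevG2.group k) := (w.map fun p => xe hD p.1 ((p.2 : ℤ) : k)).prod

theorem cw_nil : cw k [] = 1 := rfl

theorem cw_cons (p : ℕ × ℤ) (w : List (ℕ × ℤ)) : cw k (p :: w) = xe hD p.1 ((p.2 : ℤ) : k) * cw k w := by
  unfold cw
  rw [List.map_cons, List.prod_cons]

theorem cw_append (w v : List (ℕ × ℤ)) : cw k (w ++ v) = cw k w * cw k v := by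
  unfold cw
  rw [List.map_append, List.prod_append]

theorem coe_cw (w : List (ℕ × ℤ)) : ((cw k w : ↥(chevG2.group k)) : GL chevG2.Idx k) =
    wordG hD (w.map fun p => (p.1, ((p.2 : ℤ) : k))) := by
  induction w with
  | nil => rfl
  | cons p w ih =>
    rw [cw_cons, Subgroup.coe_mul, ih, List.map_cons, wordG_cons]
    rfl

/-- the words as symbolic words -/
def cc (w : List (ℕ × ℤ)) : List (ℕ × PExpr) := w.map fun p => (p.1, PExpr.const p.2)

/-- the check -/
def ck (w w' : List (ℕ × ℤ)) : Bool := check chevG2 3 0 0 (xw (cc w)) (xw (cc w'))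

theorem wval_cc (w : List (ℕ × ℤ)) : wval (fun _ => (0 : k)) (cc w) = w.map fun p => (p.1, ((p.2 : ℤ) : k)) := by
  unfold wval cc
  rw [List.map_map]
  rfl

theorem cw_eq [CharP k 3] {w w' : List (ℕ × ℤ)} (h : ck w w' = true) : cw k w = cw k w' := by
  have h3 : ((3 : ℕ) : k) = 0 := CharP.cast_eq_zero k 3
  apply Subtype.ext
  apply Units.ext
  rw [coe_cw, coe_cw, coe_wordG, coe_wordG, ← wval_cc, ← wval_cc]
  exact wordMat_eq_of_check chevG2 (fun _ => (0 : k)) 3 0 0 (cc w) (cc w') h h3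
    (fun i hi => absurd hi (Nat.not_lt_zero _))

/-- small coefficients -/
def Sm (w : List (ℕ × ℤ)) : Prop := ∀ p ∈ w, p.1 < 12 ∧ (p.2 = 0 ∨ p.2 = 1 ∨ p.2 = -1)

instance (w : List (ℕ × ℤ)) : Decidable (Sm w) := by unfold Sm; infer_instance

theorem pow_odd_eq {z : ℤ} (hz : z = 0 ∨ z = 1 ∨ z = -1) {e : ℕ} (he : Odd e) : ((z : ℤ) : k) ^ e = ((z : ℤ) : k) := by
  rcases hz with rfl | rfl | rfl
  · rw [Int.cast_zero, zero_pow]
    rintro rfl
    exact (Nat.not_odd_zero he).elim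
  · rw [Int.cast_one, one_pow]
  · rw [Int.cast_neg, Int.cast_one, he.neg_one_pow]

variable {k}

theorem la_odd {r : ℕ} (hr : r < 12) : Odd (la r) := by
  have h : ∀ r < 12, Odd (la r) := by decide +kernel
  exact h r hr

/-- the reflected word -/
def fw (w : List (ℕ × ℤ)) : List (ℕ × ℤ) := w.map fun p => (fl p.1, p.2)

theorem aut_cw {m : ℕ} {β : MulAut ↥(chevG2.group k)}
    (hβ : ∀ r < 12, ∀ t : k, β (xe hD r t) = xe hD (fl r) (t ^ (la r * 3 ^ m))) {w : List (ℕ × ℤ)} (hw : Sm w) :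
    β (cw k w) = cw k (fw w) := by
  induction w with
  | nil => exact map_one β
  | cons p w ih =>
    have hp := hw p List.mem_cons_self
    have h3 : Odd (3 ^ m) := Odd.pow (by decide)
    rw [cw_cons, map_mul, ih fun q hq => hw q (List.mem_cons_of_mem _ hq), hβ _ hp.1,
      pow_odd_eq k hp.2 ((la_odd hp.1).mul h3)]
    exact (cw_cons k (fl p.1, p.2) (fw w)).symm

theorem cw_pow_odd [CharP k 3] [PerfectRing k 3] {Γ : MulAut ↥(chevG2.group k)} (h : Spec Γ) (m : ℕ)
    {w : List (ℕ × ℤ)} (hw : Sm w) : (Γ ^ (2 * m + 1)) (cw k w) = cw k (fw w) :=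
  aut_cw (fun _ hr t => h.pow_odd m hr t) hw

theorem cw_phi [CharP k 3] [PerfectRing k 3] (m : ℕ) {w : List (ℕ × ℤ)} (hw : Sm w) :
    phi chevG2 k 3 m (cw k w) = cw k w := by
  induction w with
  | nil => exact map_one _
  | cons p w ih =>
    have hp := hw p List.mem_cons_self
    have h3 : Odd (3 ^ m) := Odd.pow (by decide)
    rw [cw_cons, map_mul, ih fun q hq => hw q (List.mem_cons_of_mem _ hq), phi_xe, pow_odd_eq k hp.2 h3]

theorem emb_xe {F : Type u} [Field F] (f : F →+* k) (r : ℕ) (t : F) :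
    emb hD f (xe hD r t) = xe hD r (f t) := by
  apply Subtype.ext
  rw [coe_emb]
  exact glMap_xG hD f r t

theorem emb_cw {F : Type u} [Field F] (f : F →+* k) (w : List (ℕ × ℤ)) :
    emb hD f (cw F w) = cw k w := by
  induction w with
  | nil => exact map_one _
  | cons p w ih => rw [cw_cons, cw_cons, map_mul, ih, emb_xe, map_intCast]

end cwd

/-! ### the elements -/

/-- a regular unipotent element -/
def u0 : List (ℕ × ℤ) := [(7, 1), (6, 1), (8, 1), (9, 1)]
/-- a representative of the longest element -/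
def n0 : List (ℕ × ℤ) := [(7, 1), (4, -1), (7, 1), (6, 1), (5, -1), (6, 1), (7, 1), (4, -1), (7, 1), (6, 1), (5, -1), (6, 1),
  (7, 1), (4, -1), (7, 1), (6, 1), (5, -1), (6, 1)]
def h0 : List (ℕ × ℤ) := [(8, 1), (10, 1)]
def z0 : List (ℕ × ℤ) := [(9, 1), (11, 1)]

theorem sm_u0 : Sm u0 := by decide
theorem sm_n0 : Sm n0 := by decide
theorem sm_h0 : Sm h0 := by decide
set_option maxRecDepth 100000 in
theorem ck_u0 : ck (fw u0) u0 = true := by decide +kernel
set_option maxRecDepth 100000 in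
theorem ck_n0 : ck (fw n0) n0 = true := by decide +kernel
set_option maxRecDepth 100000 in
theorem ck_h0 : ck (fw h0) h0 = true := by decide +kernel
set_option maxRecDepth 100000 in
theorem ck_u0a : ck u0 [(6, 1), (10, 1), (11, 1), (7, 1)] = true := by decide +kernel
set_option maxRecDepth 100000 in
theorem ck_u0b : ck u0 [(7, 1), (8, 1), (9, 1), (6, 1)] = true := by decide +kernel
set_option maxRecDepth 100000 in
theorem ck_comm : ck (u0 ++ h0) (z0 ++ (h0 ++ u0)) = true := by decide +kernel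
set_option maxRecDepth 100000 in
theorem ck_fin : ck ([(6, 1), (7, -1)] ++ [(8, -1), (10, 1)]) (z0 ++ ([(8, -1), (10, 1)] ++ [(6, 1), (7, -1)])) = true := by
  decide +kernel
set_option maxRecDepth 100000 in
theorem ck_a : ck ([(7, 1)] ++ z0) (z0 ++ [(7, 1)]) = true := by decide +kernel
set_option maxRecDepth 100000 in
theorem ck_b : ck ([(8, -1), (10, 1)] ++ z0) (z0 ++ [(8, -1), (10, 1)]) = true := by decide +kernel

end Cfsg.Agent.H72.G2G
end

-- part: H72/G2G/Reg
section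
/-!
# S3509, `G₂(3^n)`, `n` odd: elements commuting with the constant elements `u0`, `n0` (helper72)

* `eq_one_of_u0_n0` : an element of `G₂(k)` commuting with `u0` and `n0` is trivial.
-/

set_option autoImplicit false
set_option linter.unusedSectionVars false

namespace Cfsg.Agent.H72.G2G

open Subgroup Cfsg Cfsg.Lie Cfsg.Lie.ChevalleyDatum
open Cfsg.Agent.ChevalleyStructure Cfsg.Agent.ChevalleyStructure.Elts Cfsg.Agent.ChevalleyStructure.BruhatSplit
  Cfsg.Agent.ChevalleyStructure.RootWord Cfsg.Agent.ChevalleyStructure.NConj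
open Cfsg.Agent.H689.Ccp (hD X fl la X_neg ext_aut fl_tab)
open Cfsg.Agent.H70.ChevFix (xe)
open Cfsg.Agent.H522.FamTw.Cent (Co eq_one_of_comm)
open Cfsg.Agent.Nodes.RGDChev (IsType typeList)

universe u

theorem hpG : IsType chevG2 2 CoxeterMatrix.G₂ := by simp [IsType, typeList]

theorem pos_tab : ∀ r < 12, 6 ≤ r → chevG2.IsPosRoot r := by decide +kernel

theorem simple_tab : chevG2.simple 0 = 7 ∧ chevG2.simple 1 = 6 ∧ chevG2.neg 7 = 4 ∧ chevG2.neg 6 = 5 ∧
    chevG2.rank = 2 ∧ chevG2.nroots = 12 := by decide +kernel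

theorem wact_tab : ∀ r < 12, ¬ 6 ≤ r → 6 ≤ wact chevG2 ([0] ++ ([1] ++ ([0] ++ ([1] ++ ([0] ++ [1]))))) r ∧
    wact chevG2 ([0] ++ ([1] ++ ([0] ++ ([1] ++ ([0] ++ [1]))))) r < 12 := by decide +kernel

theorem neg_tab : ∀ r < 12, chevG2.IsNegRoot r → ¬ 6 ≤ r := by decide +kernel

section

variable {k : Type u} [Field k]

/-- positive words -/
theorem cw_mem_pos {w : List (ℕ × ℤ)} (hw : ∀ p ∈ w, 6 ≤ p.1 ∧ p.1 < 12) :
    ((cw k w : ↥(chevG2.group k)) : GL chevG2.Idx k) ∈ chevG2.posUnipotent k := by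
  induction w with
  | nil => exact one_mem _
  | cons p w ih =>
    have hp := hw p List.mem_cons_self
    rw [cw_cons, Subgroup.coe_mul]
    exact mul_mem (xG_mem_posUnipotent hD (pos_tab _ hp.2 hp.1) _) (ih fun q hq => hw q (List.mem_cons_of_mem _ hq))

theorem cw_mem_Ui {i : ℕ} {w : List (ℕ × ℤ)} (hw : ∀ p ∈ w, (6 ≤ p.1 ∧ p.1 < 12) ∧ p.1 ≠ chevG2.simple i) :
    ((cw k w : ↥(chevG2.group k)) : GL chevG2.Idx k) ∈ Ui k chevG2 i := by
  induction w with
  | nil => exact one_mem _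
  | cons p w ih =>
    have hp := hw p List.mem_cons_self
    rw [cw_cons, Subgroup.coe_mul]
    exact mul_mem (Subgroup.subset_closure ⟨_, _, pos_tab _ hp.1.2 hp.1.1, hp.2, coe_xG hD _ _⟩)
      (ih fun q hq => hw q (List.mem_cons_of_mem _ hq))

theorem co_cw [CharP k 3] {i : ℕ} {w w' : List (ℕ × ℤ)} (h : ck w (w' ++ [(chevG2.simple i, 1)]) = true)
    (hw' : ∀ p ∈ w', (6 ≤ p.1 ∧ p.1 < 12) ∧ p.1 ≠ chevG2.simple i) :
    Co hD i ((cw k w : ↥(chevG2.group k)) : GL chevG2.Idx k) 1 := by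
  refine ⟨_, cw_mem_Ui hw', ?_⟩
  rw [cw_eq k h, cw_append, Subgroup.coe_mul, cw_cons, cw_nil, mul_one, Int.cast_one]
  rfl

theorem co_u0 [CharP k 3] : ∀ i < chevG2.rank, ∃ s : k, Co hD i ((cw k u0 : ↥(chevG2.group k)) : GL chevG2.Idx k) s ∧
    s ≠ 0 := by
  intro i hi
  rw [simple_tab.2.2.2.2.1] at hi
  refine ⟨1, ?_, one_ne_zero⟩
  interval_cases i
  · refine co_cw (w' := [(6, 1), (10, 1), (11, 1)]) ?_ ?_
    · rw [simple_tab.1]; exact ck_u0a
    · rw [simple_tab.1]; decide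
  · refine co_cw (w' := [(7, 1), (8, 1), (9, 1)]) ?_ ?_
    · rw [simple_tab.2.1]; exact ck_u0b
    · rw [simple_tab.2.1]; decide

theorem coe_n7 : ((cw k [(7, 1), (4, -1), (7, 1)] : ↥(chevG2.group k)) : GL chevG2.Idx k) =
    nG hD (chevG2.simple 0) 1 := by
  rw [coe_cw, nG, nWord, simple_tab.1, simple_tab.2.2.1]
  simp

theorem coe_n6 : ((cw k [(6, 1), (5, -1), (6, 1)] : ↥(chevG2.group k)) : GL chevG2.Idx k) =
    nG hD (chevG2.simple 1) 1 := by
  rw [coe_cw, nG, nWord, simple_tab.2.1, simple_tab.2.2.2.1]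
  simp

theorem coe_n0 : ((cw k n0 : ↥(chevG2.group k)) : GL chevG2.Idx k) =
    nG hD (chevG2.simple 0) 1 * (nG hD (chevG2.simple 1) 1 * (nG hD (chevG2.simple 0) 1 * (nG hD (chevG2.simple 1) 1 *
      (nG hD (chevG2.simple 0) 1 * nG hD (chevG2.simple 1) 1)))) := by
  have e : n0 = [(7, 1), (4, -1), (7, 1)] ++ ([(6, 1), (5, -1), (6, 1)] ++ ([(7, 1), (4, -1), (7, 1)] ++
    ([(6, 1), (5, -1), (6, 1)] ++ ([(7, 1), (4, -1), (7, 1)] ++ [(6, 1), (5, -1), (6, 1)])))) := rfl
  rw [e, cw_append, cw_append, cw_append, cw_append, cw_append]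
  simp only [Subgroup.coe_mul, coe_n7, coe_n6]

theorem n0_mono : ((cw k n0 : ↥(chevG2.group k)) : GL chevG2.Idx k) ∈ chevG2.monomialSubgroup k := by
  have h0 : nG hD (chevG2.simple 0) (1 : k) ∈ chevG2.monomialSubgroup k :=
    nG_mem_monomial hD (by rw [simple_tab.1]; decide) one_ne_zero
  have h1 : nG hD (chevG2.simple 1) (1 : k) ∈ chevG2.monomialSubgroup k :=
    nG_mem_monomial hD (by rw [simple_tab.2.1]; decide) one_ne_zero
  rw [coe_n0]
  exact mul_mem h0 (mul_mem h1 (mul_mem h0 (mul_mem h1 (mul_mem h0 h1))))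

theorem n0_acts : Acts ((cw k n0 : ↥(chevG2.group k)) : GL chevG2.Idx k)
    ([0] ++ ([1] ++ ([0] ++ ([1] ++ ([0] ++ [1]))))) := by
  have G := RootComb.good_of_mem hD
  have h0 : 0 < chevG2.rank := by rw [simple_tab.2.2.2.2.1]; decide
  have h1 : 1 < chevG2.rank := by rw [simple_tab.2.2.2.2.1]; decide
  have hl : ∀ w : List ℕ, (∀ a ∈ w, a = 0 ∨ a = 1) → ∀ a ∈ w, a < chevG2.rank := by
    intro w hw a ha
    rcases hw a ha with rfl | rfl
    · exact h0
    · exact h1
  have a0 : Acts (nG hD (chevG2.simple 0) (1 : k)) [0] := acts_nG_simple hD h0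
  have a1 : Acts (nG hD (chevG2.simple 1) (1 : k)) [1] := acts_nG_simple hD h1
  rw [coe_n0]
  generalize nG hD (chevG2.simple 0) (1 : k) = x at a0
  generalize nG hD (chevG2.simple 1) (1 : k) = y at a1
  have b2 := Acts.mul G a0 a1 (hl _ (by decide))
  have b3 := Acts.mul G a1 b2 (hl _ (by decide))
  have b4 := Acts.mul G a0 b3 (hl _ (by decide))
  have b5 := Acts.mul G a1 b4 (hl _ (by decide))
  exact Acts.mul G a0 b5 (hl _ (by decide))

theorem n0_neg (v : GL chevG2.Idx k) (hv : v ∈ chevG2.negUnipotent k) :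
    ((cw k n0 : ↥(chevG2.group k)) : GL chevG2.Idx k) * v * ((cw k n0 : ↥(chevG2.group k)) : GL chevG2.Idx k)⁻¹ ∈
      chevG2.posUnipotent k := by
  have h1 : chevG2.negUnipotent k ≤ (chevG2.posUnipotent k).comap
      (MulAut.conj ((cw k n0 : ↥(chevG2.group k)) : GL chevG2.Idx k)).toMonoidHom := by
    rw [negUnipotent_le_iff hD]
    intro r hr t
    have hr12 : r < 12 := hr.1
    have h2 := wact_tab r hr12 (neg_tab r hr12 hr)
    have h3 := Subgroup.mem_map_of_mem
      (MulAut.conj ((cw k n0 : ↥(chevG2.group k)) : GL chevG2.Idx k)).toMonoidHom (xG_mem_rootSubgroup hD r t)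
    rw [n0_acts r hr.1] at h3
    obtain ⟨c, hc⟩ := (mem_rootSubgroup_iff hD _ _).1 h3
    rw [Subgroup.mem_comap, hc]
    exact xG_mem_posUnipotent hD (pos_tab _ h2.2 h2.1) c
  exact h1 hv

/-- **an element commuting with `u0` and `n0` is trivial** -/
theorem eq_one_of_u0_n0 [CharP k 3] {y : ↥(chevG2.group k)} (hu : y * cw k u0 = cw k u0 * y)
    (hn : y * cw k n0 = cw k n0 * y) : y = 1 := by
  apply Subtype.ext
  exact eq_one_of_comm hpG y.2 (cw_mem_pos (by decide)) co_u0 (congrArg Subtype.val hu) n0_mono n0_neg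
    (congrArg Subtype.val hn)

end

end Cfsg.Agent.H72.G2G
end

-- part: H72/G2G/Lang
section
/-!
# S3509, `G₂(3^n)`, `n` odd: Lang's theorem for the graph-field automorphism (helper72)

* `lang_spec` : `h = g⁻¹ * (Γ ^ n) g`.
-/

set_option autoImplicit false
set_option linter.unusedSectionVars false

namespace Cfsg.Agent.H72.G2G

open Subgroup Cfsg Cfsg.Lie Cfsg.Lie.ChevalleyDatum
open Cfsg.Agent.ChevalleyStructure Cfsg.Agent.ChevalleyStructure.Elts Cfsg.Agent.ChevalleyStructure.CoxeterGeom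
  Cfsg.Agent.ChevalleyStructure.CoxeterGeomTypes
open Cfsg.Agent.H689.Ccp (hD X fl la X_neg ext_aut fl_tab)
open Cfsg.Agent.H70.ChevFix (xe)
open Cfsg.Agent.GpExc.Field (glMap emb coe_emb glMap_xG emb_injective coe_glMap)
open Cfsg.Agent.BpExc.FamUntw Cfsg.Agent.BpExc.FamField Cfsg.Agent.BpExc.TowChev
open Cfsg.Agent.H469.Exc Cfsg.Agent.Nodes.RGDChev
open Cfsg.Agent.H79.SimpleGen (xS)

universe u

/-- **Lang's theorem for `Γ ^ n`, `n` odd** -/
theorem lang_spec {k : Type u} [Field k] [IsAlgClosed k] [CharP k 3] [PerfectRing k 3]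
    {Γ : MulAut ↥(chevG2.group k)} (hΓ : Spec Γ) (m : ℕ) (c : ↥(chevG2.group k)) :
    ∃ z : ↥(chevG2.group k), c = z⁻¹ * (Γ ^ (2 * m + 1)) z := by
  have key := Cfsg.Agent.H507.GmnTwF.lang_end hpG 3 (2 * m + 1) 2 (Nat.succ_pos _) {r | r < 12}
    (Γ ^ (2 * m + 1)) 1 (fun g => ?_) (fun r hr => ?_) (c := c) ?_
  · obtain ⟨z, -, hz⟩ := key
    exact ⟨z, hz⟩
  · rw [hΓ.pow_two_mul, one_mul, inv_one, mul_one]
    apply Units.ext
    ext i j
    show (((phi chevG2 k 3 (2 * m + 1) g : ↥(chevG2.group k)) : GL chevG2.Idx k) : Matrix _ _ k) i j =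
      iterateFrobenius k 3 (2 * m + 1) (((g : GL chevG2.Idx k) : Matrix _ _ k) i j)
    rw [phi_coe, iterateFrobenius_def]
    rfl
  · refine ⟨fl r, (fl_tab r hr).1, Polynomial.X ^ (la r * 3 ^ m), fun a => ?_⟩
    rw [Polynomial.eval_pow, Polynomial.eval_X]
    exact congrArg Subtype.val (hΓ.pow_odd m hr a)
  · have h : chevG2.group k ≤ Cfsg.Agent.LangThm.MM hpG.inList {r | r < 12} k := by
      rw [group_le_iff hD]
      intro r hr t
      exact Subgroup.subset_closure ⟨r, hr, t, rfl⟩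
    exact h c.2

end Cfsg.Agent.H72.G2G
end

-- part: H72/G2G/Lev
section
/-!
# S3509, `G₂(3^n)`, `n` odd: the level of the graph-field automorphism (helper72)

* `exists_beta`, `mem_L` : the fixed points are `²G₂(q)`;
* `der_simple`, `der_ncomm`, `der_nalt` : the derived group `²G₂(q)'` is simple, not abelian, not alternating.
-/

set_option autoImplicit false
set_option linter.unusedSectionVars false

namespace Cfsg.Agent.H72.G2G

open Subgroup Cfsg Cfsg.Lie Cfsg.Lie.ChevalleyDatum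
open Cfsg.Agent.ChevalleyStructure Cfsg.Agent.ChevalleyStructure.Elts
open Cfsg.Agent.H689.Ccp (hD X fl la X_neg X_add X_zero X_inj ext_aut fl_tab H_conj comm_11)
open Cfsg.Agent.H70.ChevFix (xe)
open Cfsg.Agent.GpExc.Field (glMap emb coe_emb glMap_xG emb_injective coe_glMap)
open Cfsg.Agent.BpExc.FamUntw Cfsg.Agent.BpExc.FamField Cfsg.Agent.BpExc.TowChev
open Cfsg.Agent.H469.Exc
open Cfsg.Agent.H327.RG (fixS mem_fixS)
open scoped commutatorElement

/-! ### general facts -/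

theorem five_alt {S : Type*} [Group S] (h : ¬ 5 ∣ Nat.card S) : ¬ IsAlternating S := by
  rintro ⟨k, hk, ⟨e⟩⟩
  apply h
  rw [Nat.card_congr e.toEquiv]
  have h1 : Nat.card (alternatingGroup (Fin k)) * 2 = k.factorial := by
    have : Nontrivial (Fin k) := Fin.nontrivial_iff_two_le.2 (by omega)
    rw [mul_comm, nat_card_alternatingGroup, Nat.card_fin]
    exact Nat.mul_div_cancel' (Nat.dvd_factorial (by norm_num) (by omega))
  have h2 : 5 ∣ Nat.card (alternatingGroup (Fin k)) * 2 := by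
    rw [h1]
    exact Nat.dvd_factorial (by norm_num) hk
  exact (Nat.Coprime.dvd_of_dvd_mul_right (by norm_num) h2)

/-- the derived group -/
theorem der_equiv {G G' : Type*} [Group G] [Group G'] (L : Subgroup G) (e : ↥L ≃* G') :
    Nonempty (↥⁅L, L⁆ ≃* ↥(commutator G')) := by
  have h1 : (commutator ↥L).map L.subtype = ⁅L, L⁆ := by
    rw [commutator_def, Subgroup.map_commutator, ← MonoidHom.range_eq_map, Subgroup.range_subtype]
  have h2 : (commutator ↥L).map e.toMonoidHom = commutator G' := by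
    rw [commutator_def, Subgroup.map_commutator, commutator_def]
    have : (⊤ : Subgroup ↥L).map e.toMonoidHom = ⊤ := Subgroup.map_top_of_surjective _ e.surjective
    rw [this]
  refine ⟨?_⟩
  exact ((MulEquiv.subgroupCongr h1.symm).trans
    ((commutator ↥L).equivMapOfInjective L.subtype L.subtype_injective).symm).trans
    (((commutator ↥L).equivMapOfInjective e.toMonoidHom e.injective).trans (MulEquiv.subgroupCongr h2))

theorem q_mod (m : ℕ) : 3 ^ (2 * m + 1) % 5 = 2 ∨ 3 ^ (2 * m + 1) % 5 = 3 := by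
  induction m with
  | zero => right; norm_num
  | succ m ih =>
    have h : 3 ^ (2 * (m + 1) + 1) = 3 ^ (2 * m + 1) * 9 := by ring
    rw [h]
    omega

theorem not_five (m : ℕ) :
    ¬ 5 ∣ (3 ^ (2 * m + 1)) ^ 3 * (3 ^ (2 * m + 1) - 1) * ((3 ^ (2 * m + 1)) ^ 3 + 1) := by
  have h5 : Nat.Prime 5 := by norm_num
  obtain ⟨q, hq⟩ : ∃ q, q = 3 ^ (2 * m + 1) := ⟨_, rfl⟩
  have hm := q_mod m
  rw [← hq] at hm ⊢
  have h3 : q ^ 3 % 5 = 2 ∨ q ^ 3 % 5 = 3 := by
    rcases hm with h | h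
    · right; rw [Nat.pow_mod, h]
    · left; rw [Nat.pow_mod, h]
  intro hd
  rcases h5.dvd_mul.1 hd with hd | hd
  · rcases h5.dvd_mul.1 hd with hd | hd
    · omega
    · (clear * - hm hd; omega)
  · omega

/-! ### the elements `x_{2a+b}(c) x_{3a+2b}(d)` -/

section z

variable {k : Type*} [Field k] [CharP k 3]

theorem two_ne : (2 : k) ≠ 0 := by
  intro h
  have h3 : ((3 : ℕ) : k) = 0 := CharP.cast_eq_zero k 3
  have : (1 : k) = 0 := by
    have h4 : ((3 : ℕ) : k) = 2 + 1 := by norm_num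
    rw [h4, h, zero_add] at h3
    exact h3
  exact one_ne_zero this

theorem z_inj {c d c' d' : k} (h : X 9 c * X 11 d = X 9 c' * X 11 d') : d = d' := by
  have e : ∀ c d : k, Cfsg.Agent.H689.Ccp.H (1 : k) (-1) * (X 9 c * X 11 d) * (Cfsg.Agent.H689.Ccp.H (1 : k) (-1))⁻¹ =
      X 9 c * X 11 (-d) := by
    intro c d
    have e1 : ∀ g a b : Cfsg.Agent.H689.Ccp.GG2 k, g * (a * b) * g⁻¹ = (g * a * g⁻¹) * (g * b * g⁻¹) := fun g a b => by
      group
    have c9 : Cfsg.Agent.H689.Ccp.ca 9 = 1 ∧ Cfsg.Agent.H689.Ccp.cb 9 = 0 ∧ Cfsg.Agent.H689.Ccp.ca 11 = 0 ∧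
      Cfsg.Agent.H689.Ccp.cb 11 = 1 := by decide
    rw [e1, H_conj one_ne_zero (neg_ne_zero.2 one_ne_zero) (by norm_num),
      H_conj one_ne_zero (neg_ne_zero.2 one_ne_zero) (by norm_num), c9.1, c9.2.1, c9.2.2.1, c9.2.2.2]
    simp
  have h2 : X 9 c * X 11 (-d) = X 9 c' * X 11 (-d') := by rw [← e, ← e, h]
  have h3 : (X 9 c * X 11 (-d))⁻¹ * (X 9 c * X 11 d) = (X 9 c' * X 11 (-d'))⁻¹ * (X 9 c' * X 11 d') := by
    rw [h2, h]
  have h4 : ∀ c d : k, (X 9 c * X 11 (-d))⁻¹ * (X 9 c * X 11 d) = X 11 (d + d) := by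
    intro c d
    rw [mul_inv_rev, X_neg, inv_inv, X_add]
    group
  rw [h4, h4] at h3
  have h5 := X_inj (by norm_num) h3
  have h6 : 2 * d = 2 * d' := by rw [two_mul, two_mul, h5]
  exact mul_left_cancel₀ two_ne h6

end z

end Cfsg.Agent.H72.G2G
end

-- part: H72/G2G/LevB
section
/-!
# S3509, `G₂(3^n)`, `n` odd: the fixed points of the graph-field automorphism in `G₂(F)` (helper72)
-/

set_option autoImplicit false
set_option linter.unusedSectionVars false

namespace Cfsg.Agent.H72.G2G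

open Subgroup Cfsg Cfsg.Lie Cfsg.Lie.ChevalleyDatum
open Cfsg.Agent.ChevalleyStructure Cfsg.Agent.ChevalleyStructure.Elts
open Cfsg.Agent.H689.Ccp (hD X fl la X_neg X_add X_zero X_inj ext_aut fl_tab H_conj comm_11)
open Cfsg.Agent.H70.ChevFix (xe)
open Cfsg.Agent.GpExc.Field (glMap emb coe_emb glMap_xG emb_injective coe_glMap)
open Cfsg.Agent.BpExc.FamUntw Cfsg.Agent.BpExc.FamField Cfsg.Agent.BpExc.TowChev
open Cfsg.Agent.H469.Exc
open Cfsg.Agent.H327.RG (fixS mem_fixS)
open scoped commutatorElement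

theorem ncomm_of_card {S : Type*} [Group S] (hs : IsSimpleGroup S) (h0 : Nat.card S ≠ 0) (h : ¬ (Nat.card S).Prime) :
    ¬ IsMulCommutative S := by
  intro hc
  have hfin : Finite S := Nat.finite_of_card_ne_zero h0
  let _ : CommGroup S := { ‹Group S› with mul_comm := fun a b => hc.1.1 a b }
  exact h IsSimpleGroup.prime_card

theorem ncomm_congr {S S' : Type*} [Group S] [Group S'] (e : S ≃* S') (h : ¬ IsMulCommutative S') :
    ¬ IsMulCommutative S := by
  intro hc
  refine h ⟨⟨fun a b => ?_⟩⟩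
  apply e.symm.injective
  rw [map_mul, map_mul]
  exact hc.1.1 _ _

theorem com_equiv {G G' : Type*} [Group G] [Group G'] (e : G ≃* G') : Nonempty (↥(commutator G) ≃* ↥(commutator G')) := by
  have hcm : (commutator G).map e.toMonoidHom = commutator G' := by
    rw [commutator_def, Subgroup.map_commutator, commutator_def]
    have : (⊤ : Subgroup G).map e.toMonoidHom = ⊤ := Subgroup.map_top_of_surjective _ e.surjective
    rw [this]
  exact ⟨((commutator G).equivMapOfInjective e.toMonoidHom e.injective).trans (MulEquiv.subgroupCongr hcm)⟩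

/-- the derived group is simple and not commutative -/
structure NSC (G : Type*) [Group G] : Prop where
  simple : IsSimpleGroup ↥(commutator G)
  ncomm : ¬ IsMulCommutative ↥(commutator G)

theorem NSC.congr {G G' : Type*} [Group G] [Group G'] (h : NSC G') (e : G ≃* G') : NSC G := by
  obtain ⟨e3⟩ := com_equiv e
  exact ⟨(MulEquiv.isSimpleGroup_congr e3).2 h.simple, ncomm_congr e3 h.ncomm⟩

theorem NSC.of_perfect {G : Type*} [Group G] (h : commutator G = ⊤) (h1 : IsSimpleGroup G)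
    (h2 : ¬ IsMulCommutative G) : NSC G := by
  have e : ↥(commutator G) ≃* G := (MulEquiv.subgroupCongr h).trans Subgroup.topEquiv
  exact ⟨(MulEquiv.isSimpleGroup_congr e).2 h1, ncomm_congr e h2⟩

theorem NSC.of_card {G S : Type*} [Group G] [Group S] (hs : IsSimpleGroup S) (e : ↥(commutator G) ≃* S)
    (h0 : Nat.card ↥(commutator G) = 504) : NSC G := by
  have h1 : IsSimpleGroup ↥(commutator G) := (MulEquiv.isSimpleGroup_congr e).2 hs
  exact ⟨h1, ncomm_of_card h1 (by rw [h0]; norm_num) (by rw [h0]; norm_num)⟩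

theorem com3 : NSC ↥(twistedG2 (ZMod 3) 1) := by
  let _ : Fintype (GaloisField 2 3) := Fintype.ofFinite _
  have h8 : Fintype.card (GaloisField 2 3) = 8 := by
    rw [Fintype.card_eq_nat_card, GaloisField.card 2 3 (by norm_num)]; norm_num
  obtain ⟨hc1, ⟨e2⟩⟩ := S1075.result h8
  have hs2 : IsSimpleGroup (Matrix.ProjectiveSpecialLinearGroup (Fin 2) (GaloisField 2 3)) :=
    TwoFusion.SLTwoFacts.isSimpleGroup_psl (by rw [h8]; norm_num)
  exact NSC.of_card hs2 e2 hc1

section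

variable {F : Type} [Field F] [Fintype F] (f : F →+* KK 3) {m : ℕ}
  (hF : Fintype.card F = 3 ^ (2 * m + 1)) {Γ : MulAut ↥(chevG2.group (KK 3))} (hΓ : Spec Γ)

include hF in
theorem char3 : CharP F 3 := by
  have : Fact (Nat.Prime 3) := ⟨Nat.prime_three⟩
  exact charP_of_card_eq_prime_pow hF

include hF hΓ in
/-- the automorphism of `G₂(F)` -/
theorem exists_beta : ∃ β : MulAut ↥(chevG2.group F),
    (∀ r < 12, ∀ t : F, β (X r t) = X (fl r) (t ^ (la r * 3 ^ m))) ∧
    ∀ a, emb hD f (β a) = (Γ ^ (2 * m + 1)) (emb hD f a) := by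
  have : Fact (Nat.Prime 3) := ⟨Nat.prime_three⟩
  have : CharP F 3 := char3 hF
  have : ExpChar F 3 := ExpChar.prime Nat.prime_three
  have : PerfectRing F 3 := PerfectRing.ofFiniteOfIsReduced 3 F
  obtain ⟨γ, hγ⟩ := exists_spec F
  have h1 : ∀ r < 12, ∀ t : F, (γ ^ (2 * m + 1)) (X r t) = X (fl r) (t ^ (la r * 3 ^ m)) :=
    fun r hr t => hγ.pow_odd m hr t
  refine ⟨γ ^ (2 * m + 1), h1, fun a => ?_⟩
  refine group_ind (P := fun a => emb hD f ((γ ^ (2 * m + 1)) a) = (Γ ^ (2 * m + 1)) (emb hD f a)) ?_ ?_ ?_ a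
  · rw [map_one, map_one, map_one]
  · intro g h hg hh
    rw [map_mul, map_mul, map_mul, map_mul, hg, hh]
  · intro r hr t
    rw [h1 r hr t]
    show emb hD f (xe hD (fl r) (t ^ (la r * 3 ^ m))) = (Γ ^ (2 * m + 1)) (emb hD f (xe hD r t))
    rw [emb_xe, emb_xe, hΓ.pow_odd m hr, map_pow]

include hF hΓ in
/-- **the fixed points** -/
theorem mem_L (a : ↥(chevG2.group F)) : a ∈ fixS (emb hD f) (Γ ^ (2 * m + 1)) ↔
    (a : GL chevG2.Idx F) ∈ twistedG2 F (3 ^ m) := by
  obtain ⟨β, h1, h2⟩ := exists_beta f hF hΓ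
  rw [mem_fixS, ← h2, ← fix_iff hF h1 a]
  exact ⟨fun h => emb_injective hD f h, fun h => by rw [h]⟩

include hF hΓ in
theorem L_equiv : Nonempty (↥(fixS (emb hD f) (Γ ^ (2 * m + 1))) ≃* ↥(twistedG2 F (3 ^ m))) := by
  have h : fixS (emb hD f) (Γ ^ (2 * m + 1)) = (twistedG2 F (3 ^ m)).subgroupOf (chevG2.group F) := by
    ext a
    rw [mem_L f hF hΓ, Subgroup.mem_subgroupOf]
  exact ⟨(MulEquiv.subgroupCongr h).trans (Subgroup.subgroupOfEquivOfLe tw_le)⟩

/-- the derived group of `²G₂(q)` -/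
theorem com_simple {m : ℕ} (hF : Fintype.card F = 3 ^ (2 * m + 1)) : NSC ↥(twistedG2 F (3 ^ m)) := by
  rcases Nat.eq_zero_or_pos m with rfl | hm
  · have hc : Fintype.card F = Fintype.card (ZMod 3) := by rw [hF, ZMod.card]; norm_num
    obtain ⟨e⟩ := H362.ReeField.twistedG2_congr (F := F) (K := ZMod 3) hc 1
    rw [pow_zero]
    exact com3.congr e
  · obtain ⟨h1, h2⟩ := S1073.result hm hF
    exact NSC.of_perfect (S1116.result hF hm) h1 h2

include hF hΓ in
theorem der_facts : IsSimpleGroup ↥⁅fixS (emb hD f) (Γ ^ (2 * m + 1)), fixS (emb hD f) (Γ ^ (2 * m + 1))⁆ ∧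
    ¬ IsMulCommutative ↥⁅fixS (emb hD f) (Γ ^ (2 * m + 1)), fixS (emb hD f) (Γ ^ (2 * m + 1))⁆ ∧
    ¬ IsAlternating ↥⁅fixS (emb hD f) (Γ ^ (2 * m + 1)), fixS (emb hD f) (Γ ^ (2 * m + 1))⁆ := by
  obtain ⟨e⟩ := L_equiv f hF hΓ
  obtain ⟨e2⟩ := der_equiv _ e
  have h := com_simple hF
  refine ⟨(MulEquiv.isSimpleGroup_congr e2).2 h.simple, ncomm_congr e2 h.ncomm, ?_⟩
  apply five_alt
  intro h5
  have h6 : Nat.card ↥⁅fixS (emb hD f) (Γ ^ (2 * m + 1)), fixS (emb hD f) (Γ ^ (2 * m + 1))⁆ ∣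
      Nat.card ↥(fixS (emb hD f) (Γ ^ (2 * m + 1))) := Subgroup.card_dvd_of_le (Subgroup.commutator_le_self _)
  rw [Nat.card_congr e.toEquiv, S1069.result hF] at h6
  exact not_five m (h5.trans h6)

end

end Cfsg.Agent.H72.G2G
end

private theorem dce_040dafc5c255 : _root_.True := by
  try have : _root_.True := by simp only [_root_.Cfsg.Agent.ChevalleyStructure.Elts.nG.eq_1]
  exact _root_.True.intro
end

-- part: H67/RG/TwFRow
section
prune_inst 0x140001a21200000000000000000008000490006088004000024002002340000009000d0001121022000000000028131800000000000000000400000104010080020020400000000080000000400000000000000000000000000000000000200000000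
set_option linter.all false
open scoped Cfsg.Agent.FastGrp

-- part: H660/RF/Lr
section
/-!
# S3509, row `²F₄(q)`: covers with an involution (helper660)

* `K1` : `Z_4 ≤ [Q, d]` for `d ∈ C(Z_4)` of odd prime order;
* `K2` : `X_5 ≤ [NO, d]` for `d ∈ C(X_5)` of odd prime order;
* `not_cov_inv` : no cover of the points by commuting elements of different prime orders contains an involution.
-/

set_option autoImplicit false
set_option linter.unusedSectionVars false

namespace Cfsg.Agent.H660.RF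

open Subgroup MulAction Cfsg Matrix
open Cfsg.Agent.SplitTwo Cfsg.Agent.SplitTwo.ZS Cfsg.Agent.TitsThree.RankTwoZ Cfsg.Agent.SplitTwo.RootSysZ
open Cfsg.Agent.KFacts.TwF4 Cfsg.Agent.KFacts.TwF4.Arc Cfsg.Agent.KFacts.TwF4.Irr Cfsg.Agent.KFacts.TwF4.Perf
open Cfsg.Agent.KFacts.TwF4.Inv Cfsg.Agent.CpAutTwF.Cent
open Cfsg.Agent.H496.TwFRad.Levi (card_L4 card_Tk4 L4_inf_Q)
open Cfsg.Agent.H42.Deg.F4 (TM TM_le_T TM_le_LO card_TM card_LO)
open Cfsg.Agent.H772.TF Cfsg.Agent.H240.BalTwF Cfsg.Agent.H326.TF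
open Cfsg.Agent.H380.RC Cfsg.Agent.H106.RC

universe u

section gen

variable {G : Type*} [Group G]

theorem cmm_le {U : Subgroup G} {d : G} (hd : ∀ u ∈ U, d * u * d⁻¹ ∈ U) : cmm U d ≤ U := by
  rw [cmm, closure_le]
  rintro _ ⟨u, hu, rfl⟩
  have e : u * d * u⁻¹ * d⁻¹ = u * (d * u⁻¹ * d⁻¹) := by group
  rw [e]
  exact mul_mem hu (hd _ (inv_mem hu))

theorem cmm_mono {U V : Subgroup G} (h : U ≤ V) (d : G) : cmm U d ≤ cmm V d := by
  rw [cmm, cmm]
  apply Subgroup.closure_mono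
  rintro _ ⟨u, hu, rfl⟩
  exact ⟨u, h hu, rfl⟩

/-- conjugation of `[U, d]` -/
theorem cmm_cj {U : Subgroup G} {g d z : G} (hg : ∀ u ∈ U, g⁻¹ * u * g ∈ U) (hz : z ∈ cmm U (g * d * g⁻¹)) :
    g⁻¹ * z * g ∈ cmm U d := by
  have h : cmm U (g * d * g⁻¹) ≤ (cmm U d).comap (MulAut.conj g⁻¹).toMonoidHom := by
    rw [cmm, closure_le]
    rintro _ ⟨u, hu, rfl⟩
    change g⁻¹ * (u * (g * d * g⁻¹) * u⁻¹ * (g * d * g⁻¹)⁻¹) * g⁻¹⁻¹ ∈ cmm U d
    have e : g⁻¹ * (u * (g * d * g⁻¹) * u⁻¹ * (g * d * g⁻¹)⁻¹) * g⁻¹⁻¹ =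
        (g⁻¹ * u * g) * d * (g⁻¹ * u * g)⁻¹ * d⁻¹ := by group
    rw [e]
    exact mem_cmm (hg u hu)
  have h1 := h hz
  rw [mem_comap] at h1
  change g⁻¹ * z * g⁻¹⁻¹ ∈ cmm U d at h1
  rwa [inv_inv] at h1

/-- `Q = [Q, d] C_Q(d)` -/
theorem exists_factor [Finite G] {Q : Subgroup G} (hQ : IsPGroup 2 Q) {r : ℕ} (hr : r.Prime) (hr2 : r ≠ 2) {d : G}
    (hd : d ^ r = 1) (hdQ : ∀ x ∈ Q, d * x * d⁻¹ ∈ Q) {u : G} (hu : u ∈ Q) :
    ∃ k ∈ cmm Q d, ∃ c ∈ Q, d * c = c * d ∧ u = k * c := by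
  have hle := cmm_le hdQ
  obtain ⟨k, hk, h1⟩ := InvConj.conj_prime (Q := cmm Q d) (hQ.to_le hle) hr hr2 (w := u * d * u⁻¹) (d := d) (by
      rw [conj_pow, hd, mul_one, mul_inv_cancel]) hd (fun x hx => by
      have h : cmm Q d ≤ (cmm Q d).comap (MulAut.conj d).toMonoidHom := by
        conv_lhs => rw [cmm]
        rw [closure_le]
        rintro _ ⟨v, hv, rfl⟩
        change d * (v * d * v⁻¹ * d⁻¹) * d⁻¹ ∈ cmm Q d
        have e : d * (v * d * v⁻¹ * d⁻¹) * d⁻¹ = (d * v * d⁻¹) * d * (d * v * d⁻¹)⁻¹ * d⁻¹ := by group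
        rw [e]
        exact mem_cmm (hdQ v hv)
      exact h hx) (mem_cmm hu)
  refine ⟨k, hk, k⁻¹ * u, mul_mem (inv_mem (hle hk)) hu, ?_, by group⟩
  have h2 : k⁻¹ * u * d * u⁻¹ * k = d := by
    calc k⁻¹ * u * d * u⁻¹ * k = k⁻¹ * (u * d * u⁻¹) * k := by group
      _ = d := h1
  have h3 : k⁻¹ * u * d = d * (k⁻¹ * u) := by
    calc k⁻¹ * u * d = (k⁻¹ * u * d * u⁻¹ * k) * (k⁻¹ * u) := by simp only [mul_assoc, mul_inv_cancel_left,
          inv_mul_cancel_left, inv_mul_cancel, mul_one]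
      _ = d * (k⁻¹ * u) := by rw [h2]
  exact h3.symm

end gen

section sys

variable {F : Type*} [Field F] {σ : F →+* F} {G : Type u} [Group G] (S : Full σ G) [Finite F] [Finite G]

theorem pow_ne {G : Type*} [Group G] {d : G} {p : ℕ} (hp : p.Prime) (hp2 : p ≠ 2) (hd : orderOf d = p) : d ^ 2 ≠ 1 := by
  intro h
  have h1 := orderOf_dvd_of_pow_eq_one h
  rw [hd] at h1
  exact hp2 ((Nat.prime_dvd_prime_iff_eq hp Nat.prime_two).1 h1)

/-! ### `Z_4 ≤ [Q, d]` -/

theorem cent_Q_all (hF : ∃ c : Fˣ, c ≠ 1) (hR : S.R.p = 2) {k : ℕ} (hq : Nat.card F = 2 ^ k) {p : ℕ} (hp : p.Prime)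
    (hp2 : p ≠ 2) {y : G} (hy : y ∈ L4 S) (hyp : orderOf y = p) {u : G} (hu : u ∈ S.Q) (hc : y * u = u * y) :
    u ∈ S.XZ 4 := by
  have : Fact p.Prime := ⟨hp⟩
  by_cases h : p ∣ Nat.card F - 1
  · refine cent_Q_minus S hF hp ?_ hy hyp hu hc
    intro hd
    have h1 : 1 ≤ Nat.card F := Nat.card_pos
    have h2 := not_dvd_Z h1 hp hp2 h 2
    exact h2 (by rwa [pow_two])
  · exact cent_Q_sq S hF hR hp2 h hy hyp hu hc

theorem K1_L4 (hF : ∃ c : Fˣ, c ≠ 1) (hR : S.R.p = 2) {k : ℕ} (hq : Nat.card F = 2 ^ k) {p : ℕ} (hp : p.Prime)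
    (hp2 : p ≠ 2) {d : G} (hd : d ∈ L4 S) (hdp : orderOf d = p) (v : F) : S.e 2 0 v ∈ cmm S.Q d := by
  have hdP := L4_le_PL S hd
  have hdQ : ∀ x ∈ S.Q, d * x * d⁻¹ ∈ S.Q := fun x hx => Q_norm S hdP hx
  have hd1 : d ^ p = 1 := by rw [← hdp]; exact pow_orderOf_eq_one d
  obtain ⟨m, hm, c, hc, hdc, h1⟩ := exists_factor (two_Q S hR) hp hp2 hd1 hdQ (u := S.e 3 1 0) (e3_Q S 1 0)
  have hc4 := cent_Q_all S hF hR hq hp hp2 hd hdp hc hdc
  have hoc : c * S.o 1 v = S.o 1 v * c := S.Q1_comm (mem_sup_left hc4) (S.q2_2 v)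
  have h2 : S.o 1 v * S.e 3 1 0 = S.e 3 1 0 * S.o 1 v * S.e 2 0 (v * 1) := S.o_e2 1 v 1 0
  rw [mul_one] at h2
  have hz : ∀ x ∈ S.Q, x * S.e 2 0 v = S.e 2 0 v * x := fun x hx => S.comm_PL (Q_PL S hx) ⟨v, rfl⟩
  have hoQ : S.o 1 v ∈ S.Q := Q1_le_Q S (mem_sup_right (S.q2_2 v))
  have hm1 : m = S.e 3 1 0 * c⁻¹ := by rw [h1]; group
  have h3 := cmm_comm hoQ hm
  have h4 : S.o 1 v * m * (S.o 1 v)⁻¹ * m⁻¹ = S.e 2 0 v := by
    have hc' : c⁻¹ * (S.o 1 v)⁻¹ * c = (S.o 1 v)⁻¹ := by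
      rw [mul_assoc, inv_mul_eq_iff_eq_mul]
      calc (S.o 1 v)⁻¹ * c = (S.o 1 v)⁻¹ * (c * S.o 1 v) * (S.o 1 v)⁻¹ := by group
        _ = (S.o 1 v)⁻¹ * (S.o 1 v * c) * (S.o 1 v)⁻¹ := by rw [hoc]
        _ = c * (S.o 1 v)⁻¹ := by group
    calc S.o 1 v * m * (S.o 1 v)⁻¹ * m⁻¹ = (S.o 1 v * S.e 3 1 0) * (c⁻¹ * (S.o 1 v)⁻¹ * c) * (S.e 3 1 0)⁻¹ := by
          rw [hm1]; group
      _ = S.e 3 1 0 * (S.o 1 v * S.e 2 0 v) * (S.o 1 v)⁻¹ * (S.e 3 1 0)⁻¹ := by rw [hc', h2]; group
      _ = S.e 3 1 0 * S.e 2 0 v * (S.e 3 1 0)⁻¹ := by rw [hz _ hoQ]; group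
      _ = S.e 2 0 v := by rw [hz _ (e3_Q S 1 0)]; group
  rwa [h4] at h3

/-- **`Z_4 ≤ [Q, d]`** for `d ∈ C(Z_4)` of odd prime order -/
theorem K1 (hF : ∃ c : Fˣ, c ≠ 1) (hR : S.R.p = 2) {k : ℕ} (hq : Nat.card F = 2 ^ k) {p : ℕ} (hp : p.Prime)
    (hp2 : p ≠ 2) {d : G} (hd : d ∈ S.PL) (hdp : orderOf d = p) (v : F) : S.e 2 0 v ∈ cmm S.Q d := by
  obtain ⟨b, hb, hb1⟩ := exists_conj_mem (L4_le_PL S) (n := Nat.card F ^ 10) hp (by
        rw [card_PL S hF, card_L4 S hF]; ring) (pow_ndvd hq hp hp2) hd hdp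
  have h1 := K1_L4 S hF hR hq hp hp2 hb1 (by rw [orderOf_cj, hdp]) v
  have h2 := cmm_cj (fun u hu => by
    have := Q_norm S (inv_mem hb) hu
    rwa [inv_inv] at this) h1
  have h3 : b⁻¹ * S.e 2 0 v * b = S.e 2 0 v := by
    rw [mul_assoc, inv_mul_eq_iff_eq_mul]
    exact (S.comm_PL hb ⟨v, rfl⟩).symm
  rwa [h3] at h2

/-! ### `X_5 ≤ [NO, d]` -/

/-- the general form of `Tp.comm` -/
theorem tp_comm' {g u u' : G} {A T T' : Matrix (Fin 2) (Fin 2) F} (hg : Rp S g A) (hu : u ∈ S.NO) (hu' : u' ∈ S.NO)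
    (hT : Tp S u T) (hT' : Tp S u' T') (h : g * u = u' * g) : A * T = T' * A.map σ := by
  apply Matrix.mulVec_injective
  funext v
  show (A * T).mulVec v = (T' * A.map σ).mulVec v
  rw [← Matrix.mulVec_mulVec, ← Matrix.mulVec_mulVec]
  obtain ⟨f, hf⟩ := hg.x v
  have hu2 : u * S.o 2 f = S.o 2 f * u := S.mem_centralizer_X5.1 hu.2 f
  have hu2' : u' * S.o 2 f = S.o 2 f * u' := S.mem_centralizer_X5.1 hu'.2 f
  have h2w : ∀ v', ww S v' * S.o 2 f = S.o 2 f * ww S v' := fun v' =>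
    (S.W46_comm (mem_J (S.mX5 f) (by norm_num) (by norm_num)) (ww_mem S v')).symm
  have hg2 := LO_o2 S hg.mem f
  have h1 : g * (u * xx S v) = xx S ((A.map σ).mulVec v) * ww S (A.mulVec (T.mulVec v)) * (S.o 2 f * (g * u)) := by
    calc g * (u * xx S v) = (g * xx S v) * ww S (T.mulVec v) * u := by rw [hT v]; group
      _ = xx S ((A.map σ).mulVec v) * S.o 2 f * (g * ww S (T.mulVec v)) * u := by rw [hf]; group
      _ = xx S ((A.map σ).mulVec v) * (S.o 2 f * ww S (A.mulVec (T.mulVec v))) * g * u := by rw [hg.w]; group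
      _ = _ := by rw [← h2w]; group
  have h2 : u' * (g * xx S v) = xx S ((A.map σ).mulVec v) * ww S (T'.mulVec ((A.map σ).mulVec v)) *
      (S.o 2 f * (u' * g)) := by
    calc u' * (g * xx S v) = (u' * xx S ((A.map σ).mulVec v)) * S.o 2 f * g := by rw [hf]; group
      _ = xx S ((A.map σ).mulVec v) * ww S (T'.mulVec ((A.map σ).mulVec v)) * (u' * S.o 2 f) * g := by rw [hT']; group
      _ = _ := by rw [hu2']; group
  have h3 : g * (u * xx S v) = u' * (g * xx S v) := by rw [← mul_assoc, h, mul_assoc]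
  rw [h1, h2, h] at h3
  exact ww_inj S (mul_left_cancel (mul_right_cancel h3))

/-- elements of `LO` -/
theorem LO_le_HO : S.LO ≤ S.HO := le_sup_left

theorem NO_le_J : S.NO ≤ _root_.Cfsg.Agent.SplitTwo.ZS.J S.XZ 2 8 := inf_le_left

/-- `[a, b] ∈ o(s) W46` -/
def Pr (b a : G) (s : F) : Prop := ∃ w ∈ S.W46, a * b = b * a * (S.o 2 s * w)

theorem Pr.mul {b a a' : G} {s s' : F} (ha' : a' ∈ S.NO) (h : Pr S b a s) (h' : Pr S b a' s') :
    Pr S b (a * a') (s + s') := by
  obtain ⟨w, hw, h1⟩ := h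
  obtain ⟨w', hw', h2⟩ := h'
  refine ⟨w * w', mul_mem hw hw', ?_⟩
  have c1 : a' * S.o 2 s = S.o 2 s * a' := S.mem_centralizer_X5.1 ha'.2 s
  have c2 : a' * w = w * a' := S.W46_comm ha'.1 hw
  have c3 : S.o 2 s' * w = w * S.o 2 s' := S.W46_comm (mem_J (S.mX5 _) (by norm_num) (by norm_num)) hw
  rw [← S.o_add]
  calc a * a' * b = a * (a' * b) := by group
    _ = (a * b) * a' * (S.o 2 s' * w') := by rw [h2]; group
    _ = b * a * (S.o 2 s * (w * a')) * (S.o 2 s' * w') := by rw [h1]; group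
    _ = b * a * ((S.o 2 s * a') * w) * (S.o 2 s' * w') := by rw [← c2]; group
    _ = b * (a * a') * (S.o 2 s * (w * S.o 2 s') * w') := by rw [← c1]; group
    _ = _ := by rw [← c3]; group

theorem Pr.of {b a : G} {s : F} (u v : F) (h : a * b = b * a * (S.o 2 s * (S.e 2 0 u * S.e 3 0 v))) : Pr S b a s :=
  ⟨_, ⟨u, v, rfl⟩, h⟩

theorem Pr.zero {b a : G} (h : a * b = b * a) : Pr S b a 0 :=
  ⟨1, one_mem _, by rw [h, S.o_zero, one_mul, mul_one]⟩

theorem Pr.w {b a w : G} (hw : w ∈ S.W46) (h : a * b = b * a * w) : Pr S b a 0 :=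
  ⟨w, hw, by rw [h, S.o_zero, one_mul]⟩

theorem Pr.symm {b a : G} {s : F} (h : Pr S b a s) : Pr S a b s := by
  obtain ⟨w, hw, h⟩ := h
  refine ⟨w⁻¹, inv_mem hw, ?_⟩
  have c3 : S.o 2 s * w⁻¹ = w⁻¹ * S.o 2 s := S.W46_comm (mem_J (S.mX5 _) (by norm_num) (by norm_num)) (inv_mem hw)
  have h1 : b * a = a * b * (S.o 2 s * w)⁻¹ := by rw [h, mul_inv_cancel_right]
  rw [h1, c3, _root_.mul_inv_rev, o_inv]

theorem pr_mul_self (a : ZMod 8) (hW : ∀ u, S.e a 0 u ∈ S.W46) (p α v : F) : Pr S (S.e a v 0) (S.e a p α) 0 := by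
  refine Pr.w S (hW (p * σ v + v * σ p)) ?_
  rw [S.e_mul, S.e_mul, S.e_mul, map_zero, mul_zero, add_zero, add_comm p v]
  congr 1
  · ring
  · have h := S.two
    linear_combination (-(v * σ p)) * h

/-- the coordinates of an element of `NO` and the form -/
theorem pr_coord {B : G} {z b p α f r β i w s1 s2 s3 s4 : F}
    (h1 : Pr S B (S.e 1 0 z) s1) (h2 : Pr S B (S.o 1 b) 0) (h3 : Pr S B (S.e 2 p α) s2) (h4 : Pr S B (S.o 2 f) 0)
    (h5 : Pr S B (S.e 3 r β) s3) (h6 : Pr S B (S.o 3 i) 0) (h7 : Pr S B (S.e 4 0 w) s4) :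
    Pr S B (S.e 1 0 z * (S.o 1 b * S.e 2 p α * S.o 2 f * S.e 3 r β * S.o 3 i) * S.e 4 0 w) (s1 + (s2 + s3) + s4) := by
  have m3 : S.e 2 p α ∈ S.NO := S.J37_le (mem_J (S.mX4 _ _) (by norm_num) (by norm_num))
  have m2 : S.o 1 b ∈ S.NO := S.J37_le (mem_J (S.mX3 _) (by norm_num) (by norm_num))
  have m4 : S.o 2 f ∈ S.NO := S.J37_le (mem_J (S.mX5 _) (by norm_num) (by norm_num))
  have m5 : S.e 3 r β ∈ S.NO := S.J37_le (mem_J (S.mX6 _ _) (by norm_num) (by norm_num))
  have m6 : S.o 3 i ∈ S.NO := S.J37_le (mem_J (S.mX7 _) (by norm_num) (by norm_num))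
  have m7 := S.Z8_NO w
  have k := Pr.mul S m7 (Pr.mul S (mul_mem (mul_mem (mul_mem (mul_mem m2 m3) m4) m5) m6) h1
    (Pr.mul S m6 (Pr.mul S m5 (Pr.mul S m4 (Pr.mul S m3 h2 h3) h4) h5) h6)) h7
  convert k using 1
  ring

theorem pr_41 (z v : F) : Pr S (S.e 4 0 v) (S.e 1 0 z) (z * v) := by
  have h := S.e_e3 1 0 z 0 v
  norm_num only [S.o_zero, S.e_zero, _root_.map_zero, _root_.MulZeroClass.mul_zero, _root_.add_zero, _root_.mul_one, _root_.MulZeroClass.zero_mul, _root_.zero_add] at h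
  refine Pr.of S (σ z * v) (z * σ v) ?_
  have c : S.e 2 0 (σ z * v) * S.o 2 (z * v) = S.o 2 (z * v) * S.e 2 0 (σ z * v) :=
    (S.W46_comm (mem_J (S.mX5 _) (by norm_num) (by norm_num)) (S.Z4_W46 _)).symm
  rw [h, ← mul_assoc (S.o 2 (z * v)), ← c]
  group

theorem pr_32 (v p α : F) : Pr S (S.e 3 v 0) (S.e 2 p α) (p * v) :=
  ⟨1, one_mem _, by rw [mul_one]; exact S.e_e1 2 p α v 0⟩

theorem pr_23 (v r β : F) : Pr S (S.e 2 v 0) (S.e 3 r β) (v * r) :=
  Pr.symm S ⟨1, one_mem _, by rw [mul_one]; exact S.e_e1 2 v 0 r β⟩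

theorem pr8 (z b p α f r β i w v : F) :
    Pr S (S.e 4 0 v) (S.e 1 0 z * (S.o 1 b * S.e 2 p α * S.o 2 f * S.e 3 r β * S.o 3 i) * S.e 4 0 w) (z * v) := by
  have k := pr_coord S (B := S.e 4 0 v) (z := z) (b := b) (p := p) (α := α) (f := f) (r := r) (β := β) (i := i) (w := w)
    (s1 := z * v) (s2 := 0) (s3 := 0) (s4 := 0)
    (pr_41 S z v)
    (by
      have h := S.o_e3 1 b 0 v
      norm_num only [S.o_zero, S.e_zero, _root_.MulZeroClass.mul_zero, _root_.mul_one, _root_.map_zero, _root_.zero_add] at h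
      exact Pr.w S (S.Z6_W46 _) h)
    (Pr.zero S (S.e_e2 2 p α 0 v))
    (by
      have h := S.o_e2 2 f 0 v
      norm_num only [S.e_zero, _root_.MulZeroClass.mul_zero, _root_.mul_one] at h
      exact Pr.zero S h)
    (by
      have h := S.e_e1 3 r β 0 v
      rw [mul_zero, S.o_zero, mul_one] at h
      exact Pr.zero S h)
    (Pr.zero S (S.o_e1 3 i 0 v))
    (Pr.zero S (by rw [ez_mul, ez_mul, add_comm]))
  convert k using 1
  ring

theorem pr2 (z b p α f r β i w v : F) :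
    Pr S (S.e 1 0 v) (S.e 1 0 z * (S.o 1 b * S.e 2 p α * S.o 2 f * S.e 3 r β * S.o 3 i) * S.e 4 0 w) (v * w) := by
  have k := pr_coord S (B := S.e 1 0 v) (z := z) (b := b) (p := p) (α := α) (f := f) (r := r) (β := β) (i := i) (w := w)
    (s1 := 0) (s2 := 0) (s3 := 0) (s4 := v * w)
    (Pr.zero S (by rw [ez_mul, ez_mul, add_comm]))
    (Pr.zero S (S.e_o0 1 0 v b).symm)
    (by
      have h := S.e_e1 1 0 v p α
      rw [zero_mul, S.o_zero, mul_one] at h
      exact Pr.zero S h.symm)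
    (by
      have h := S.e_o1 1 0 v f
      rw [zero_mul, S.e_zero, mul_one] at h
      exact Pr.zero S h.symm)
    (Pr.zero S (S.e_e2 1 0 v r β).symm)
    (by
      have h := S.e_o2 1 0 v i
      norm_num only [S.o_zero, S.e_zero, _root_.map_zero, _root_.MulZeroClass.mul_zero, _root_.MulZeroClass.zero_mul, _root_.zero_add, _root_.mul_one] at h
      exact Pr.symm S (Pr.w S (S.Z4_W46 _) h))
    (Pr.symm S (pr_41 S v w))
  convert k using 1
  ring

theorem pr6 (z b p α f r β i w v : F) :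
    Pr S (S.e 3 v 0) (S.e 1 0 z * (S.o 1 b * S.e 2 p α * S.o 2 f * S.e 3 r β * S.o 3 i) * S.e 4 0 w) (p * v) := by
  have k := pr_coord S (B := S.e 3 v 0) (z := z) (b := b) (p := p) (α := α) (f := f) (r := r) (β := β) (i := i) (w := w)
    (s1 := 0) (s2 := p * v) (s3 := 0) (s4 := 0)
    (Pr.zero S (S.e_e2 1 0 z v 0))
    (Pr.w S (S.Z4_W46 _) (S.o_e2 1 b v 0))
    (pr_32 S v p α)
    (Pr.zero S (S.o_e1 2 f v 0))
    (pr_mul_self S 3 S.Z6_W46 r β v)
    (Pr.zero S (S.e_o0 3 v 0 i).symm)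
    (by
      have h := S.e_e1 3 v 0 0 w
      rw [mul_zero, S.o_zero, mul_one] at h
      exact Pr.zero S h.symm)
  convert k using 1
  ring

theorem pr4 (z b p α f r β i w v : F) :
    Pr S (S.e 2 v 0) (S.e 1 0 z * (S.o 1 b * S.e 2 p α * S.o 2 f * S.e 3 r β * S.o 3 i) * S.e 4 0 w) (v * r) := by
  have k := pr_coord S (B := S.e 2 v 0) (z := z) (b := b) (p := p) (α := α) (f := f) (r := r) (β := β) (i := i) (w := w)
    (s1 := 0) (s2 := 0) (s3 := v * r) (s4 := 0)
    (by
      have h := S.e_e1 1 0 z v 0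
      rw [zero_mul, S.o_zero, mul_one] at h
      exact Pr.zero S h)
    (Pr.zero S (S.o_e1 1 b v 0))
    (pr_mul_self S 2 S.Z4_W46 p α v)
    (Pr.zero S (S.e_o0 2 v 0 f).symm)
    (pr_23 S v r β)
    (Pr.symm S (Pr.w S (S.Z6_W46 _) (S.e_o1 2 v 0 i)))
    (Pr.zero S (S.e_e2 2 v 0 0 w).symm)
  convert k using 1
  ring

/-- for `a ∈ NO` outside `X_3 X_7 X_5 W46` the commutators `[a, b]` cover `X_5` modulo `W46` -/
theorem exists_pr {a : G} (ha : a ∈ S.NO) (hT : ¬ Tp S a 0) (s : F) : ∃ b ∈ S.NO, Pr S b a s := by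
  obtain ⟨z, b, p, α, f, r, β, i, w, rfl⟩ := NO_coord S ha
  have h4 : ∀ v, S.e 2 v 0 ∈ S.NO := fun v => S.J37_le (mem_J (S.mX4 _ _) (by norm_num) (by norm_num))
  have h6 : ∀ v, S.e 3 v 0 ∈ S.NO := fun v => S.J37_le (mem_J (S.mX6 _ _) (by norm_num) (by norm_num))
  by_cases hz : z = 0
  · by_cases hp : p = 0
    · by_cases hr : r = 0
      · by_cases hw : w = 0
        · exfalso
          apply hT
          have := tp_coord S z b p α f r β i w
          rw [hz, hp, hr, hw] at this ⊢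
          convert this using 1
          ext j k
          fin_cases j <;> fin_cases k <;> rfl
        · refine ⟨S.e 1 0 (s / w), S.Z2_NO _, ?_⟩
          have := pr2 S z b p α f r β i w (s / w)
          rwa [div_mul_cancel₀ _ hw] at this
      · refine ⟨S.e 2 (s / r) 0, h4 _, ?_⟩
        have := pr4 S z b p α f r β i w (s / r)
        rwa [div_mul_cancel₀ _ hr] at this
    · refine ⟨S.e 3 (s / p) 0, h6 _, ?_⟩
      have := pr6 S z b p α f r β i w (s / p)
      rwa [mul_div_cancel₀ _ hp] at this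
  · refine ⟨S.e 4 0 (s / z), S.Z8_NO _, ?_⟩
    have := pr8 S z b p α f r β i w (s / z)
    rwa [mul_div_cancel₀ _ hz] at this

/-- the matrix of `q d q⁻¹ d⁻¹` is not always zero -/
theorem exists_not_Tp (hF : ∃ c : Fˣ, c ≠ 1) (hR : S.R.p = 2) {d : G} (hd : d ∈ S.LO) (hd1 : d ≠ 1) :
    ∃ a ∈ cmm S.NO d, ¬ Tp S a 0 := by
  by_contra hcon
  push Not at hcon
  obtain ⟨A, hdet, hA⟩ := exists_Rp S hd
  have hdH : d ∈ S.HO := LO_le_HO S hd
  -- all matrices commute
  have key : ∀ (q : G) (T : Matrix (Fin 2) (Fin 2) F), q ∈ S.NO → Tp S q T → A * T = T * A.map σ := by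
    intro q T hq hT
    have hq' : d * q * d⁻¹ ∈ S.NO := KFacts.TwF4.Perf.NO_norm S hdH hq
    obtain ⟨T', hT', -⟩ := exists_Tp S hq'
    have h1 := hcon _ (mem_cmm hq)
    have h2 : q * d * q⁻¹ * d⁻¹ ∈ S.NO := cmm_le (fun u hu => KFacts.TwF4.Perf.NO_norm S hdH hu) (mem_cmm hq)
    have h3 := Tp.mul (NO_le_J S h2) h1 hT'
    have e : q * d * q⁻¹ * d⁻¹ * (d * q * d⁻¹) = q := by group
    rw [e, zero_add] at h3
    have h4 : T = T' := Tp.uniq hT h3
    rw [← h4] at hT'
    exact tp_comm' S hA hq hq' hT hT' (by group)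
  have k1 := key _ _ (S.J37_le (mem_J (S.mX4 _ _) (by norm_num) (by norm_num))) (tp_e2 S 1 0)
  have k2 := key _ _ (S.J37_le (mem_J (S.mX6 _ _) (by norm_num) (by norm_num))) (tp_e3 S 1 0)
  have k3 := key _ _ (S.Z2_NO 1) (tp_e1 S 1)
  have a01 : A 0 1 = 0 := by
    have := congrFun (congrFun k1 0) 1
    simpa [mul2] using this
  have a10 : A 1 0 = 0 := by
    have := congrFun (congrFun k2 1) 0
    simpa [mul2] using this
  have a11 : A 1 1 = σ (A 1 1) := by
    have := congrFun (congrFun k1 1) 1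
    simpa [mul2] using this
  have a00 : A 0 0 = σ (A 1 1) := by
    have := congrFun (congrFun k3 0) 1
    simpa [mul2] using this
  have hA1 : A = 1 := by
    rw [Matrix.det_fin_two, a01, a00, ← a11] at hdet
    have h1 : (A 1 1 - 1) ^ 2 = 0 := by
      have h2 := S.two
      linear_combination hdet + (1 - A 1 1) * h2
    have h2 : A 1 1 = 1 := sub_eq_zero.1 (pow_eq_zero_iff (two_ne_zero) |>.1 h1)
    have h3 : A 0 0 = 1 := by rw [a00, ← a11, h2]
    ext j k
    (revert j k; simp only [a01, a10, h2, h3, _root_.Fin.forall_fin_succ, Fin.isValue, _root_.Fin.succ_zero_eq_one, _root_.IsEmpty.forall_iff, _root_.and_true, _root_.Matrix.one_apply_eq, Nat.reduceAdd, _root_.ne_eq, _root_.zero_ne_one, _root_.not_false_eq_true, _root_.Matrix.one_apply_ne, _root_.and_self, _root_.Fin.succ_ne_zero])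
  rw [hA1] at hA
  exact hd1 (Rp.eq_one S hF hR hA)

theorem K2_LO (hF : ∃ c : Fˣ, c ≠ 1) (hR : S.R.p = 2) {p : ℕ} (hp : p.Prime)
    (hp2 : p ≠ 2) {d : G} (hd : d ∈ S.LO) (hdp : orderOf d = p) (s : F) : S.o 2 s ∈ cmm S.NO d := by
  have hdH : d ∈ S.HO := LO_le_HO S hd
  have hdN : ∀ x ∈ S.NO, d * x * d⁻¹ ∈ S.NO := fun x hx => KFacts.TwF4.Perf.NO_norm S hdH hx
  have hd1 : d ^ p = 1 := by rw [← hdp]; exact pow_orderOf_eq_one d
  have hne : d ≠ 1 := by
    rintro rfl
    rw [orderOf_one] at hdp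
    exact hp.one_lt.ne hdp
  obtain ⟨A, hdet, hA⟩ := exists_Rp S hd
  have hA2 : A * A ≠ 1 := by
    intro h0
    have h1 := hA.pow 2
    rw [pow_two A, h0] at h1
    exact pow_ne hp hp2 hdp (Rp.eq_one S hF hR h1)
  have hWN : S.W46 ≤ S.NO := fun w hw => by
    obtain ⟨u, v, rfl⟩ := hw
    exact mul_mem (S.J37_le (mem_J (S.mX4 _ _) (by norm_num) (by norm_num)))
      (S.J37_le (mem_J (S.mX6 _ _) (by norm_num) (by norm_num)))
  -- `W46 ≤ [NO, d]`
  have hW2 : IsPGroup 2 S.W46 := (two_J S hR (a := 4) (b := 6) (by norm_num)).to_le S.W46_le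
  have hdW : ∀ x ∈ S.W46, d * x * d⁻¹ ∈ S.W46 := fun x hx => S.W46_conj (S.LO_le_J hd) hx
  have hW : S.W46 ≤ cmm S.NO d := by
    intro w hw
    obtain ⟨k, hk, c, hc, hdc, rfl⟩ := exists_factor hW2 hp hp2 hd1 hdW hw
    obtain ⟨v, rfl⟩ := exists_ww S hc
    have h1 := hA.w v
    rw [hdc] at h1
    have h2 := ww_inj S (mul_right_cancel h1)
    have hv : v = 0 := by
      by_contra hne
      exact hA2 (fix_lem S.two hdet hne h2.symm)
    rw [hv, ww_zero, mul_one]
    exact cmm_mono hWN d hk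
  obtain ⟨a, ha, haT⟩ := exists_not_Tp S hF hR hd hne
  obtain ⟨b, hb, w, hw, h1⟩ := exists_pr S (cmm_le hdN ha) haT s
  have h2 := cmm_conj (inv_mem hb) ha
  have h3 := mul_mem (inv_mem ha) h2
  have e : a⁻¹ * (b⁻¹ * a * b⁻¹⁻¹) = S.o 2 s * w := by
    calc a⁻¹ * (b⁻¹ * a * b⁻¹⁻¹) = (b * a)⁻¹ * (a * b) := by group
      _ = _ := by rw [h1]; group
  rw [e] at h3
  have h4 := mul_mem h3 (inv_mem (hW hw))
  rwa [mul_inv_cancel_right] at h4

/-- **`X_5 ≤ [NO, d]`** for `d ∈ C(X_5)` of odd prime order -/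
theorem K2 (hF : ∃ c : Fˣ, c ≠ 1) (hR : S.R.p = 2) {k : ℕ} (hq : Nat.card F = 2 ^ k) {p : ℕ} (hp : p.Prime)
    (hp2 : p ≠ 2) {d : G} (hd : d ∈ S.HO) (hdp : orderOf d = p) (s : F) : S.o 2 s ∈ cmm S.NO d := by
  obtain ⟨b, hb, hb1⟩ := exists_conj_mem (H := S.LO) (M := S.HO) le_sup_left (n := Nat.card F ^ 9) hp (by
        rw [card_HO S hF, card_LO, Nat.card_units]; ring) (pow_ndvd hq hp hp2) hd hdp
  have h1 := K2_LO S hF hR hp hp2 hb1 (by rw [orderOf_cj, hdp]) s
  have h2 := cmm_cj (fun u hu => by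
    have := KFacts.TwF4.Perf.NO_norm S (inv_mem hb) hu
    rwa [inv_inv] at this) h1
  have h3 : b⁻¹ * S.o 2 s * b = S.o 2 s := by
    rw [mul_assoc, inv_mul_eq_iff_eq_mul]
    exact (S.mem_centralizer_X5.1 (S.HO_le_cent hb) s).symm
  rwa [h3] at h2

end sys

/-! ### covers with an involution -/

section cov

theorem PF.conj' {G ι : Type*} [Group G] {x : ι → G} {r : ι → ℕ} (h : PF x r) (k : G) :
    PF (fun i => k * x i * k⁻¹) r where
  prime := h.prime
  inj := h.inj
  pow i := by rw [conj_pow, h.pow, mul_one, mul_inv_cancel]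
  ne i := fun h1 => h.ne i (by
    have : k * x i = k := by
      have h2 := congrArg (· * k) h1
      simpa only [_root_.mul_eq_left, _root_.inv_mul_cancel_right, _root_.one_mul] using h2
    exact mul_eq_left.1 this)
  comm i j := comm_cj (h.comm i j) k

theorem Cov.conj' {G Ω ι : Type*} [Group G] [MulAction G Ω] {x : ι → G} (h : Cov Ω x) (k : G) :
    Cov Ω (fun i => k * x i * k⁻¹) := by
  intro ω
  obtain ⟨i, hi⟩ := h (k⁻¹ • ω)
  refine ⟨i, ?_⟩
  show (k * x i * k⁻¹) • ω = ω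
  rw [mul_smul, mul_smul, hi, smul_inv_smul]

variable {F : Type*} [Field F] {σ : F →+* F} {G : Type u} [Group G] (S : Full σ G) [Finite F] [Finite G]

/-- **a cover of the points by commuting elements of different prime orders has no involution** -/
theorem not_cov_inv (hF : ∃ c : Fˣ, c ≠ 1) (hR : S.R.p = 2) {k : ℕ} (hq : Nat.card F = 2 ^ k)
    {Ω ι : Type*} [MulAction G Ω] [Nonempty Ω] [Finite ι] {N : Subgroup G} (hE : Env G Ω N) {x : ι → G} {r : ι → ℕ}
    (hx : PF x r) (hc : Cov Ω x) {i0 : ι} (h2 : r i0 = 2) : False := by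
  have ho : ∀ (y : ι → G), PF y r → ∀ j, orderOf (y j) = r j := by
    intro y hy j
    have := Fact.mk (hy.prime j)
    exact orderOf_eq_prime (hy.pow j) (hy.ne j)
  have hne2 : ∀ j : {j : ι // j ≠ i0}, r j.1 ≠ 2 := fun j h => j.2 (hx.inj (h.trans h2.symm))
  have hcop : ∀ {U : Subgroup G}, IsPGroup 2 U → ∀ j : {j : ι // j ≠ i0}, (r j.1).Coprime (Nat.card U) := by
    intro U hU j
    obtain ⟨n, hn⟩ := IsPGroup.iff_card.1 hU
    rw [hn]
    exact Nat.Coprime.pow_right n ((Nat.coprime_primes (hx.prime j.1) Nat.prime_two).2 (hne2 j))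
  have ht : x i0 * x i0 = 1 := by
    have := hx.pow i0
    rwa [h2, pow_two] at this
  rcases inv_cases S hF hR ht (hx.ne i0) with ⟨g, u, hu, hg⟩ | ⟨g, s, hs, hg⟩
  · have hx' := PF.conj' hx g
    have hc' := Cov.conj' hc g
    have hP : ∀ j, g * x j * g⁻¹ ∈ S.PL := by
      intro j
      have hz1 : S.e 2 0 u ≠ 1 := fun h => hu (S.e_eq_one h).2
      rw [← S.centralizer_z (z := S.e 2 0 u) ⟨u, rfl⟩ hz1, Subgroup.mem_centralizer_singleton_iff, ← hg]
      exact hx'.comm j i0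
    have : Group.IsNilpotent S.Q := (two_Q S hR).isNilpotent
    exact not_cov_lr hE (x := fun j : {j : ι // j ≠ i0} => g * x j.1 * g⁻¹) (r := fun j => r j.1)
      (fun j => hx.prime j.1) (fun j => hx'.pow j.1) (fun i j => hx'.comm i.1 j.1) (U := S.Q) (y := S.e 2 0 u)
      (fun ω => by
        obtain ⟨i, hi⟩ := hc' ω
        by_cases h : i = i0
        · subst h
          left
          rw [← hg]
          exact hi
        · exact Or.inr ⟨⟨i, h⟩, hi⟩)
      (fun j v hv => Q_norm S (hP j.1) hv) this (hcop (two_Q S hR))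
      (fun v hv => S.comm_PL (Q_PL S hv) ⟨u, rfl⟩) (fun h => hu (S.e_eq_one h).2)
      (fun j => K1 S hF hR hq (hx.prime j.1) (hne2 j) (hP j.1) (ho _ hx' j.1) u)
  · have hx' := PF.conj' hx g
    have hc' := Cov.conj' hc g
    have hP : ∀ j, g * x j * g⁻¹ ∈ S.HO := by
      intro j
      rw [← S.centralizer_o hs, Subgroup.mem_centralizer_singleton_iff, ← hg]
      exact hx'.comm j i0
    have hN2 : IsPGroup 2 S.NO := (two_J S hR (a := 2) (b := 8) (by norm_num)).to_le inf_le_left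
    have : Group.IsNilpotent S.NO := hN2.isNilpotent
    exact not_cov_lr hE (x := fun j : {j : ι // j ≠ i0} => g * x j.1 * g⁻¹) (r := fun j => r j.1)
      (fun j => hx.prime j.1) (fun j => hx'.pow j.1) (fun i j => hx'.comm i.1 j.1) (U := S.NO) (y := S.o 2 s)
      (fun ω => by
        obtain ⟨i, hi⟩ := hc' ω
        by_cases h : i = i0
        · subst h
          left
          rw [← hg]
          exact hi
        · exact Or.inr ⟨⟨i, h⟩, hi⟩)
      (fun j v hv => KFacts.TwF4.Perf.NO_norm S (hP j.1) hv) this (hcop hN2)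
      (fun v hv => S.mem_centralizer_X5.1 hv.2 s) (fun h => hs (S.o_eq_one h))
      (fun j => K2 S hF hR hq (hx.prime j.1) (hne2 j) (hP j.1) (ho _ hx' j.1) s)

end cov

end Cfsg.Agent.H660.RF
end

-- part: H902/RF/CB
section
/-!
# Fixed points and the minimal degree

`fix_le_of_minDeg` : in a transitive action of a group whose nontrivial representations have degree at least `d` an
element `x` with `|C(x)| ≤ c²` has at most `(c / d) |Y| + 1` fixed points.
-/

set_option autoImplicit false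

namespace Cfsg.Agent.H902.RF

open Cfsg Cfsg.Agent.Characters Cfsg.Agent.Characters.Core

/-- nontrivial irreducible characters have degree at least `d` -/
theorem le_degree {T : Type} [Group T] [Finite T] {d : ℕ} (hdeg : H122.MinDeg T d) {χ : T → ℂ}
    (hχ : IsIrrCharacter T χ) (h1 : χ ≠ 1) : ∃ n : ℕ, d ≤ n ∧ χ 1 = n := by
  obtain ⟨n, ρ, hρ, rfl⟩ := hχ
  have hn : ρ.character 1 = n := by rw [Representation.char_one, Module.finrank_fin_fun]
  refine ⟨n, ?_, hn⟩
  have h2 := hdeg (Fin n → ℂ) ρ (by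
    by_contra hcon
    push Not at hcon
    apply h1
    have h3 : ∀ g, ρ.character g = ρ.character 1 := by
      intro g
      change LinearMap.trace ℂ _ (ρ g) = LinearMap.trace ℂ _ (ρ 1)
      rw [hcon g, hcon 1]
    have hT : Fintype T := Fintype.ofFinite T
    have h4 : classInner ρ.character ρ.character = 1 := classInner_irr_self ⟨n, ρ, hρ, rfl⟩
    have hne : (Nat.card T : ℂ) ≠ 0 := by exact_mod_cast Nat.card_pos.ne'
    rw [classInner_def] at h4
    simp only [h3, hn, Complex.conj_natCast] at h4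
    rw [Finset.sum_const, Finset.card_univ, nsmul_eq_mul, ← Nat.card_eq_fintype_card,
      inv_mul_cancel_left₀ hne] at h4
    have h6 : n * n = 1 := by exact_mod_cast h4
    have h7 : n = 1 := Nat.eq_one_of_mul_eq_one_right h6
    ext g
    rw [h3, hn, h7]
    simp)
  rwa [Module.finrank_fin_fun] at h2

theorem fix_le_of_minDeg {X : Type} [Group X] [Finite X] {d : ℕ} (hd : H122.MinDeg X d) {Y : Type} [Finite Y]
    [MulAction X Y] [MulAction.IsPretransitive X Y] (x : X) {c : ℕ}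
    (hc : Nat.card (Subgroup.centralizer ({x} : Set X)) ≤ c ^ 2) :
    d * Nat.card (MulAction.fixedBy Y x) ≤ d + c * Nat.card Y := by
  classical
  have : Fintype X := Fintype.ofFinite X
  have : Finite (IrrCharacter X) := finite_irr
  have : Fintype (IrrCharacter X) := Fintype.ofFinite _
  rcases isEmpty_or_nonempty Y with hY | hY
  · have h0 : Nat.card (MulAction.fixedBy Y x) = 0 := by
      rw [Nat.card_eq_zero]
      left
      exact ⟨fun y => hY.elim y.1⟩
    rw [h0, mul_zero]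
    exact Nat.zero_le _
  have hπc : IsCharacter X (fun g : X => (Nat.card (MulAction.fixedBy Y g) : ℂ)) :=
    Cfsg.Agent.S0157.isCharacter_fixedBy Y
  obtain ⟨m, hm⟩ := exists_nat_comb hπc
  set! o : IrrCharacter X := ⟨1, isIrr_one⟩ with ho
  have hmo : m o = 1 := by
    have h3 : classInner (fun g : X => (Nat.card (MulAction.fixedBy Y g) : ℂ)) 1 = 1 := by
      have h4 := Cfsg.Agent.S0157.avg_fixedBy (G := X) Y
      rw [Cfsg.Agent.S0157.card_orbits_of_pretransitive X Y] at h4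
      simpa only [classInner, _root_.Nat.card_eq_fintype_card, _root_.Nat.card_coe_set_eq, _root_.Pi.one_apply, _root_.map_one, _root_.mul_one, _root_.Nat.cast_one] using h4
    have h4 := classInner_sum_nsmul_irr m o
    rw [← hm] at h4
    have h5 : ((m o : ℕ) : ℂ) = 1 := h4.symm.trans h3
    exact_mod_cast h5
  have key : ∀ g : X, (Nat.card (MulAction.fixedBy Y g) : ℂ) =
      1 + ∑ χ ∈ Finset.univ.erase o, (m χ : ℂ) * (χ : X → ℂ) g := by
    intro g
    have h5 := congrFun hm g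
    simp only [Finset.sum_apply] at h5
    rw [h5, ← Finset.add_sum_erase Finset.univ _ (Finset.mem_univ o), hmo]
    congr 1
    · simp [ho]
    · exact Finset.sum_congr rfl fun χ _ => by simp
  choose! n hn hn1 using fun (χ : IrrCharacter X) (h : χ ∈ Finset.univ.erase o) =>
    le_degree hd χ.2 (fun h2 => (Finset.mem_erase.1 h).1 (Subtype.ext h2))
  -- the sum of the degrees
  have hsum : 1 + ∑ χ ∈ Finset.univ.erase o, m χ * n χ = Nat.card Y := by
    have h5 := key 1
    have h6 : Nat.card (MulAction.fixedBy Y (1 : X)) = Nat.card Y := by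
      rw [MulAction.fixedBy_one_eq_univ]
      exact Nat.card_univ
    rw [h6] at h5
    have h7 : ((1 + ∑ χ ∈ Finset.univ.erase o, m χ * n χ : ℕ) : ℂ) = (Nat.card Y : ℂ) := by
      rw [h5]
      push_cast
      congr 1
      exact Finset.sum_congr rfl fun χ h => by rw [hn1 χ h]
    exact_mod_cast h7
  set! M : ℕ := ∑ χ ∈ Finset.univ.erase o, m χ with hM
  have hMd : d * M ≤ Nat.card Y := by
    rw [hM, Finset.mul_sum]
    calc ∑ χ ∈ Finset.univ.erase o, d * m χ ≤ ∑ χ ∈ Finset.univ.erase o, m χ * n χ :=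
          Finset.sum_le_sum fun χ h => by
            rw [mul_comm]
            exact Nat.mul_le_mul_left _ (hn χ h)
      _ ≤ Nat.card Y := by omega
  -- the values at `x`
  have hval : (Nat.card (MulAction.fixedBy Y x) : ℝ) ≤ 1 + c * M := by
    have h5 : ‖(Nat.card (MulAction.fixedBy Y x) : ℂ)‖ ≤ 1 + ∑ χ ∈ Finset.univ.erase o, (m χ : ℝ) * c := by
      rw [key x]
      refine (norm_add_le _ _).trans ?_
      rw [norm_one]
      refine add_le_add le_rfl ((norm_sum_le _ _).trans (Finset.sum_le_sum fun χ _ => ?_))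
      rw [norm_mul, Complex.norm_natCast]
      refine mul_le_mul_of_nonneg_left ((H147.CharBound.norm_le_sqrt x χ).trans ?_) (Nat.cast_nonneg _)
      rw [Real.sqrt_le_left (Nat.cast_nonneg _)]
      exact_mod_cast hc
    rw [Complex.norm_natCast] at h5
    refine h5.trans (le_of_eq ?_)
    rw [hM, Nat.cast_sum, ← Finset.sum_mul, mul_comm]
  have hval' : Nat.card (MulAction.fixedBy Y x) ≤ 1 + c * M := by exact_mod_cast hval
  calc d * Nat.card (MulAction.fixedBy Y x) ≤ d * (1 + c * M) := Nat.mul_le_mul_left _ hval'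
    _ = d + c * (d * M) := by ring
    _ ≤ d + c * Nat.card Y := by
      exact Nat.add_le_add_left (Nat.mul_le_mul_left _ hMd) _

end Cfsg.Agent.H902.RF
end

-- part: H902/RF/Deg
section
/-!
# The degrees of the complex representations of `²F₄(q)`, `q ≥ 8`: at least `2 (q - 1) q⁴`

The torus permutes transitively the nontrivial characters of `X_4'`.
-/

set_option autoImplicit false
set_option linter.unusedSectionVars false

namespace Cfsg.Agent.H902.RF

open Module Cfsg.Agent.H121.Wt Cfsg.Agent.H121.Chr Cfsg.Agent.H122 Cfsg.Agent.H122.Cyc.TwF4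
open Cfsg.Agent.H934.HeisTwF4 Cfsg.Agent.KFacts.TwF4

section

variable {F : Type} [Field F] {σ : F →+* F} {G : Type*} [Group G] (S : Full σ G)

/-- the multipliers of a torus element on the five coordinates -/
def mt (σ : F →+* F) (c d : Fˣ) : Fin 5 → F :=
  ![(chE σ 1 c d : F) * σ (chE σ 1 c d : F), (chO σ 1 c d : F), (chE σ 2 c d : F) * σ (chE σ 2 c d : F),
    (chO σ 2 c d : F), (chE σ 3 c d : F) * σ (chE σ 3 c d : F)]

theorem mt_ne (σ : F →+* F) (c d : Fˣ) (k : Fin 5) : mt σ c d k ≠ 0 := by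
  have h1 : ∀ x : Fˣ, (x : F) * σ (x : F) ≠ 0 := fun x =>
    mul_ne_zero x.ne_zero ((map_ne_zero σ).2 x.ne_zero)
  fin_cases k
  · exact h1 _
  · exact Units.ne_zero _
  · exact h1 _
  · exact Units.ne_zero _
  · exact h1 _

theorem h_gn (c d : Fˣ) (k : Fin 5) (v : F) :
    S.h c d * gn S k v * (S.h c d)⁻¹ = gn S k (mt σ c d k * v) := by
  fin_cases k
  · show S.h c d * S.e 1 0 v * (S.h c d)⁻¹ = S.e 1 0 _
    rw [S.h_e, mul_zero]
    rfl
  · exact S.h_o _ _ _ _
  · show S.h c d * S.e 2 0 v * (S.h c d)⁻¹ = S.e 2 0 _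
    rw [S.h_e, mul_zero]
    rfl
  · exact S.h_o _ _ _ _
  · show S.h c d * S.e 3 0 v * (S.h c d)⁻¹ = S.e 3 0 _
    rw [S.h_e, mul_zero]
    rfl

theorem h_i5 (c d : Fˣ) (e : E5 F) : S.h c d * i5 S e * (S.h c d)⁻¹ =
    i5 S (fun k => Multiplicative.ofAdd (mt σ c d k * Multiplicative.toAdd (e k))) := by
  revert e
  refine ind5 ?_ ?_
  · intro a b ha hb
    have h1 : (fun k => Multiplicative.ofAdd (mt σ c d k * Multiplicative.toAdd ((a * b) k)) : E5 F) =
        (fun k => Multiplicative.ofAdd (mt σ c d k * Multiplicative.toAdd (a k))) *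
          (fun k => Multiplicative.ofAdd (mt σ c d k * Multiplicative.toAdd (b k))) := by
      funext k
      rw [Pi.mul_apply, Pi.mul_apply, toAdd_mul, mul_add, ofAdd_add]
    rw [h1, map_mul, map_mul, ← ha, ← hb]
    group
  · intro l v
    rw [i5_s5, h_gn, ← i5_s5]
    congr 1
    funext k
    by_cases hk : k = l
    · subst hk
      simp only [s5, _root_.Pi.mulSingle_eq_same, _root_.toAdd_ofAdd]
    · have h1 : s5 l v k = 1 := Pi.mulSingle_eq_of_ne hk _
      have h2 : s5 l (mt σ c d l * v) k = 1 := Pi.mulSingle_eq_of_ne hk _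
      rw [h1, h2, toAdd_one, mul_zero, ofAdd_zero]

theorem h_x5 (c d : Fˣ) (a : Fin 5 → F) :
    S.h c d * x5 S a = x5 S (fun k => mt σ c d k * a k) * S.h c d := by
  rw [← mul_inv_eq_iff_eq_mul]
  exact h_i5 S c d _

end

section

variable {F : Type} [Field F] [Fintype F] [CharP F 2] {σ : F →+* F} {G : Type*} [Group G] (S : Full σ G)
variable {V : Type*} [AddCommGroup V] [Module ℂ V] [FiniteDimensional ℂ V] (ρ : Representation ℂ G V)

/-- the scaled character -/
def sc (χ : AddChar (Fin 5 → F) ℂ) (D : Fin 5 → F) : AddChar (Fin 5 → F) ℂ where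
  toFun a := χ (fun k => D k * a k)
  map_zero_eq_one' := by
    have h : (fun k => D k * (0 : Fin 5 → F) k) = 0 := by
      funext k
      simp
    rw [h, AddChar.map_zero_eq_one]
  map_add_eq_mul' a b := by
    have h : (fun k => D k * (a + b) k) = (fun k => D k * a k) + fun k => D k * b k := by
      funext k
      simp [mul_add]
    rw [h, AddChar.map_add_eq_mul]

theorem sc_apply (χ : AddChar (Fin 5 → F) ℂ) (D a : Fin 5 → F) : sc χ D a = χ (fun k => D k * a k) := rfl

theorem c2_sc (χ : AddChar (Fin 5 → F) ℂ) (D : Fin 5 → F) : c2 (sc χ D) = AddChar.mulShift (c2 χ) (D 2) := by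
  ext x
  rw [AddChar.mulShift_apply]
  show χ (fun k => D k * (Pi.single 2 x : Fin 5 → F) k) = χ (Pi.single 2 (D 2 * x))
  congr 1
  funext k
  by_cases hk : k = 2
  · subst hk
    rw [Pi.single_eq_same, Pi.single_eq_same]
  · rw [Pi.single_eq_of_ne hk, Pi.single_eq_of_ne hk, mul_zero]

theorem finrank_sc (c d : Fˣ) (χ : AddChar (Fin 5 → F) ℂ) :
    finrank ℂ (wt (fun a => ρ (x5 S a)) (sc χ fun k => (mt σ c d k)⁻¹)) =
      finrank ℂ (wt (fun a => ρ (x5 S a)) χ) := by
  refine (finrank_wt_eq ρ (x := x5 S) (g := S.h c d) (f := fun a k => mt σ c d k * a k) (h_x5 S c d)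
    (Function.bijective_iff_has_inverse.2 ⟨fun a k => (mt σ c d k)⁻¹ * a k, ?_, ?_⟩) fun a => ?_).symm
  · intro a
    funext k
    exact inv_mul_cancel_left₀ (mt_ne σ c d k) _
  · intro a
    funext k
    exact mul_inv_cancel_left₀ (mt_ne σ c d k) _
  · rw [sc_apply]
    congr 1
    funext k
    exact inv_mul_cancel_left₀ (mt_ne σ c d k) _

include S in
/-- the torus is transitive on `X_4'` -/
theorem exists_mt (z : Fˣ) : ∃ c d : Fˣ, (mt σ c d 2)⁻¹ = z := by
  have hz0 : ((z⁻¹ : Fˣ) : F) ≠ 0 := Units.ne_zero _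
  have hs0 : σ ((z⁻¹ : Fˣ) : F) ≠ 0 := (map_ne_zero σ).2 hz0
  let χ : Fˣ := Units.mk0 (σ ((z⁻¹ : Fˣ) : F) / ((z⁻¹ : Fˣ) : F)) (div_ne_zero hs0 hz0)
  refine ⟨χ⁻¹, 1, ?_⟩
  have h1 : chE σ 2 χ⁻¹ (1 : Fˣ) = χ := by
    simp only [chE, _root_.map_one, _root_.div_inv_eq_mul, _root_.one_mul, _root_.map_inv, _root_.inv_inv, _root_.inv_one, _root_.div_one, _root_.Matrix.cons_val]
  have h2 : mt σ χ⁻¹ 1 2 = (chE σ 2 χ⁻¹ (1 : Fˣ) : F) * σ (chE σ 2 χ⁻¹ (1 : Fˣ) : F) := rfl
  rw [h2, h1]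
  have h3 : (χ : F) * σ (χ : F) = ((z⁻¹ : Fˣ) : F) := chi_eq S hz0
  rw [h3, Units.val_inv_eq_inv_val, inv_inv]

theorem c2_tw (χ : AddChar (Fin 5 → F) ℂ) (t : Fin 5 → F) (ht : t 2 = 0) : c2 (tw χ t) = c2 χ := by
  ext x
  show tw χ t (Pi.single 2 x) = χ (Pi.single 2 x)
  rw [tw_apply, sum_single, ht, zero_mul, AddChar.map_zero_eq_one, mul_one]

include S in
/-- **the degrees of the representations** -/
theorem minDeg [IsSimpleGroup G] (hq : 2 < Fintype.card F) :
    MinDeg G (2 * (Fintype.card F - 1) * Fintype.card F ^ 4) := by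
  classical
  intro M _ _ _ ρ hρ
  have hact : IsAct (fun a => ρ (x5 S a)) := isAct_of ρ (x5_add S)
  have hne : x5 S (Pi.single 2 1) ≠ 1 := by
    intro h
    have h0 : x5 S (0 : Fin 5 → F) = 1 := by
      have := x5_add S 0 0
      rw [add_zero] at this
      exact mul_eq_left.1 this.symm
    have h1 := x5_inj S (h.trans h0.symm)
    have h2 := congrFun h1 2
    rw [Pi.single_eq_same] at h2
    exact one_ne_zero h2
  obtain ⟨χ, hw, hχ⟩ := exists_wt hact (faithful ρ hρ hne)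
  have hc2 : c2 χ ≠ 1 := by
    intro h
    exact hχ (DFunLike.congr_fun h (1 : F))
  have h2 := two_le S ρ hq hχ hw
  choose cc dd hcd using exists_mt (σ := σ) S
  let ψ : Fˣ → AddChar (Fin 5 → F) ℂ := fun z => sc χ fun k => (mt σ (cc z) (dd z) k)⁻¹
  have hψ2 : ∀ z, c2 (ψ z) = AddChar.mulShift (c2 χ) (z : F) := by
    intro z
    have h3 := c2_sc χ fun k => (mt σ (cc z) (dd z) k)⁻¹
    rw [h3]
    congr 1
    exact hcd z
  have hprim : AddChar.IsPrimitive (c2 χ) := AddChar.IsPrimitive.of_ne_one hc2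
  have hψne : ∀ z, c2 (ψ z) ≠ 1 := by
    intro z
    rw [hψ2]
    exact hprim z.ne_zero
  let f : Fˣ × (Fin 4 → F) → AddChar (Fin 5 → F) ℂ := fun p => tw (ψ p.1) (b5' p.2)
  have hf : Function.Injective f := by
    rintro ⟨z, b⟩ ⟨z', b'⟩ h
    have h3 : c2 (tw (ψ z) (b5' b)) = c2 (tw (ψ z') (b5' b')) := congrArg c2 h
    rw [c2_tw _ _ rfl, c2_tw _ _ rfl, hψ2, hψ2] at h3
    have h4 : (z : F) = z' := AddChar.to_mulShift_inj_of_isPrimitive hprim h3
    have h5 : z = z' := Units.ext h4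
    subst h5
    have h6 : b = b' := b5'_inj (tw_inj (hψne z) h)
    rw [h6]
  have h3 := mul_card_le hact (Finset.univ.image f) 2 (by
    intro φ hφ
    rw [Finset.mem_image] at hφ
    obtain ⟨⟨z, b⟩, -, rfl⟩ := hφ
    show 2 ≤ finrank ℂ (wt (fun a => ρ (x5 S a)) (tw (ψ z) (b5' b)))
    rw [finrank_tw S ρ (ψ z) _ rfl, finrank_sc S ρ]
    exact h2)
  rw [Finset.card_image_of_injective _ hf, Finset.card_univ, Fintype.card_prod, Fintype.card_fun, Fintype.card_fin,
    Fintype.card_units, ← mul_assoc] at h3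
  exact h3

end

/-- **`²F₄(q)`**, `q ≥ 8` -/
theorem minDeg_twF4 {K : Type} [Field K] [Fintype K] {m : ℕ} (hm : 1 ≤ m) (hK : Fintype.card K = 2 ^ (2 * m + 1))
    (hs : IsSimpleGroup ↥(Cfsg.Lie.twistedF4 K (2 ^ m))) :
    MinDeg ↥(Cfsg.Lie.twistedF4 K (2 ^ m)) (2 * (Fintype.card K - 1) * Fintype.card K ^ 4) := by
  have : CharP K 2 := Cfsg.Agent.ChevalleyStructure.TwF4.Twisted.charP_two hK
  obtain ⟨φ, hφ⟩ := Cfsg.Agent.ChevalleyStructure.TwF4.TwistedFix.exists_rln hK
  have h2 : 2 < Fintype.card K := by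
    rw [hK]
    calc 2 < 2 ^ 3 := by norm_num
      _ ≤ 2 ^ (2 * m + 1) := Nat.pow_le_pow_right (by norm_num) (by omega)
  exact minDeg (Cfsg.Agent.KFacts.TwF4.Inst.full hK hφ) h2

end Cfsg.Agent.H902.RF
end

-- part: H660/RF/Inner
section
/-!
# S3509, row `²F₄(q)`, `q ≥ 8`: covers by elements of the socle (helper660)

* `transfer` : a cover by elements of `N ≅ Y` as a `Y`-set;
* `le_card` : `|Y-orbit| ≥` the minimal degree;
* `not_cov_count` : the counting;
* `inner_false` : no cover by elements of the socle if `|C(x)| ≤ q⁸` for all `x` of odd prime order.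
-/

set_option autoImplicit false

namespace Cfsg.Agent.H660.RF

open Subgroup MulAction Cfsg Cfsg.Lie
open Cfsg.Agent.H106.RC

section transfer

/-- a cover by elements of `N ≅ Y` as a `Y`-set -/
theorem transfer {G Ω ι Y : Type*} [Group G] [MulAction G Ω] [Group Y] {N : Subgroup G} (hE : Env G Ω N) (e : N ≃* Y)
    {x : ι → G} {r : ι → ℕ} (hx : PF x r) (hc : Cov Ω x) (hN : ∀ i, x i ∈ N) :
    ∃ (_ : MulAction Y Ω) (y : ι → Y), Env Y Ω (⊤ : Subgroup Y) ∧ PF y r ∧ Cov Ω y := by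
  let φ : Y →* G := N.subtype.comp e.symm.toMonoidHom
  let _ : MulAction Y Ω := MulAction.compHom Ω φ
  have hsm : ∀ (s : Y) (ω : Ω), s • ω = ((e.symm s : N) : G) • ω := fun s ω => rfl
  have hφ : Function.Injective φ := fun a b h => e.symm.injective (Subtype.ext h)
  have hv : ∀ i, φ (e ⟨x i, hN i⟩) = x i := fun i => by
    show ((e.symm (e ⟨x i, hN i⟩) : N) : G) = x i
    rw [MulEquiv.symm_apply_apply]
  refine ⟨inferInstance, fun i => e ⟨x i, hN i⟩, ?_, ⟨hx.prime, hx.inj, fun i => ?_, fun i h => ?_, fun i j => ?_⟩,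
    fun ω => ?_⟩
  · refine { norm := inferInstance, simple := isSimple_cgr0 (e.trans Subgroup.topEquiv.symm) hE.simple, ncomm := ?_,
             cent := ?_, nofix := ?_ }
    · intro hcom
      refine hE.ncomm ⟨⟨fun a b => ?_⟩⟩
      have h1 : (⟨e a, trivial⟩ : (⊤ : Subgroup Y)) * ⟨e b, trivial⟩ = ⟨e b, trivial⟩ * ⟨e a, trivial⟩ :=
        hcom.is_comm.comm _ _
      have h2 : e a * e b = e b * e a := congrArg Subtype.val h1
      rw [← map_mul, ← map_mul] at h2
      exact e.injective h2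
    · rw [eq_bot_iff]
      intro s hs
      have h1 : φ s ∈ centralizer (N : Set G) := by
        rw [mem_centralizer_iff]
        intro n hn
        have h2 := mem_centralizer_iff.1 hs (e ⟨n, hn⟩) trivial
        have h3 := congrArg φ h2
        rw [map_mul, map_mul] at h3
        have h4 : φ (e ⟨n, hn⟩) = n := by
          show ((e.symm (e ⟨n, hn⟩) : N) : G) = n
          rw [MulEquiv.symm_apply_apply]
        rwa [h4] at h3
      rw [hE.cent, mem_bot] at h1
      rw [mem_bot]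
      exact hφ (by rw [h1, map_one])
    · intro ω hω
      refine hE.nofix ω fun n hn => ?_
      have h1 : e ⟨n, hn⟩ • ω = ω := hω (show e ⟨n, hn⟩ ∈ (⊤ : Subgroup Y) from trivial)
      have h2 : ((e.symm (e ⟨n, hn⟩) : N) : G) • ω = ω := h1
      rw [MulEquiv.symm_apply_apply] at h2
      exact h2
  · apply hφ
    rw [map_pow, hv, hx.pow, map_one]
  · exact hx.ne i (by rw [← hv i, h, map_one])
  · apply hφ
    rw [map_mul, map_mul, hv, hv, hx.comm]
  · obtain ⟨i, hi⟩ := hc ω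
    refine ⟨i, ?_⟩
    show φ (e ⟨x i, hN i⟩) • ω = ω
    rw [hv]
    exact hi

end transfer

section count

/-- a nontrivial transitive action has at least `d` points -/
theorem le_card {X : Type} [Group X] {d : ℕ} (hd : H122.MinDeg X d) {Y : Type} [Finite Y] [MulAction X Y]
    (h : ∃ (g : X) (y : Y), g • y ≠ y) : d ≤ Nat.card Y := by
  classical
  have := Fintype.ofFinite Y
  let ρ : Representation ℂ X (Y → ℂ) :=
    { toFun := fun g => LinearMap.funLeft ℂ ℂ (fun y : Y => g⁻¹ • y)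
      map_one' := by
        ext f y
        simp only [LinearMap.funLeft_apply, _root_.inv_one, _root_.one_smul, _root_.LinearMap.coe_comp, _root_.LinearMap.coe_single, _root_.Function.comp_apply, _root_.Module.End.one_apply]
      map_mul' := fun g h => by
        ext f y
        simp only [LinearMap.funLeft_apply, mul_smul, _root_.mul_inv_rev, _root_.LinearMap.coe_comp, _root_.LinearMap.coe_single, _root_.Function.comp_apply, _root_.Module.End.mul_apply] }
  have h1 := hd (Y → ℂ) ρ (by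
    obtain ⟨g, y, hgy⟩ := h
    refine ⟨g, fun h2 => ?_⟩
    have h3 := congrFun (congrArg (fun f : (Y → ℂ) →ₗ[ℂ] (Y → ℂ) => f (Pi.single y 1)) h2) (g • y)
    have h4 : (Pi.single y (1 : ℂ) : Y → ℂ) (g⁻¹ • g • y) = (Pi.single y (1 : ℂ) : Y → ℂ) (g • y) := h3
    rw [inv_smul_smul, Pi.single_eq_same, Pi.single_eq_of_ne hgy] at h4
    exact one_ne_zero h4)
  rwa [Module.finrank_fintype_fun_eq_card, ← Nat.card_eq_fintype_card] at h1

/-- the product of `k` different odd primes -/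
theorem prod_ge {ι : Type*} [Fintype ι] (r : ι → ℕ) (hr : ∀ i, (r i).Prime) (hinj : Function.Injective r)
    (h2 : ∀ i, r i ≠ 2) : 3 * 5 ^ Fintype.card ι ≤ 5 * ∏ i, r i := by
  classical
  have h5 : ∀ i, r i ≠ 3 → 5 ≤ r i := by
    intro i h
    have h1 := (hr i).two_le
    have h2 := h2 i
    have h4 : r i ≠ 4 := by
      intro h4
      have := hr i
      rw [h4] at this
      exact absurd this (by norm_num)
    omega
  by_cases hex : ∃ i0, r i0 = 3
  · obtain ⟨i0, h0⟩ := hex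
    have h1 : ∏ i, r i = r i0 * ∏ i ∈ Finset.univ.erase i0, r i := (Finset.mul_prod_erase _ _ (Finset.mem_univ i0)).symm
    have h3 : 5 ^ (Fintype.card ι - 1) ≤ ∏ i ∈ Finset.univ.erase i0, r i := by
      have h4 : ∏ _i ∈ Finset.univ.erase i0, 5 ≤ ∏ i ∈ Finset.univ.erase i0, r i :=
        Finset.prod_le_prod' fun i hi => h5 i fun h => Finset.ne_of_mem_erase hi (hinj (h.trans h0.symm))
      rwa [Finset.prod_const, Finset.card_erase_of_mem (Finset.mem_univ i0), Finset.card_univ] at h4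
    have hpos : 0 < Fintype.card ι := Fintype.card_pos_iff.2 ⟨i0⟩
    have h4 : 5 ^ Fintype.card ι = 5 * 5 ^ (Fintype.card ι - 1) := by
      rw [← pow_succ', Nat.sub_add_cancel hpos]
    rw [h1, h0, h4]
    linarith only [h3]
  · push Not at hex
    have h4 : ∏ _i : ι, 5 ≤ ∏ i, r i := Finset.prod_le_prod' fun i _ => h5 i (hex i)
    rw [Finset.prod_const, Finset.card_univ] at h4
    omega

/-- `5^(q+3) * 3 > 5 q^8` for `q ≥ 8` -/
theorem num {q : ℕ} (hq : 8 ≤ q) : 5 * q ^ 8 < 3 * 5 ^ (q + 3) := by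
  induction q, hq using Nat.le_induction with
  | base => norm_num
  | succ q hq ih =>
    have h1 : (q + 1) ^ 8 ≤ 5 * q ^ 8 := by
      have h2 : 8 * (q + 1) ≤ 9 * q := by omega
      have h3 : (8 * (q + 1)) ^ 8 ≤ (9 * q) ^ 8 := Nat.pow_le_pow_left h2 8
      rw [mul_pow, mul_pow] at h3
      have h4 : 9 ^ 8 * q ^ 8 ≤ (5 * 8 ^ 8) * q ^ 8 := Nat.mul_le_mul_right _ (by norm_num)
      have h5 : 8 ^ 8 * (q + 1) ^ 8 ≤ 8 ^ 8 * (5 * q ^ 8) := by
        calc 8 ^ 8 * (q + 1) ^ 8 ≤ 9 ^ 8 * q ^ 8 := h3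
          _ ≤ _ := h4
          _ = _ := by ring
      exact Nat.le_of_mul_le_mul_left h5 (by norm_num)
    calc 5 * (q + 1) ^ 8 ≤ 5 * (5 * q ^ 8) := Nat.mul_le_mul_left _ h1
      _ < 5 * (3 * 5 ^ (q + 3)) := Nat.mul_lt_mul_of_pos_left ih (by norm_num)
      _ = _ := by ring

/-- **the counting** -/
theorem not_cov_count {X : Type} [Group X] [Finite X] {q : ℕ} (hq : 8 ≤ q)
    (hd : H122.MinDeg X (2 * (q - 1) * q ^ 4)) {Ω ι : Type} [Finite Ω] [Nonempty Ω] [MulAction X Ω] [Finite ι]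
    (hE : Env X Ω (⊤ : Subgroup X)) {x : ι → X} {r : ι → ℕ} (hx : PF x r) (hc : Cov Ω x) (h2 : ∀ i, r i ≠ 2)
    (hC : ∀ i, Nat.card (centralizer ({x i} : Set X)) ≤ q ^ 8) : False := by
  classical
  have := Fintype.ofFinite ι
  obtain ⟨ω⟩ := ‹Nonempty Ω›
  obtain ⟨i0, -⟩ := hc ω
  -- the number of members
  have hk : Fintype.card ι ≤ q + 2 := by
    by_contra hcon
    push Not at hcon
    have h1 : ∏ i, r i ∣ Nat.card (centralizer ({x i0} : Set X)) := by
      have e : ∏ i, r i = ∏ p ∈ Finset.univ.image r, p := by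
        rw [Finset.prod_image fun a _ b _ h => hx.inj h]
      rw [e]
      refine Finset.prod_primes_dvd _ (fun p hp => ?_) (fun p hp => ?_)
      · obtain ⟨i, -, rfl⟩ := Finset.mem_image.1 hp
        exact (hx.prime i).prime
      · obtain ⟨i, -, rfl⟩ := Finset.mem_image.1 hp
        have hm : x i ∈ centralizer ({x i0} : Set X) := by
          rw [mem_centralizer_singleton_iff]
          exact hx.comm i i0
        have h3 := _root_.orderOf_dvd_natCard (⟨x i, hm⟩ : centralizer ({x i0} : Set X))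
        have := Fact.mk (hx.prime i)
        rwa [Subgroup.orderOf_mk, orderOf_eq_prime (hx.pow i) (hx.ne i)] at h3
    have h3 := (Nat.le_of_dvd Nat.card_pos h1).trans (hC i0)
    have h4 := prod_ge r hx.prime hx.inj h2
    have h5 := num hq
    have h6 : 5 ^ (q + 3) ≤ 5 ^ Fintype.card ι := Nat.pow_le_pow_right (by norm_num) (by omega)
    have h7 : 3 * 5 ^ (q + 3) ≤ 5 * q ^ 8 := by
      calc 3 * 5 ^ (q + 3) ≤ 3 * 5 ^ Fintype.card ι := Nat.mul_le_mul_left _ h6
        _ ≤ 5 * ∏ i, r i := h4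
        _ ≤ _ := Nat.mul_le_mul_left _ h3
    omega
  -- one orbit
  let Y := orbit X ω
  have hYf : Finite Y := inferInstance
  set d := 2 * (q - 1) * q ^ 4 with hdd
  have hfix : ∀ i, d * Nat.card (fixedBy Y (x i)) ≤ d + q ^ 4 * Nat.card Y := fun i =>
    H902.RF.fix_le_of_minDeg hd (x i) (c := q ^ 4) (by rw [← pow_mul]; exact hC i)
  have hY : d ≤ Nat.card Y := by
    refine le_card hd ?_
    by_contra hcon
    push Not at hcon
    refine hE.nofix ω fun g _ => ?_
    have h1 := hcon g ⟨ω, mem_orbit_self ω⟩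
    exact congrArg Subtype.val h1
  have hsum : Nat.card Y ≤ ∑ i, Nat.card (fixedBy Y (x i)) := by
    rw [← Nat.card_sigma]
    choose f hf using fun w : Ω => hc w
    refine Nat.card_le_card_of_injective
      (fun w : Y => (⟨f w.1, ⟨w, Subtype.ext (hf w.1)⟩⟩ : Σ i, fixedBy Y (x i))) ?_
    intro a b hab
    exact congrArg (fun q : Σ i, fixedBy Y (x i) => (q.2 : Y)) hab
  have h3 : d * Nat.card Y ≤ Fintype.card ι * (d + q ^ 4 * Nat.card Y) := by
    calc d * Nat.card Y ≤ d * ∑ i, Nat.card (fixedBy Y (x i)) := Nat.mul_le_mul_left _ hsum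
      _ = ∑ i, d * Nat.card (fixedBy Y (x i)) := by rw [Finset.mul_sum]
      _ ≤ ∑ _i : ι, (d + q ^ 4 * Nat.card Y) := Finset.sum_le_sum fun i _ => hfix i
      _ = _ := by rw [Finset.sum_const, Finset.card_univ, smul_eq_mul]
  have h4 : d * Nat.card Y ≤ (q + 2) * (d + q ^ 4 * Nat.card Y) := h3.trans (Nat.mul_le_mul_right _ hk)
  -- `(q - 4) q^4 |Y| ≤ (q + 2) d`, `|Y| ≥ d`
  obtain ⟨t, rfl⟩ : ∃ t, q = t + 8 := ⟨q - 8, by omega⟩
  have e1 : t + 8 - 1 = t + 7 := by omega
  rw [e1] at hdd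
  set Q := (t + 8) ^ 4 with hQ
  have hQpos : 4096 ≤ Q := by
    calc 4096 = 8 ^ 4 := by norm_num
      _ ≤ (t + 8) ^ 4 := Nat.pow_le_pow_left (by omega) 4
  set y := Nat.card Y with hy
  rw [hdd] at h4 hY
  -- `2 (t+7) Q y ≤ (t+10) (2 (t+7) Q + Q y)`
  have h5 : 2 * (t + 7) * Q * y ≤ (t + 10) * (2 * (t + 7) * Q + Q * y) := h4
  have h6 : Q * (2 * (t + 7) * y) ≤ Q * ((t + 10) * (2 * (t + 7) + y)) := by
    calc Q * (2 * (t + 7) * y) = 2 * (t + 7) * Q * y := by ring
      _ ≤ _ := h5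
      _ = _ := by ring
  have h7 : 2 * (t + 7) * y ≤ (t + 10) * (2 * (t + 7) + y) := Nat.le_of_mul_le_mul_left h6 (by omega)
  have h8 : 2 * (t + 7) * 4096 ≤ y := (Nat.mul_le_mul_left _ hQpos).trans hY
  nlinarith only [h7, h8]

end count

/-- **no cover of the points by elements of the socle `²F₄(q)`** -/
theorem inner_false {K : Type} [Field K] [Fintype K] {m : ℕ} (hm : 1 ≤ m) (hK : Fintype.card K = 2 ^ (2 * m + 1))
    (hC : ∀ x : ↥(twistedF4 K (2 ^ m)), (orderOf x).Prime → orderOf x ≠ 2 →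
      Nat.card (centralizer ({x} : Set ↥(twistedF4 K (2 ^ m)))) ≤ Nat.card K ^ 8)
    {G Ω ι : Type} [Group G] [MulAction G Ω] [Finite Ω] [Nonempty Ω] [Finite ι] {N : Subgroup G} (hE : Env G Ω N)
    (e : N ≃* ↥(twistedF4 K (2 ^ m))) {x : ι → G} {r : ι → ℕ} (hx : PF x r) (hc : Cov Ω x) (hN : ∀ i, x i ∈ N) :
    False := by
  obtain ⟨inst, y, hE', hy, hc'⟩ := transfer hE e hx hc hN
  have hs : IsSimpleGroup ↥(twistedF4 K (2 ^ m)) := isSimple_cgr0 e hE.simple
  have hfin : Finite ↥(twistedF4 K (2 ^ m)) := inferInstance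
  have : CharP K 2 := Cfsg.Agent.ChevalleyStructure.TwF4.Twisted.charP_two hK
  obtain ⟨φ, hφ⟩ := Cfsg.Agent.ChevalleyStructure.TwF4.TwistedFix.exists_rln hK
  have hcK : Nat.card K = 2 ^ (2 * m + 1) := by rw [Nat.card_eq_fintype_card, hK]
  have h8 : 8 ≤ Nat.card K := by
    rw [hcK]
    calc 8 = 2 ^ 3 := by norm_num
      _ ≤ 2 ^ (2 * m + 1) := Nat.pow_le_pow_right (by norm_num) (by omega)
  have hF : ∃ c : Kˣ, c ≠ 1 := by
    have h1 : 1 < Nat.card Kˣ := by
      rw [Nat.card_units]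
      omega
    have h2 : Nontrivial Kˣ := Finite.one_lt_card_iff_nontrivial.1 h1
    exact exists_ne 1
  have ho : ∀ i, orderOf (y i) = r i := fun i => by
    have := Fact.mk (hy.prime i)
    exact orderOf_eq_prime (hy.pow i) (hy.ne i)
  by_cases h2 : ∃ i0, r i0 = 2
  · obtain ⟨i0, h0⟩ := h2
    exact not_cov_inv (Cfsg.Agent.KFacts.TwF4.Inst.full hK hφ) hF rfl hcK hE' hy hc' h0
  · push Not at h2
    have hd := H902.RF.minDeg_twF4 hm hK hs
    rw [← Nat.card_eq_fintype_card] at hd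
    exact not_cov_count h8 hd hE' hy hc' h2 fun i => hC (y i) (by rw [ho]; exact hy.prime i) (by rw [ho]; exact h2 i)

end Cfsg.Agent.H660.RF
end

-- part: H320/RF/Out
section
/-!
# S3509, row `²F₄(q)`, `q ≥ 8`: covers with an outer member (helper320)

* `nalt` : `²F₄(q)'` is not alternating;
* `der_RC` : `RC` for the derived group of `²F₄(q₀)`;
* `inner_of_cov` : all members of a cover are inner.
-/

set_option autoImplicit false
set_option linter.unusedSectionVars false

namespace Cfsg.Agent.H320.RF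

open MulAction Subgroup Cfsg Cfsg.Lie Cfsg.Agent.H106.RC Cfsg.Agent.H873.RG Cfsg.Agent.H327.RG
open Cfsg.Agent.H967.CopMat (Fx card_Fx)
open Cfsg.Agent.ChevalleyStructure.TwF4.TwistedFix (exists_rln Rln)
open Cfsg.Agent.KFacts.TwF4 Cfsg.Agent.KFacts.TwF4.Inst Cfsg.Agent.KFacts.TwF4.Inv
open scoped commutatorElement

/-! ### the small group -/

/-- a group without elements of order 15 and of order larger than 2520 is not alternating -/
theorem nalt_of {S : Type*} [Group S] (h15 : ¬ ∃ x : S, orderOf x = 15) (hc : 2520 < Nat.card S) :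
    ¬ IsAlternating S := by
  rintro ⟨n, hn, ⟨e⟩⟩
  by_cases h8 : 8 ≤ n
  · obtain ⟨g, hg⟩ := H380.AltSpec.exists_orderOf (n := n) {3, 5} (by simp; omega) (by
      intro a ha
      simp only [Multiset.insert_eq_cons, Multiset.mem_cons, Multiset.mem_singleton] at ha
      omega) (by
      simp only [Multiset.insert_eq_cons, Multiset.sum_cons, Multiset.sum_singleton, Multiset.card_cons,
        Multiset.card_singleton]
      exact ⟨5, rfl⟩)
    refine h15 ⟨e.symm g, ?_⟩
    rw [MulEquiv.orderOf_eq, hg]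
    simp only [Multiset.insert_eq_cons, Multiset.lcm_cons, Multiset.lcm_singleton, normalize_eq]
    rfl
  · have h1 : Nat.card S = Nat.card (alternatingGroup (Fin n)) := Nat.card_congr e.toEquiv
    have hn1 : Nontrivial (Fin n) := Fin.nontrivial_iff_two_le.2 (by omega)
    have h2 : 2 * Nat.card (alternatingGroup (Fin n)) = n.factorial := by
      rw [Nat.card_eq_fintype_card, two_mul_card_alternatingGroup, Fintype.card_perm, Fintype.card_fin]
    have h3 : n.factorial ≤ Nat.factorial 7 := Nat.factorial_le (by omega)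
    have h4 : Nat.factorial 7 = 5040 := rfl
    omega

section small

variable {E : Type} [Field E] [Fintype E] {j : ℕ}

/-- the facts on the derived group of `²F₄(q)`, `q = 2, 8, 32, …` -/
structure Der (H : Type*) [Group H] : Prop where
  simple : IsSimpleGroup ↥(commutator H)
  ncomm : ¬ IsMulCommutative ↥(commutator H)
  cent : ∀ r : H, (∀ a ∈ commutator H, r * a = a * r) → r = 1
  nalt : ¬ IsAlternating ↥(commutator H)

theorem ord_lt {q : ℕ} (h : 8 ≤ q) : 2520 < q ^ 12 * (q - 1) * (q ^ 3 + 1) * (q ^ 4 - 1) * (q ^ 6 + 1) := by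
  have h1 : 2520 < q ^ 12 := lt_of_lt_of_le (by norm_num) (Nat.pow_le_pow_left h 12)
  have h2 : 1 ≤ q - 1 := by omega
  have h4 : 1 ≤ q ^ 4 - 1 := by
    have : 8 ^ 4 ≤ q ^ 4 := Nat.pow_le_pow_left h 4
    omega
  calc 2520 < q ^ 12 := h1
    _ = q ^ 12 * 1 * 1 * 1 * 1 := by ring
    _ ≤ q ^ 12 * (q - 1) * (q ^ 3 + 1) * (q ^ 4 - 1) * (q ^ 6 + 1) := by
        gcongr
        · omega
        · omega

theorem der (hE : Fintype.card E = 2 ^ (2 * j + 1)) : Der ↥(twistedF4 E (2 ^ j)) := by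
  have h15 := Cfsg.Agent.H343.PG.TwF4Fifteen.not_exists_fifteen hE
  have h15' : ¬ ∃ x : ↥(_root_.commutator ↥(twistedF4 E (2 ^ j))), orderOf x = 15 := by
    rintro ⟨x, hx⟩
    exact h15 ⟨x, by rw [Subgroup.orderOf_coe, hx]⟩
  rcases Nat.eq_zero_or_pos j with h0 | h0
  · subst h0
    obtain ⟨c1, s1, na1, z1⟩ := Cfsg.Agent.H270.StrP.tf4_two (E := E) (by rw [hE]; norm_num) (d := 2 ^ 0) (pow_zero 2)
    refine ⟨s1, na1, fun r hr => z1 r ?_, nalt_of h15' (by rw [c1]; norm_num)⟩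
    rw [mem_centralizer_iff]
    exact fun a ha => (hr a ha).symm
  · obtain ⟨hs, hna⟩ := Cfsg.Agent.S1072.result h0 hE
    have hna' : ¬ IsMulCommutative ↥(twistedF4 E (2 ^ j)) := hna
    have htop : _root_.commutator ↥(twistedF4 E (2 ^ j)) = ⊤ := by
      rcases hs.eq_bot_or_eq_top_of_normal (_root_.commutator ↥(twistedF4 E (2 ^ j))) inferInstance with h | h
      · exfalso
        apply hna'
        refine ⟨⟨fun a b => ?_⟩⟩
        have h2 : ⁅a, b⁆ ∈ commutator ↥(twistedF4 E (2 ^ j)) :=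
          Subgroup.commutator_mem_commutator (Subgroup.mem_top a) (Subgroup.mem_top b)
        rw [h, Subgroup.mem_bot, commutatorElement_eq_one_iff_mul_comm] at h2
        exact h2
      · exact h
    have e : ↥(twistedF4 E (2 ^ j)) ≃* ↥(_root_.commutator ↥(twistedF4 E (2 ^ j))) :=
      Subgroup.topEquiv.symm.trans (MulEquiv.subgroupCongr htop.symm)
    refine ⟨isSimple_cgr0 e hs, fun hc => hna' ⟨⟨fun a b => ?_⟩⟩, fun r hr => ?_, nalt_of h15' ?_⟩
    · apply e.injective
      rw [map_mul, map_mul]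
      exact hc.is_comm.comm _ _
    · have h1 : r ∈ center ↥(twistedF4 E (2 ^ j)) := by
        rw [mem_center_iff]
        intro a
        exact (hr a (by rw [htop]; exact mem_top _)).symm
      rw [Cfsg.Agent.H240.GenTwF.center_bot hna', mem_bot] at h1
      exact h1
    · rw [← Nat.card_congr e.toEquiv, Cfsg.Agent.S1068.result hE]
      exact ord_lt (by
        calc 8 = 2 ^ 3 := by norm_num
          _ ≤ 2 ^ (2 * j + 1) := Nat.pow_le_pow_right (by norm_num) (by omega))

end small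

/-! ### automorphisms of the field -/

section field

variable {K : Type} [Field K] [Fintype K]

/-- an automorphism of prime order `r` does not fix the fixed field of one of prime order `p ≠ r` -/
theorem fld_eq_one {ρ τ : K ≃+* K} {p r : ℕ} (hp : p.Prime) (hr : r.Prime) (hpr : r ≠ p) (hρ : orderOf ρ = p)
    (hτ : τ ^ r = 1) (hfix : ∀ t ∈ Fx ρ, τ t = t) : τ = 1 := by
  let τ' : K ≃ₐ[↥(Fx ρ)] K := AlgEquiv.ofRingEquiv (f := τ) (fun t => hfix t t.2)
  have hgal : IsGalois ↥(Fx ρ) K := inferInstance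
  have h1 : Nat.card K = Nat.card ↥(Fx ρ) ^ Module.finrank ↥(Fx ρ) K := Module.natCard_eq_pow_finrank
  have h2 := card_Fx ρ
  rw [hρ] at h2
  have h3 : 1 < Nat.card ↥(Fx ρ) := Finite.one_lt_card
  have h4 : Module.finrank ↥(Fx ρ) K = p := Nat.pow_right_injective h3 (h1.symm.trans h2)
  have h5 : Nat.card (K ≃ₐ[↥(Fx ρ)] K) = p := by
    rw [IsGalois.card_aut_eq_finrank, h4]
  have h6 : τ' ^ p = 1 := by rw [← h5]; exact pow_card_eq_one'
  have hpow : ∀ (n : ℕ) (t : K), (τ' ^ n) t = (τ ^ n) t := by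
    intro n
    induction n with
    | zero => intro t; rfl
    | succ n ih =>
      intro t
      rw [pow_succ', pow_succ', AlgEquiv.mul_apply, RingAut.mul_apply, ih]
      rfl
  have h7 : τ ^ p = 1 := by
    ext t
    rw [← hpow, h6]
    rfl
  have h8 : orderOf τ ∣ Nat.gcd r p := Nat.dvd_gcd (orderOf_dvd_of_pow_eq_one hτ) (orderOf_dvd_of_pow_eq_one h7)
  rw [(Nat.coprime_primes hr hp).2 hpr, Nat.dvd_one] at h8
  exact orderOf_eq_one_iff.1 h8

/-- no automorphism of order two -/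
theorem sq_eq_one {m : ℕ} (hK : Fintype.card K = 2 ^ (2 * m + 1)) {τ : K ≃+* K} (h : τ ^ 2 = 1) : τ = 1 := by
  by_contra hne
  have h2 : orderOf τ = 2 := by
    have : Fact (Nat.Prime 2) := ⟨Nat.prime_two⟩
    exact orderOf_eq_prime h hne
  have h1 := card_Fx τ
  rw [h2, Nat.card_eq_fintype_card, hK] at h1
  have h3 : Nat.card ↥(Fx τ) ∣ 2 ^ (2 * m + 1) := by
    rw [h1, pow_two]
    exact dvd_mul_left _ _
  obtain ⟨a, -, ha⟩ := (Nat.dvd_prime_pow Nat.prime_two).1 h3
  rw [ha, ← pow_mul] at h1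
  have := Nat.pow_right_injective le_rfl h1
  omega

theorem aut_comm (τ ρ : K ≃+* K) : τ * ρ = ρ * τ := by
  have : IsCyclic (K ≃+* K) := LieRecognition.FieldSemilinear.isCyclic_ringAut K
  exact (IsCyclic.commGroup (α := K ≃+* K)).mul_comm τ ρ

end field

end Cfsg.Agent.H320.RF
end

-- part: H320/RF/OutB
section
/-!
# S3509, row `²F₄(q)`, `q ≥ 8`: covers with an outer member, the end (helper320)

* `not_cent` : an automorphism of prime order `r ≠ p` commuting with a field automorphism `ψ` of prime order `p` does not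
  centralise the derived group of the fixed points of `ψ`;
* `inner_of_cov` : all members of a cover are inner.
-/

set_option autoImplicit false
set_option linter.unusedSectionVars false

namespace Cfsg.Agent.H320.RF

open MulAction Subgroup Cfsg Cfsg.Lie Cfsg.Agent.H106.RC Cfsg.Agent.H873.RG Cfsg.Agent.H327.RG
open Cfsg.Agent.H967.CopMat (Fx card_Fx)
open Cfsg.Agent.ChevalleyStructure.TwF4.TwistedFix (exists_rln Rln)
open Cfsg.Agent.KFacts.TwF4 Cfsg.Agent.KFacts.TwF4.Inst Cfsg.Agent.KFacts.TwF4.Inv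
open Cfsg.Agent.SplitTwo Cfsg.Agent.SplitTwo.ZS Cfsg.Agent.TitsThree.RankTwoZ Cfsg.Agent.SplitTwo.RootSysZ
open scoped commutatorElement

section abs

variable {Y H : Type*} [Group Y] [Group H]

/-- the derived group of the fixed points -/
def MM (f : H →* Y) : Subgroup Y := (commutator H).map f

theorem MM_eq (f : H →* Y) : MM f = ⁅f.range, f.range⁆ := by
  rw [MM, commutator_def, Subgroup.map_commutator, ← MonoidHom.range_eq_map]

theorem MM_le (f : H →* Y) : MM f ≤ f.range := by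
  rintro _ ⟨a, -, rfl⟩
  exact ⟨a, rfl⟩

variable {f : H →* Y} {ψ : MulAut Y} (hfix : ∀ g, ψ g = g ↔ g ∈ f.range)

include hfix in
theorem range_pres {α : MulAut Y} (hα : α * ψ = ψ * α) {a : Y} (ha : a ∈ f.range) : α a ∈ f.range := by
  rw [← hfix] at ha ⊢
  rw [← MulAut.mul_apply, ← hα, MulAut.mul_apply, ha]

include hfix in
theorem MM_pres {α : MulAut Y} (hα : α * ψ = ψ * α) {a : Y} (ha : a ∈ MM f) : α a ∈ MM f := by
  rw [MM_eq] at ha ⊢
  have h1 : (⁅f.range, f.range⁆ : Subgroup Y).map α.toMonoidHom ≤ ⁅f.range, f.range⁆ := by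
    rw [map_commutator]
    refine commutator_mono ?_ ?_ <;>
    · rintro _ ⟨b, hb, rfl⟩
      exact range_pres hfix hα hb
  exact h1 ⟨a, ha, rfl⟩

include hfix in
/-- trivial on the derived group of the fixed points, trivial on the fixed points -/
theorem triv_range (hf : Function.Injective f) (hD : Der H) {α : MulAut Y} (hα : α * ψ = ψ * α)
    (hc : ∀ a ∈ MM f, α a = a) {b : Y} (hb : b ∈ f.range) : α b = b := by
  obtain ⟨b, rfl⟩ := hb
  obtain ⟨c, hc'⟩ := range_pres hfix hα (a := f b) ⟨b, rfl⟩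
  have h1 : b⁻¹ * c = 1 := by
    refine hD.cent _ fun a ha => ?_
    have h2 : b * a * b⁻¹ ∈ commutator H := (inferInstance : (commutator H).Normal).conj_mem a ha b
    have h3 := hc (f (b * a * b⁻¹)) ⟨_, h2, rfl⟩
    rw [map_mul, map_mul, map_mul, map_mul, map_inv, map_inv, ← hc', hc (f a) ⟨a, ha, rfl⟩, ← map_inv, ← map_inv,
      ← map_mul, ← map_mul, ← map_mul, ← map_mul] at h3
    have h4 := hf h3
    calc b⁻¹ * c * a = b⁻¹ * (c * a * c⁻¹) * c := by group
      _ = b⁻¹ * (b * a * b⁻¹) * c := by rw [h4]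
      _ = a * (b⁻¹ * c) := by group
  rw [← hc', ← inv_mul_eq_one.1 h1]

end abs

section model

variable {K : Type} [Field K] [Fintype K] {m : ℕ}

/-- fixing the root elements of the small group -/
theorem agree {F₀ F : Type*} [Field F₀] [Field F] {σ₀ : F₀ →+* F₀} {H Y : Type*} [Group H] [Group Y] (S₀ : Full σ₀ H)
    (D : Subgroup H) (ho : ∀ a t, S₀.o a t ∈ D) (he : ∀ a p u, S₀.e a p u ∈ D) : D = ⊤ := by
  have hX : ∀ k : ℤ, S₀.XZ k ≤ D := by
    intro k x hx
    obtain ⟨a, h | h⟩ := Int.even_or_odd' k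
    · rw [h] at hx
      obtain ⟨p, u, rfl⟩ := (S₀.mem_XZ_even a x).1 hx
      exact he _ _ _
    · rw [h] at hx
      obtain ⟨t, rfl⟩ := (S₀.mem_XZ_odd a x).1 hx
      exact ho _ _
  exact eq_top_of S₀ (hX 0) (hX 1) (hX 8) (hX 9)

/-- **no other member centralises the derived group** -/
theorem not_cent (hm : 1 ≤ m) (hK : Fintype.card K = 2 ^ (2 * m + 1)) {ρ : K ≃+* K} {j s p : ℕ} (hp : p.Prime)
    (hρ : orderOf ρ = p) (hms : m = (2 * j + 1) * s + j) (hFx : Nat.card ↥(Fx ρ) = 2 ^ (2 * j + 1))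
    [CharP K 2] [CharP ↥(Fx ρ) 2] {φ : K →+* K} (hφ : Rln φ (2 ^ m)) {φ₀ : ↥(Fx ρ) →+* ↥(Fx ρ)} (hφ₀ : Rln φ₀ (2 ^ j))
    (f : ↥(twistedF4 ↥(Fx ρ) (2 ^ j)) →* ↥(twistedF4 K (2 ^ m))) (hf : Function.Injective f)
    (hfix : ∀ g, S2128.fld ρ (2 ^ m) g = g ↔ g ∈ f.range) (ho : ∀ a t, f (ro hφ₀ a t) = ro hφ a (t : K))
    (he : ∀ a p u, f (re hφ₀ a p u) = re hφ a (p : K) (u : K))
    {α : MulAut ↥(twistedF4 K (2 ^ m))} {r : ℕ} (hr : r.Prime) (hrp : r ≠ p) (hαr : α ^ r = 1) (hα1 : α ≠ 1)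
    (hα : α * S2128.fld ρ (2 ^ m) = S2128.fld ρ (2 ^ m) * α) (hc : ∀ a ∈ MM f, α a = a) : False := by
  have hfinE : Fintype ↥(Fx ρ) := Fintype.ofFinite _
  have hE' : Fintype.card ↥(Fx ρ) = 2 ^ (2 * j + 1) := by rw [← Nat.card_eq_fintype_card, hFx]
  have hD : Der ↥(twistedF4 ↥(Fx ρ) (2 ^ j)) := der hE'
  obtain ⟨hs0, hna0⟩ := Cfsg.Agent.S1072.result hm hK
  have hna : ¬ IsMulCommutative ↥(twistedF4 K (2 ^ m)) := hna0
  have hz := Cfsg.Agent.H240.GenTwF.center_bot hna
  have hci := Cfsg.Agent.H240.GenTwF.conj_injective hz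
  obtain ⟨g, τ, hgτ⟩ := Cfsg.Agent.H71.FldAut.twF4_aut hm hK α
  -- `g` is fixed by `ψ`
  have hψg : S2128.fld ρ (2 ^ m) g = g := by
    apply hci
    have h1 : MulAut.conj (S2128.fld ρ (2 ^ m) g) * S2128.fld ρ (2 ^ m) = S2128.fld ρ (2 ^ m) * MulAut.conj g := by
      ext y : 1
      simp only [MulAut.mul_apply, MulAut.mul_apply, MulAut.conj_apply, MulAut.conj_apply, map_mul, map_mul, map_inv]
    have h2 : S2128.fld ρ (2 ^ m) * S2128.fld τ (2 ^ m) = S2128.fld τ (2 ^ m) * S2128.fld ρ (2 ^ m) := by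
      rw [← Cfsg.Agent.H71.FldAut.fldF_mul, ← Cfsg.Agent.H71.FldAut.fldF_mul, aut_comm]
    simp only [hgτ, ← mul_assoc (S2128.fld ρ (2 ^ m)) (MulAut.conj g) (S2128.fld τ (2 ^ m)), ← h1, mul_assoc (MulAut.conj g) (S2128.fld τ (2 ^ m)) (S2128.fld ρ (2 ^ m)), mul_assoc (MulAut.conj ((S2128.fld ρ (2 ^ m)) g)) (S2128.fld ρ (2 ^ m)) (S2128.fld τ (2 ^ m)), h2] at hα
    exact (mul_right_cancel hα).symm
  obtain ⟨g₀, rfl⟩ := (hfix g).1 hψg
  have htriv : ∀ b : ↥(twistedF4 ↥(Fx ρ) (2 ^ j)), α (f b) = f b := fun b => triv_range hfix hf hD hα hc ⟨b, rfl⟩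
  have hαb : ∀ b, f g₀ * S2128.fld τ (2 ^ m) (f b) * (f g₀)⁻¹ = f b := by
    intro b
    have h1 := htriv b
    rw [hgτ, MulAut.mul_apply, MulAut.conj_apply] at h1
    exact h1
  -- `τ` preserves the fixed field
  have hτE : ∀ t : ↥(Fx ρ), τ (t : K) ∈ Fx ρ := by
    intro t
    have ht : ρ (t : K) = t := t.2
    show ρ (τ (t : K)) = τ (t : K)
    rw [← RingAut.mul_apply, ← aut_comm, RingAut.mul_apply, ht]
  have hτE' : ∀ t : ↥(Fx ρ), τ⁻¹ (t : K) ∈ Fx ρ := by
    intro t
    have ht : ρ (t : K) = t := t.2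
    show ρ (τ⁻¹ (t : K)) = τ⁻¹ (t : K)
    rw [← RingAut.mul_apply, ← aut_comm, RingAut.mul_apply, ht]
  let τ₀ : ↥(Fx ρ) ≃+* ↥(Fx ρ) :=
    { toFun := fun t => ⟨τ t, hτE t⟩
      invFun := fun t => ⟨τ⁻¹ t, hτE' t⟩
      left_inv := fun t => Subtype.ext (by
        show τ⁻¹ (τ (t : K)) = t
        rw [← RingAut.mul_apply, inv_mul_cancel]; rfl)
      right_inv := fun t => Subtype.ext (by
        show τ (τ⁻¹ (t : K)) = t
        rw [← RingAut.mul_apply, mul_inv_cancel]; rfl)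
      map_mul' := fun a b => Subtype.ext (map_mul τ _ _)
      map_add' := fun a b => Subtype.ext (map_add τ _ _) }
  have hτ₀ : ∀ t : ↥(Fx ρ), ((τ₀ t : ↥(Fx ρ)) : K) = τ (t : K) := fun t => rfl
  have hτ1 : ∀ t, τ₀ t = t := by
    refine S2128.eq_one_of_conj (full hE' hφ₀) (g := g₀⁻¹) (τ := τ₀) (fun a t => ?_) (fun a q u => ?_)
    · apply hf
      show f (g₀⁻¹ * ro hφ₀ a t * g₀⁻¹⁻¹) = f (ro hφ₀ a (τ₀ t))
      have h1 := hαb (ro hφ₀ a t)
      rw [ho, S2128.fld_ro τ hφ] at h1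
      simp only [inv_inv, map_mul, map_mul, map_inv, ho, ho, hτ₀, ← h1]
      group
    · apply hf
      show f (g₀⁻¹ * re hφ₀ a q u * g₀⁻¹⁻¹) = f (re hφ₀ a (τ₀ q) (τ₀ u))
      have h1 := hαb (re hφ₀ a q u)
      rw [he, S2128.fld_re τ hφ] at h1
      simp only [inv_inv, map_mul, map_mul, map_inv, he, he, hτ₀, hτ₀, ← h1]
      group
  have hτK : ∀ t ∈ Fx ρ, τ t = t := fun t ht => congrArg Subtype.val (hτ1 ⟨t, ht⟩)
  -- `fld τ` fixes the small group
  have hfl : ∀ b, S2128.fld τ (2 ^ m) (f b) = f b := by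
    obtain ⟨D, hDd⟩ : ∃ D : Subgroup ↥(twistedF4 ↥(Fx ρ) (2 ^ j)), ∀ b, b ∈ D ↔ S2128.fld τ (2 ^ m) (f b) = f b :=
      ⟨(MonoidHom.eqLocus ((S2128.fld τ (2 ^ m)).toMonoidHom.comp f) f), fun b => Iff.rfl⟩
    have h1 : D = ⊤ := agree (F := K) (Y := ↥(twistedF4 K (2 ^ m))) (full hE' hφ₀) D
      (fun a t => by
        rw [hDd]
        show S2128.fld τ (2 ^ m) (f (ro hφ₀ a t)) = f (ro hφ₀ a t)
        rw [ho, S2128.fld_ro τ hφ, hτK _ t.2])
      (fun a q u => by
        rw [hDd]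
        show S2128.fld τ (2 ^ m) (f (re hφ₀ a q u)) = f (re hφ₀ a q u)
        rw [he, S2128.fld_re τ hφ, hτK _ q.2, hτK _ u.2])
    intro b
    rw [← hDd, h1]
    exact mem_top _
  have hg1 : g₀ = 1 := by
    refine hD.cent _ fun a _ => hf ?_
    have h1 := hαb a
    rw [hfl] at h1
    rw [map_mul, map_mul]
    exact mul_inv_eq_iff_eq_mul.1 h1
  rw [hg1, map_one, map_one, one_mul] at hgτ
  have hpow : ∀ n : ℕ, S2128.fld (τ ^ n) (2 ^ m) = (S2128.fld τ (2 ^ m) : MulAut ↥(twistedF4 K (2 ^ m))) ^ n := by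
    intro n
    induction n with
    | zero => rw [pow_zero, pow_zero]; exact Cfsg.Agent.H628.ZTwF4Out.fldF_one
    | succ n ih => rw [pow_succ, pow_succ, Cfsg.Agent.H71.FldAut.fldF_mul, ih]
  have hτr : τ ^ r = 1 := by
    refine Cfsg.Agent.H240.BalTwF.tau_uniq hK (a := 1) (b := 1) ?_
    simp only [hpow, ← hgτ, hαr, Cfsg.Agent.H628.ZTwF4Out.fldF_one]
  have hτ1' := fld_eq_one hp hr hrp hρ hτr hτK
  rw [hτ1', Cfsg.Agent.H628.ZTwF4Out.fldF_one] at hgτ
  exact hα1 hgτ

/-- the end: `u = e 2 0 1` -/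
theorem fin_end {F : Type*} [Field F] {σ : F →+* F} {Y : Type*} [Group Y] (S : Full σ Y) {s : F} (hs : s ≠ 0) :
    ⁅S.o 1 s, S.e 3 s⁻¹ 0⁆ = S.e 2 0 1 := by
  have r1 : S.o 1 s * S.e 3 s⁻¹ 0 = S.e 3 s⁻¹ 0 * S.o 1 s * S.e 2 0 (s * s⁻¹) := S.o_e2 1 s s⁻¹ 0
  rw [mul_inv_cancel₀ hs] at r1
  have h3 : S.o 1 s * S.e 2 0 1 = S.e 2 0 1 * S.o 1 s :=
    S.comm_Z4 (k := 3) (by norm_num) (by norm_num) (by have := S.o_mem 1 s; push_cast at this; exact this) 1
  have h6 : S.e 3 s⁻¹ 0 * S.e 2 0 1 = S.e 2 0 1 * S.e 3 s⁻¹ 0 :=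
    S.comm_Z4 (k := 6) (by norm_num) (by norm_num) (by have := S.e_mem 3 s⁻¹ 0; push_cast at this; exact this) 1
  rw [commutatorElement_def, r1]
  calc S.e 3 s⁻¹ 0 * S.o 1 s * S.e 2 0 1 * (S.o 1 s)⁻¹ * (S.e 3 s⁻¹ 0)⁻¹ =
      S.e 3 s⁻¹ 0 * (S.o 1 s * S.e 2 0 1) * (S.o 1 s)⁻¹ * (S.e 3 s⁻¹ 0)⁻¹ := by group
    _ = (S.e 3 s⁻¹ 0 * S.e 2 0 1) * (S.e 3 s⁻¹ 0)⁻¹ := by rw [h3]; group
    _ = S.e 2 0 1 := by rw [h6]; group

/-- **Row `²F₄(q)`, `q ≥ 8`: all members of a cover are inner.** -/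
theorem inner_of_cov (hm : 1 ≤ m) (hK : Fintype.card K = 2 ^ (2 * m + 1))
    (hIH : IHx (Nat.card ↥(twistedF4 K (2 ^ m))))
    {G Ω ι : Type*} [Group G] [MulAction G Ω] [Nonempty Ω] [Finite ι] {N : Subgroup G} (hE : Env G Ω N)
    (e : N ≃* ↥(twistedF4 K (2 ^ m))) {x : ι → G} {r : ι → ℕ} (hx : PF x r) (hcov : Cov Ω x) (i₀ : ι) :
    ∃ g, act hE e (x i₀) = MulAut.conj g := by
  by_contra hni
  have h2p : Fact (Nat.Prime 2) := ⟨Nat.prime_two⟩
  have hcK : CharP K 2 := Cfsg.Agent.ChevalleyStructure.TwF4.Twisted.charP_two hK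
  have hpK : PerfectRing K 2 := inferInstance
  have hfin : Finite ↥(twistedF4 K (2 ^ m)) := inferInstance
  obtain ⟨hs0, hna0⟩ := Cfsg.Agent.S1072.result hm hK
  have hna : ¬ IsMulCommutative ↥(twistedF4 K (2 ^ m)) := hna0
  have hxp : act hE e (x i₀) ^ r i₀ = 1 := by rw [← map_pow, hx.pow, map_one]
  have hx1 : act hE e (x i₀) ≠ 1 := act_ne_one hE e (hx.ne i₀)
  have hor : orderOf (act hE e (x i₀)) = r i₀ := by
    have : Fact (r i₀).Prime := ⟨hx.prime i₀⟩
    exact orderOf_eq_prime hxp hx1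
  -- the order is odd
  have hr2 : r i₀ ≠ 2 := by
    intro h2
    obtain ⟨g, τ, hg⟩ := Cfsg.Agent.H71.FldAut.twF4_aut hm hK (act hE e (x i₀))
    have h3 : τ ^ 2 = 1 := by
      rw [h2] at hxp
      obtain ⟨N, hN⟩ := Cfsg.Agent.H628.ZTwF4Out.pow_form (g0 := g) (τ := τ) 2
      rw [← hg, hxp] at hN
      refine (Cfsg.Agent.H240.BalTwF.tau_uniq hK (a := 1) (b := N) (τ := 1) ?_).symm
      rw [Cfsg.Agent.H628.ZTwF4Out.fldF_one, map_one, one_mul]
      exact hN
    rw [sq_eq_one hK h3, Cfsg.Agent.H628.ZTwF4Out.fldF_one, mul_one] at hg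
    exact hni ⟨g, hg⟩
  obtain ⟨ρ, j, s, i, δ, hms, hFx, hi, he⟩ := Cfsg.Agent.H628.BalTwF4.exists_std hK hm (hx.prime i₀) hr2 _ hor hni
  -- the standard form
  obtain ⟨e', he'⟩ : ∃ e' : N ≃* ↥(twistedF4 K (2 ^ m)), e' = e.trans (δ⁻¹ : MulAut ↥(twistedF4 K (2 ^ m))) := ⟨_, rfl⟩
  have hact : ∀ g, act hE e' g = δ⁻¹ * act hE e g * δ := by
    intro g
    rw [he', act_conj, inv_inv]
  obtain ⟨ψ, hψ⟩ : ∃ ψ : MulAut ↥(twistedF4 K (2 ^ m)), ψ = S2128.fld ρ (2 ^ m) := ⟨_, rfl⟩
  have hψi : act hE e' (x i₀) ^ i = ψ := by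
    have h1 : (δ⁻¹ * act hE e (x i₀) * δ) ^ i = δ⁻¹ * act hE e (x i₀) ^ i * δ := by
      have := conj_pow (a := δ⁻¹) (b := act hE e (x i₀)) (i := i)
      rwa [inv_inv] at this
    rw [hact, h1, he, hψ]
    group
  have hψp : ψ ^ r i₀ = 1 := by
    rw [← hψi, ← pow_mul, mul_comm, pow_mul, ← map_pow, hx.pow, map_one, one_pow]
  have hψ1 : ψ ≠ 1 := by
    intro h1
    rw [← hψ, h1, mul_one, mul_inv_cancel] at he
    have h2 := orderOf_dvd_of_pow_eq_one he
    rw [hor] at h2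
    have h3 := Nat.dvd_gcd h2 (dvd_refl (r i₀))
    rw [hi, Nat.dvd_one] at h3
    exact (hx.prime i₀).one_lt.ne' h3
  have hpow : ∀ n : ℕ, S2128.fld (ρ ^ n) (2 ^ m) = (S2128.fld ρ (2 ^ m) : MulAut ↥(twistedF4 K (2 ^ m))) ^ n := by
    intro n
    induction n with
    | zero => rw [pow_zero, pow_zero]; exact Cfsg.Agent.H628.ZTwF4Out.fldF_one
    | succ n ih => rw [pow_succ, pow_succ, Cfsg.Agent.H71.FldAut.fldF_mul, ih]
  have hρ : orderOf ρ = r i₀ := by
    have : Fact (r i₀).Prime := ⟨hx.prime i₀⟩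
    refine orderOf_eq_prime ?_ ?_
    · refine Cfsg.Agent.H240.BalTwF.tau_uniq hK (a := 1) (b := 1) ?_
      simp only [hpow, ← hψ, hψp, Cfsg.Agent.H628.ZTwF4Out.fldF_one]
    · intro h1
      apply hψ1
      rw [hψ, h1]
      exact Cfsg.Agent.H628.ZTwF4Out.fldF_one
  -- the small group
  have hfinE : Fintype ↥(Fx ρ) := Fintype.ofFinite _
  have hE' : Fintype.card ↥(Fx ρ) = 2 ^ (2 * j + 1) := by rw [← Nat.card_eq_fintype_card, hFx]
  have hch₀ : CharP ↥(Fx ρ) 2 := Cfsg.Agent.ChevalleyStructure.TwF4.Twisted.charP_two hE'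
  obtain ⟨φ, hφ⟩ := exists_rln hK
  obtain ⟨φ₀, hφ₀⟩ := exists_rln hE'
  obtain ⟨f, hf, hfix, ho, hee⟩ := Cfsg.Agent.H240.GenTwF.exists_emb hK ρ hFx (j := s) (by rw [hms]; ring) hφ hφ₀
  have hfix' : ∀ g, ψ g = g ↔ g ∈ f.range := by rw [hψ]; exact hfix
  have hD : Der ↥(twistedF4 ↥(Fx ρ) (2 ^ j)) := der hE'
  have eM : ↥(_root_.commutator ↥(twistedF4 ↥(Fx ρ) (2 ^ j))) ≃* ↥(MM f) :=
    (_root_.commutator ↥(twistedF4 ↥(Fx ρ) (2 ^ j))).equivMapOfInjective f hf
  have hMs : IsSimpleGroup ↥(MM f) := isSimple_cgr0 eM hD.simple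
  have hMn : ¬ IsMulCommutative ↥(MM f) := fun hc => hD.ncomm ⟨⟨fun a b => by
    apply eM.injective
    simp only [map_mul, map_mul]
    exact hc.is_comm.comm _ _⟩⟩
  -- a moved element of the field
  obtain ⟨t, ht⟩ : ∃ t : K, ρ t ≠ t := by
    by_contra hall
    push Not at hall
    apply hψ1
    rw [hψ, show ρ = 1 from RingEquiv.ext hall]
    exact Cfsg.Agent.H628.ZTwF4Out.fldF_one
  have hst : ρ t + t ≠ 0 := fun h0 => ht (CharTwo.add_eq_zero.1 h0)
  -- `MM f` is proper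
  have hlt : Nat.card ↥(MM f) < Nat.card ↥(twistedF4 K (2 ^ m)) := by
    have h1 : f.range ≠ ⊤ := by
      intro htop
      apply ht
      have h2 : ro hφ 1 t ∈ f.range := by rw [htop]; exact mem_top _
      rw [← hfix, S2128.fld_ro ρ hφ] at h2
      exact (full hK hφ).injO 1 h2
    have h2 : Nat.card ↥(MM f) ≤ Nat.card ↥f.range := Subgroup.card_le_of_le (MM_le f)
    have h3 : Nat.card ↥f.range < Nat.card ↥(twistedF4 K (2 ^ m)) :=
      lt_of_not_ge fun hle => h1 (Subgroup.eq_top_of_le_card _ hle)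
    exact lt_of_le_of_lt h2 h3
  have hRC : RC ↥(MM f) := hIH ↥(MM f) ⟨hMs, hMn, fun ⟨n, hn, ⟨e0⟩⟩ => hD.nalt ⟨n, hn, ⟨eM.trans e0⟩⟩⟩ hlt
  have hcomm : ∀ k, act hE e' (x k) * ψ = ψ * act hE e' (x k) := by
    intro k
    simp only [← hψi, ← map_pow, ← map_mul, ← map_mul]
    congr 1
    have : Commute (x k) (x i₀) := hx.comm k i₀
    exact this.pow_right i
  -- the end
  set! S := full hK hφ with hS
  have hu : S.e 2 0 1 ∈ MM f := by
    refine ⟨⁅ro hφ₀ 1 1, re hφ₀ 3 1 0⁆, ?_, ?_⟩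
    · rw [_root_.commutator_def]
      exact commutator_mem_commutator (mem_top _) (mem_top _)
    · rw [map_commutatorElement, ho, hee]
      have := fin_end S (s := (1 : K)) one_ne_zero
      rw [inv_one] at this
      exact this
  refine out_killY hE e' hx hcov hMs hMn hRC (fun k a ha => MM_pres hfix' (hcomm k) ha) (i₀ := i₀) (fun k hk hall => ?_)
    hu (fun h1 => one_ne_zero (S.e_eq_one h1).2) (a := S.o 1 t) (b := S.e 3 (ρ t + t)⁻¹ 0)
    (S.comm_Z4 (k := 3) (by norm_num) (by norm_num) (by have := S.o_mem 1 t; push_cast at this; exact this) 1)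
    (S.comm_Z4 (k := 6) (by norm_num) (by norm_num)
      (by have := S.e_mem 3 (ρ t + t)⁻¹ 0; push_cast at this; exact this) 1) (k := i) ?_
  · have hkp : r k ≠ r i₀ := fun h => hk (hx.inj h)
    refine not_cent hm hK (hx.prime i₀) hρ hms hFx hφ hφ₀ f hf hfix ho hee (hx.prime k) hkp (α := act hE e' (x k))
      (by rw [← map_pow, hx.pow, map_one]) (act_ne_one hE e' (hx.ne k)) (by rw [← hψ]; exact hcomm k) hall
  · rw [hψi, hψ]
    have h1 : S2128.fld ρ (2 ^ m) (S.o 1 t) = S.o 1 (ρ t) := S2128.fld_ro ρ hφ 1 t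
    have h2 : (S.o 1 t)⁻¹ = S.o 1 t := (inv_eq_of_mul_eq_one_left (o_sq S 1 t) :)
    rw [h1, h2, S.o_add]
    exact fin_end S hst

/-- the members of a cover lie in `N` -/
theorem mem_of_cov (hm : 1 ≤ m) (hK : Fintype.card K = 2 ^ (2 * m + 1))
    (hIH : IHx (Nat.card ↥(twistedF4 K (2 ^ m))))
    {G Ω ι : Type*} [Group G] [MulAction G Ω] [Nonempty Ω] [Finite ι] {N : Subgroup G} (hE : Env G Ω N)
    (e : N ≃* ↥(twistedF4 K (2 ^ m))) {x : ι → G} {r : ι → ℕ} (hx : PF x r) (hcov : Cov Ω x) (i : ι) : x i ∈ N := by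
  obtain ⟨g, hg⟩ := inner_of_cov hm hK hIH hE e hx hcov i
  have h1 : act hE e (e.symm g : G) = MulAut.conj g := by
    ext y : 1
    apply e.symm.injective
    apply Subtype.ext
    rw [coe_act, MulAut.conj_apply, map_mul, map_mul, map_inv]
    rfl
  have h2 : x i = (e.symm g : G) := act_injective hE e (hg.trans h1.symm)
  rw [h2]
  exact (e.symm g).2

end model

end Cfsg.Agent.H320.RF
end

-- part: H660/RF/Row
section
/-!
# S3509, row `²F₄(q)`, `q ≥ 8` (helper660)

`row_of` : the row, if `|C(x)| ≤ q⁸` for `x` of odd prime order not dividing `q - 1` commuting with an involution.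
-/

set_option autoImplicit false

namespace Cfsg.Agent.H660.RF

open Subgroup MulAction Cfsg Cfsg.Lie
open Cfsg.Agent.H106.RC Cfsg.Agent.H873.RG

/-- the last centraliser bound -/
def CentInv : Prop :=
  ∀ (K : Type) [Field K] [Fintype K] (m : ℕ), 1 ≤ m → Fintype.card K = 2 ^ (2 * m + 1) →
    ∀ (x v : ↥(twistedF4 K (2 ^ m))), (orderOf x).Prime → orderOf x ≠ 2 → ¬ orderOf x ∣ Nat.card K - 1 →
      orderOf v = 2 → Commute v x → Nat.card (centralizer ({x} : Set ↥(twistedF4 K (2 ^ m)))) ≤ Nat.card K ^ 8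

/-- all elements of odd prime order -/
theorem cent_all (h : CentInv) {K : Type} [Field K] [Fintype K] {m : ℕ} (hm : 1 ≤ m)
    (hK : Fintype.card K = 2 ^ (2 * m + 1)) (x : ↥(twistedF4 K (2 ^ m))) (hp : (orderOf x).Prime) (h2 : orderOf x ≠ 2) :
    Nat.card (centralizer ({x} : Set ↥(twistedF4 K (2 ^ m)))) ≤ Nat.card K ^ 8 := by
  by_cases h1 : orderOf x ∣ Nat.card K - 1
  · exact H448.TwFC.card_cent_minus hm hK hp h1 rfl
  · by_cases h5 : 5 ≤ orderOf x
    · rcases H448.TwFC.cent_ste_q8 hm hK hp h5 rfl with ⟨v, hv, hvx⟩ | h3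
      · exact h K m hm hK x v hp h2 h1 hv hvx
      · exact h3
    · have h3 : orderOf x = 3 := by
        have h4 := hp.two_le
        have h6 : orderOf x ≠ 4 := by
          intro h4
          rw [h4] at hp
          exact absurd hp (by norm_num)
        omega
      obtain ⟨v, hv, hvx⟩ := H448.TwFC.comm_inv_three hK h3
      exact h K m hm hK x v hp h2 h1 hv hvx

/-- **the row `²F₄(q)`** -/
theorem row_of (h : CentInv) : RowX (fun S _ => Lie.Iso2F4 S) := by
  intro S _ _ hS hiso hIH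
  obtain ⟨K, _, _, m, hm, hK, ⟨e⟩⟩ := hiso
  refine rc_of_noCov hS.simple hS.ncomm ?_
  intro G _ _ Ω _ _ _ N hE e' ι _ x r hx hc _
  have hIH' : IHx (Nat.card ↥(twistedF4 K (2 ^ m))) := by rwa [← Nat.card_congr e.toEquiv]
  exact inner_false hm hK (cent_all h hm hK) hE (e'.trans e) hx hc
    (H320.RF.mem_of_cov hm hK hIH' hE (e'.trans e) hx hc)

end Cfsg.Agent.H660.RF
end

-- part: H67/RG/TwFRow
section
/-!
# The row `²F₄(q)`, `q ≥ 8` (helper67)
-/

set_option autoImplicit false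

namespace Cfsg.Agent.H67.RG

open Cfsg.Agent.H873.RG

/-- **The row `²F₄(q)`, `q ≥ 8`.** -/
theorem row_twF4 : RowX (fun S _ => Cfsg.Lie.Iso2F4 S) :=
  Cfsg.Agent.H660.RF.row_of fun _ _ _ _ hm hK _ _ hp h2 _ _ _ => card_cent_le hm hK hp h2 rfl

end Cfsg.Agent.H67.RG
end

private theorem dce_de0908834548 : _root_.True := by
  try have : _root_.True := by simp only [_root_.Cfsg.Agent.H320.RF.MM.eq_1]
  exact _root_.True.intro
end
end
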